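import Mathlib
import Cfsg.Prelude.Def_Classical

set_option autoImplicit false
set_option linter.unusedSimpArgs false
set_option linter.unusedVariables false
set_option linter.unnecessarySeqFocus false
set_option linter.unusedSectionVars false

namespace Cfsg.Agent.Lib.Helper5

open Finset

variable {F : Type*} [Field F] [Fintype F] {q : ℕ}

/-- the norm `x ↦ x^(q+1)` -/
def hnorm (q : ℕ) (x : F) : F := x * x ^ q

lemma two_le_of_card (hF : Fintype.card F = q ^ 2) : 2 ≤ q := by
  by_contra h
  have h1 : q ^ 2 ≤ 1 := by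
    have : q ≤ 1 := by omega
    nlinarith
  have := Fintype.one_lt_card (α := F)
  omega

lemma pow_q_pow_q (hF : Fintype.card F = q ^ 2) (x : F) : (x ^ q) ^ q = x := by
  rw [← pow_mul, ← pow_two, ← hF, FiniteField.pow_card]

lemma hnorm_pow (hF : Fintype.card F = q ^ 2) (x : F) : (hnorm q x) ^ q = hnorm q x := by
  unfold hnorm; rw [mul_pow, pow_q_pow_q hF, mul_comm]

lemma hnorm_eq_zero (hF : Fintype.card F = q ^ 2) {x : F} : hnorm q x = 0 ↔ x = 0 := by
  have hq := two_le_of_card hF
  unfold hnorm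
  constructor
  · intro h
    rcases mul_eq_zero.1 h with h | h
    · exact h
    · exact (pow_eq_zero_iff (by omega)).1 h
  · rintro rfl
    simp

lemma exists_prime_pow (hF : Fintype.card F = q ^ 2) :
    ∃ p j : ℕ, p.Prime ∧ CharP F p ∧ q = p ^ j := by
  obtain ⟨p, hp⟩ := CharP.exists F
  obtain ⟨n, hpr, hn⟩ := FiniteField.card F p
  have hdvd : q ∣ p ^ (n : ℕ) := by
    rw [← hn, hF]
    exact Dvd.intro_left (q ^ 1) (by ring)
  obtain ⟨j, _, hj⟩ := (Nat.dvd_prime_pow hpr).1 hdvd
  exact ⟨p, j, hpr, hp, hj⟩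

lemma frob_sub (hF : Fintype.card F = q ^ 2) (a b : F) : (a - b) ^ q = a ^ q - b ^ q := by
  obtain ⟨p, j, hp, hchar, rfl⟩ := exists_prime_pow hF
  have := Fact.mk hp
  exact sub_pow_char_pow ..

lemma frob_add (hF : Fintype.card F = q ^ 2) (a b : F) : (a + b) ^ q = a ^ q + b ^ q := by
  obtain ⟨p, j, hp, hchar, rfl⟩ := exists_prime_pow hF
  have := Fact.mk hp
  exact add_pow_char_pow ..



lemma card_units_eq (hF : Fintype.card F = q ^ 2) : Nat.card Fˣ = (q - 1) * (q + 1) := by
  classical
  have hq := two_le_of_card hF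
  rw [Nat.card_eq_fintype_card, Fintype.card_units, hF]
  obtain ⟨k, rfl⟩ : ∃ k, q = k + 2 := ⟨q - 2, by omega⟩
  have : (k + 2) ^ 2 = (k + 2 - 1) * (k + 2 + 1) + 1 := by
    simp only [Nat.add_sub_cancel, show k + 2 - 1 = k + 1 by omega]
    ring
  omega

lemma card_ker_pow_succ (hF : Fintype.card F = q ^ 2) :
    Nat.card (powMonoidHom (q + 1) : Fˣ →* Fˣ).ker = q + 1 := by
  rw [IsCyclic.card_powMonoidHom_ker, card_units_eq hF]
  exact Nat.gcd_eq_right (Dvd.intro_left _ rfl)

lemma card_range_pow_succ (hF : Fintype.card F = q ^ 2) :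
    Nat.card (powMonoidHom (q + 1) : Fˣ →* Fˣ).range = q - 1 := by
  rw [IsCyclic.card_powMonoidHom_range, card_units_eq hF,
    Nat.gcd_eq_right (Dvd.intro_left _ rfl)]
  exact Nat.mul_div_cancel _ (by omega)

lemma card_ker_pow_pred (hF : Fintype.card F = q ^ 2) :
    Nat.card (powMonoidHom (q - 1) : Fˣ →* Fˣ).ker = q - 1 := by
  rw [IsCyclic.card_powMonoidHom_ker, card_units_eq hF]
  exact Nat.gcd_eq_right (Dvd.intro _ rfl)

lemma range_pow_succ_eq (hF : Fintype.card F = q ^ 2) :
    (powMonoidHom (q + 1) : Fˣ →* Fˣ).range = (powMonoidHom (q - 1) : Fˣ →* Fˣ).ker := by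
  apply Subgroup.eq_of_le_of_card_ge
  · rintro _ ⟨y, rfl⟩
    rw [MonoidHom.mem_ker, powMonoidHom_apply, powMonoidHom_apply, ← pow_mul, mul_comm,
      ← card_units_eq hF]
    exact pow_card_eq_one'
  · rw [card_range_pow_succ hF, card_ker_pow_pred hF]

lemma card_hnorm_fiber (hF : Fintype.card F = q ^ 2) [DecidableEq F] {c : F} (hc0 : c ≠ 0)
    (hc : c ^ q = c) : #{x : F | hnorm q x = c} = q + 1 := by
  classical
  have hq := two_le_of_card hF
  set cu : Fˣ := Units.mk0 c hc0 with hcu
  have hcu1 : cu ∈ (powMonoidHom (q - 1) : Fˣ →* Fˣ).ker := by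
    rw [MonoidHom.mem_ker, powMonoidHom_apply]
    apply Units.ext
    rw [Units.val_pow_eq_pow_val, Units.val_one, Units.val_mk0]
    have h1 : c * c ^ (q - 1) = c * 1 := by
      rw [← pow_succ', mul_one]
      have : q - 1 + 1 = q := by omega
      rw [this, hc]
    exact mul_left_cancel₀ hc0 h1
  rw [← range_pow_succ_eq hF] at hcu1
  have h1mem : (1 : Fˣ) ∈ Set.range (powMonoidHom (q + 1) : Fˣ →* Fˣ) := ⟨1, by simp⟩
  have hfib := MonoidHom.card_fiber_eq_of_mem_range (powMonoidHom (q + 1) : Fˣ →* Fˣ) hcu1 h1mem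
  have hker : #{g : Fˣ | (powMonoidHom (q + 1) : Fˣ →* Fˣ) g = 1} = q + 1 := by
    have h := card_ker_pow_succ hF
    rw [Nat.card_eq_fintype_card, Fintype.card_subtype] at h
    refine Eq.trans ?_ h
    congr 1
    ext g
    simp [MonoidHom.mem_ker]
  rw [hker] at hfib
  rw [← hfib]
  symm
  apply Finset.card_bij (fun (u : Fˣ) _ => (u : F))
  · intro u hu
    simp only [Finset.mem_filter, Finset.mem_univ, true_and, powMonoidHom_apply] at hu ⊢
    have := congrArg Units.val hu
    rw [Units.val_pow_eq_pow_val, hcu, Units.val_mk0] at this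
    unfold hnorm
    rw [← pow_succ', this]
  · intro u _ v _ h
    exact Units.ext h
  · intro x hx
    simp only [Finset.mem_filter, Finset.mem_univ, true_and] at hx
    have hx0 : x ≠ 0 := by
      rintro rfl
      rw [(hnorm_eq_zero hF).2 rfl] at hx
      exact hc0 hx.symm
    refine ⟨Units.mk0 x hx0, ?_, rfl⟩
    simp only [Finset.mem_filter, Finset.mem_univ, true_and, powMonoidHom_apply]
    apply Units.ext
    rw [Units.val_pow_eq_pow_val, Units.val_mk0, hcu, Units.val_mk0, pow_succ']
    exact hx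



lemma hermForm_self_eq (n : ℕ) (v : Fin n → F) :
    Cfsg.hermForm n F q v v = ∑ i, hnorm q (v i) := rfl

lemma hermForm_self_pow (hF : Fintype.card F = q ^ 2) (n : ℕ) (v : Fin n → F) :
    (Cfsg.hermForm n F q v v) ^ q = Cfsg.hermForm n F q v v := by
  have hq := two_le_of_card hF
  let fr : F →+ F :=
    { toFun := fun x => x ^ q
      map_zero' := zero_pow (by omega)
      map_add' := frob_add hF }
  rw [hermForm_self_eq]
  show fr _ = _
  rw [map_sum]
  apply Finset.sum_congr rfl
  intro i _
  exact hnorm_pow hF (v i)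

lemma hermForm_cons (n : ℕ) (x : F) (w : Fin n → F) :
    Cfsg.hermForm (n + 1) F q (Fin.cons x w) (Fin.cons x w) =
      hnorm q x + Cfsg.hermForm n F q w w := by
  rw [hermForm_self_eq, hermForm_self_eq, Fin.sum_univ_succ]
  simp

/-- the number of vectors of Hermitian norm `c` -/
noncomputable def hcount (F : Type*) [Field F] [Fintype F] (q n : ℕ) (c : F) : ℕ :=
  Nat.card {v : Fin n → F // Cfsg.hermForm n F q v v = c}

lemma hcount_eq [DecidableEq F] (n : ℕ) (c : F) :
    hcount F q n c = #{v : Fin n → F | Cfsg.hermForm n F q v v = c} := by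
  unfold hcount
  rw [Nat.card_eq_fintype_card, Fintype.card_subtype]

lemma hcount_le (hF : Fintype.card F = q ^ 2) (n : ℕ) (c : F) : hcount F q n c ≤ q ^ (2 * n) := by
  classical
  rw [hcount_eq]
  calc #{v : Fin n → F | Cfsg.hermForm n F q v v = c} ≤ #(Finset.univ : Finset (Fin n → F)) :=
        Finset.card_filter_le _ _
    _ = q ^ (2 * n) := by
        rw [Finset.card_univ, Fintype.card_fun, Fintype.card_fin, hF, ← pow_mul]

lemma hcount_succ (hF : Fintype.card F = q ^ 2) (n : ℕ) {c : F} (hc : c ^ q = c) :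
    hcount F q (n + 1) c = hcount F q n c + (q + 1) * (q ^ (2 * n) - hcount F q n c) := by
  classical
  have h1 : hcount F q (n + 1) c =
      #{p : F × (Fin n → F) | hnorm q p.1 + Cfsg.hermForm n F q p.2 p.2 = c} := by
    rw [hcount_eq]
    symm
    apply Finset.card_bij (fun p _ => Fin.cons p.1 p.2)
    · intro p hp
      simp only [Finset.mem_filter, Finset.mem_univ, true_and] at hp ⊢
      rw [hermForm_cons]
      exact hp
    · intro p _ p' _ h
      have := (Fin.consEquiv (fun _ : Fin (n + 1) => F)).injective (a₁ := p) (a₂ := p') h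
      exact this
    · intro v hv
      simp only [Finset.mem_filter, Finset.mem_univ, true_and] at hv
      refine ⟨(v 0, Fin.tail v), ?_, by simp⟩
      simp only [Finset.mem_filter, Finset.mem_univ, true_and]
      rw [← hermForm_cons]
      simpa using hv
  have h2 : #{p : F × (Fin n → F) | hnorm q p.1 + Cfsg.hermForm n F q p.2 p.2 = c} =
      ∑ w : Fin n → F, #{x : F | hnorm q x = c - Cfsg.hermForm n F q w w} := by
    rw [Finset.card_filter, Fintype.sum_prod_type_right]
    apply Finset.sum_congr rfl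
    intro w _
    rw [Finset.card_filter]
    apply Finset.sum_congr rfl
    intro x _
    simp only [eq_sub_iff_add_eq]
  have h3 : ∀ w : Fin n → F, #{x : F | hnorm q x = c - Cfsg.hermForm n F q w w} =
      if Cfsg.hermForm n F q w w = c then 1 else q + 1 := by
    intro w
    split_ifs with hw
    · rw [hw, sub_self]
      have : (Finset.univ.filter fun x : F => hnorm q x = 0) = {0} := by
        ext x
        simp [hnorm_eq_zero hF]
      rw [this, Finset.card_singleton]
    · apply card_hnorm_fiber hF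
      · intro h
        exact hw (sub_eq_zero.1 h).symm
      · rw [frob_sub hF, hc, hermForm_self_pow hF]
  rw [h1, h2]
  simp only [h3]
  rw [Finset.sum_ite, Finset.sum_const, Finset.sum_const, smul_eq_mul, smul_eq_mul, mul_one]
  have e1 : hcount F q n c = #{v : Fin n → F | Cfsg.hermForm n F q v v = c} := by
    rw [hcount_eq]
  have e2 : #{v : Fin n → F | ¬ Cfsg.hermForm n F q v v = c} = q ^ (2 * n) - hcount F q n c := by
    rw [Finset.filter_not, Finset.card_sdiff_of_subset (Finset.subset_univ _), ← e1,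
      Finset.card_univ, Fintype.card_fun, Fintype.card_fin, hF, ← pow_mul]
  rw [e2, ← e1, mul_comm]



lemma hcount_zero (c : F) [DecidableEq F] : hcount F q 0 c = if c = 0 then 1 else 0 := by
  unfold hcount
  split_ifs with h
  · subst h
    have : Unique {v : Fin 0 → F // Cfsg.hermForm 0 F q v v = 0} :=
      { default := ⟨0, by simp [Cfsg.hermForm]⟩
        uniq := fun v => Subtype.ext (Subsingleton.elim _ _) }
    exact Nat.card_unique
  · have : IsEmpty {v : Fin 0 → F // Cfsg.hermForm 0 F q v v = c} := by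
      constructor
      rintro ⟨v, hv⟩
      apply h
      rw [← hv]
      simp [Cfsg.hermForm]
    exact Nat.card_of_isEmpty

lemma hcount_succ_int (hF : Fintype.card F = q ^ 2) (n : ℕ) {c : F} (hc : c ^ q = c) :
    (hcount F q (n + 1) c : ℤ) = (q + 1) * (q : ℤ) ^ (2 * n) - q * hcount F q n c := by
  rw [hcount_succ hF n hc]
  push_cast [Nat.cast_sub (hcount_le hF n c)]
  ring

lemma hcount_one_int (hF : Fintype.card F = q ^ 2) (n : ℕ) :
    (hcount F q n 1 : ℤ) * q = (q : ℤ) ^ (2 * n) - (-(q : ℤ)) ^ n := by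
  classical
  induction n with
  | zero =>
    rw [hcount_zero]
    simp
  | succ n ih =>
    rw [hcount_succ_int hF n (one_pow q)]
    have : ((q : ℤ) + 1) * (q : ℤ) ^ (2 * n) - q * hcount F q n 1 =
        ((q : ℤ) + 1) * (q : ℤ) ^ (2 * n) - (hcount F q n 1 * q) := by ring
    rw [this, ih]
    ring

lemma hcount_zero_int (hF : Fintype.card F = q ^ 2) (n : ℕ) :
    (hcount F q n 0 : ℤ) * q = (q : ℤ) ^ (2 * n) + (-(q : ℤ)) ^ n * (q - 1) := by
  classical
  have hq := two_le_of_card hF
  induction n with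
  | zero =>
    rw [hcount_zero]
    simp
  | succ n ih =>
    rw [hcount_succ_int hF n (zero_pow (by omega))]
    have : ((q : ℤ) + 1) * (q : ℤ) ^ (2 * n) - q * hcount F q n 0 =
        ((q : ℤ) + 1) * (q : ℤ) ^ (2 * n) - (hcount F q n 0 * q) := by ring
    rw [this, ih]
    ring

theorem card_hermForm_eq_one (hF : Fintype.card F = q ^ 2) (n : ℕ) :
    Nat.card {v : Fin n → F // Cfsg.hermForm n F q v v = 1} =
      (if Even n then q ^ (n - 1) * (q ^ n - 1) else q ^ (n - 1) * (q ^ n + 1)) := by
  have hq := two_le_of_card hF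
  have hq0 : (q : ℤ) ≠ 0 := by exact_mod_cast (by omega : q ≠ 0)
  have key := hcount_one_int hF n
  change hcount F q n 1 = _
  have h1 : 1 ≤ q ^ n := Nat.one_le_pow _ _ (by omega)
  rcases n with _ | k
  · simp at key ⊢
    rcases key with h | h
    · exact h
    · omega
  · have hk : k + 1 - 1 = k := by omega
    rw [hk]
    apply Nat.cast_injective (R := ℤ)
    apply mul_right_cancel₀ hq0
    rw [key]
    split_ifs with he
    · push_cast [Nat.cast_sub h1]
      rw [Even.neg_pow he]
      ring
    · rw [Nat.not_even_iff_odd] at he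
      push_cast
      rw [Odd.neg_pow he]
      ring

theorem card_hermForm_eq_zero (hF : Fintype.card F = q ^ 2) (n : ℕ) :
    Nat.card {v : Fin n → F // Cfsg.hermForm n F q v v = 0} =
      (if Even n then (q ^ n - 1) * (q ^ (n - 1) + 1) else (q ^ n + 1) * (q ^ (n - 1) - 1)) + 1 := by
  have hq := two_le_of_card hF
  have hq0 : (q : ℤ) ≠ 0 := by exact_mod_cast (by omega : q ≠ 0)
  have key := hcount_zero_int hF n
  change hcount F q n 0 = _
  have h1 : 1 ≤ q ^ n := Nat.one_le_pow _ _ (by omega)
  rcases n with _ | k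
  · simp at key ⊢
    have : ((hcount F q 0 0 : ℤ) - 1) * q = 0 := by linear_combination key
    rcases mul_eq_zero.1 this with h | h
    · omega
    · exact absurd h hq0
  · have hk : k + 1 - 1 = k := by omega
    have h2 : 1 ≤ q ^ k := Nat.one_le_pow _ _ (by omega)
    rw [hk]
    apply Nat.cast_injective (R := ℤ)
    apply mul_right_cancel₀ hq0
    rw [key]
    split_ifs with he
    · push_cast [Nat.cast_sub h1]
      rw [Even.neg_pow he]
      ring
    · rw [Nat.not_even_iff_odd] at he
      push_cast [Nat.cast_sub h2]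
      rw [Odd.neg_pow he]
      ring

end Cfsg.Agent.Lib.Helper5
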