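import Mathlib
import Cfsg.Prelude.Def_LieClassical
import Cfsg.Agent.Lib.Helper5.HermCount

set_option autoImplicit false
set_option linter.unusedSimpArgs false
set_option linter.unusedVariables false
set_option linter.unnecessarySeqFocus false
set_option linter.unusedSectionVars false

namespace Cfsg.Agent.Lib.Helper5

open Matrix Finset

section HermBasic

variable {F : Type*} [Field F] {q n : ℕ}

lemma herm_add_left (u u' v : Fin n → F) :
    Cfsg.hermForm n F q (u + u') v = Cfsg.hermForm n F q u v + Cfsg.hermForm n F q u' v := by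
  unfold Cfsg.hermForm
  rw [← Finset.sum_add_distrib]
  exact Finset.sum_congr rfl (fun i _ => by simp only [Pi.add_apply]; ring)

lemma herm_smul_left (a : F) (u v : Fin n → F) :
    Cfsg.hermForm n F q (a • u) v = a * Cfsg.hermForm n F q u v := by
  unfold Cfsg.hermForm
  rw [Finset.mul_sum]
  exact Finset.sum_congr rfl (fun i _ => by simp only [Pi.smul_apply, smul_eq_mul]; ring)

lemma herm_smul_right (a : F) (u v : Fin n → F) :
    Cfsg.hermForm n F q u (a • v) = a ^ q * Cfsg.hermForm n F q u v := by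
  unfold Cfsg.hermForm
  rw [Finset.mul_sum]
  exact Finset.sum_congr rfl (fun i _ => by simp only [Pi.smul_apply, smul_eq_mul, mul_pow]; ring)

lemma herm_neg_left (u v : Fin n → F) :
    Cfsg.hermForm n F q (-u) v = - Cfsg.hermForm n F q u v := by
  have := herm_smul_left (q := q) (-1 : F) u v
  simpa using this

lemma herm_sub_left (u u' v : Fin n → F) :
    Cfsg.hermForm n F q (u - u') v = Cfsg.hermForm n F q u v - Cfsg.hermForm n F q u' v := by
  rw [sub_eq_add_neg, herm_add_left, herm_neg_left, ← sub_eq_add_neg]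

lemma herm_zero_left (v : Fin n → F) : Cfsg.hermForm n F q 0 v = 0 := by
  simp [Cfsg.hermForm]

variable [Fintype F]

lemma herm_add_right (hF : Fintype.card F = q ^ 2) (u v v' : Fin n → F) :
    Cfsg.hermForm n F q u (v + v') = Cfsg.hermForm n F q u v + Cfsg.hermForm n F q u v' := by
  unfold Cfsg.hermForm
  rw [← Finset.sum_add_distrib]
  exact Finset.sum_congr rfl (fun i _ => by simp only [Pi.add_apply, frob_add hF]; ring)

lemma herm_sub_right (hF : Fintype.card F = q ^ 2) (u v v' : Fin n → F) :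
    Cfsg.hermForm n F q u (v - v') = Cfsg.hermForm n F q u v - Cfsg.hermForm n F q u v' := by
  unfold Cfsg.hermForm
  rw [← Finset.sum_sub_distrib]
  exact Finset.sum_congr rfl (fun i _ => by simp only [Pi.sub_apply, frob_sub hF]; ring)

lemma herm_zero_right (hF : Fintype.card F = q ^ 2) (u : Fin n → F) :
    Cfsg.hermForm n F q u 0 = 0 := by
  have hq := two_le_of_card hF
  simp [Cfsg.hermForm, zero_pow (by omega : q ≠ 0)]

lemma frob_sum (hF : Fintype.card F = q ^ 2) {ι : Type*} (s : Finset ι) (f : ι → F) :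
    (∑ i ∈ s, f i) ^ q = ∑ i ∈ s, (f i) ^ q := by
  have hq := two_le_of_card hF
  let fr : F →+ F :=
    { toFun := fun x => x ^ q
      map_zero' := zero_pow (by omega)
      map_add' := frob_add hF }
  exact map_sum fr f s

lemma herm_conj (hF : Fintype.card F = q ^ 2) (u v : Fin n → F) :
    (Cfsg.hermForm n F q u v) ^ q = Cfsg.hermForm n F q v u := by
  unfold Cfsg.hermForm
  rw [frob_sum hF]
  exact Finset.sum_congr rfl (fun i _ => by rw [mul_pow, pow_q_pow_q hF, mul_comm])

lemma herm_single_right (hF : Fintype.card F = q ^ 2) (u : Fin n → F) (i : Fin n) :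
    Cfsg.hermForm n F q u (Pi.single i 1) = u i := by
  classical
  have hq := two_le_of_card hF
  unfold Cfsg.hermForm
  rw [Finset.sum_eq_single i]
  · simp
  · intro j _ hj
    simp [Pi.single_eq_of_ne hj, zero_pow (by omega : q ≠ 0)]
  · simp

lemma herm_nondeg (hF : Fintype.card F = q ^ 2) {u : Fin n → F}
    (h : ∀ v, Cfsg.hermForm n F q u v = 0) : u = 0 := by
  funext i
  rw [← herm_single_right hF u i, h]
  rfl

/-- a matrix preserving the hermitian form -/
def IsHermIso (n : ℕ) (F : Type*) [Field F] (q : ℕ) (A : Matrix (Fin n) (Fin n) F) : Prop :=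
  ∀ u v, Cfsg.hermForm n F q (A *ᵥ u) (A *ᵥ v) = Cfsg.hermForm n F q u v

lemma IsHermIso.det_ne_zero (hF : Fintype.card F = q ^ 2) {A : Matrix (Fin n) (Fin n) F}
    (hA : IsHermIso n F q A) : A.det ≠ 0 := by
  intro hdet
  obtain ⟨v, hv0, hv⟩ := Matrix.exists_mulVec_eq_zero_iff.2 hdet
  apply hv0
  apply herm_nondeg hF
  intro y
  rw [← hA v y, hv, herm_zero_left]

lemma mem_GU_iff (g : GL (Fin n) F) : g ∈ Cfsg.GU n F q ↔ IsHermIso n F q (Units.val g) := Iff.rfl

/-- the quasi-reflection `x ↦ x - c h(x,w) w` -/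
def qrefl (q : ℕ) (w : Fin n → F) (c : F) : Matrix (Fin n) (Fin n) F :=
  1 - c • Matrix.vecMulVec w (fun j => (w j) ^ q)

lemma qrefl_mulVec (w : Fin n → F) (c : F) (x : Fin n → F) :
    qrefl q w c *ᵥ x = x - (c * Cfsg.hermForm n F q x w) • w := by
  rw [qrefl, Matrix.sub_mulVec, Matrix.one_mulVec, Matrix.smul_mulVec, Matrix.vecMulVec_mulVec,
    mul_smul]
  congr 2
  rw [op_smul_eq_smul]
  congr 1
  unfold Cfsg.hermForm dotProduct
  exact Finset.sum_congr rfl (fun i _ => mul_comm _ _)

lemma qrefl_isHermIso (hF : Fintype.card F = q ^ 2) (w : Fin n → F) (c : F)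
    (hc : c + c ^ q = c * c ^ q * Cfsg.hermForm n F q w w) : IsHermIso n F q (qrefl q w c) := by
  intro x y
  rw [qrefl_mulVec, qrefl_mulVec, herm_sub_left, herm_sub_right hF, herm_sub_right hF,
    herm_smul_left, herm_smul_left, herm_smul_right, herm_smul_right, mul_pow, herm_conj hF]
  linear_combination (-(Cfsg.hermForm n F q x w * Cfsg.hermForm n F q w y)) * hc

end HermBasic



section Transitive

variable {F : Type*} [Field F] [Fintype F] {q n : ℕ}

lemma IsHermIso.mul {A B : Matrix (Fin n) (Fin n) F} (hA : IsHermIso n F q A)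
    (hB : IsHermIso n F q B) : IsHermIso n F q (A * B) := by
  intro u v
  rw [← Matrix.mulVec_mulVec, ← Matrix.mulVec_mulVec, hA, hB]

lemma IsHermIso.one : IsHermIso n F q (1 : Matrix (Fin n) (Fin n) F) := by
  intro u v
  rw [Matrix.one_mulVec, Matrix.one_mulVec]

lemma exists_isHermIso_of_ne (hF : Fintype.card F = q ^ 2) {u v : Fin n → F}
    (hu : Cfsg.hermForm n F q u u = 1) (hv : Cfsg.hermForm n F q v v = 1)
    (h : Cfsg.hermForm n F q u v ≠ 1) :
    ∃ A : Matrix (Fin n) (Fin n) F, IsHermIso n F q A ∧ A *ᵥ u = v := by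
  have hq := two_le_of_card hF
  set a := Cfsg.hermForm n F q u v with ha
  set b := Cfsg.hermForm n F q v u with hb
  have hab : a ^ q = b := herm_conj hF u v
  have h1 : Cfsg.hermForm n F q u (u - v) = 1 - a := by
    rw [herm_sub_right hF, hu]
  have h2 : Cfsg.hermForm n F q (u - v) (u - v) = 2 - a - b := by
    rw [herm_sub_left, herm_sub_right hF, herm_sub_right hF, hu, hv]
    ring
  have ha1 : 1 - a ≠ 0 := fun h0 => h (sub_eq_zero.1 h0).symm
  have hb1 : 1 - b ≠ 0 := by
    rw [← hab, ← one_pow q, ← frob_sub hF]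
    exact pow_ne_zero _ ha1
  refine ⟨qrefl q (u - v) (1 - a)⁻¹, qrefl_isHermIso hF _ _ ?_, ?_⟩
  · rw [h2, inv_pow, frob_sub hF, one_pow, hab]
    field_simp
    ring
  · rw [qrefl_mulVec, h1, inv_mul_cancel₀ ha1, one_smul]
    abel

lemma exists_norm_one_ne_one (hF : Fintype.card F = q ^ 2) :
    ∃ z : F, z ^ (q + 1) = 1 ∧ z ≠ 1 := by
  have hq := two_le_of_card hF
  have hcard := card_ker_pow_succ hF
  by_contra hcon
  push Not at hcon
  have : (powMonoidHom (q + 1) : Fˣ →* Fˣ).ker = ⊥ := by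
    rw [Subgroup.eq_bot_iff_forall]
    intro x hx
    rw [MonoidHom.mem_ker, powMonoidHom_apply] at hx
    apply Units.ext
    apply hcon
    rw [← Units.val_pow_eq_pow_val, hx, Units.val_one]
  rw [this, Subgroup.card_bot] at hcard
  omega

/-- The unitary isometries are transitive on vectors of norm one. -/
theorem exists_isHermIso_mulVec_eq (hF : Fintype.card F = q ^ 2) {u v : Fin n → F}
    (hu : Cfsg.hermForm n F q u u = 1) (hv : Cfsg.hermForm n F q v v = 1) :
    ∃ A : Matrix (Fin n) (Fin n) F, IsHermIso n F q A ∧ A *ᵥ u = v := by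
  by_cases h : Cfsg.hermForm n F q u v = 1
  · obtain ⟨z, hz, hz1⟩ := exists_norm_one_ne_one hF
    have hzq : z ^ q ≠ 1 := by
      intro h1
      apply hz1
      rw [pow_succ, h1, one_mul] at hz
      exact hz
    have h1 : Cfsg.hermForm n F q (z • u) (z • u) = 1 := by
      rw [herm_smul_left, herm_smul_right, hu, mul_one, ← pow_succ', hz]
    have h2 : Cfsg.hermForm n F q u (z • u) ≠ 1 := by
      rw [herm_smul_right, hu, mul_one]
      exact hzq
    have h3 : Cfsg.hermForm n F q (z • u) v ≠ 1 := by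
      rw [herm_smul_left, h, mul_one]
      exact hz1
    obtain ⟨A1, hA1, hA1u⟩ := exists_isHermIso_of_ne hF hu h1 h2
    obtain ⟨A2, hA2, hA2u⟩ := exists_isHermIso_of_ne hF h1 hv h3
    refine ⟨A2 * A1, hA2.mul hA1, ?_⟩
    rw [← Matrix.mulVec_mulVec, hA1u, hA2u]
  · exact exists_isHermIso_of_ne hF hu hv h

end Transitive



section UStab

variable {F : Type*} [Field F] {q n : ℕ}

lemma herm_succ (x y : Fin (n + 1) → F) :
    Cfsg.hermForm (n + 1) F q x y =
      x 0 * (y 0) ^ q + Cfsg.hermForm n F q (Fin.tail x) (Fin.tail y) := by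
  unfold Cfsg.hermForm
  rw [Fin.sum_univ_succ]
  rfl

/-- the lift of a linear map -/
def uliftLin (g : Matrix (Fin n) (Fin n) F) : (Fin (n + 1) → F) →ₗ[F] (Fin (n + 1) → F) where
  toFun x := Fin.cons (x 0) (g *ᵥ Fin.tail x)
  map_add' x y := by
    funext i
    refine Fin.cases ?_ (fun j => ?_) i
    · simp
    · have : Fin.tail (x + y) = Fin.tail x + Fin.tail y := rfl
      simp [this, Matrix.mulVec_add]
  map_smul' c x := by
    funext i
    refine Fin.cases ?_ (fun j => ?_) i
    · simp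
    · have : Fin.tail (c • x) = c • Fin.tail x := rfl
      simp [this, Matrix.mulVec_smul]

/-- the lift of a matrix -/
def uliftMat (g : Matrix (Fin n) (Fin n) F) : Matrix (Fin (n + 1)) (Fin (n + 1)) F :=
  LinearMap.toMatrix' (uliftLin g)

lemma uliftMat_mulVec (g : Matrix (Fin n) (Fin n) F) (x : Fin (n + 1) → F) :
    uliftMat g *ᵥ x = Fin.cons (x 0) (g *ᵥ Fin.tail x) :=
  LinearMap.toMatrix'_mulVec _ _

lemma uliftMat_isHermIso {g : Matrix (Fin n) (Fin n) F} (hg : IsHermIso n F q g) :
    IsHermIso (n + 1) F q (uliftMat g) := by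
  intro u v
  rw [uliftMat_mulVec, uliftMat_mulVec, herm_succ, herm_succ u v]
  simp only [Fin.cons_zero, Fin.tail_cons]
  rw [hg]

/-- the restriction of a linear map -/
def udownLin (g : Matrix (Fin (n + 1)) (Fin (n + 1)) F) : (Fin n → F) →ₗ[F] (Fin n → F) where
  toFun w := Fin.tail (g *ᵥ Fin.cons 0 w)
  map_add' x y := by
    have : (Fin.cons 0 (x + y) : Fin (n + 1) → F) = Fin.cons 0 x + Fin.cons 0 y := by
      funext i
      refine Fin.cases ?_ (fun j => ?_) i <;> simp
    rw [this, Matrix.mulVec_add]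
    rfl
  map_smul' c x := by
    have : (Fin.cons 0 (c • x) : Fin (n + 1) → F) = c • Fin.cons 0 x := by
      funext i
      refine Fin.cases ?_ (fun j => ?_) i <;> simp
    rw [this, Matrix.mulVec_smul]
    rfl

/-- the restriction of a matrix -/
def udownMat (g : Matrix (Fin (n + 1)) (Fin (n + 1)) F) : Matrix (Fin n) (Fin n) F :=
  LinearMap.toMatrix' (udownLin g)

lemma udownMat_mulVec (g : Matrix (Fin (n + 1)) (Fin (n + 1)) F) (w : Fin n → F) :
    udownMat g *ᵥ w = Fin.tail (g *ᵥ Fin.cons 0 w) :=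
  LinearMap.toMatrix'_mulVec _ _

lemma udownMat_uliftMat (g : Matrix (Fin n) (Fin n) F) : udownMat (uliftMat g) = g := by
  apply Matrix.mulVec_injective
  funext w
  rw [udownMat_mulVec, uliftMat_mulVec]
  simp

variable [Fintype F]

lemma mulVec_zero_coord (hF : Fintype.card F = q ^ 2) {g : Matrix (Fin (n + 1)) (Fin (n + 1)) F}
    (hg : IsHermIso (n + 1) F q g) (he : g *ᵥ Pi.single 0 1 = Pi.single 0 1)
    (x : Fin (n + 1) → F) : (g *ᵥ x) 0 = x 0 := by
  rw [← herm_single_right hF (g *ᵥ x) 0, ← herm_single_right hF x 0]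
  conv_lhs => rw [← he]
  rw [hg]

lemma mulVec_cons_zero (hF : Fintype.card F = q ^ 2) {g : Matrix (Fin (n + 1)) (Fin (n + 1)) F}
    (hg : IsHermIso (n + 1) F q g) (he : g *ᵥ Pi.single 0 1 = Pi.single 0 1) (w : Fin n → F) :
    g *ᵥ Fin.cons 0 w = Fin.cons 0 (Fin.tail (g *ᵥ Fin.cons 0 w)) := by
  have h0 := mulVec_zero_coord hF hg he (Fin.cons 0 w)
  rw [Fin.cons_zero] at h0
  conv_lhs => rw [← Fin.cons_self_tail (g *ᵥ Fin.cons 0 w), h0]

lemma udownMat_isHermIso (hF : Fintype.card F = q ^ 2)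
    {g : Matrix (Fin (n + 1)) (Fin (n + 1)) F}
    (hg : IsHermIso (n + 1) F q g) (he : g *ᵥ Pi.single 0 1 = Pi.single 0 1) :
    IsHermIso n F q (udownMat g) := by
  intro u v
  have h1 := hg (Fin.cons 0 u) (Fin.cons 0 v)
  rw [mulVec_cons_zero hF hg he u, mulVec_cons_zero hF hg he v, herm_succ, herm_succ] at h1
  simp only [Fin.cons_zero, Fin.tail_cons, zero_mul, zero_add] at h1
  rw [udownMat_mulVec, udownMat_mulVec]
  exact h1

lemma uliftMat_udownMat (hF : Fintype.card F = q ^ 2)
    {g : Matrix (Fin (n + 1)) (Fin (n + 1)) F}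
    (hg : IsHermIso (n + 1) F q g) (he : g *ᵥ Pi.single 0 1 = Pi.single 0 1) :
    uliftMat (udownMat g) = g := by
  apply Matrix.mulVec_injective
  funext x
  rw [uliftMat_mulVec, udownMat_mulVec]
  have hx : x = x 0 • Pi.single 0 1 + Fin.cons 0 (Fin.tail x) := by
    funext i
    refine Fin.cases ?_ (fun j => ?_) i <;> simp [Fin.tail, Fin.succ_ne_zero]
  conv_rhs => rw [hx, Matrix.mulVec_add, Matrix.mulVec_smul, he, mulVec_cons_zero hF hg he]
  funext i
  refine Fin.cases ?_ (fun j => ?_) i <;> simp [Fin.succ_ne_zero]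

lemma uliftMat_e0 (g : Matrix (Fin n) (Fin n) F) :
    uliftMat g *ᵥ Pi.single 0 1 = Pi.single 0 1 := by
  rw [uliftMat_mulVec]
  funext i
  refine Fin.cases ?_ (fun j => ?_) i
  · simp
  · have : Fin.tail (Pi.single 0 1 : Fin (n + 1) → F) = 0 := by
      funext k
      simp [Fin.tail, Fin.succ_ne_zero]
    simp [this, Fin.succ_ne_zero]

end UStab



section UCard

variable {F : Type*} [Field F] [Fintype F] {q : ℕ}

/-- an element of `GU` from a hermitian isometry -/
def mkGU (hF : Fintype.card F = q ^ 2) {n : ℕ} (A : Matrix (Fin n) (Fin n) F)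
    (hA : IsHermIso n F q A) : Cfsg.GU n F q :=
  ⟨Matrix.GeneralLinearGroup.mkOfDetNeZero A (hA.det_ne_zero hF), hA⟩

lemma mkGU_val (hF : Fintype.card F = q ^ 2) {n : ℕ} (A : Matrix (Fin n) (Fin n) F)
    (hA : IsHermIso n F q A) : Units.val (mkGU hF A hA).1 = A := rfl

/-- the scalar action of `GU` on vectors -/
instance (priority := 10000) GUSMul {n : ℕ} : SMul (Cfsg.GU n F q) (Fin n → F) where
  smul g v := Units.val g.1 *ᵥ v

/-- the action of `GU` on vectors -/
instance (priority := 10000) GUAction {n : ℕ} : MulAction (Cfsg.GU n F q) (Fin n → F) where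
  one_smul v := Matrix.one_mulVec v
  mul_smul g h v := (Matrix.mulVec_mulVec v (Units.val g.1) (Units.val h.1)).symm

lemma GU_smul_def {n : ℕ} (g : Cfsg.GU n F q) (v : Fin n → F) :
    g • v = Units.val g.1 *ᵥ v := rfl

lemma GU_ext {n : ℕ} {g h : Cfsg.GU n F q} (hgh : Units.val g.1 = Units.val h.1) : g = h :=
  Subtype.ext (Units.ext hgh)

/-- The stabiliser of the first basis vector in `GU_{n+1}` is `GU_n`. -/
def stabGUEquiv (hF : Fintype.card F = q ^ 2) (n : ℕ) :
    {g : Cfsg.GU (n + 1) F q // Units.val g.1 *ᵥ Pi.single 0 1 = Pi.single 0 1} ≃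
      Cfsg.GU n F q where
  toFun g := mkGU hF (udownMat (Units.val g.1.1)) (udownMat_isHermIso hF g.1.2 g.2)
  invFun g := ⟨mkGU hF (uliftMat (Units.val g.1)) (uliftMat_isHermIso g.2), uliftMat_e0 _⟩
  left_inv g := by
    apply Subtype.ext
    apply GU_ext
    exact uliftMat_udownMat hF g.1.2 g.2
  right_inv g := by
    apply GU_ext
    exact udownMat_uliftMat _

lemma orbit_GU_e0 (hF : Fintype.card F = q ^ 2) (n : ℕ) :
    MulAction.orbit (Cfsg.GU (n + 1) F q) (Pi.single 0 1 : Fin (n + 1) → F) =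
      {v | Cfsg.hermForm (n + 1) F q v v = 1} := by
  have he : Cfsg.hermForm (n + 1) F q (Pi.single 0 1) (Pi.single 0 1) = 1 := by
    rw [herm_single_right hF]; simp
  ext v
  constructor
  · rintro ⟨g, hg⟩
    change g • (Pi.single 0 1 : Fin (n + 1) → F) = v at hg
    rw [GU_smul_def] at hg
    show Cfsg.hermForm (n + 1) F q v v = 1
    rw [← hg]
    exact (g.2 _ _).trans he
  · intro hv
    obtain ⟨A, hA, hAe⟩ := exists_isHermIso_mulVec_eq hF he hv
    exact ⟨mkGU hF A hA, hAe⟩

lemma card_GU_succ (hF : Fintype.card F = q ^ 2) (n : ℕ) :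
    Nat.card (Cfsg.GU (n + 1) F q) = hcount F q (n + 1) 1 * Nat.card (Cfsg.GU n F q) := by
  have e := MulAction.orbitProdStabilizerEquivGroup (Cfsg.GU (n + 1) F q)
    (Pi.single 0 1 : Fin (n + 1) → F)
  rw [← Nat.card_congr e, Nat.card_prod]
  congr 1
  · rw [orbit_GU_e0 hF]
    rfl
  · refine Nat.card_congr ((Equiv.subtypeEquivRight ?_).trans (stabGUEquiv hF n))
    intro g
    rw [MulAction.mem_stabilizer_iff, GU_smul_def]

lemma card_GU_zero : Nat.card (Cfsg.GU 0 F q) = 1 := by
  have : Subsingleton (Cfsg.GU 0 F q) := by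
    constructor
    intro a b
    apply GU_ext
    ext i j
    exact i.elim0
  exact Nat.card_unique

end UCard



section UFormula

variable {F : Type*} [Field F] [Fintype F] {q : ℕ}

theorem card_GU (hF : Fintype.card F = q ^ 2) (n : ℕ) :
    Nat.card (Cfsg.GU n F q) = q ^ (n * (n - 1) / 2) *
      ∏ i ∈ Finset.range n, (if Even i then q ^ (i + 1) + 1 else q ^ (i + 1) - 1) := by
  induction n with
  | zero => simp [card_GU_zero]
  | succ n ih =>
    rw [card_GU_succ hF, ih, Finset.prod_range_succ, Nat.triangle_succ, pow_add]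
    have h1 : hcount F q (n + 1) 1 =
        q ^ n * (if Even n then q ^ (n + 1) + 1 else q ^ (n + 1) - 1) := by
      have := card_hermForm_eq_one hF (n + 1)
      rw [Nat.add_sub_cancel] at this
      change hcount F q (n + 1) 1 = _ at this
      rw [this]
      by_cases hn : Even n
      · have : ¬ Even (n + 1) := by
          rw [Nat.even_add_one]; exact not_not.2 hn
        rw [if_neg this, if_pos hn]
      · have : Even (n + 1) := by
          rw [Nat.even_add_one]; exact hn
        rw [if_pos this, if_neg hn]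
    rw [h1]
    ring

end UFormula

end Cfsg.Agent.Lib.Helper5
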