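import Mathlib
import Cfsg.Prelude.Def_LieClassical
import Cfsg.Agent.Lib.Helper5.UnitaryCard

set_option autoImplicit false
set_option linter.unusedSimpArgs false
set_option linter.unusedVariables false
set_option linter.unnecessarySeqFocus false
set_option linter.unusedSectionVars false

namespace Cfsg.Agent.Lib.Helper5

open Matrix Finset

section SUCard

variable {F : Type*} [Field F] [Fintype F] {q n : ℕ}

/-- the map `x ↦ x ^ q` as a ring homomorphism -/
def frobQ (hF : Fintype.card F = q ^ 2) : F →+* F where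
  toFun x := x ^ q
  map_one' := one_pow q
  map_mul' := fun a b => mul_pow a b q
  map_zero' := zero_pow (by have := two_le_of_card hF; omega)
  map_add' := frob_add hF

lemma frobQ_apply (hF : Fintype.card F = q ^ 2) (x : F) : frobQ hF x = x ^ q := rfl

lemma IsHermIso.transpose_mul_map (hF : Fintype.card F = q ^ 2) {A : Matrix (Fin n) (Fin n) F}
    (hA : IsHermIso n F q A) : Aᵀ * A.map (frobQ hF) = 1 := by
  ext i j
  rw [Matrix.mul_apply, Matrix.one_apply]
  have := hA (Pi.single i 1) (Pi.single j 1)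
  rw [herm_single_right hF] at this
  rw [Matrix.mulVec_single_one, Matrix.mulVec_single_one] at this
  unfold Cfsg.hermForm at this
  simp only [Matrix.transpose_apply, Matrix.map_apply, frobQ_apply]
  rw [Pi.single_apply] at this
  rw [show (∑ k, A k i * A k j ^ q) = ∑ k, A.col i k * A.col j k ^ q from rfl, this]
  simp only [eq_comm]

lemma IsHermIso.det_pow (hF : Fintype.card F = q ^ 2) {A : Matrix (Fin n) (Fin n) F}
    (hA : IsHermIso n F q A) : A.det ^ (q + 1) = 1 := by
  have h := congrArg Matrix.det (hA.transpose_mul_map hF)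
  rw [Matrix.det_mul, Matrix.det_transpose, Matrix.det_one] at h
  have h2 : (A.map (frobQ hF)).det = A.det ^ q := by
    rw [← frobQ_apply hF, RingHom.map_det]
    rfl
  rw [h2, ← pow_succ'] at h
  exact h

end SUCard



section SUCard2

variable {F : Type*} [Field F] [Fintype F] {q n : ℕ}

/-- the determinant on `GU` -/
def detGU (n : ℕ) (F : Type*) [Field F] (q : ℕ) : Cfsg.GU n F q →* Fˣ :=
  Matrix.GeneralLinearGroup.det.comp (Cfsg.GU n F q).subtype

lemma detGU_val (g : Cfsg.GU n F q) : ((detGU n F q g : Fˣ) : F) = (Units.val g.1).det := rfl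

lemma diag_isHermIso (d : Fin n → F) (hd : ∀ i, d i * d i ^ q = 1) :
    IsHermIso n F q (Matrix.diagonal d) := by
  intro u v
  unfold Cfsg.hermForm
  apply Finset.sum_congr rfl
  intro i _
  rw [Matrix.mulVec_diagonal, Matrix.mulVec_diagonal, mul_pow]
  calc d i * u i * (d i ^ q * v i ^ q) = (d i * d i ^ q) * (u i * v i ^ q) := by ring
    _ = u i * v i ^ q := by rw [hd, one_mul]

lemma range_detGU (hF : Fintype.card F = q ^ 2) (n : ℕ) :
    (detGU (n + 1) F q).range = (powMonoidHom (q + 1) : Fˣ →* Fˣ).ker := by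
  ext z
  constructor
  · rintro ⟨g, rfl⟩
    rw [MonoidHom.mem_ker, powMonoidHom_apply]
    apply Units.ext
    rw [Units.val_pow_eq_pow_val, detGU_val, Units.val_one]
    exact IsHermIso.det_pow hF g.2
  · intro hz
    rw [MonoidHom.mem_ker, powMonoidHom_apply] at hz
    have hz' : (z : F) * (z : F) ^ q = 1 := by
      rw [← pow_succ', ← Units.val_pow_eq_pow_val, hz, Units.val_one]
    have hd : ∀ i, (Fin.cons (z : F) (fun _ => 1) : Fin (n + 1) → F) i *
        (Fin.cons (z : F) (fun _ => 1) : Fin (n + 1) → F) i ^ q = 1 := by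
      intro i
      refine Fin.cases ?_ (fun j => ?_) i
      · simpa using hz'
      · simp
    refine ⟨mkGU hF _ (diag_isHermIso _ hd), ?_⟩
    apply Units.ext
    rw [detGU_val, mkGU_val, Matrix.det_diagonal, Fin.prod_univ_succ]
    simp

/-- the kernel of the determinant on `GU` is `SU` -/
def kerDetGUEquiv (n : ℕ) (F : Type*) [Field F] [Fintype F] (q : ℕ) :
    (detGU n F q).ker ≃ Cfsg.SU n F q where
  toFun g := ⟨⟨Units.val g.1.1, by
      have := congrArg Units.val (MonoidHom.mem_ker.1 g.2)
      rw [detGU_val] at this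
      exact this⟩, g.1.2⟩
  invFun A := ⟨⟨Matrix.SpecialLinearGroup.toGL A.1, A.2⟩, by
      rw [MonoidHom.mem_ker]
      apply Units.ext
      rw [detGU_val]
      exact A.1.2⟩
  left_inv g := by
    apply Subtype.ext
    apply Subtype.ext
    apply Units.ext
    rfl
  right_inv A := by
    apply Subtype.ext
    apply Subtype.ext
    rfl

theorem card_SU (hF : Fintype.card F = q ^ 2) (n : ℕ) (hn : 1 ≤ n) :
    (q + 1) * Nat.card (Cfsg.SU n F q) = Nat.card (Cfsg.GU n F q) := by
  obtain ⟨m, rfl⟩ : ∃ m, n = m + 1 := ⟨n - 1, by omega⟩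
  have h1 := Subgroup.card_eq_card_quotient_mul_card_subgroup (detGU (m + 1) F q).ker
  have h2 : Nat.card (Cfsg.GU (m + 1) F q ⧸ (detGU (m + 1) F q).ker) = q + 1 := by
    rw [Nat.card_congr (QuotientGroup.quotientKerEquivRange (detGU (m + 1) F q)).toEquiv,
      range_detGU hF, card_ker_pow_succ hF]
  rw [h1, h2, Nat.card_congr (kerDetGUEquiv (m + 1) F q)]

end SUCard2

end Cfsg.Agent.Lib.Helper5
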