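import Mathlib

set_option autoImplicit false

namespace Cfsg.Agent.Lib.Helper5

open Matrix Finset

variable {F : Type*} [Field F] [Fintype F] {n : Type*} [Fintype n]

/-- For `x ≠ 0`, the number of `y` with `x ⬝ᵥ y = c` is `q^(n-1)`. -/
lemma card_dotProduct_eq (x : n → F) (hx : x ≠ 0) (c : F) :
    Nat.card {y : n → F // x ⬝ᵥ y = c} = Fintype.card F ^ (Fintype.card n - 1) := by
  classical
  obtain ⟨i, hi⟩ : ∃ i, x i ≠ 0 := by
    by_contra hcon
    push Not at hcon
    exact hx (funext hcon)
  let f : (n → F) →+ F :=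
    { toFun := fun y ↦ x ⬝ᵥ y
      map_zero' := by simp
      map_add' := fun y z ↦ by simp [dotProduct_add] }
  have hsurj : ∀ d : F, d ∈ Set.range f := by
    intro d
    refine ⟨Pi.single i (d / x i), ?_⟩
    change x ⬝ᵥ Pi.single i (d / x i) = d
    rw [dotProduct_single]
    field_simp
  have hfib : ∀ d : F, #{y : n → F | f y = d} = #{y : n → F | f y = c} := fun d ↦
    AddMonoidHom.card_fiber_eq_of_mem_range f (hsurj d) (hsurj c)
  have hsum : Fintype.card (n → F) = ∑ d : F, #{y : n → F | f y = d} := by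
    rw [← Finset.card_univ]
    exact Finset.card_eq_sum_card_fiberwise (fun _ _ ↦ Finset.mem_univ _)
  simp only [hfib, Finset.sum_const, Finset.card_univ, smul_eq_mul] at hsum
  rw [Fintype.card_fun] at hsum
  have hn : 1 ≤ Fintype.card n := Fintype.card_pos_iff.2 ⟨i⟩
  have hq : 0 < Fintype.card F := Fintype.card_pos
  have : Nat.card {y : n → F // x ⬝ᵥ y = c} = #{y : n → F | f y = c} := by
    rw [Nat.card_eq_fintype_card, Fintype.card_subtype]
    rfl
  rw [this]
  have h2 : Fintype.card F ^ Fintype.card n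
      = Fintype.card F * Fintype.card F ^ (Fintype.card n - 1) := by
    rw [← pow_succ']
    congr 1
    omega
  rw [h2] at hsum
  exact (Nat.eq_of_mul_eq_mul_left hq hsum).symm

/-- The number of `y` with `x ⬝ᵥ y = c`, in general. -/
lemma card_dotProduct_eq' [DecidableEq F] (x : n → F) (c : F) :
    Nat.card {y : n → F // x ⬝ᵥ y = c} =
      if x = 0 then (if c = 0 then Fintype.card F ^ Fintype.card n else 0)
      else Fintype.card F ^ (Fintype.card n - 1) := by
  classical
  split_ifs with hx hc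
  · subst hx; subst hc
    simp [Nat.card_eq_fintype_card]
  · subst hx
    have : IsEmpty {y : n → F // (0 : n → F) ⬝ᵥ y = c} :=
      ⟨fun ⟨y, hy⟩ ↦ hc (by simpa using hy.symm)⟩
    exact Nat.card_of_isEmpty
  · exact card_dotProduct_eq x hx c

/-- The number of pairs `(x, y)` with `x ⬝ᵥ y = c`. -/
lemma card_pairs_dotProduct_eq [DecidableEq F] (c : F) :
    Nat.card {p : (n → F) × (n → F) // p.1 ⬝ᵥ p.2 = c} =
      (if c = 0 then Fintype.card F ^ Fintype.card n else 0) +
        (Fintype.card F ^ Fintype.card n - 1) * Fintype.card F ^ (Fintype.card n - 1) := by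
  classical
  have e : {p : (n → F) × (n → F) // p.1 ⬝ᵥ p.2 = c} ≃
      Σ x : n → F, {y : n → F // x ⬝ᵥ y = c} :=
    { toFun := fun p ↦ ⟨p.1.1, p.1.2, p.2⟩
      invFun := fun s ↦ ⟨(s.1, s.2.1), s.2.2⟩
      left_inv := fun _ ↦ rfl
      right_inv := fun _ ↦ rfl }
  rw [Nat.card_congr e, Nat.card_sigma]
  simp only [card_dotProduct_eq']
  rw [Finset.sum_ite, Finset.sum_const, Finset.sum_const]
  have h1 : (Finset.univ.filter (fun x : n → F ↦ x = 0)) = {0} := by
    ext x; simp
  have h2 : (Finset.univ.filter (fun x : n → F ↦ ¬ x = 0)).card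
      = Fintype.card F ^ Fintype.card n - 1 := by
    rw [Finset.filter_not, Finset.card_sdiff_of_subset (Finset.subset_univ _), h1,
      Finset.card_univ, Fintype.card_fun, Finset.card_singleton]
  rw [h1, h2]
  simp

/-- Zeros of `g e + x ⬝ᵥ y`. -/
lemma card_extra_add_dotProduct_eq_zero {E : Type*} [Fintype E] (g : E → F) :
    Nat.card {p : E × ((n → F) × (n → F)) // g p.1 + p.2.1 ⬝ᵥ p.2.2 = 0} =
      Nat.card {e : E // g e = 0} * Fintype.card F ^ Fintype.card n +
        Fintype.card E *
          ((Fintype.card F ^ Fintype.card n - 1) * Fintype.card F ^ (Fintype.card n - 1)) := by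
  classical
  have e : {p : E × ((n → F) × (n → F)) // g p.1 + p.2.1 ⬝ᵥ p.2.2 = 0} ≃
      Σ e : E, {p : (n → F) × (n → F) // p.1 ⬝ᵥ p.2 = - g e} :=
    { toFun := fun p ↦ ⟨p.1.1, p.1.2, by
        have := p.2
        exact eq_neg_of_add_eq_zero_right this⟩
      invFun := fun s ↦ ⟨(s.1, s.2.1), by
        have := s.2.2
        simp only [this]; ring⟩
      left_inv := fun _ ↦ rfl
      right_inv := fun _ ↦ rfl }
  rw [Nat.card_congr e, Nat.card_sigma]
  simp only [card_pairs_dotProduct_eq, neg_eq_zero]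
  rw [Finset.sum_add_distrib, Finset.sum_const, Finset.card_univ, smul_eq_mul,
    Finset.sum_ite, Finset.sum_const, Finset.sum_const, smul_zero, add_zero, smul_eq_mul,
    Nat.card_eq_fintype_card, Fintype.card_subtype]

end Cfsg.Agent.Lib.Helper5
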