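import Mathlib
import Cfsg.Prelude.Def_ClassicalGeometry
import Cfsg.Prelude.Def_GeometricClasses
import Cfsg.Agent.Lib.Helper48.TiDefs
import Cfsg.Agent.Lib.Helper67.TsDefs

/-! # Definitions for the S5992 / S5993 hive (helper5): `Ω_{2d+1}(q)`, `q` odd, on hyperbolic /
elliptic nondegenerate `m`-spaces.

Vocabulary reused: `Cfsg.Agent.Lib.Helper99.Nd` (relative nondegeneracy), `Cfsg.Agent.Lib.Helper48.Ti.TI`
(totally isotropic), `Cfsg.Agent.Lib.Helper48.Ti.Isom`, `Cfsg.Agent.Lib.Helper2.BG.Inv`,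
`Cfsg.Agent.Lib.Helper67.Ts.VO`, `Cfsg.Agent.Lib.Helper67.Ts.oddB`. -/

set_option autoImplicit false

namespace Cfsg.Agent.Lib.Helper5.Hy

open Module
open Cfsg.Agent.Lib.Helper2.BG Cfsg.Agent.Lib.Helper99 Cfsg.Agent.Lib.Helper48.Ti

section defs

variable {F V : Type*} [Field F] [AddCommGroup V] [Module F V]

/-- `W` is of plus type for `B`: it contains a totally isotropic subspace of half its dimension
(used for nondegenerate `W` of even dimension; `⊥` is of plus type). -/
def Plus (B : V →ₗ[F] V →ₗ[F] F) (W : Submodule F V) : Prop :=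
  ∃ U : Submodule F V, U ≤ W ∧ TI B U ∧ 2 * finrank F U = finrank F W

/-- `W₁` and `W₂` are orthogonal for `B` -/
def Orth (B : V →ₗ[F] V →ₗ[F] F) (W₁ W₂ : Submodule F V) : Prop :=
  ∀ u ∈ W₁, ∀ v ∈ W₂, B u v = 0

/-- the fixed space of `f` -/
abbrev Fix (f : Module.End F V) : Submodule F V := LinearMap.ker (f - 1)

/-- there is an `f`-invariant nondegenerate subspace of dimension `m` whose type is `b`
(`b = True`: plus type / hyperbolic, `b = False`: minus type / elliptic) -/
def Fixes (B : V →ₗ[F] V →ₗ[F] F) (f : Module.End F V) (m : ℕ) (b : Prop) : Prop :=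
  ∃ W : Submodule F V, Inv f W ∧ Nd B W ∧ finrank F W = m ∧ (Plus B W ↔ b)

end defs

end Cfsg.Agent.Lib.Helper5.Hy
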