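import Mathlib

set_option autoImplicit false
set_option linter.unusedSimpArgs false
set_option linter.unusedVariables false
set_option linter.unnecessarySeqFocus false

namespace Cfsg.Agent.Lib.Helper5

open Matrix

variable {l R : Type*} [DecidableEq l] [Fintype l] [CommRing R]

/-- The standard symplectic form `β(u, v) = (J u) ⬝ v`. -/
def sympForm (u v : l ⊕ l → R) : R := (J l R *ᵥ u) ⬝ᵥ v

lemma sympForm_def (u v : l ⊕ l → R) : sympForm u v = (J l R *ᵥ u) ⬝ᵥ v := rfl

lemma J_mulVec_apply_inl (u : l ⊕ l → R) (i : l) : (J l R *ᵥ u) (Sum.inl i) = - u (Sum.inr i) := by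
  simp [J, Matrix.mulVec, dotProduct, Matrix.fromBlocks, Fintype.sum_sum_type, Matrix.one_apply,
    Matrix.neg_apply]

lemma J_mulVec_apply_inr (u : l ⊕ l → R) (i : l) : (J l R *ᵥ u) (Sum.inr i) = u (Sum.inl i) := by
  simp [J, Matrix.mulVec, dotProduct, Matrix.fromBlocks, Fintype.sum_sum_type, Matrix.one_apply]

lemma sympForm_explicit (u v : l ⊕ l → R) :
    sympForm u v = ∑ i, (u (Sum.inl i) * v (Sum.inr i) - u (Sum.inr i) * v (Sum.inl i)) := by
  rw [sympForm_def, dotProduct, Fintype.sum_sum_type]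
  simp only [J_mulVec_apply_inl, J_mulVec_apply_inr]
  rw [← Finset.sum_add_distrib]
  apply Finset.sum_congr rfl
  intro i _
  ring

lemma sympForm_self (u : l ⊕ l → R) : sympForm u u = 0 := by
  rw [sympForm_explicit]
  apply Finset.sum_eq_zero
  intro i _
  ring

lemma sympForm_swap (u v : l ⊕ l → R) : sympForm u v = - sympForm v u := by
  rw [sympForm_explicit, sympForm_explicit, ← Finset.sum_neg_distrib]
  apply Finset.sum_congr rfl
  intro i _
  ring

lemma sympForm_add_left (u u' v : l ⊕ l → R) :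
    sympForm (u + u') v = sympForm u v + sympForm u' v := by
  simp [sympForm_def, Matrix.mulVec_add, add_dotProduct]

lemma sympForm_add_right (u v v' : l ⊕ l → R) :
    sympForm u (v + v') = sympForm u v + sympForm u v' := by
  simp [sympForm_def, dotProduct_add]

lemma sympForm_smul_left (c : R) (u v : l ⊕ l → R) :
    sympForm (c • u) v = c * sympForm u v := by
  simp [sympForm_def, Matrix.mulVec_smul, smul_dotProduct]

lemma sympForm_smul_right (c : R) (u v : l ⊕ l → R) :
    sympForm u (c • v) = c * sympForm u v := by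
  simp [sympForm_def, dotProduct_smul]

lemma sympForm_sub_left (u u' v : l ⊕ l → R) :
    sympForm (u - u') v = sympForm u v - sympForm u' v := by
  simp [sympForm_def, Matrix.mulVec_sub, sub_dotProduct]

lemma sympForm_neg_left (u v : l ⊕ l → R) : sympForm (-u) v = - sympForm u v := by
  simp [sympForm_def, Matrix.mulVec_neg, neg_dotProduct]

lemma J_mulVec_J_mulVec (u : l ⊕ l → R) : J l R *ᵥ (J l R *ᵥ u) = -u := by
  rw [Matrix.mulVec_mulVec, J_squared, Matrix.neg_mulVec, Matrix.one_mulVec]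

lemma vecMul_J (w : l ⊕ l → R) : w ᵥ* J l R = - (J l R *ᵥ w) := by
  rw [← Matrix.mulVec_transpose, J_transpose, Matrix.neg_mulVec]

/-- Elements of the symplectic group preserve the symplectic form. -/
lemma sympForm_mulVec_mulVec {A : Matrix (l ⊕ l) (l ⊕ l) R} (hA : A ∈ symplecticGroup l R)
    (u v : l ⊕ l → R) : sympForm (A *ᵥ u) (A *ᵥ v) = sympForm u v := by
  have h := SymplecticGroup.mem_iff'.1 hA
  rw [sympForm_def, sympForm_def, Matrix.dotProduct_mulVec, ← Matrix.mulVec_transpose,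
    Matrix.mulVec_mulVec, Matrix.mulVec_mulVec, h]

/-- The symplectic transvection `v ↦ v + a β(u, v) u` as a matrix. -/
def sympTransvMat (u : l ⊕ l → R) (a : R) : Matrix (l ⊕ l) (l ⊕ l) R :=
  1 + a • vecMulVec u (J l R *ᵥ u)

lemma sympTransvMat_mulVec (u : l ⊕ l → R) (a : R) (v : l ⊕ l → R) :
    sympTransvMat u a *ᵥ v = v + (a * sympForm u v) • u := by
  rw [sympTransvMat, Matrix.add_mulVec, Matrix.one_mulVec, Matrix.smul_mulVec,
    Matrix.vecMulVec_mulVec, sympForm_def, mul_smul, op_smul_eq_smul]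

lemma sympTransvMat_mem (u : l ⊕ l → R) (a : R) : sympTransvMat u a ∈ symplecticGroup l R := by
  rw [SymplecticGroup.mem_iff, sympTransvMat]
  have h1 : vecMulVec u (J l R *ᵥ u) * J l R = vecMulVec u u := by
    rw [Matrix.vecMulVec_mul, vecMul_J, J_mulVec_J_mulVec, neg_neg]
  have h2 : J l R * (vecMulVec u (J l R *ᵥ u))ᵀ = - vecMulVec u u := by
    rw [Matrix.transpose_vecMulVec, Matrix.mul_vecMulVec, J_mulVec_J_mulVec, Matrix.neg_vecMulVec]
  have h3 : vecMulVec u u * (vecMulVec u (J l R *ᵥ u))ᵀ = 0 := by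
    rw [Matrix.transpose_vecMulVec, Matrix.vecMulVec_mul_vecMulVec]
    have : u ⬝ᵥ (J l R *ᵥ u) = 0 := by
      rw [dotProduct_comm]; exact sympForm_self u
    rw [this, zero_smul, Matrix.vecMulVec_zero]
  have h3' : vecMulVec u (J l R *ᵥ u) * J l R * (vecMulVec u (J l R *ᵥ u))ᵀ = 0 := by
    rw [h1, h3]
  have key : ∀ M : Matrix (l ⊕ l) (l ⊕ l) R, (1 + a • M) * J l R * (1 + a • M)ᵀ =
      J l R + a • (M * J l R) + a • (J l R * Mᵀ) + (a * a) • (M * J l R * Mᵀ) := by
    intro M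
    simp only [Matrix.transpose_add, Matrix.transpose_one, Matrix.transpose_smul, Matrix.add_mul,
      Matrix.mul_add, Matrix.one_mul, Matrix.mul_one, Matrix.smul_mul, Matrix.mul_smul, smul_smul,
      smul_add]
    abel
  rw [key, h1, h2, h3]
  simp

section Field

variable {F : Type*} [Field F]

lemma J_mulVec_ne_zero {v : l ⊕ l → F} (hv : v ≠ 0) : J l F *ᵥ v ≠ 0 := by
  intro h
  apply hv
  have := J_mulVec_J_mulVec v
  rw [h, Matrix.mulVec_zero] at this
  exact neg_eq_zero.1 this.symm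

lemma exists_sympForm_ne_zero_right {w : l ⊕ l → F} (hw : w ≠ 0) :
    ∃ x : l ⊕ l → F, sympForm w x ≠ 0 := by
  have h := J_mulVec_ne_zero hw
  obtain ⟨k, hk⟩ : ∃ k, (J l F *ᵥ w) k ≠ 0 := by
    by_contra hcon
    push Not at hcon
    exact h (funext hcon)
  refine ⟨Pi.single k 1, ?_⟩
  rw [sympForm_def, dotProduct_single_one]
  exact hk

lemma exists_sympForm_ne_zero_left {v : l ⊕ l → F} (hv : v ≠ 0) :
    ∃ x : l ⊕ l → F, sympForm x v ≠ 0 := by
  obtain ⟨x, hx⟩ := exists_sympForm_ne_zero_right hv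
  refine ⟨x, ?_⟩
  rw [sympForm_swap]
  exact neg_ne_zero.2 hx

/-- If `β(w, v) ≠ 0` then some symplectic transvection maps `v` to `w`. -/
lemma exists_symplectic_mulVec_eq_of_sympForm_ne_zero {v w : l ⊕ l → F}
    (h : sympForm w v ≠ 0) :
    ∃ g : symplecticGroup l F, (g : Matrix (l ⊕ l) (l ⊕ l) F) *ᵥ v = w := by
  refine ⟨⟨sympTransvMat (w - v) (sympForm w v)⁻¹, sympTransvMat_mem _ _⟩, ?_⟩
  change sympTransvMat (w - v) (sympForm w v)⁻¹ *ᵥ v = w
  rw [sympTransvMat_mulVec, sympForm_sub_left, sympForm_self, sub_zero, inv_mul_cancel₀ h,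
    one_smul]
  abel

/-- The symplectic group is transitive on non-zero vectors. -/
theorem exists_symplectic_mulVec_eq (v w : l ⊕ l → F) (hv : v ≠ 0) (hw : w ≠ 0) :
    ∃ g : symplecticGroup l F, (g : Matrix (l ⊕ l) (l ⊕ l) F) *ᵥ v = w := by
  by_cases h : sympForm w v = 0
  · obtain ⟨x1, hx1⟩ := exists_sympForm_ne_zero_left hv
    obtain ⟨x2, hx2⟩ := exists_sympForm_ne_zero_right hw
    -- find x with β(x, v) ≠ 0 and β(w, x) ≠ 0
    obtain ⟨x, hxv, hwx⟩ : ∃ x, sympForm x v ≠ 0 ∧ sympForm w x ≠ 0 := by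
      by_cases h1 : sympForm w x1 = 0
      · by_cases h2 : sympForm x2 v = 0
        · refine ⟨x1 + x2, ?_, ?_⟩
          · rw [sympForm_add_left, h2, add_zero]; exact hx1
          · rw [sympForm_add_right, h1, zero_add]; exact hx2
        · exact ⟨x2, h2, hx2⟩
      · exact ⟨x1, hx1, h1⟩
    obtain ⟨g1, hg1⟩ := exists_symplectic_mulVec_eq_of_sympForm_ne_zero hxv
    obtain ⟨g2, hg2⟩ := exists_symplectic_mulVec_eq_of_sympForm_ne_zero hwx
    refine ⟨g2 * g1, ?_⟩
    rw [Submonoid.coe_mul, ← Matrix.mulVec_mulVec, hg1, hg2]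
  · exact exists_symplectic_mulVec_eq_of_sympForm_ne_zero h

end Field

end Cfsg.Agent.Lib.Helper5
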