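import Mathlib
import Cfsg.Prelude.Def_Classical
import Cfsg.Agent.Lib.Helper5.Symp

set_option autoImplicit false
set_option linter.unusedSimpArgs false
set_option linter.unusedVariables false
set_option linter.unnecessarySeqFocus false

namespace Cfsg.Agent.Lib.Helper5

open Matrix

section General

variable {l : Type*} [Fintype l] [DecidableEq l] {R : Type*} [CommRing R]

lemma mem_symplecticGroup_of_sympForm (A : Matrix (l ⊕ l) (l ⊕ l) R)
    (h : ∀ u v, sympForm (A *ᵥ u) (A *ᵥ v) = sympForm u v) : A ∈ symplecticGroup l R := by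
  rw [SymplecticGroup.mem_iff']
  apply Matrix.mulVec_injective
  funext u
  apply dotProduct_eq
  intro v
  have := h u v
  rw [sympForm_def, sympForm_def, Matrix.dotProduct_mulVec, ← Matrix.mulVec_transpose,
    Matrix.mulVec_mulVec, Matrix.mulVec_mulVec] at this
  exact this

end General

variable {F : Type*} [Field F] {m : ℕ}

lemma quadFormOdd_eq (v : Unit ⊕ (Fin m ⊕ Fin m) → F) :
    Cfsg.quadFormOdd m F v = v (Sum.inl ()) ^ 2 + Cfsg.quadFormPlus m F (v ∘ Sum.inr) := rfl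

lemma quadFormOdd_elim (a : Unit → F) (w : Fin m ⊕ Fin m → F) :
    Cfsg.quadFormOdd m F (Sum.elim a w) = a () ^ 2 + Cfsg.quadFormPlus m F w := rfl

/-- The polar form of `quadFormPlus`. -/
lemma quadFormPlus_add [CharP F 2] (w w' : Fin m ⊕ Fin m → F) :
    Cfsg.quadFormPlus m F (w + w') =
      Cfsg.quadFormPlus m F w + Cfsg.quadFormPlus m F w' + sympForm w w' := by
  rw [sympForm_explicit]
  simp only [Cfsg.quadFormPlus, Pi.add_apply, ← Finset.sum_add_distrib]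
  apply Finset.sum_congr rfl
  intro i _
  rw [CharTwo.sub_eq_add]
  ring

lemma quadFormPlus_smul (c : F) (w : Fin m ⊕ Fin m → F) :
    Cfsg.quadFormPlus m F (c • w) = c ^ 2 * Cfsg.quadFormPlus m F w := by
  simp only [Cfsg.quadFormPlus, Pi.smul_apply, smul_eq_mul, Finset.mul_sum]
  apply Finset.sum_congr rfl
  intro i _
  ring

lemma quadFormPlus_zero : Cfsg.quadFormPlus m F 0 = 0 := by
  simp [Cfsg.quadFormPlus]

lemma quadFormOdd_add [CharP F 2] (u v : Unit ⊕ (Fin m ⊕ Fin m) → F) :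
    Cfsg.quadFormOdd m F (u + v) =
      Cfsg.quadFormOdd m F u + Cfsg.quadFormOdd m F v
        + sympForm (u ∘ Sum.inr) (v ∘ Sum.inr) := by
  rw [quadFormOdd_eq, quadFormOdd_eq, quadFormOdd_eq]
  have : (u + v) ∘ Sum.inr = u ∘ Sum.inr + v ∘ (Sum.inr : Fin m ⊕ Fin m → _) := rfl
  rw [this, quadFormPlus_add, Pi.add_apply, CharTwo.add_sq]
  ring

lemma mem_isometryGroup_iff (g : GL (Unit ⊕ (Fin m ⊕ Fin m)) F) :
    g ∈ Cfsg.isometryGroup F (Cfsg.quadFormOdd m F) ↔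
      ∀ u : Unit ⊕ (Fin m ⊕ Fin m) → F,
        Cfsg.quadFormOdd m F ((g : Matrix _ _ F) *ᵥ u) = Cfsg.quadFormOdd m F u := by
  constructor
  · intro h u
    exact h u u
  · intro h u v
    exact h u

/-- An isometry preserves the polar form. -/
lemma sympForm_of_isometry [CharP F 2] {G : Matrix (Unit ⊕ (Fin m ⊕ Fin m)) (Unit ⊕ (Fin m ⊕ Fin m)) F}
    (hG : ∀ u, Cfsg.quadFormOdd m F (G *ᵥ u) = Cfsg.quadFormOdd m F u)
    (u v : Unit ⊕ (Fin m ⊕ Fin m) → F) :
    sympForm ((G *ᵥ u) ∘ Sum.inr) ((G *ᵥ v) ∘ Sum.inr) = sympForm (u ∘ Sum.inr) (v ∘ Sum.inr) := by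
  have h := hG (u + v)
  rw [Matrix.mulVec_add, quadFormOdd_add, quadFormOdd_add, hG u, hG v] at h
  exact add_left_cancel h

/-- Action of a block matrix on a block vector. -/
lemma mulVec_elim (G : Matrix (Unit ⊕ (Fin m ⊕ Fin m)) (Unit ⊕ (Fin m ⊕ Fin m)) F)
    (x : Unit → F) (w : Fin m ⊕ Fin m → F) :
    G *ᵥ (Sum.elim x w) =
      Sum.elim (G.toBlocks₁₁ *ᵥ x + G.toBlocks₁₂ *ᵥ w) (G.toBlocks₂₁ *ᵥ x + G.toBlocks₂₂ *ᵥ w) := by
  conv_lhs => rw [← Matrix.fromBlocks_toBlocks G]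
  rw [Matrix.fromBlocks_mulVec]
  simp

lemma mulVec_elim_zero_comp_inr (G : Matrix (Unit ⊕ (Fin m ⊕ Fin m)) (Unit ⊕ (Fin m ⊕ Fin m)) F)
    (w : Fin m ⊕ Fin m → F) :
    (G *ᵥ (Sum.elim 0 w)) ∘ Sum.inr = G.toBlocks₂₂ *ᵥ w := by
  rw [mulVec_elim]
  simp

/-- the (2,2)-block of an isometry is symplectic -/
lemma toBlocks₂₂_mem [CharP F 2] {G : Matrix (Unit ⊕ (Fin m ⊕ Fin m)) (Unit ⊕ (Fin m ⊕ Fin m)) F}
    (hG : ∀ u, Cfsg.quadFormOdd m F (G *ᵥ u) = Cfsg.quadFormOdd m F u) :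
    G.toBlocks₂₂ ∈ symplecticGroup (Fin m) F := by
  apply mem_symplecticGroup_of_sympForm
  intro w w'
  have := sympForm_of_isometry hG (Sum.elim 0 w) (Sum.elim 0 w')
  rw [mulVec_elim_zero_comp_inr, mulVec_elim_zero_comp_inr] at this
  simpa using this

/-- the (2,1)-block of an invertible isometry vanishes -/
lemma toBlocks₂₁_eq_zero [CharP F 2] {G : Matrix (Unit ⊕ (Fin m ⊕ Fin m)) (Unit ⊕ (Fin m ⊕ Fin m)) F}
    (hG : ∀ u, Cfsg.quadFormOdd m F (G *ᵥ u) = Cfsg.quadFormOdd m F u)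
    (hsurj : ∀ y, ∃ v, G *ᵥ v = y) :
    G.toBlocks₂₁ = 0 := by
  have key : ∀ x : Unit → F, G.toBlocks₂₁ *ᵥ x = 0 := by
    intro x
    by_contra hne
    obtain ⟨y, hy⟩ := exists_sympForm_ne_zero_right hne
    obtain ⟨v, hv⟩ := hsurj (Sum.elim 0 y)
    have := sympForm_of_isometry hG (Sum.elim x 0) v
    rw [hv, mulVec_elim] at this
    simp only [Sum.elim_comp_inr, Matrix.mulVec_zero, add_zero] at this
    rw [this] at hy
    apply hy
    simp [sympForm_def]
  ext k u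
  have := congrFun (key (fun _ => 1)) k
  simpa [Matrix.mulVec, dotProduct] using this



/-- the (1,1)-entry of an invertible isometry is one -/
lemma toBlocks₁₁_eq_one [CharP F 2] {G : Matrix (Unit ⊕ (Fin m ⊕ Fin m)) (Unit ⊕ (Fin m ⊕ Fin m)) F}
    (hG : ∀ u, Cfsg.quadFormOdd m F (G *ᵥ u) = Cfsg.quadFormOdd m F u)
    (hsurj : ∀ y, ∃ v, G *ᵥ v = y) :
    G.toBlocks₁₁ = 1 := by
  have h0 := toBlocks₂₁_eq_zero hG hsurj
  have h := hG (Sum.elim (fun _ => 1) 0)
  rw [mulVec_elim, h0, quadFormOdd_elim, quadFormOdd_elim] at h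
  have h1 : (G.toBlocks₁₁ *ᵥ fun _ => (1:F)) () = G.toBlocks₁₁ () () := by
    simp [Matrix.mulVec, dotProduct]
  simp only [Matrix.zero_mulVec, Matrix.mulVec_zero, add_zero, quadFormPlus_zero, Pi.add_apply,
    one_pow, h1, Pi.zero_apply] at h
  have h2 : (G.toBlocks₁₁ () () - 1) ^ 2 = 0 := by
    rw [CharTwo.sub_eq_add, CharTwo.add_sq, h]
    simp [CharTwo.add_self_eq_zero]
  have h3 : G.toBlocks₁₁ () () = 1 := by
    have := pow_eq_zero_iff (two_ne_zero) |>.1 h2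
    exact sub_eq_zero.1 this
  ext i j
  simpa using h3

lemma gl_surj (g : GL (Unit ⊕ (Fin m ⊕ Fin m)) F) :
    ∀ y, ∃ v, (Units.val g) *ᵥ v = y := by
  intro y
  refine ⟨(Units.val g⁻¹) *ᵥ y, ?_⟩
  rw [Matrix.mulVec_mulVec, ← Units.val_mul, mul_inv_cancel, Units.val_one, Matrix.one_mulVec]

lemma isometry_of_mem {g : GL (Unit ⊕ (Fin m ⊕ Fin m)) F}
    (hg : g ∈ Cfsg.isometryGroup F (Cfsg.quadFormOdd m F)) :
    ∀ u, Cfsg.quadFormOdd m F (Units.val g *ᵥ u) = Cfsg.quadFormOdd m F u :=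
  (mem_isometryGroup_iff g).1 hg

/-- The homomorphism from the odd-dimensional orthogonal group in characteristic 2 to the
symplectic group. -/
noncomputable def oddOrthToSymp (F : Type*) [Field F] [CharP F 2] (m : ℕ) :
    Cfsg.isometryGroup F (Cfsg.quadFormOdd m F) →* symplecticGroup (Fin m) F where
  toFun g := ⟨(Units.val g.1).toBlocks₂₂, toBlocks₂₂_mem (isometry_of_mem g.2)⟩
  map_one' := by
    apply Subtype.ext
    show (1 : Matrix (Unit ⊕ (Fin m ⊕ Fin m)) (Unit ⊕ (Fin m ⊕ Fin m)) F).toBlocks₂₂ = 1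
    rw [← Matrix.fromBlocks_one, Matrix.toBlocks_fromBlocks₂₂]
  map_mul' g h := by
    apply Subtype.ext
    show (Units.val g.1 * Units.val h.1).toBlocks₂₂ =
      (Units.val g.1).toBlocks₂₂ * (Units.val h.1).toBlocks₂₂
    have h0 := toBlocks₂₁_eq_zero (isometry_of_mem g.2) (gl_surj g.1)
    conv_lhs => rw [← Matrix.fromBlocks_toBlocks (Units.val g.1),
      ← Matrix.fromBlocks_toBlocks (Units.val h.1), Matrix.fromBlocks_multiply,
      Matrix.toBlocks_fromBlocks₂₂, h0]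
    simp



lemma oddOrthToSymp_injective (F : Type*) [Field F] [CharP F 2] (m : ℕ) :
    Function.Injective (oddOrthToSymp F m) := by
  rw [injective_iff_map_eq_one]
  intro g hg
  have hM : (Units.val g.1).toBlocks₂₂ = 1 := congrArg Subtype.val hg
  have hG := isometry_of_mem g.2
  have h0 := toBlocks₂₁_eq_zero hG (gl_surj g.1)
  have h1 := toBlocks₁₁_eq_one hG (gl_surj g.1)
  have hr : (Units.val g.1).toBlocks₁₂ = 0 := by
    have key : ∀ w : Fin m ⊕ Fin m → F, (Units.val g.1).toBlocks₁₂ *ᵥ w = 0 := by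
      intro w
      have h := hG (Sum.elim 0 w)
      rw [mulVec_elim, quadFormOdd_elim, quadFormOdd_elim, hM] at h
      simp only [Matrix.mulVec_zero, zero_add, Matrix.one_mulVec, Pi.zero_apply] at h
      have h2 : ((Units.val g.1).toBlocks₁₂ *ᵥ w) () ^ 2 = 0 := by
        have := add_right_cancel (b := Cfsg.quadFormPlus m F w) (h.trans (by ring : _ = (0:F)^2 + _))
        simpa using this
      funext i
      cases i
      exact pow_eq_zero_iff (two_ne_zero) |>.1 h2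
    ext i k
    have := congrFun (key (Pi.single k 1)) i
    simpa using this
  apply Subtype.ext
  apply Units.ext
  show Units.val g.1 = 1
  rw [← Matrix.fromBlocks_toBlocks (Units.val g.1), h0, h1, hr, hM, Matrix.fromBlocks_one]



/-- The defect `Q̄(w) + Q̄(M w)` of a matrix `M` with respect to the quadratic form. -/
def qdefect (M : Matrix (Fin m ⊕ Fin m) (Fin m ⊕ Fin m) F) (w : Fin m ⊕ Fin m → F) : F :=
  Cfsg.quadFormPlus m F w + Cfsg.quadFormPlus m F (M *ᵥ w)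

lemma qdefect_add [CharP F 2] {M : Matrix (Fin m ⊕ Fin m) (Fin m ⊕ Fin m) F}
    (hM : M ∈ symplecticGroup (Fin m) F) (w w' : Fin m ⊕ Fin m → F) :
    qdefect M (w + w') = qdefect M w + qdefect M w' := by
  unfold qdefect
  rw [Matrix.mulVec_add, quadFormPlus_add, quadFormPlus_add, sympForm_mulVec_mulVec hM]
  have : sympForm w w' + sympForm w w' = 0 := CharTwo.add_self_eq_zero _
  linear_combination this

lemma qdefect_smul (M : Matrix (Fin m ⊕ Fin m) (Fin m ⊕ Fin m) F) (c : F)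
    (w : Fin m ⊕ Fin m → F) : qdefect M (c • w) = c ^ 2 * qdefect M w := by
  unfold qdefect
  rw [Matrix.mulVec_smul, quadFormPlus_smul, quadFormPlus_smul]
  ring

lemma qdefect_eq_sum [CharP F 2] {M : Matrix (Fin m ⊕ Fin m) (Fin m ⊕ Fin m) F}
    (hM : M ∈ symplecticGroup (Fin m) F) (w : Fin m ⊕ Fin m → F) :
    qdefect M w = ∑ k, w k ^ 2 * qdefect M (Pi.single k 1) := by
  let f : ((Fin m ⊕ Fin m) → F) →+ F := AddMonoidHom.mk' (qdefect M) (qdefect_add hM)
  have hw : w = ∑ k, w k • Pi.single (M := fun _ ↦ F) k 1 := pi_eq_sum_univ' w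
  conv_lhs => rw [hw]
  show f _ = _
  rw [map_sum]
  apply Finset.sum_congr rfl
  intro k _
  exact qdefect_smul M _ _

/-- Any symplectic matrix lifts to an isometry of the odd-dimensional quadratic form. -/
lemma exists_isometry_lift [Fintype F] [CharP F 2] {M : Matrix (Fin m ⊕ Fin m) (Fin m ⊕ Fin m) F}
    (hM : M ∈ symplecticGroup (Fin m) F) :
    ∃ r : Matrix Unit (Fin m ⊕ Fin m) F, ∀ u,
      Cfsg.quadFormOdd m F ((Matrix.fromBlocks 1 r 0 M) *ᵥ u) = Cfsg.quadFormOdd m F u := by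
  have hF : ringChar F = 2 := ringChar.eq F 2
  choose s hs using fun k => FiniteField.isSquare_of_char_two hF (qdefect M (Pi.single k 1))
  refine ⟨Matrix.of fun _ k => s k, ?_⟩
  intro u
  have key : ∀ w : Fin m ⊕ Fin m → F, ((Matrix.of fun (_ : Unit) k => s k) *ᵥ w) () ^ 2 = qdefect M w := by
    intro w
    rw [qdefect_eq_sum hM]
    simp only [Matrix.mulVec, dotProduct, Matrix.of_apply]
    rw [CharTwo.sum_sq]
    apply Finset.sum_congr rfl
    intro k _
    rw [hs k]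
    ring
  obtain ⟨x, w, rfl⟩ : ∃ x w, u = Sum.elim x w := ⟨u ∘ Sum.inl, u ∘ Sum.inr, (Sum.elim_comp_inl_inr u).symm⟩
  rw [Matrix.fromBlocks_mulVec]
  simp only [Sum.elim_comp_inl, Sum.elim_comp_inr, Matrix.one_mulVec, Matrix.zero_mulVec, zero_add]
  rw [quadFormOdd_elim, quadFormOdd_elim, Pi.add_apply, CharTwo.add_sq, key w]
  unfold qdefect
  have : Cfsg.quadFormPlus m F (M *ᵥ w) + Cfsg.quadFormPlus m F (M *ᵥ w) = 0 :=
    CharTwo.add_self_eq_zero _
  linear_combination this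

lemma oddOrthToSymp_surjective (F : Type*) [Field F] [Fintype F] [CharP F 2] (m : ℕ) :
    Function.Surjective (oddOrthToSymp F m) := by
  intro M
  obtain ⟨r, hr⟩ := exists_isometry_lift M.2
  have hdet : (Matrix.fromBlocks (1 : Matrix Unit Unit F) r 0 M.1).det ≠ 0 := by
    rw [Matrix.det_fromBlocks_zero₂₁, Matrix.det_one, one_mul]
    exact (SymplecticGroup.symplectic_det M.2).ne_zero
  let g : GL (Unit ⊕ (Fin m ⊕ Fin m)) F := Matrix.GeneralLinearGroup.mkOfDetNeZero _ hdet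
  have hg : g ∈ Cfsg.isometryGroup F (Cfsg.quadFormOdd m F) := by
    rw [mem_isometryGroup_iff]
    exact hr
  refine ⟨⟨g, hg⟩, ?_⟩
  apply Subtype.ext
  show (Matrix.fromBlocks (1 : Matrix Unit Unit F) r 0 M.1).toBlocks₂₂ = M.1
  rw [Matrix.toBlocks_fromBlocks₂₂]

theorem oddOrth_equiv_symp (F : Type*) [Field F] [Fintype F] [CharP F 2] (m : ℕ) :
    Nonempty (Cfsg.isometryGroup F (Cfsg.quadFormOdd m F) ≃* Matrix.symplecticGroup (Fin m) F) :=
  ⟨MulEquiv.ofBijective (oddOrthToSymp F m)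
    ⟨oddOrthToSymp_injective F m, oddOrthToSymp_surjective F m⟩⟩

end Cfsg.Agent.Lib.Helper5
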