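import Mathlib
import Cfsg.Agent.Lib.Helper5.Symp
import Cfsg.Agent.Lib.Helper5.DotCount
import Cfsg.Agent.Lib.Helper5.OddOrthSymp

set_option autoImplicit false
set_option linter.unusedSimpArgs false
set_option linter.unusedVariables false
set_option linter.unnecessarySeqFocus false
set_option linter.unusedSectionVars false

namespace Cfsg.Agent.Lib.Helper5

open Matrix

section HypPairs

variable {l : Type*} [DecidableEq l] [Fintype l] {F : Type*} [Field F]

/-- one transvection step: fix `e`, move `f` to `f'` -/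
lemma exists_symplectic_fix_move_of_ne {e f f' : l ⊕ l → F} (hf : sympForm e f = 1)
    (hf' : sympForm e f' = 1) (h : sympForm f' f ≠ 0) :
    ∃ g : symplecticGroup l F, (g : Matrix (l ⊕ l) (l ⊕ l) F) *ᵥ e = e ∧
      (g : Matrix (l ⊕ l) (l ⊕ l) F) *ᵥ f = f' := by
  refine ⟨⟨sympTransvMat (f' - f) (sympForm f' f)⁻¹, sympTransvMat_mem _ _⟩, ?_, ?_⟩
  · show sympTransvMat (f' - f) (sympForm f' f)⁻¹ *ᵥ e = e
    rw [sympTransvMat_mulVec, sympForm_sub_left, sympForm_swap f' e, sympForm_swap f e, hf, hf']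
    simp
  · show sympTransvMat (f' - f) (sympForm f' f)⁻¹ *ᵥ f = f'
    rw [sympTransvMat_mulVec, sympForm_sub_left, sympForm_self, sub_zero, inv_mul_cancel₀ h,
      one_smul]
    abel

lemma exists_symplectic_fix_move {e f f' : l ⊕ l → F} (hf : sympForm e f = 1)
    (hf' : sympForm e f' = 1) :
    ∃ g : symplecticGroup l F, (g : Matrix (l ⊕ l) (l ⊕ l) F) *ᵥ e = e ∧
      (g : Matrix (l ⊕ l) (l ⊕ l) F) *ᵥ f = f' := by
  by_cases h : sympForm f' f = 0
  · -- intermediate vector f + e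
    have h1 : sympForm e (f + e) = 1 := by
      rw [sympForm_add_right, hf, sympForm_self, add_zero]
    have h2 : sympForm (f + e) f ≠ 0 := by
      rw [sympForm_add_left, sympForm_self, zero_add, hf]
      exact one_ne_zero
    have h3 : sympForm f' (f + e) ≠ 0 := by
      rw [sympForm_add_right, h, zero_add, sympForm_swap, hf']
      simp
    obtain ⟨g1, hg1e, hg1f⟩ := exists_symplectic_fix_move_of_ne hf h1 h2
    obtain ⟨g2, hg2e, hg2f⟩ := exists_symplectic_fix_move_of_ne h1 hf' h3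
    refine ⟨g2 * g1, ?_, ?_⟩
    · rw [Submonoid.coe_mul, ← Matrix.mulVec_mulVec, hg1e, hg2e]
    · rw [Submonoid.coe_mul, ← Matrix.mulVec_mulVec, hg1f, hg2f]
  · exact exists_symplectic_fix_move_of_ne hf hf' h

/-- The symplectic group is transitive on hyperbolic pairs. -/
theorem exists_symplectic_pair {e f u v : l ⊕ l → F} (hef : sympForm e f = 1)
    (huv : sympForm u v = 1) :
    ∃ g : symplecticGroup l F, (g : Matrix (l ⊕ l) (l ⊕ l) F) *ᵥ e = u ∧
      (g : Matrix (l ⊕ l) (l ⊕ l) F) *ᵥ f = v := by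
  have he : e ≠ 0 := by
    rintro rfl
    simp [sympForm_def] at hef
  have hu : u ≠ 0 := by
    rintro rfl
    simp [sympForm_def] at huv
  obtain ⟨g1, hg1⟩ := exists_symplectic_mulVec_eq e u he hu
  have h1 : sympForm u ((g1 : Matrix (l ⊕ l) (l ⊕ l) F) *ᵥ f) = 1 := by
    rw [← hg1, sympForm_mulVec_mulVec g1.2, hef]
  obtain ⟨g2, hg2u, hg2f⟩ := exists_symplectic_fix_move h1 huv
  refine ⟨g2 * g1, ?_, ?_⟩
  · rw [Submonoid.coe_mul, ← Matrix.mulVec_mulVec, hg1, hg2u]
  · rw [Submonoid.coe_mul, ← Matrix.mulVec_mulVec, hg2f]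

end HypPairs



section Count

variable {l : Type*} [DecidableEq l] [Fintype l] {F : Type*} [Field F] [Fintype F]

/-- multiplication by `J` as a bijection -/
def JEquiv (l : Type*) [DecidableEq l] [Fintype l] (F : Type*) [Field F] :
    (l ⊕ l → F) ≃ (l ⊕ l → F) where
  toFun u := J l F *ᵥ u
  invFun u := - (J l F *ᵥ u)
  left_inv u := by
    show -(J l F *ᵥ (J l F *ᵥ u)) = u
    rw [J_mulVec_J_mulVec, neg_neg]
  right_inv u := by
    show J l F *ᵥ (-(J l F *ᵥ u)) = u
    rw [Matrix.mulVec_neg, J_mulVec_J_mulVec, neg_neg]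

lemma card_hyperbolic_pairs :
    Nat.card {p : (l ⊕ l → F) × (l ⊕ l → F) // sympForm p.1 p.2 = 1} =
      (Fintype.card F ^ (2 * Fintype.card l) - 1) * Fintype.card F ^ (2 * Fintype.card l - 1) := by
  classical
  have e : {p : (l ⊕ l → F) × (l ⊕ l → F) // sympForm p.1 p.2 = 1} ≃
      {p : (l ⊕ l → F) × (l ⊕ l → F) // p.1 ⬝ᵥ p.2 = 1} :=
    Equiv.subtypeEquiv (Equiv.prodCongr (JEquiv l F) (Equiv.refl _)) (by
      rintro ⟨u, v⟩
      rfl)
  rw [Nat.card_congr e, card_pairs_dotProduct_eq]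
  simp [two_mul]

end Count



section Stab

variable {F : Type*} [Field F] {k : ℕ}

/-- the index embedding -/
def sIdx (k : ℕ) : Fin k ⊕ Fin k → Fin (k + 1) ⊕ Fin (k + 1) := Sum.map Fin.succ Fin.succ

/-- the first vector of the standard hyperbolic pair -/
def e0 (F : Type*) [Field F] (k : ℕ) : Fin (k + 1) ⊕ Fin (k + 1) → F := Pi.single (Sum.inl 0) 1

/-- the second vector of the standard hyperbolic pair -/
def f0 (F : Type*) [Field F] (k : ℕ) : Fin (k + 1) ⊕ Fin (k + 1) → F := Pi.single (Sum.inr 0) 1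

/-- extension by zero -/
def extV (w : Fin k ⊕ Fin k → F) : Fin (k + 1) ⊕ Fin (k + 1) → F :=
  Sum.elim (Fin.cons 0 (fun i => w (Sum.inl i))) (Fin.cons 0 (fun i => w (Sum.inr i)))

/-- restriction -/
def resV (x : Fin (k + 1) ⊕ Fin (k + 1) → F) : Fin k ⊕ Fin k → F := fun a => x (sIdx k a)

@[simp] lemma extV_inl_zero (w : Fin k ⊕ Fin k → F) : extV w (Sum.inl 0) = 0 := rfl
@[simp] lemma extV_inr_zero (w : Fin k ⊕ Fin k → F) : extV w (Sum.inr 0) = 0 := rfl
@[simp] lemma extV_inl_succ (w : Fin k ⊕ Fin k → F) (i : Fin k) :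
    extV w (Sum.inl i.succ) = w (Sum.inl i) := by simp [extV]
@[simp] lemma extV_inr_succ (w : Fin k ⊕ Fin k → F) (i : Fin k) :
    extV w (Sum.inr i.succ) = w (Sum.inr i) := by simp [extV]
@[simp] lemma resV_inl (x : Fin (k + 1) ⊕ Fin (k + 1) → F) (i : Fin k) :
    resV x (Sum.inl i) = x (Sum.inl i.succ) := rfl
@[simp] lemma resV_inr (x : Fin (k + 1) ⊕ Fin (k + 1) → F) (i : Fin k) :
    resV x (Sum.inr i) = x (Sum.inr i.succ) := rfl

lemma resV_extV (w : Fin k ⊕ Fin k → F) : resV (extV w) = w := by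
  funext a
  rcases a with i | i <;> simp

lemma extV_add (w w' : Fin k ⊕ Fin k → F) : extV (w + w') = extV w + extV w' := by
  funext a
  rcases a with i | i <;> refine Fin.cases ?_ (fun j => ?_) i <;> simp

lemma extV_smul (c : F) (w : Fin k ⊕ Fin k → F) : extV (c • w) = c • extV w := by
  funext a
  rcases a with i | i <;> refine Fin.cases ?_ (fun j => ?_) i <;> simp

lemma resV_add (x y : Fin (k + 1) ⊕ Fin (k + 1) → F) : resV (x + y) = resV x + resV y := rfl

lemma resV_smul (c : F) (x : Fin (k + 1) ⊕ Fin (k + 1) → F) : resV (c • x) = c • resV x := rfl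

lemma resV_e0 : resV (e0 F k) = 0 := by
  funext a
  rcases a with i | i <;> simp [e0, Fin.succ_ne_zero]

lemma resV_f0 : resV (f0 F k) = 0 := by
  funext a
  rcases a with i | i <;> simp [f0, Fin.succ_ne_zero]

lemma decomp_vec (x : Fin (k + 1) ⊕ Fin (k + 1) → F) :
    x = x (Sum.inl 0) • e0 F k + x (Sum.inr 0) • f0 F k + extV (resV x) := by
  funext a
  rcases a with i | i <;> refine Fin.cases ?_ (fun j => ?_) i <;>
    simp [e0, f0, Fin.succ_ne_zero]

lemma sympForm_e0 (x : Fin (k + 1) ⊕ Fin (k + 1) → F) : sympForm (e0 F k) x = x (Sum.inr 0) := by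
  rw [sympForm_explicit, Fin.sum_univ_succ]
  simp [e0, Fin.succ_ne_zero]

lemma sympForm_f0 (x : Fin (k + 1) ⊕ Fin (k + 1) → F) : sympForm (f0 F k) x = - x (Sum.inl 0) := by
  rw [sympForm_explicit, Fin.sum_univ_succ]
  simp [f0, Fin.succ_ne_zero]

lemma sympForm_extV_extV (w w' : Fin k ⊕ Fin k → F) :
    sympForm (extV w) (extV w') = sympForm w w' := by
  rw [sympForm_explicit, sympForm_explicit, Fin.sum_univ_succ]
  simp

lemma sympForm_e0_f0 : sympForm (e0 F k) (f0 F k) = 1 := by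
  rw [sympForm_e0]; simp [f0]

end Stab



section Lift

variable {F : Type*} [Field F] {k : ℕ}

lemma sympForm_extV_e0 (w : Fin k ⊕ Fin k → F) : sympForm (extV w) (e0 F k) = 0 := by
  rw [sympForm_swap, sympForm_e0]; simp

lemma sympForm_extV_f0 (w : Fin k ⊕ Fin k → F) : sympForm (extV w) (f0 F k) = 0 := by
  rw [sympForm_swap, sympForm_f0]; simp

lemma sympForm_e0_extV (w : Fin k ⊕ Fin k → F) : sympForm (e0 F k) (extV w) = 0 := by
  rw [sympForm_e0]; simp

lemma sympForm_f0_extV (w : Fin k ⊕ Fin k → F) : sympForm (f0 F k) (extV w) = 0 := by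
  rw [sympForm_f0]; simp

lemma sympForm_f0_e0 : sympForm (f0 F k) (e0 F k) = -1 := by
  rw [sympForm_f0]; simp [e0]

/-- the lift of a linear map on the small space -/
def liftLin (g : Matrix (Fin k ⊕ Fin k) (Fin k ⊕ Fin k) F) :
    (Fin (k + 1) ⊕ Fin (k + 1) → F) →ₗ[F] (Fin (k + 1) ⊕ Fin (k + 1) → F) where
  toFun x := x (Sum.inl 0) • e0 F k + x (Sum.inr 0) • f0 F k + extV (g *ᵥ resV x)
  map_add' x y := by
    simp only [Pi.add_apply, resV_add, Matrix.mulVec_add, extV_add, add_smul]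
    abel
  map_smul' c x := by
    simp only [Pi.smul_apply, resV_smul, Matrix.mulVec_smul, extV_smul, smul_eq_mul,
      RingHom.id_apply, mul_smul, smul_add]

/-- the lift of a matrix on the small space -/
def liftMat (g : Matrix (Fin k ⊕ Fin k) (Fin k ⊕ Fin k) F) :
    Matrix (Fin (k + 1) ⊕ Fin (k + 1)) (Fin (k + 1) ⊕ Fin (k + 1)) F :=
  LinearMap.toMatrix' (liftLin g)

lemma liftMat_mulVec (g : Matrix (Fin k ⊕ Fin k) (Fin k ⊕ Fin k) F)
    (x : Fin (k + 1) ⊕ Fin (k + 1) → F) :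
    liftMat g *ᵥ x = x (Sum.inl 0) • e0 F k + x (Sum.inr 0) • f0 F k + extV (g *ᵥ resV x) :=
  LinearMap.toMatrix'_mulVec _ _

lemma sympForm_decomp (a b c d : F) (w w' : Fin k ⊕ Fin k → F) :
    sympForm (a • e0 F k + b • f0 F k + extV w) (c • e0 F k + d • f0 F k + extV w') =
      a * d - b * c + sympForm w w' := by
  simp only [sympForm_add_left, sympForm_add_right, sympForm_smul_left, sympForm_smul_right,
    sympForm_self, sympForm_e0_f0, sympForm_f0_e0, sympForm_extV_e0, sympForm_extV_f0,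
    sympForm_e0_extV, sympForm_f0_extV, sympForm_extV_extV]
  ring

lemma liftMat_mem {g : Matrix (Fin k ⊕ Fin k) (Fin k ⊕ Fin k) F}
    (hg : g ∈ symplecticGroup (Fin k) F) : liftMat g ∈ symplecticGroup (Fin (k + 1)) F := by
  apply mem_symplecticGroup_of_sympForm
  intro u v
  rw [liftMat_mulVec, liftMat_mulVec, sympForm_decomp, sympForm_mulVec_mulVec hg]
  conv_rhs => rw [decomp_vec u, decomp_vec v, sympForm_decomp]

lemma liftMat_e0 (g : Matrix (Fin k ⊕ Fin k) (Fin k ⊕ Fin k) F) :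
    liftMat g *ᵥ e0 F k = e0 F k := by
  rw [liftMat_mulVec, resV_e0]
  funext a
  rcases a with i | i <;> refine Fin.cases ?_ (fun j => ?_) i <;> simp [e0, f0]

lemma liftMat_f0 (g : Matrix (Fin k ⊕ Fin k) (Fin k ⊕ Fin k) F) :
    liftMat g *ᵥ f0 F k = f0 F k := by
  rw [liftMat_mulVec, resV_f0]
  funext a
  rcases a with i | i <;> refine Fin.cases ?_ (fun j => ?_) i <;> simp [e0, f0]

end Lift



section Down

variable {F : Type*} [Field F] {k : ℕ}

/-- the restriction of a linear map to the small space -/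
def downLin (g : Matrix (Fin (k + 1) ⊕ Fin (k + 1)) (Fin (k + 1) ⊕ Fin (k + 1)) F) :
    (Fin k ⊕ Fin k → F) →ₗ[F] (Fin k ⊕ Fin k → F) where
  toFun w := resV (g *ᵥ extV w)
  map_add' x y := by
    simp only [extV_add, Matrix.mulVec_add, resV_add]
  map_smul' c x := by
    simp only [extV_smul, Matrix.mulVec_smul, resV_smul, RingHom.id_apply]

/-- the restriction of a matrix to the small space -/
def downMat (g : Matrix (Fin (k + 1) ⊕ Fin (k + 1)) (Fin (k + 1) ⊕ Fin (k + 1)) F) :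
    Matrix (Fin k ⊕ Fin k) (Fin k ⊕ Fin k) F :=
  LinearMap.toMatrix' (downLin g)

lemma downMat_mulVec (g : Matrix (Fin (k + 1) ⊕ Fin (k + 1)) (Fin (k + 1) ⊕ Fin (k + 1)) F)
    (w : Fin k ⊕ Fin k → F) : downMat g *ᵥ w = resV (g *ᵥ extV w) :=
  LinearMap.toMatrix'_mulVec _ _

lemma mulVec_extV_of_fix {g : Matrix (Fin (k + 1) ⊕ Fin (k + 1)) (Fin (k + 1) ⊕ Fin (k + 1)) F}
    (hg : g ∈ symplecticGroup (Fin (k + 1)) F) (he : g *ᵥ e0 F k = e0 F k)
    (hf : g *ᵥ f0 F k = f0 F k) (w : Fin k ⊕ Fin k → F) :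
    g *ᵥ extV w = extV (resV (g *ᵥ extV w)) := by
  have h1 : (g *ᵥ extV w) (Sum.inr 0) = 0 := by
    have : sympForm (e0 F k) (g *ᵥ extV w) = 0 := by
      conv_lhs => rw [← he]
      rw [sympForm_mulVec_mulVec hg, sympForm_e0_extV]
    rw [sympForm_e0] at this
    exact this
  have h2 : (g *ᵥ extV w) (Sum.inl 0) = 0 := by
    have : sympForm (f0 F k) (g *ᵥ extV w) = 0 := by
      conv_lhs => rw [← hf]
      rw [sympForm_mulVec_mulVec hg, sympForm_f0_extV]
    rw [sympForm_f0] at this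
    exact neg_eq_zero.1 this
  conv_lhs => rw [decomp_vec (g *ᵥ extV w), h1, h2]
  simp

lemma downMat_mem {g : Matrix (Fin (k + 1) ⊕ Fin (k + 1)) (Fin (k + 1) ⊕ Fin (k + 1)) F}
    (hg : g ∈ symplecticGroup (Fin (k + 1)) F) (he : g *ᵥ e0 F k = e0 F k)
    (hf : g *ᵥ f0 F k = f0 F k) : downMat g ∈ symplecticGroup (Fin k) F := by
  apply mem_symplecticGroup_of_sympForm
  intro u v
  rw [downMat_mulVec, downMat_mulVec, ← sympForm_extV_extV, ← mulVec_extV_of_fix hg he hf,
    ← mulVec_extV_of_fix hg he hf, sympForm_mulVec_mulVec hg, sympForm_extV_extV]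

lemma liftMat_downMat {g : Matrix (Fin (k + 1) ⊕ Fin (k + 1)) (Fin (k + 1) ⊕ Fin (k + 1)) F}
    (hg : g ∈ symplecticGroup (Fin (k + 1)) F) (he : g *ᵥ e0 F k = e0 F k)
    (hf : g *ᵥ f0 F k = f0 F k) : liftMat (downMat g) = g := by
  apply Matrix.mulVec_injective
  funext x
  rw [liftMat_mulVec, downMat_mulVec, ← mulVec_extV_of_fix hg he hf]
  conv_rhs => rw [decomp_vec x]
  rw [Matrix.mulVec_add, Matrix.mulVec_add, Matrix.mulVec_smul, Matrix.mulVec_smul, he, hf]

lemma downMat_liftMat (g : Matrix (Fin k ⊕ Fin k) (Fin k ⊕ Fin k) F) :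
    downMat (liftMat g) = g := by
  apply Matrix.mulVec_injective
  funext w
  rw [downMat_mulVec, liftMat_mulVec, resV_extV]
  simp [resV_add, resV_smul, resV_extV, resV_e0, resV_f0]

/-- The stabiliser of the standard hyperbolic pair is the smaller symplectic group. -/
def stabPairEquiv (F : Type*) [Field F] (k : ℕ) :
    {g : symplecticGroup (Fin (k + 1)) F //
      (g : Matrix _ _ F) *ᵥ e0 F k = e0 F k ∧ (g : Matrix _ _ F) *ᵥ f0 F k = f0 F k} ≃
      symplecticGroup (Fin k) F where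
  toFun g := ⟨downMat g.1.1, downMat_mem g.1.2 g.2.1 g.2.2⟩
  invFun g := ⟨⟨liftMat g.1, liftMat_mem g.2⟩, liftMat_e0 _, liftMat_f0 _⟩
  left_inv g := by
    apply Subtype.ext
    apply Subtype.ext
    exact liftMat_downMat g.1.2 g.2.1 g.2.2
  right_inv g := by
    apply Subtype.ext
    exact downMat_liftMat g.1

end Down



section Card

variable {F : Type*} [Field F] [Fintype F]

lemma symp_smul_def {l : Type*} [DecidableEq l] [Fintype l] (g : symplecticGroup l F)
    (v : l ⊕ l → F) : g • v = (g : Matrix (l ⊕ l) (l ⊕ l) F) *ᵥ v := rfl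

lemma orbit_pair_eq (k : ℕ) :
    MulAction.orbit (symplecticGroup (Fin (k + 1)) F) ((e0 F k, f0 F k) :
      (Fin (k + 1) ⊕ Fin (k + 1) → F) × (Fin (k + 1) ⊕ Fin (k + 1) → F)) =
      {p | sympForm p.1 p.2 = 1} := by
  ext ⟨u, v⟩
  constructor
  · rintro ⟨g, hg⟩
    change g • (e0 F k, f0 F k) = (u, v) at hg
    rw [Prod.smul_mk, Prod.mk.injEq, symp_smul_def, symp_smul_def] at hg
    show sympForm u v = 1
    rw [← hg.1, ← hg.2, sympForm_mulVec_mulVec g.2, sympForm_e0_f0]
  · intro h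
    obtain ⟨g, hg1, hg2⟩ := exists_symplectic_pair (sympForm_e0_f0 (F := F) (k := k)) h
    refine ⟨g, ?_⟩
    show g • (e0 F k, f0 F k) = (u, v)
    rw [Prod.smul_mk, symp_smul_def, symp_smul_def, hg1, hg2]

lemma card_symplectic_succ (k : ℕ) :
    Nat.card (symplecticGroup (Fin (k + 1)) F) =
      (Fintype.card F ^ (2 * (k + 1)) - 1) * Fintype.card F ^ (2 * (k + 1) - 1) *
        Nat.card (symplecticGroup (Fin k) F) := by
  classical
  have e := MulAction.orbitProdStabilizerEquivGroup (symplecticGroup (Fin (k + 1)) F)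
    ((e0 F k, f0 F k) : (Fin (k + 1) ⊕ Fin (k + 1) → F) × (Fin (k + 1) ⊕ Fin (k + 1) → F))
  rw [← Nat.card_congr e, Nat.card_prod]
  congr 1
  · rw [orbit_pair_eq]
    have := card_hyperbolic_pairs (l := Fin (k + 1)) (F := F)
    rw [Fintype.card_fin] at this
    exact this
  · refine Nat.card_congr ((Equiv.subtypeEquivRight ?_).trans (stabPairEquiv F k))
    intro g
    rw [MulAction.mem_stabilizer_iff, Prod.smul_mk, Prod.mk.injEq, symp_smul_def, symp_smul_def]

theorem card_symplecticGroup_fin (m : ℕ) :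
    Nat.card (symplecticGroup (Fin m) F) =
      Fintype.card F ^ (m ^ 2) * ∏ i ∈ Finset.range m, (Fintype.card F ^ (2 * (i + 1)) - 1) := by
  induction m with
  | zero =>
    have : Subsingleton (symplecticGroup (Fin 0) F) := by
      constructor
      intro a b
      apply Subtype.ext
      ext i j
      rcases i with i | i <;> exact i.elim0
    simp
  | succ k ih =>
    rw [card_symplectic_succ, ih, Finset.prod_range_succ]
    have h1 : (k + 1) ^ 2 = k ^ 2 + (2 * (k + 1) - 1) := by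
      have : 2 * (k + 1) - 1 = 2 * k + 1 := by omega
      rw [this]; ring
    rw [h1, pow_add]
    ring

end Card

end Cfsg.Agent.Lib.Helper5
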