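import Mathlib

set_option autoImplicit false
set_option linter.unusedSimpArgs false
set_option linter.unusedVariables false
set_option linter.unnecessarySeqFocus false

namespace Cfsg.Agent.Lib.Helper5

open Subgroup

variable {G : Type*} [Group G]

/-- In a simple group, the coset action on a proper subgroup is faithful. -/
lemma toPermHom_quotient_injective [IsSimpleGroup G] (H : Subgroup G) (hH : H ≠ ⊤) :
    Function.Injective (MulAction.toPermHom G (G ⧸ H)) := by
  rw [← MonoidHom.ker_eq_bot_iff, ← Subgroup.normalCore_eq_ker]
  rcases (H.normalCore_normal).eq_bot_or_eq_top with h | h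
  · exact h
  · exfalso
    apply hH
    rw [eq_top_iff, ← h]
    exact H.normalCore_le

/-- A simple group with a proper subgroup of index `n` has order dividing `n!`. -/
lemma card_dvd_factorial_index [IsSimpleGroup G] [Finite G] (H : Subgroup G) (hH : H ≠ ⊤) :
    Nat.card G ∣ H.index.factorial := by
  have hinj := toPermHom_quotient_injective H hH
  have h1 : Nat.card G = Nat.card (MulAction.toPermHom G (G ⧸ H)).range :=
    Nat.card_congr (MonoidHom.ofInjective hinj).toEquiv
  rw [h1, Subgroup.index_eq_card, ← Nat.card_perm]
  exact Subgroup.card_subgroup_dvd_card _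

/-- An injective hom from a simple group of order `> 2` to a permutation group lands in the
alternating group. -/
lemma range_le_alternatingGroup [IsSimpleGroup G] [Finite G] (hG : 2 < Nat.card G)
    {α : Type*} [Fintype α] [DecidableEq α] (φ : G →* Equiv.Perm α) :
    φ.range ≤ alternatingGroup α := by
  rintro _ ⟨g, rfl⟩
  rw [Equiv.Perm.mem_alternatingGroup]
  let ψ : G →* ℤˣ := (Equiv.Perm.sign).comp φ
  rcases (MonoidHom.normal_ker ψ).eq_bot_or_eq_top with h | h
  · exfalso
    have hinj : Function.Injective ψ := (MonoidHom.ker_eq_bot_iff ψ).1 h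
    have hle : Nat.card G ≤ Nat.card ℤˣ := Nat.card_le_card_of_injective ψ hinj
    have : Nat.card ℤˣ = 2 := by
      rw [Nat.card_eq_fintype_card]; rfl
    omega
  · have : g ∈ ψ.ker := by rw [h]; trivial
    exact this

/-- A finite simple group of order `n!/2 > 2` with a subgroup of index `n` is `A_n`. -/
theorem mulEquiv_alternatingGroup_of_index [IsSimpleGroup G] [Finite G] (n : ℕ)
    (H : Subgroup G) (hn : H.index = n) (hG : 2 < Nat.card G)
    (hcard : Nat.card G = n.factorial / 2) :
    Nonempty (G ≃* alternatingGroup (Fin n)) := by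
  classical
  have hH : H ≠ ⊤ := by
    intro h
    rw [h, Subgroup.index_top] at hn
    subst hn
    simp at hcard
    omega
  have : Fintype (G ⧸ H) := Fintype.ofFinite _
  have hcardα : Fintype.card (G ⧸ H) = n := by
    rw [← Nat.card_eq_fintype_card, ← Subgroup.index_eq_card, hn]
  have hn2 : 2 ≤ n := by
    by_contra hlt
    have : n = 0 ∨ n = 1 := by omega
    rcases this with rfl | rfl <;> simp at hcard <;> omega
  have hnt : Nontrivial (G ⧸ H) := by
    rw [← Fintype.one_lt_card_iff_nontrivial, hcardα]; omega
  let φ := MulAction.toPermHom G (G ⧸ H)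
  have hinj : Function.Injective φ := toPermHom_quotient_injective H hH
  have hle : φ.range ≤ alternatingGroup (G ⧸ H) := range_le_alternatingGroup hG φ
  have hrange : φ.range = alternatingGroup (G ⧸ H) := by
    apply Subgroup.eq_of_le_of_card_ge hle
    rw [nat_card_alternatingGroup, Nat.card_eq_fintype_card, hcardα, ← hcard]
    exact (Nat.card_congr (MonoidHom.ofInjective hinj).toEquiv).le
  let e : (G ⧸ H) ≃ Fin n := Fintype.equivFinOfCardEq hcardα
  exact ⟨(MonoidHom.ofInjective hinj).trans
    ((MulEquiv.subgroupCongr hrange).trans (Equiv.altCongrHom e))⟩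

/-- A simple group of order 60 has a subgroup of index 5. -/
theorem exists_subgroup_index_five [IsSimpleGroup G] [Finite G] (h : Nat.card G = 60) :
    ∃ H : Subgroup G, H.index = 5 := by
  have hp2 : Fact (Nat.Prime 2) := ⟨Nat.prime_two⟩
  let P : Sylow 2 G := default
  -- |P| = 4
  have hPidx : ¬ 2 ∣ (P : Subgroup G).index := P.not_dvd_index
  have hmul := (P : Subgroup G).card_mul_index
  rw [h] at hmul
  obtain ⟨k, hk⟩ := IsPGroup.iff_card.1 P.2
  have hPcard : Nat.card (P : Subgroup G) = 4 := by
    have hk5 : k ≤ 5 := by
      by_contra hlt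
      push Not at hlt
      have : 2 ^ 6 ≤ 2 ^ k := Nat.pow_le_pow_right (by norm_num) hlt
      have hpos : 0 < (P : Subgroup G).index := Nat.pos_of_ne_zero (by
        intro h0; rw [h0] at hmul; omega)
      rw [hk] at hmul
      nlinarith
    rw [hk] at hmul ⊢
    interval_cases k <;> omega
  have hPindex : (P : Subgroup G).index = 15 := by
    rw [hPcard] at hmul; omega
  set N : Subgroup G := normalizer ((P : Subgroup G) : Set G) with hN
  have hidx : Nat.card (Sylow 2 G) = N.index := Sylow.card_eq_index_normalizer P
  have hmod : N.index % 2 = 1 := by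
    have := card_sylow_modEq_one 2 G
    rw [hidx] at this
    exact this
  have hdvd : N.index ∣ 15 := by
    have := Sylow.card_dvd_index P
    rwa [hidx, hPindex] at this
  have hPN : (P : Subgroup G) ≤ N := le_normalizer
  have hcases : N.index = 1 ∨ N.index = 3 ∨ N.index = 5 ∨ N.index = 15 := by
    have hle : N.index ≤ 15 := Nat.le_of_dvd (by norm_num) hdvd
    interval_cases hi : N.index <;> simp_all
  rcases hcases with h1 | h3 | h5 | h15
  · -- P is normal
    exfalso
    have hNtop : N = ⊤ := Subgroup.index_eq_one.1 h1
    have hnorm : (P : Subgroup G).Normal := Subgroup.normalizer_eq_top_iff.1 hNtop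
    rcases hnorm.eq_bot_or_eq_top with hb | ht
    · rw [hb, Subgroup.card_bot] at hPcard; omega
    · rw [ht, Subgroup.card_top, h] at hPcard; omega
  · exfalso
    have hNtop : N ≠ ⊤ := by
      intro ht; rw [ht, Subgroup.index_top] at h3; omega
    have := card_dvd_factorial_index N hNtop
    rw [h, h3] at this
    norm_num [Nat.factorial] at this
  · exact ⟨N, h5⟩
  · exfalso
    have hNcard : Nat.card N = 4 := by
      have := N.card_mul_index
      rw [h, h15] at this; omega
    have hNP : N = (P : Subgroup G) := by
      symm
      apply Subgroup.eq_of_le_of_card_ge hPN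
      rw [hNcard, hPcard]
    have hcomm : IsMulCommutative (P : Subgroup G) :=
      IsPGroup.isMulCommutative_of_card_eq_prime_sq (p := 2) (by rw [hPcard]; norm_num)
    have hP : normalizer ((P : Subgroup G) : Set G) ≤ centralizer ((P : Subgroup G) : Set G) := by
      rw [← hN, hNP]
      intro x hx y hy
      have := hcomm.is_comm.comm ⟨y, hy⟩ ⟨x, hx⟩
      exact congrArg Subtype.val this
    have hcompl := MonoidHom.ker_transferSylow_isComplement' P hP
    have hcm := hcompl.card_mul_card
    rw [hPcard, h] at hcm
    have hK : Nat.card (MonoidHom.transferSylow P hP).ker = 15 := by omega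
    rcases (MonoidHom.normal_ker (MonoidHom.transferSylow P hP)).eq_bot_or_eq_top with hb | ht
    · rw [hb, Subgroup.card_bot] at hK; omega
    · rw [ht, Subgroup.card_top, h] at hK; omega

/-- A simple group of order 60 is isomorphic to `A_5`. -/
theorem mulEquiv_alternatingGroup_five_of_card_eq_sixty [IsSimpleGroup G] [Finite G]
    (h : Nat.card G = 60) : Nonempty (G ≃* alternatingGroup (Fin 5)) := by
  obtain ⟨H, hH⟩ := exists_subgroup_index_five h
  exact mulEquiv_alternatingGroup_of_index 5 H hH (by omega) (by rw [h]; rfl)

end Cfsg.Agent.Lib.Helper5
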