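import Mathlib

set_option autoImplicit false
set_option linter.unusedSimpArgs false
set_option linter.unusedVariables false
set_option linter.unnecessarySeqFocus false

namespace Cfsg.Agent.Lib.Helper5

open Matrix Projectivization
open scoped LinearAlgebra.Projectivization MatrixGroups

variable {F : Type*} [Field F]

/-- The `2 × 2` determinant of two vectors. -/
def cross (u v : Fin 2 → F) : F := u 0 * v 1 - u 1 * v 0

lemma cross_swap (u v : Fin 2 → F) : cross u v = - cross v u := by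
  unfold cross; ring

lemma ne_zero_of_fst_eq_zero {v : Fin 2 → F} (hv : v ≠ 0) (h0 : v 0 = 0) : v 1 ≠ 0 := by
  intro h1
  apply hv
  funext i
  fin_cases i
  · exact h0
  · exact h1

lemma mk_eq_mk_iff_cross {u v : Fin 2 → F} (hu : u ≠ 0) (hv : v ≠ 0) :
    Projectivization.mk F u hu = Projectivization.mk F v hv ↔ cross u v = 0 := by
  rw [mk_eq_mk_iff']
  constructor
  · rintro ⟨a, rfl⟩
    simp only [cross, Pi.smul_apply, smul_eq_mul]
    ring
  · intro h
    unfold cross at h
    by_cases h0 : v 0 = 0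
    · have h1 := ne_zero_of_fst_eq_zero hv h0
      have hu0 : u 0 = 0 := by
        rw [h0, mul_zero, sub_zero] at h
        rcases mul_eq_zero.1 h with h | h
        · exact h
        · exact absurd h h1
      refine ⟨u 1 / v 1, ?_⟩
      funext i
      fin_cases i
      · simp [h0, hu0]
      · simp only [Fin.mk_one, Fin.isValue, Pi.smul_apply, smul_eq_mul]
        field_simp
    · refine ⟨u 0 / v 0, ?_⟩
      funext i
      fin_cases i
      · simp only [Fin.zero_eta, Fin.isValue, Pi.smul_apply, smul_eq_mul]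
        field_simp
      · simp only [Fin.mk_one, Fin.isValue, Pi.smul_apply, smul_eq_mul]
        field_simp
        linear_combination h

lemma cramer (u v w : Fin 2 → F) (h : cross u v ≠ 0) :
    w = (cross w v / cross u v) • u + (cross u w / cross u v) • v := by
  funext i
  fin_cases i
  · simp only [Fin.zero_eta, Fin.isValue, Pi.add_apply, Pi.smul_apply, smul_eq_mul]
    field_simp
    unfold cross
    ring
  · simp only [Fin.mk_one, Fin.isValue, Pi.add_apply, Pi.smul_apply, smul_eq_mul]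
    field_simp
    unfold cross
    ring

lemma e1_ne_zero : (![1, 0] : Fin 2 → F) ≠ 0 := by
  intro h; simpa using congrFun h 0

lemma e2_ne_zero : (![0, 1] : Fin 2 → F) ≠ 0 := by
  intro h; simpa using congrFun h 1

lemma e12_ne_zero : (![1, 1] : Fin 2 → F) ≠ 0 := by
  intro h; simpa using congrFun h 0

/-- the standard points of the projective line -/
def P0 : ℙ F (Fin 2 → F) := Projectivization.mk F ![1, 0] e1_ne_zero
def P1 : ℙ F (Fin 2 → F) := Projectivization.mk F ![0, 1] e2_ne_zero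
def P2 : ℙ F (Fin 2 → F) := Projectivization.mk F ![1, 1] e12_ne_zero

lemma GL_smul_vec (g : GL (Fin 2) F) (v : Fin 2 → F) : g • v = (Units.val g) *ᵥ v := rfl

lemma exists_GL_triple {a b c : ℙ F (Fin 2 → F)} (hab : a ≠ b) (hac : a ≠ c) (hbc : b ≠ c) :
    ∃ g : GL (Fin 2) F, (ProjGenLinGroup.mk g : PGL(Fin 2, F)) • (P0 : ℙ F (Fin 2 → F)) = a ∧
      (ProjGenLinGroup.mk g : PGL(Fin 2, F)) • (P1 : ℙ F (Fin 2 → F)) = b ∧
      (ProjGenLinGroup.mk g : PGL(Fin 2, F)) • (P2 : ℙ F (Fin 2 → F)) = c := by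
  induction a using Projectivization.ind with | _ u hu =>
  induction b using Projectivization.ind with | _ v hv =>
  induction c using Projectivization.ind with | _ w hw =>
  have huv : cross u v ≠ 0 := fun h => hab ((mk_eq_mk_iff_cross hu hv).2 h)
  have huw : cross u w ≠ 0 := fun h => hac ((mk_eq_mk_iff_cross hu hw).2 h)
  have hvw : cross v w ≠ 0 := fun h => hbc ((mk_eq_mk_iff_cross hv hw).2 h)
  have hwv : cross w v ≠ 0 := by rw [cross_swap]; exact neg_ne_zero.2 hvw
  set α := cross w v / cross u v with hα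
  set β := cross u w / cross u v with hβ
  have hα0 : α ≠ 0 := div_ne_zero hwv huv
  have hβ0 : β ≠ 0 := div_ne_zero huw huv
  have hdet : (!![α * u 0, β * v 0; α * u 1, β * v 1] : Matrix (Fin 2) (Fin 2) F).det ≠ 0 := by
    rw [Matrix.det_fin_two_of]
    have : α * u 0 * (β * v 1) - β * v 0 * (α * u 1) = α * β * cross u v := by
      unfold cross; ring
    rw [this]
    exact mul_ne_zero (mul_ne_zero hα0 hβ0) huv
  refine ⟨Matrix.GeneralLinearGroup.mkOfDetNeZero _ hdet, ?_, ?_, ?_⟩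
  · rw [P0, PGL.mk_smul_mk, mk_eq_mk_iff']
    refine ⟨α, ?_⟩
    funext i
    fin_cases i <;> simp [GL_smul_vec, Matrix.mulVec, dotProduct, Fin.sum_univ_two]
  · rw [P1, PGL.mk_smul_mk, mk_eq_mk_iff']
    refine ⟨β, ?_⟩
    funext i
    fin_cases i <;> simp [GL_smul_vec, Matrix.mulVec, dotProduct, Fin.sum_univ_two]
  · rw [P2, PGL.mk_smul_mk, mk_eq_mk_iff']
    refine ⟨1, ?_⟩
    rw [one_smul]
    conv_lhs => rw [cramer u v w huv]
    funext i
    fin_cases i <;> simp [GL_smul_vec, Matrix.mulVec, dotProduct, Fin.sum_univ_two, ← hα, ← hβ]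



lemma eq_one_of_fix_std (g : PGL(Fin 2, F)) (h0 : g • (P0 : ℙ F (Fin 2 → F)) = P0)
    (h1 : g • (P1 : ℙ F (Fin 2 → F)) = P1) (h2 : g • (P2 : ℙ F (Fin 2 → F)) = P2) : g = 1 := by
  induction g using ProjGenLinGroup.induction_on with | mk g =>
  rw [P0, PGL.mk_smul_mk, mk_eq_mk_iff] at h0
  rw [P1, PGL.mk_smul_mk, mk_eq_mk_iff'] at h1
  rw [P2, PGL.mk_smul_mk, mk_eq_mk_iff'] at h2
  obtain ⟨a, ha⟩ := h0
  obtain ⟨b, hb⟩ := h1
  obtain ⟨c, hc⟩ := h2
  have ha0 := congrFun ha 0
  have ha1 := congrFun ha 1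
  have hb0 := congrFun hb 0
  have hb1 := congrFun hb 1
  have hc0 := congrFun hc 0
  have hc1 := congrFun hc 1
  simp [GL_smul_vec, Matrix.mulVec, dotProduct, Fin.sum_univ_two, Units.smul_def] at ha0 ha1 hb0 hb1 hc0 hc1
  rw [ProjGenLinGroup.mk_eq_one, Matrix.GeneralLinearGroup.center_eq_range_scalar]
  refine ⟨a, ?_⟩
  apply Units.ext
  ext i j
  fin_cases i <;> fin_cases j <;> simp [Matrix.GeneralLinearGroup.coe_scalar]
  · exact ha0
  · exact hb0
  · exact ha1
  · rw [← hb0, add_zero] at hc0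
    rw [← ha1, zero_add] at hc1
    rw [ha0, ← hc0, hc1]



theorem PGL2_three_pretransitive :
    MulAction.IsMultiplyPretransitive (PGL(Fin 2, F)) (ℙ F (Fin 2 → F)) 3 := by
  rw [MulAction.isMultiplyPretransitive_iff]
  intro x y
  have hx : ∀ i j : Fin 3, i ≠ j → x i ≠ x j := fun i j h => x.injective.ne h
  have hy : ∀ i j : Fin 3, i ≠ j → y i ≠ y j := fun i j h => y.injective.ne h
  obtain ⟨g, g0, g1, g2⟩ := exists_GL_triple (hx 0 1 (by decide)) (hx 0 2 (by decide))
    (hx 1 2 (by decide))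
  obtain ⟨h, h0, h1, h2⟩ := exists_GL_triple (hy 0 1 (by decide)) (hy 0 2 (by decide))
    (hy 1 2 (by decide))
  refine ⟨ProjGenLinGroup.mk h * (ProjGenLinGroup.mk g)⁻¹, ?_⟩
  ext i
  rw [Function.Embedding.smul_apply, mul_smul]
  fin_cases i
  · show _ • (_ • x 0) = y 0
    rw [← g0, inv_smul_smul, h0]
  · show _ • (_ • x 1) = y 1
    rw [← g1, inv_smul_smul, h1]
  · show _ • (_ • x 2) = y 2
    rw [← g2, inv_smul_smul, h2]

theorem PGL2_sharp (g : PGL(Fin 2, F)) (a b c : ℙ F (Fin 2 → F))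
    (hab : a ≠ b) (hac : a ≠ c) (hbc : b ≠ c) (ha : g • a = a) (hb : g • b = b) (hc : g • c = c) :
    g = 1 := by
  obtain ⟨k, k0, k1, k2⟩ := exists_GL_triple hab hac hbc
  have key : (ProjGenLinGroup.mk k)⁻¹ * g * ProjGenLinGroup.mk k = 1 := by
    apply eq_one_of_fix_std
    · rw [mul_smul, mul_smul, k0, ha, ← k0, inv_smul_smul]
    · rw [mul_smul, mul_smul, k1, hb, ← k1, inv_smul_smul]
    · rw [mul_smul, mul_smul, k2, hc, ← k2, inv_smul_smul]
  have : g = ProjGenLinGroup.mk k * ((ProjGenLinGroup.mk k)⁻¹ * g * ProjGenLinGroup.mk k) *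
      (ProjGenLinGroup.mk k)⁻¹ := by group
  rw [this, key, mul_one, mul_inv_cancel]

end Cfsg.Agent.Lib.Helper5
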