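import Mathlib

set_option autoImplicit false
set_option linter.unusedSimpArgs false

namespace Cfsg.Agent.Lib.Helper5

open Matrix Matrix.SpecialLinearGroup

variable {ι F : Type*} [DecidableEq ι] [Fintype ι] [Field F]

lemma diag2n_decompose {i j : ι} (hij : i ≠ j) (a : F) (ha : a ≠ 0) :
    diag2n hij a ha = transvection hij a * transvection hij.symm (-a⁻¹) * transvection hij a *
      transvection hij (-1) * transvection hij.symm 1 * transvection hij (-1) := by
  apply Subtype.ext
  have hdiag : (diag2n hij a ha).1 = 1 + single i i (a - 1) + single j j (a⁻¹ - 1) := by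
    rw [diag2n_coe]
    ext k l
    simp only [Matrix.diagonal_apply, Matrix.add_apply, Matrix.one_apply, Matrix.single_apply]
    by_cases hkl : k = l
    · subst hkl
      by_cases hki : k = i
      · subst hki
        simp [Ne.symm hij]
      · by_cases hkj : k = j
        · subst hkj
          simp [hki, Ne.symm hki]
        · simp [hki, hkj, Ne.symm hki, Ne.symm hkj]
    · have h1 : ¬ (i = k ∧ i = l) := fun h => hkl (h.1.symm.trans h.2)
      have h2 : ¬ (j = k ∧ j = l) := fun h => hkl (h.1.symm.trans h.2)
      simp [hkl, h1, h2]
  rw [hdiag]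
  simp only [coe_mul, transvection_coe]
  simp only [mul_add, add_mul, mul_one, one_mul, single_mul_single_same,
    single_mul_single_of_ne _ _ _ _ hij, single_mul_single_of_ne _ _ _ _ hij.symm, zero_mul,
    add_zero, zero_add, mul_zero]
  have hji := hij.symm
  ext k l
  simp only [Matrix.add_apply, Matrix.one_apply, Matrix.single_apply]
  by_cases hki : k = i <;> by_cases hkj : k = j <;> by_cases hli : l = i <;>
    by_cases hlj : l = j <;>
    simp [hki, hkj, hli, hlj, hij, hji, eq_comm (a := i), eq_comm (a := j)] <;>
    (try field_simp) <;> (try ring)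

/-- Every element of `SL(ι, F)` is a product of transvections. -/
theorem transvection_induction (P : SpecialLinearGroup ι F → Prop) (h1 : P 1)
    (htransvec : ∀ (i j : ι) (h : i ≠ j) (c : F), P (transvection h c))
    (hmul : ∀ A B, P A → P B → P (A * B)) (A : SpecialLinearGroup ι F) : P A := by
  rcases subsingleton_or_nontrivial ι with hι | hι
  · have : A = 1 := Subsingleton.elim _ _
    rw [this]; exact h1
  · refine diagonal_transvection_induction' P A (fun i j hij c hc ↦ ?_) htransvec hmul
    rw [diag2n_decompose hij c hc]
    refine hmul _ _ (hmul _ _ (hmul _ _ (hmul _ _ (hmul _ _ ?_ ?_) ?_) ?_) ?_) ?_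
    all_goals exact htransvec _ _ _ _

/-- A subgroup of `SL(ι, F)` containing all transvections is everything. -/
theorem eq_top_of_transvection_mem (H : Subgroup (SpecialLinearGroup ι F))
    (h : ∀ (i j : ι) (hij : i ≠ j) (c : F), transvection hij c ∈ H) : H = ⊤ := by
  refine le_antisymm le_top (fun A _ ↦ ?_)
  exact transvection_induction (fun A ↦ A ∈ H) H.one_mem h (fun _ _ ↦ H.mul_mem) A

open scoped commutatorElement in
lemma commutator_transvection {i j k : ι} (hij : i ≠ j) (hik : i ≠ k) (hkj : k ≠ j) (c : F) :
    ⁅transvection hik c, transvection hkj (1 : F)⁆ = transvection hij c := by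
  rw [commutatorElement_def, transvection_inv, transvection_inv]
  apply Subtype.ext
  simp only [coe_mul, transvection_coe]
  simp only [mul_add, add_mul, mul_one, one_mul, single_mul_single_same,
    single_mul_single_of_ne _ _ _ _ hij.symm, single_mul_single_of_ne _ _ _ _ hik.symm,
    single_mul_single_of_ne _ _ _ _ hkj.symm,
    single_mul_single_of_ne _ _ _ _ hij, single_mul_single_of_ne _ _ _ _ hik,
    single_mul_single_of_ne _ _ _ _ hkj, zero_mul,
    add_zero, zero_add, mul_zero]
  ext a b
  simp only [Matrix.add_apply, Matrix.one_apply, Matrix.single_apply]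
  by_cases h1 : a = i <;> by_cases h2 : a = k <;> by_cases h3 : b = k <;> by_cases h4 : b = j <;>
    simp [h1, h2, h3, h4, hij, hik, hkj, hij.symm, hik.symm, hkj.symm, eq_comm (a := i),
      eq_comm (a := j), eq_comm (a := k)]

lemma transvection_mem_commutator_of_three {i j : ι} (hij : i ≠ j) (h3 : 3 ≤ Fintype.card ι)
    (c : F) : transvection hij c ∈ commutator (SpecialLinearGroup ι F) := by
  obtain ⟨k, hk⟩ : ∃ k : ι, k ∉ ({i, j} : Finset ι) := by
    by_contra hcon
    push Not at hcon
    have : (Finset.univ : Finset ι) ⊆ {i, j} := fun x _ ↦ hcon x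
    have hc := Finset.card_le_card this
    have : ({i, j} : Finset ι).card ≤ 2 := Finset.card_le_two
    rw [Finset.card_univ] at hc
    omega
  simp only [Finset.mem_insert, Finset.mem_singleton, not_or] at hk
  rw [← commutator_transvection hij (Ne.symm hk.1) hk.2 c]
  exact Subgroup.commutator_mem_commutator (Subgroup.mem_top _) (Subgroup.mem_top _)

theorem commutator_SL_eq_top (h3 : 3 ≤ Fintype.card ι) :
    commutator (SpecialLinearGroup ι F) = ⊤ :=
  eq_top_of_transvection_mem _ (fun _ _ hij c ↦ transvection_mem_commutator_of_three hij h3 c)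

end Cfsg.Agent.Lib.Helper5
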