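import Mathlib
import Cfsg.Agent.Lib.Helper5.SLGen

set_option autoImplicit false
set_option linter.unusedSimpArgs false
set_option linter.unusedVariables false
set_option linter.unnecessarySeqFocus false
set_option linter.unusedSectionVars false

namespace Cfsg.Agent.Lib.Helper5

open Matrix
open scoped commutatorElement

section Generic

variable {G H : Type*} [Group G] [Group H]

/-- an isomorphism induces an isomorphism of the central quotients -/
noncomputable def quotCenterCongr (e : G ≃* H) :
    G ⧸ Subgroup.center G ≃* H ⧸ Subgroup.center H :=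
  QuotientGroup.congr (Subgroup.center G) (Subgroup.center H) e (by
    ext x
    simp only [Subgroup.mem_map, Subgroup.mem_center_iff]
    constructor
    · rintro ⟨y, hy, rfl⟩ h
      obtain ⟨g, rfl⟩ := e.surjective h
      show e g * e y = e y * e g
      rw [← map_mul, ← map_mul, hy g]
    · intro hx
      refine ⟨e.symm x, fun g => ?_, by simp⟩
      apply e.injective
      rw [map_mul, map_mul, e.apply_symm_apply]
      exact hx (e g))

/-- a group with trivial centre is its own central quotient -/
noncomputable def quotCenterOfBot (h : Subgroup.center G = ⊥) : G ⧸ Subgroup.center G ≃* G :=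
  (QuotientGroup.quotientMulEquivOfEq h).trans (QuotientGroup.quotientBot)

end Generic

section PSL2

variable {F : Type*} [Field F]

/-- The centre of `PSL₂(F)` is trivial. -/
theorem center_PSL2_eq_bot :
    Subgroup.center (Matrix.ProjectiveSpecialLinearGroup (Fin 2) F) = ⊥ := by
  rw [eq_bot_iff]
  intro x hx
  rw [Subgroup.mem_bot]
  obtain ⟨g, rfl⟩ := QuotientGroup.mk_surjective x
  rw [Subgroup.mem_center_iff] at hx
  -- for every h there is a central z with g h = z h g
  have key : ∀ h : SpecialLinearGroup (Fin 2) F, ∃ ε : F, ε ^ 2 = 1 ∧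
      (g.1 * h.1) = ε • (h.1 * g.1) := by
    intro h
    have h1 := hx (QuotientGroup.mk h)
    rw [← QuotientGroup.mk_mul, ← QuotientGroup.mk_mul, QuotientGroup.eq] at h1
    obtain ⟨r, hr, hr2⟩ := Matrix.SpecialLinearGroup.mem_center_iff.1 h1
    refine ⟨r, by simpa using hr, ?_⟩
    have h2 : (g * h : SpecialLinearGroup (Fin 2) F) = (h * g) * ((h * g)⁻¹ * (g * h)) := by group
    have h3 := congrArg Subtype.val h2
    rw [Matrix.SpecialLinearGroup.coe_mul, Matrix.SpecialLinearGroup.coe_mul (h * g), ← hr2,
      Matrix.SpecialLinearGroup.coe_mul] at h3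
    rw [h3]
    simp [Matrix.scalar_apply, Matrix.smul_eq_mul_diagonal]
  rw [QuotientGroup.eq_one_iff]
  have hdet := g.2
  rw [Matrix.det_fin_two] at hdet
  -- use h = t12(1)
  obtain ⟨ε, hε, h1⟩ := key ⟨!![1, 1; 0, 1], by simp [Matrix.det_fin_two]⟩
  obtain ⟨ε', hε', h2⟩ := key ⟨!![1, 0; 1, 1], by simp [Matrix.det_fin_two]⟩
  obtain ⟨a, b, c, d, hg⟩ : ∃ a b c d : F, g.1 = !![a, b; c, d] :=
    ⟨_, _, _, _, Matrix.eta_fin_two g.1⟩
  rw [hg] at hdet h1 h2
  have e00 := congrFun (congrFun h1 0) 0
  have e10 := congrFun (congrFun h1 1) 0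
  have e01 := congrFun (congrFun h1 0) 1
  have e11 := congrFun (congrFun h1 1) 1
  have f00 := congrFun (congrFun h2 0) 0
  have f10 := congrFun (congrFun h2 1) 0
  have f01 := congrFun (congrFun h2 0) 1
  have f11 := congrFun (congrFun h2 1) 1
  simp [Matrix.mul_apply, Fin.sum_univ_two] at e00 e10 e01 e11 f00 f10 f01 f11 hdet
  have hc : c = 0 := by
    by_contra hc
    have : ε = 1 := by
      have : (1 - ε) * c = 0 := by linear_combination e10
      rcases mul_eq_zero.1 this with h | h
      · linear_combination -h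
      · exact absurd h hc
    rw [this] at e00
    apply hc
    linear_combination -e00
  have hb : b = 0 := by
    by_contra hb
    have : ε' = 1 := by
      have : (1 - ε') * b = 0 := by linear_combination f01
      rcases mul_eq_zero.1 this with h | h
      · linear_combination -h
      · exact absurd h hb
    rw [this] at f11
    apply hb
    linear_combination -f11
  have had : a * d = 1 := by rw [hc, hb] at hdet; linear_combination hdet
  have ha0 : a ≠ 0 := by
    rintro h; rw [h, zero_mul] at had; exact zero_ne_one had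
  have hε1 : ε = 1 := by
    rw [hc] at e00
    have : (1 - ε) * a = 0 := by linear_combination e00
    rcases mul_eq_zero.1 this with h | h
    · linear_combination -h
    · exact absurd h ha0
  have hda : a = d := by
    rw [hε1] at e01
    linear_combination e01
  rw [Matrix.SpecialLinearGroup.mem_center_iff]
  refine ⟨a, ?_, ?_⟩
  · simp only [Fintype.card_fin]
    rw [pow_two]; rw [← hda] at had; exact had
  · rw [hg]
    ext i j
    fin_cases i <;> fin_cases j <;> simp [Matrix.scalar_apply, Matrix.diagonal_apply]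
    · exact hb.symm
    · exact hc.symm
    · exact hda

end PSL2

section SL2comm

variable {F : Type*} [Field F]

/-- the diagonal matrix `diag(a, 1)` in `GL₂` -/
noncomputable def dg (a : F) (ha : a ≠ 0) : GL (Fin 2) F :=
  Matrix.GeneralLinearGroup.mkOfDetNeZero !![a, 0; 0, 1] (by simp [Matrix.det_fin_two, ha])

lemma comm_eq_of_mul_eq {G : Type*} [Group G] {d t x : G} (h : d * t = x * t * d) : ⁅d, t⁆ = x := by
  rw [commutatorElement_def, h]; group

/-- every transvection of `SL₂` is a commutator `⁅diag(a,1), transvection⁆` -/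
theorem exists_dg_commutator {a : F} (ha0 : a ≠ 0) (ha1 : a ≠ 1) {i j : Fin 2} (hij : i ≠ j) (c : F) :
    ∃ c' : F, ⁅dg a ha0, Matrix.SpecialLinearGroup.toGL
        (Matrix.SpecialLinearGroup.transvection hij c')⁆ =
      Matrix.SpecialLinearGroup.toGL (Matrix.SpecialLinearGroup.transvection hij c) := by
  have ha1' : a - 1 ≠ 0 := sub_ne_zero.2 ha1
  have ha1'' : 1 - a ≠ 0 := sub_ne_zero.2 (Ne.symm ha1)
  fin_cases i <;> fin_cases j
  · exact absurd rfl hij
  · refine ⟨c / (a - 1), ?_⟩
    apply comm_eq_of_mul_eq
    apply Units.ext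
    simp only [Units.val_mul, dg, Matrix.GeneralLinearGroup.mkOfDetNeZero,
      Matrix.SpecialLinearGroup.coe_GL_coe_matrix, Matrix.SpecialLinearGroup.transvection_coe]
    ext k l
    fin_cases k <;> fin_cases l <;>
      simp [Matrix.transvection, Matrix.mul_apply, Fin.sum_univ_two, Matrix.single_apply,
        Matrix.one_apply] <;> field_simp <;> ring
  · refine ⟨c * a / (1 - a), ?_⟩
    apply comm_eq_of_mul_eq
    apply Units.ext
    simp only [Units.val_mul, dg, Matrix.GeneralLinearGroup.mkOfDetNeZero,
      Matrix.SpecialLinearGroup.coe_GL_coe_matrix, Matrix.SpecialLinearGroup.transvection_coe]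
    ext k l
    fin_cases k <;> fin_cases l <;>
      simp [Matrix.transvection, Matrix.mul_apply, Fin.sum_univ_two, Matrix.single_apply,
        Matrix.one_apply] <;> field_simp <;> ring
  · exact absurd rfl hij

/-- `SL₂(F) ≤ [GL₂(F), GL₂(F)]` when `F` has at least three elements. -/
theorem toGL_mem_commutator (h3 : ∃ a : F, a ≠ 0 ∧ a ≠ 1) (s : Matrix.SpecialLinearGroup (Fin 2) F) :
    Matrix.SpecialLinearGroup.toGL s ∈ commutator (GL (Fin 2) F) := by
  obtain ⟨a, ha0, ha1⟩ := h3
  refine transvection_induction
    (fun s => Matrix.SpecialLinearGroup.toGL s ∈ commutator (GL (Fin 2) F)) ?_ ?_ ?_ s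
  · simp only [map_one]; exact Subgroup.one_mem _
  · intro i j hij c
    obtain ⟨c', hc'⟩ := exists_dg_commutator ha0 ha1 hij c
    rw [← hc']
    exact Subgroup.commutator_mem_commutator (Subgroup.mem_top _) (Subgroup.mem_top _)
  · intro A B hA hB
    simp only [map_mul]
    exact Subgroup.mul_mem _ hA hB

/-- two matrices commuting with everything are scalar: the `SL₂` version -/
theorem mem_center_of_commute (s : Matrix.SpecialLinearGroup (Fin 2) F)
    (h1 : s.1 * !![0, 1; 0, 0] = !![0, 1; 0, 0] * s.1)
    (h2 : s.1 * !![0, 0; 1, 0] = !![0, 0; 1, 0] * s.1) :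
    s ∈ Subgroup.center (Matrix.SpecialLinearGroup (Fin 2) F) := by
  obtain ⟨a, b, c, d, hg⟩ : ∃ a b c d : F, s.1 = !![a, b; c, d] :=
    ⟨_, _, _, _, Matrix.eta_fin_two s.1⟩
  rw [hg] at h1 h2
  have e1 := congrFun (congrFun h1 0) 0
  have e2 := congrFun (congrFun h1 0) 1
  have e3 := congrFun (congrFun h2 0) 0
  simp [Matrix.mul_apply, Fin.sum_univ_two] at e1 e2 e3
  rw [Matrix.SpecialLinearGroup.mem_center_iff]
  have hdet := s.2
  rw [hg, Matrix.det_fin_two] at hdet
  simp at hdet
  refine ⟨a, ?_, ?_⟩
  · simp only [Fintype.card_fin]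
    rw [← e1] at hdet
    rw [e3] at hdet
    rw [← e2] at hdet
    linear_combination hdet
  · rw [hg]
    ext i j
    fin_cases i <;> fin_cases j <;> simp [Matrix.scalar_apply, Matrix.diagonal_apply]
    · exact e3.symm
    · exact e1
    · exact e2

end SL2comm

end Cfsg.Agent.Lib.Helper5
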