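import Mathlib
import Cfsg.Agent.Lib.Helper5.PSL2Center

set_option autoImplicit false
set_option linter.unusedSimpArgs false
set_option linter.unusedVariables false
set_option linter.unnecessarySeqFocus false
set_option linter.unusedSectionVars false

/-!
# Basic elements of `SL₂(F)` and their images in `PSL₂(F)`

Preparation for the determination of `Aut(PSL₂(F))`.
-/

namespace Cfsg.Agent.Lib.Helper5.AutPSL2

open Matrix

variable {F : Type*} [Field F]

/-- the upper unitriangular matrix with entry `t` -/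
def uu (t : F) : SpecialLinearGroup (Fin 2) F :=
  ⟨!![1, t; 0, 1], by simp [Matrix.det_fin_two_of]⟩

/-- the lower unitriangular matrix with entry `t` -/
def ll (t : F) : SpecialLinearGroup (Fin 2) F :=
  ⟨!![1, 0; t, 1], by simp [Matrix.det_fin_two_of]⟩

@[simp] lemma uu_coe (t : F) : (uu t).1 = !![1, t; 0, 1] := rfl
@[simp] lemma ll_coe (t : F) : (ll t).1 = !![1, 0; t, 1] := rfl

/-- the monomial element `u(t) l(-1/t) u(t)` -/
def ww (t : F) : SpecialLinearGroup (Fin 2) F := uu t * ll (-t⁻¹) * uu t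

/-- the diagonal element `w(t) w(1)⁻¹` -/
def hh (t : F) : SpecialLinearGroup (Fin 2) F := ww t * (ww 1)⁻¹

lemma sl_ext {x y : SpecialLinearGroup (Fin 2) F} (h00 : x.1 0 0 = y.1 0 0)
    (h01 : x.1 0 1 = y.1 0 1) (h10 : x.1 1 0 = y.1 1 0) (h11 : x.1 1 1 = y.1 1 1) : x = y := by
  apply Subtype.ext
  ext i j
  fin_cases i <;> fin_cases j <;> assumption

lemma uu_add (s t : F) : uu (s + t) = uu s * uu t := by
  apply sl_ext <;> simp [Matrix.SpecialLinearGroup.coe_mul, Matrix.mul_apply, Fin.sum_univ_two, add_comm]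

lemma ll_add (s t : F) : ll (s + t) = ll s * ll t := by
  apply sl_ext <;> simp [Matrix.SpecialLinearGroup.coe_mul, Matrix.mul_apply, Fin.sum_univ_two, add_comm]

lemma uu_zero : uu (0 : F) = 1 := by
  apply sl_ext <;> simp [uu]

lemma ll_zero : ll (0 : F) = 1 := by
  apply sl_ext <;> simp [ll]

lemma ww_coe {t : F} (ht : t ≠ 0) : (ww t).1 = !![0, t; -t⁻¹, 0] := by
  ext i j
  fin_cases i <;> fin_cases j <;>
    simp [ww, Matrix.SpecialLinearGroup.coe_mul, Matrix.mul_apply, Fin.sum_univ_two]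
  · field_simp; ring
  · left; field_simp; ring
  · field_simp; ring

lemma ww_one_coe : (ww (1 : F)).1 = !![0, 1; -1, 0] := by
  rw [ww_coe one_ne_zero]; simp

lemma ww_one_inv_coe : ((ww (1 : F))⁻¹).1 = !![0, -1; 1, 0] := by
  rw [Matrix.SpecialLinearGroup.coe_inv, ww_one_coe, Matrix.adjugate_fin_two_of]
  simp

lemma hh_coe {t : F} (ht : t ≠ 0) : (hh t).1 = !![t, 0; 0, t⁻¹] := by
  unfold hh
  rw [Matrix.SpecialLinearGroup.coe_mul, ww_coe ht, ww_one_inv_coe]
  ext i j
  fin_cases i <;> fin_cases j <;> simp [Matrix.mul_apply, Fin.sum_univ_two]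

/-- `w(t) u(x) = l(-x/t²) w(t)` -/
lemma ww_mul_uu {t : F} (ht : t ≠ 0) (x : F) :
    ww t * uu x = ll (-x * (t⁻¹) ^ 2) * ww t := by
  apply sl_ext <;>
    simp [ww_coe ht, Matrix.SpecialLinearGroup.coe_mul, Matrix.mul_apply, Fin.sum_univ_two] <;> field_simp

/-- `h(t) u(s) = u(t² s) h(t)` -/
lemma hh_mul_uu {t : F} (ht : t ≠ 0) (s : F) :
    hh t * uu s = uu (t ^ 2 * s) * hh t := by
  apply sl_ext <;>
    simp [hh_coe ht, Matrix.SpecialLinearGroup.coe_mul, Matrix.mul_apply, Fin.sum_univ_two] <;> field_simp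

/-- an element with vanishing top-left entry conjugates `u(s)` to a lower unitriangular one -/
lemma mul_uu_of_zero (y : SpecialLinearGroup (Fin 2) F) (h0 : y.1 0 0 = 0) (s : F) :
    y * uu s = ll (-(y.1 1 0) ^ 2 * s) * y := by
  have hdet := y.2
  rw [Matrix.det_fin_two, h0] at hdet
  apply sl_ext <;> simp [Matrix.SpecialLinearGroup.coe_mul, Matrix.mul_apply, Fin.sum_univ_two, h0]
  linear_combination (-(y.1 1 0) * s) * hdet

/-- an upper triangular element conjugates `u(s)` to an upper unitriangular one -/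
lemma mul_uu_of_lower_zero (x : SpecialLinearGroup (Fin 2) F) (h0 : x.1 1 0 = 0) (s : F) :
    x * uu s = uu ((x.1 0 0) ^ 2 * s) * x := by
  have hdet := x.2
  rw [Matrix.det_fin_two, h0] at hdet
  apply sl_ext <;> simp [Matrix.SpecialLinearGroup.coe_mul, Matrix.mul_apply, Fin.sum_univ_two, h0]
  linear_combination (-(x.1 0 0) * s) * hdet

/-- `u(t)` and `l(t)` generate `SL₂(F)` -/
theorem closure_uu_ll :
    Subgroup.closure (Set.range (uu : F → _) ∪ Set.range (ll : F → _)) = ⊤ := by
  apply eq_top_of_transvection_mem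
  intro i j hij c
  apply Subgroup.subset_closure
  fin_cases i <;> fin_cases j
  · exact absurd rfl hij
  · left
    refine ⟨c, ?_⟩
    apply sl_ext <;> simp [Matrix.SpecialLinearGroup.transvection, Matrix.transvection, Matrix.single]
  · right
    refine ⟨c, ?_⟩
    apply sl_ext <;> simp [Matrix.SpecialLinearGroup.transvection, Matrix.transvection, Matrix.single]
  · exact absurd rfl hij

/-! ### the projection to `PSL₂` -/

/-- the projection `SL₂(F) → PSL₂(F)` -/
def pr : SpecialLinearGroup (Fin 2) F →* Matrix.ProjectiveSpecialLinearGroup (Fin 2) F :=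
  QuotientGroup.mk' _

lemma pr_surjective : Function.Surjective (pr : _ →* Matrix.ProjectiveSpecialLinearGroup (Fin 2) F) :=
  QuotientGroup.mk'_surjective _

/-- two elements with the same image differ by a sign -/
lemma exists_smul_of_pr_eq {x y : SpecialLinearGroup (Fin 2) F} (h : pr x = pr y) :
    ∃ r : F, r ^ 2 = 1 ∧ y.1 = r • x.1 := by
  have h1 : x⁻¹ * y ∈ Subgroup.center (SpecialLinearGroup (Fin 2) F) := QuotientGroup.eq.1 h
  obtain ⟨r, hr, hr2⟩ := Matrix.SpecialLinearGroup.mem_center_iff.1 h1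
  refine ⟨r, by simpa using hr, ?_⟩
  have h2 : y = x * (x⁻¹ * y) := by group
  have h3 := congrArg Subtype.val h2
  rw [Matrix.SpecialLinearGroup.coe_mul, ← hr2] at h3
  rw [h3]
  simp [Matrix.scalar_apply, Matrix.smul_eq_mul_diagonal]

lemma pr_uu_injective {s t : F} (h : pr (uu s) = pr (uu t)) : s = t := by
  obtain ⟨r, hr, h1⟩ := exists_smul_of_pr_eq h
  have e00 := congrFun (congrFun h1 0) 0
  have e01 := congrFun (congrFun h1 0) 1
  simp at e00 e01
  rw [e01, ← e00, one_mul]

lemma pr_ll_injective {s t : F} (h : pr (ll s) = pr (ll t)) : s = t := by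
  obtain ⟨r, hr, h1⟩ := exists_smul_of_pr_eq h
  have e00 := congrFun (congrFun h1 0) 0
  have e10 := congrFun (congrFun h1 1) 0
  simp at e00 e10
  rw [e10, ← e00, one_mul]

lemma entry_of_pr_eq_ll {x : SpecialLinearGroup (Fin 2) F} {y : F} (h : pr x = pr (ll y)) :
    x.1 0 1 = 0 := by
  obtain ⟨r, hr, h1⟩ := exists_smul_of_pr_eq h
  have e01 := congrFun (congrFun h1 0) 1
  simp at e01
  rcases e01 with h | h
  · rw [h] at hr; simp at hr
  · exact h

lemma entry_of_pr_eq_uu {x : SpecialLinearGroup (Fin 2) F} {y : F} (h : pr x = pr (uu y)) :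
    x.1 1 0 = 0 := by
  obtain ⟨r, hr, h1⟩ := exists_smul_of_pr_eq h
  have e10 := congrFun (congrFun h1 1) 0
  simp at e10
  rcases e10 with h | h
  · rw [h] at hr; simp at hr
  · exact h

end Cfsg.Agent.Lib.Helper5.AutPSL2
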