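import Mathlib
import Cfsg.Agent.Lib.Helper5.AutPSL2Basic

set_option autoImplicit false
set_option linter.unusedSimpArgs false
set_option linter.unusedVariables false
set_option linter.unnecessarySeqFocus false
set_option linter.unusedSectionVars false

/-!
# The automorphisms of `PSL₂(F)` induced by `GL₂(F)` and by field automorphisms
-/

namespace Cfsg.Agent.Lib.Helper5.AutPSL2

open Matrix

section Generic

variable {G : Type*} [Group G]

/-- automorphisms of a group act on its central quotient -/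
noncomputable def desc : MulAut G →* MulAut (G ⧸ Subgroup.center G) where
  toFun := quotCenterCongr
  map_one' := by
    ext x
    obtain ⟨y, rfl⟩ := QuotientGroup.mk_surjective x
    rfl
  map_mul' a b := by
    ext x
    obtain ⟨y, rfl⟩ := QuotientGroup.mk_surjective x
    rfl

lemma desc_mk (e : MulAut G) (x : G) :
    desc e (QuotientGroup.mk x : G ⧸ Subgroup.center G) = QuotientGroup.mk (e x) := rfl

end Generic

variable {F : Type*} [Field F]

/-- conjugation by an element of `GL₂(F)` on `SL₂(F)` -/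
def conjS : GL (Fin 2) F →* MulAut (SpecialLinearGroup (Fin 2) F) where
  toFun g :=
    { toFun := fun x => ⟨g.1 * x.1 * (g⁻¹).1, by
        rw [Matrix.det_units_conj, x.2]⟩
      invFun := fun x => ⟨(g⁻¹).1 * x.1 * g.1, by
        rw [Matrix.det_units_conj', x.2]⟩
      left_inv := fun x => by
        apply Subtype.ext
        show (g⁻¹).1 * (g.1 * x.1 * (g⁻¹).1) * g.1 = x.1
        have h1 : (g⁻¹).1 * g.1 = 1 := by
          rw [← Units.val_mul, inv_mul_cancel]; rfl
        calc (g⁻¹).1 * (g.1 * x.1 * (g⁻¹).1) * g.1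
            = ((g⁻¹).1 * g.1) * x.1 * ((g⁻¹).1 * g.1) := by simp only [Matrix.mul_assoc]
          _ = x.1 := by rw [h1]; simp
      right_inv := fun x => by
        apply Subtype.ext
        show g.1 * ((g⁻¹).1 * x.1 * g.1) * (g⁻¹).1 = x.1
        have h1 : g.1 * (g⁻¹).1 = 1 := by
          rw [← Units.val_mul, mul_inv_cancel]; rfl
        calc g.1 * ((g⁻¹).1 * x.1 * g.1) * (g⁻¹).1
            = (g.1 * (g⁻¹).1) * x.1 * (g.1 * (g⁻¹).1) := by simp only [Matrix.mul_assoc]
          _ = x.1 := by rw [h1]; simp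
      map_mul' := fun x y => by
        apply Subtype.ext
        show g.1 * (x.1 * y.1) * (g⁻¹).1 = (g.1 * x.1 * (g⁻¹).1) * (g.1 * y.1 * (g⁻¹).1)
        have h1 : (g⁻¹).1 * g.1 = 1 := by
          rw [← Units.val_mul, inv_mul_cancel]; rfl
        calc g.1 * (x.1 * y.1) * (g⁻¹).1
            = g.1 * x.1 * (1 : Matrix (Fin 2) (Fin 2) F) * y.1 * (g⁻¹).1 := by
              simp only [Matrix.mul_assoc, Matrix.one_mul]
          _ = (g.1 * x.1 * (g⁻¹).1) * (g.1 * y.1 * (g⁻¹).1) := by
              rw [← h1]; simp only [Matrix.mul_assoc] }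
  map_one' := by
    refine MulEquiv.ext fun x => Subtype.ext ?_
    show ((1 : GL (Fin 2) F)).1 * x.1 * ((1 : GL (Fin 2) F)⁻¹).1 = x.1
    simp
  map_mul' g h := by
    refine MulEquiv.ext fun x => Subtype.ext ?_
    show (g * h).1 * x.1 * ((g * h)⁻¹).1 = g.1 * (h.1 * x.1 * (h⁻¹).1) * (g⁻¹).1
    rw [_root_.mul_inv_rev, Units.val_mul, Units.val_mul]
    simp only [Matrix.mul_assoc]

@[simp] lemma conjS_coe (g : GL (Fin 2) F) (x : SpecialLinearGroup (Fin 2) F) :
    (conjS g x).1 = g.1 * x.1 * (g⁻¹).1 := rfl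

/-- a field automorphism acting entrywise on `SL₂(F)` -/
def fieldS : (F ≃+* F) →* MulAut (SpecialLinearGroup (Fin 2) F) where
  toFun σ :=
    { toFun := Matrix.SpecialLinearGroup.map σ.toRingHom
      invFun := Matrix.SpecialLinearGroup.map σ.symm.toRingHom
      left_inv := fun x => by
        apply Subtype.ext
        ext i j
        simp
      right_inv := fun x => by
        apply Subtype.ext
        ext i j
        simp
      map_mul' := fun x y => map_mul _ x y }
  map_one' := by
    ext x i j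
    simp
  map_mul' σ τ := by
    ext x i j
    simp

@[simp] lemma fieldS_coe (σ : F ≃+* F) (x : SpecialLinearGroup (Fin 2) F) (i j : Fin 2) :
    (fieldS σ x).1 i j = σ (x.1 i j) := rfl

/-- the automorphism of `PSL₂(F)` induced by an element of `GL₂(F)` -/
noncomputable def Gam : GL (Fin 2) F →* MulAut (Matrix.ProjectiveSpecialLinearGroup (Fin 2) F) :=
  desc.comp conjS

/-- the automorphism of `PSL₂(F)` induced by a field automorphism -/
noncomputable def Phi : (F ≃+* F) →* MulAut (Matrix.ProjectiveSpecialLinearGroup (Fin 2) F) :=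
  desc.comp fieldS

lemma Gam_pr (g : GL (Fin 2) F) (x : SpecialLinearGroup (Fin 2) F) :
    Gam g (pr x) = pr (conjS g x) := rfl

lemma Phi_pr (σ : F ≃+* F) (x : SpecialLinearGroup (Fin 2) F) :
    Phi σ (pr x) = pr (fieldS σ x) := rfl

/-- inner automorphisms are induced by `GL₂` -/
lemma conj_pr (x : SpecialLinearGroup (Fin 2) F) :
    MulAut.conj (pr x) = Gam (Matrix.SpecialLinearGroup.toGL x) := by
  ext y
  obtain ⟨z, rfl⟩ := pr_surjective y
  rw [Gam_pr, MulAut.conj_apply, ← map_inv, ← map_mul, ← map_mul]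
  congr 1

/-- field automorphisms normalize the `GL₂`-automorphisms -/
lemma Phi_mul_Gam (σ : F ≃+* F) (h : GL (Fin 2) F) :
    Phi σ * Gam h = Gam (Matrix.GeneralLinearGroup.map σ.toRingHom h) * Phi σ := by
  ext y
  obtain ⟨z, rfl⟩ := pr_surjective y
  rw [MulAut.mul_apply, MulAut.mul_apply, Gam_pr, Phi_pr, Phi_pr, Gam_pr]
  congr 1
  apply Subtype.ext
  rw [conjS_coe, ← Matrix.GeneralLinearGroup.map_inv]
  show σ.toRingHom.mapMatrix (h.1 * z.1 * (h⁻¹).1) =
    σ.toRingHom.mapMatrix h.1 * σ.toRingHom.mapMatrix z.1 * σ.toRingHom.mapMatrix (h⁻¹).1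
  rw [map_mul, map_mul]

end Cfsg.Agent.Lib.Helper5.AutPSL2
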