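import Mathlib
import Cfsg.Agent.Lib.Helper5.AutPSL2Maps

set_option autoImplicit false
set_option linter.unusedSimpArgs false
set_option linter.unusedVariables false
set_option linter.unnecessarySeqFocus false
set_option linter.unusedSectionVars false

/-!
# The automorphisms of `PSL_n(F)` induced by `GL_n(F)`, by field automorphisms, and by
inverse-transpose
-/

namespace Cfsg.Agent.Lib.Helper5.AutPSLn

open Matrix

variable {ι : Type*} [Fintype ι] [DecidableEq ι] {F : Type*} [Field F]

/-- the projection `SL_n(F) → PSL_n(F)` -/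
def pr : SpecialLinearGroup ι F →* Matrix.ProjectiveSpecialLinearGroup ι F :=
  QuotientGroup.mk' _

lemma pr_surjective : Function.Surjective (pr : _ →* Matrix.ProjectiveSpecialLinearGroup ι F) :=
  QuotientGroup.mk'_surjective _

lemma pr_def (x : SpecialLinearGroup ι F) :
    pr x = (QuotientGroup.mk x : Matrix.ProjectiveSpecialLinearGroup ι F) := rfl

lemma sl_ext {x y : SpecialLinearGroup ι F} (h : x.1 = y.1) : x = y := Subtype.ext h

lemma val_mul (x y : SpecialLinearGroup ι F) : (x * y).1 = x.1 * y.1 := rfl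

lemma val_one : (1 : SpecialLinearGroup ι F).1 = 1 := rfl

/-- two elements with the same image differ by a scalar -/
lemma exists_smul_of_pr_eq {x y : SpecialLinearGroup ι F} (h : pr x = pr y) :
    ∃ r : F, r ^ Fintype.card ι = 1 ∧ y.1 = r • x.1 := by
  have h1 : x⁻¹ * y ∈ Subgroup.center (SpecialLinearGroup ι F) := QuotientGroup.eq.1 h
  obtain ⟨r, hr, hr2⟩ := Matrix.SpecialLinearGroup.mem_center_iff.1 h1
  refine ⟨r, hr, ?_⟩
  have h2 : y = x * (x⁻¹ * y) := by group
  have h3 := congrArg Subtype.val h2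
  rw [Matrix.SpecialLinearGroup.coe_mul, ← hr2] at h3
  rw [h3]
  simp [Matrix.scalar_apply, Matrix.smul_eq_mul_diagonal]

/-- conjugation by an element of `GL_n(F)` on `SL_n(F)` -/
def conjS : GL ι F →* MulAut (SpecialLinearGroup ι F) where
  toFun g :=
    { toFun := fun x => ⟨g.1 * x.1 * (g⁻¹).1, by
        rw [Matrix.det_units_conj, x.2]⟩
      invFun := fun x => ⟨(g⁻¹).1 * x.1 * g.1, by
        rw [Matrix.det_units_conj', x.2]⟩
      left_inv := fun x => by
        apply Subtype.ext
        show (g⁻¹).1 * (g.1 * x.1 * (g⁻¹).1) * g.1 = x.1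
        have h1 : (g⁻¹).1 * g.1 = 1 := by
          rw [← Units.val_mul, inv_mul_cancel]; rfl
        calc (g⁻¹).1 * (g.1 * x.1 * (g⁻¹).1) * g.1
            = ((g⁻¹).1 * g.1) * x.1 * ((g⁻¹).1 * g.1) := by simp only [Matrix.mul_assoc]
          _ = x.1 := by rw [h1]; simp
      right_inv := fun x => by
        apply Subtype.ext
        show g.1 * ((g⁻¹).1 * x.1 * g.1) * (g⁻¹).1 = x.1
        have h1 : g.1 * (g⁻¹).1 = 1 := by
          rw [← Units.val_mul, mul_inv_cancel]; rfl
        calc g.1 * ((g⁻¹).1 * x.1 * g.1) * (g⁻¹).1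
            = (g.1 * (g⁻¹).1) * x.1 * (g.1 * (g⁻¹).1) := by simp only [Matrix.mul_assoc]
          _ = x.1 := by rw [h1]; simp
      map_mul' := fun x y => by
        apply Subtype.ext
        show g.1 * (x.1 * y.1) * (g⁻¹).1 = (g.1 * x.1 * (g⁻¹).1) * (g.1 * y.1 * (g⁻¹).1)
        have h1 : (g⁻¹).1 * g.1 = 1 := by
          rw [← Units.val_mul, inv_mul_cancel]; rfl
        calc g.1 * (x.1 * y.1) * (g⁻¹).1
            = g.1 * x.1 * (1 : Matrix ι ι F) * y.1 * (g⁻¹).1 := by
              simp only [Matrix.mul_assoc, Matrix.one_mul]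
          _ = (g.1 * x.1 * (g⁻¹).1) * (g.1 * y.1 * (g⁻¹).1) := by
              rw [← h1]; simp only [Matrix.mul_assoc] }
  map_one' := by
    refine MulEquiv.ext fun x => Subtype.ext ?_
    show ((1 : GL ι F)).1 * x.1 * ((1 : GL ι F)⁻¹).1 = x.1
    simp
  map_mul' g h := by
    refine MulEquiv.ext fun x => Subtype.ext ?_
    show (g * h).1 * x.1 * ((g * h)⁻¹).1 = g.1 * (h.1 * x.1 * (h⁻¹).1) * (g⁻¹).1
    rw [_root_.mul_inv_rev, Units.val_mul, Units.val_mul]
    simp only [Matrix.mul_assoc]

@[simp] lemma conjS_coe (g : GL ι F) (x : SpecialLinearGroup ι F) :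
    (conjS g x).1 = g.1 * x.1 * (g⁻¹).1 := rfl

/-- a field automorphism acting entrywise on `SL_n(F)` -/
def fieldS : (F ≃+* F) →* MulAut (SpecialLinearGroup ι F) where
  toFun σ :=
    { toFun := Matrix.SpecialLinearGroup.map σ.toRingHom
      invFun := Matrix.SpecialLinearGroup.map σ.symm.toRingHom
      left_inv := fun x => by
        apply Subtype.ext
        ext i j
        simp
      right_inv := fun x => by
        apply Subtype.ext
        ext i j
        simp
      map_mul' := fun x y => map_mul _ x y }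
  map_one' := by
    ext x i j
    simp
  map_mul' σ τ := by
    ext x i j
    simp

@[simp] lemma fieldS_coe (σ : F ≃+* F) (x : SpecialLinearGroup ι F) (i j : ι) :
    (fieldS σ x).1 i j = σ (x.1 i j) := rfl

lemma fieldS_coe' (σ : F ≃+* F) (x : SpecialLinearGroup ι F) :
    (fieldS σ x).1 = x.1.map σ := rfl

lemma slT_mul (x y : SpecialLinearGroup ι F) :
    (x * y).transpose = y.transpose * x.transpose := by
  apply Subtype.ext
  simp [Matrix.SpecialLinearGroup.coe_transpose, Matrix.SpecialLinearGroup.coe_mul,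
    Matrix.transpose_mul]

lemma slT_one : (1 : SpecialLinearGroup ι F).transpose = 1 := by
  apply Subtype.ext
  simp [Matrix.SpecialLinearGroup.coe_transpose]

lemma slT_slT (x : SpecialLinearGroup ι F) : x.transpose.transpose = x := by
  apply Subtype.ext
  simp [Matrix.SpecialLinearGroup.coe_transpose]

lemma slT_inv (x : SpecialLinearGroup ι F) : (x.transpose)⁻¹ = (x⁻¹).transpose := by
  symm
  apply eq_inv_of_mul_eq_one_left
  rw [← slT_mul, mul_inv_cancel, slT_one]

/-- inverse transpose on `SL_n(F)` -/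
def invT : MulAut (SpecialLinearGroup ι F) where
  toFun x := (x⁻¹).transpose
  invFun x := (x⁻¹).transpose
  left_inv x := by
    show (((x⁻¹).transpose)⁻¹).transpose = x
    rw [slT_inv, inv_inv, slT_slT]
  right_inv x := by
    show (((x⁻¹).transpose)⁻¹).transpose = x
    rw [slT_inv, inv_inv, slT_slT]
  map_mul' x y := by
    show ((x * y)⁻¹).transpose = (x⁻¹).transpose * (y⁻¹).transpose
    rw [_root_.mul_inv_rev, slT_mul]

lemma invT_apply (x : SpecialLinearGroup ι F) : invT x = (x⁻¹).transpose := rfl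

lemma invT_coe (x : SpecialLinearGroup ι F) : (invT x).1 = ((x⁻¹).1)ᵀ := rfl

lemma invT_invT (x : SpecialLinearGroup ι F) : invT (invT x) = x := by
  show (((x⁻¹).transpose)⁻¹).transpose = x
  rw [slT_inv, inv_inv, slT_slT]

lemma invT_mul_self : (invT : MulAut (SpecialLinearGroup ι F)) * invT = 1 := by
  ext1 x
  exact invT_invT x

/-- the automorphism of `PSL_n(F)` induced by an element of `GL_n(F)` -/
noncomputable def Gam : GL ι F →* MulAut (Matrix.ProjectiveSpecialLinearGroup ι F) :=
  AutPSL2.desc.comp conjS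

/-- the automorphism of `PSL_n(F)` induced by a field automorphism -/
noncomputable def Phi : (F ≃+* F) →* MulAut (Matrix.ProjectiveSpecialLinearGroup ι F) :=
  AutPSL2.desc.comp fieldS

/-- the inverse-transpose automorphism of `PSL_n(F)` -/
noncomputable def Iota : MulAut (Matrix.ProjectiveSpecialLinearGroup ι F) :=
  AutPSL2.desc invT

lemma Gam_pr (g : GL ι F) (x : SpecialLinearGroup ι F) :
    Gam g (pr x) = pr (conjS g x) := rfl

lemma Phi_pr (σ : F ≃+* F) (x : SpecialLinearGroup ι F) :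
    Phi σ (pr x) = pr (fieldS σ x) := rfl

lemma Iota_pr (x : SpecialLinearGroup ι F) :
    Iota (pr x) = pr (invT x) := rfl

lemma Iota_mul_self : (Iota : MulAut (Matrix.ProjectiveSpecialLinearGroup ι F)) * Iota = 1 := by
  unfold Iota
  rw [← map_mul, invT_mul_self, map_one]

lemma Iota_inv : (Iota : MulAut (Matrix.ProjectiveSpecialLinearGroup ι F))⁻¹ = Iota :=
  inv_eq_of_mul_eq_one_right Iota_mul_self

/-- inner automorphisms are induced by `GL_n` -/
lemma conj_pr (x : SpecialLinearGroup ι F) :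
    MulAut.conj (pr x) = Gam (Matrix.SpecialLinearGroup.toGL x) := by
  ext y
  obtain ⟨z, rfl⟩ := pr_surjective y
  rw [Gam_pr, MulAut.conj_apply, ← map_inv, ← map_mul, ← map_mul]
  congr 1

/-- field automorphisms normalize the `GL_n`-automorphisms -/
lemma Phi_mul_Gam (σ : F ≃+* F) (h : GL ι F) :
    Phi σ * Gam h = Gam (Matrix.GeneralLinearGroup.map σ.toRingHom h) * Phi σ := by
  ext y
  obtain ⟨z, rfl⟩ := pr_surjective y
  rw [MulAut.mul_apply, MulAut.mul_apply, Gam_pr, Phi_pr, Phi_pr, Gam_pr]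
  congr 1
  apply Subtype.ext
  rw [conjS_coe, ← Matrix.GeneralLinearGroup.map_inv]
  show σ.toRingHom.mapMatrix (h.1 * z.1 * (h⁻¹).1) =
    σ.toRingHom.mapMatrix h.1 * σ.toRingHom.mapMatrix z.1 * σ.toRingHom.mapMatrix (h⁻¹).1
  rw [map_mul, map_mul]

/-- the inverse transpose of an invertible matrix -/
def glInvT : GL ι F →* GL ι F where
  toFun g := ⟨(g⁻¹).1ᵀ, g.1ᵀ, by
      rw [← Matrix.transpose_mul, ← Units.val_mul, mul_inv_cancel]; simp, by
      rw [← Matrix.transpose_mul, ← Units.val_mul, inv_mul_cancel]; simp⟩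
  map_one' := by
    apply Units.ext
    simp
  map_mul' g h := by
    apply Units.ext
    show ((g * h)⁻¹).1ᵀ = (g⁻¹).1ᵀ * (h⁻¹).1ᵀ
    rw [_root_.mul_inv_rev, Units.val_mul, Matrix.transpose_mul]

lemma glInvT_coe (g : GL ι F) : (glInvT g).1 = (g⁻¹).1ᵀ := rfl

lemma glInvT_inv_coe (g : GL ι F) : ((glInvT g)⁻¹).1 = g.1ᵀ := rfl

/-- inverse-transpose normalizes the `GL_n`-automorphisms -/
lemma Iota_mul_Gam (h : GL ι F) :
    Iota * Gam h = Gam (glInvT h) * Iota := by
  ext y
  obtain ⟨z, rfl⟩ := pr_surjective y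
  rw [MulAut.mul_apply, MulAut.mul_apply, Gam_pr, Iota_pr, Iota_pr, Gam_pr]
  congr 1
  apply Subtype.ext
  rw [conjS_coe, invT_coe, invT_coe, glInvT_coe, glInvT_inv_coe, ← map_inv, conjS_coe]
  rw [Matrix.transpose_mul, Matrix.transpose_mul, Matrix.mul_assoc]

/-- inverse-transpose commutes with field automorphisms -/
lemma Iota_mul_Phi (σ : F ≃+* F) :
    Iota * Phi σ = Phi σ * (Iota : MulAut (Matrix.ProjectiveSpecialLinearGroup ι F)) := by
  ext y
  obtain ⟨z, rfl⟩ := pr_surjective y
  rw [MulAut.mul_apply, MulAut.mul_apply, Phi_pr, Iota_pr, Iota_pr, Phi_pr]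
  congr 1
  apply Subtype.ext
  rw [invT_coe, ← map_inv]
  ext i j
  rfl

end Cfsg.Agent.Lib.Helper5.AutPSLn
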