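import Cfsg.Agent.Lib.Helper99.UnitaryTI2
import Cfsg.Agent.Lib.Helper99.SURoot5
import Cfsg.Agent.S0781

set_option autoImplicit false

/-!
Simplicity of `PSU_n(q)` from generation by transvections (Iwasawa's argument on isotropic points).
-/

namespace Cfsg.Agent.Lib.Helper5.PSUS

open Matrix Cfsg.Agent.Lib.Helper99 Cfsg.Agent.Lib.Helper99.SURoot

set_option linter.unusedSectionVars false

variable {F : Type*} [Field F] [Fintype F] {q : ℕ} (n : ℕ)

local notation "hh" => Cfsg.hermForm n F q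

/-- the embedding into `GL` -/
def toGL : ↥(Cfsg.SU n F q) →* GL (Fin n) F :=
  (Matrix.SpecialLinearGroup.toGL).comp (Subgroup.subtype _)

theorem toGL_coe (g : ↥(Cfsg.SU n F q)) :
    ((toGL n g : GL (Fin n) F) : Matrix (Fin n) (Fin n) F) = mat n g := rfl

theorem toGL_injective : Function.Injective (toGL (F := F) (q := q) n) := by
  intro g h hgh
  apply Subtype.ext
  apply Subtype.ext
  have := congrArg (fun x : GL (Fin n) F => (x : Matrix (Fin n) (Fin n) F)) hgh
  exact this

theorem mem_suGL_iff (g : GL (Fin n) F) : g ∈ suGL (F := F) n q ↔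
    g ∈ Cfsg.GU n F q ∧ g ∈ Cfsg.Geo.specialLinear (Fin n) F := Subgroup.mem_inf

theorem range_toGL : (toGL (F := F) (q := q) n).range = suGL (F := F) n q := by
  ext g
  rw [mem_suGL_iff, Helper13.mem_GU_iff, mem_specialLinear_iff]
  constructor
  · rintro ⟨a, rfl⟩
    refine ⟨fun u v => a.2 u v, ?_⟩
    rw [toGL_coe]
    exact (a : Matrix.SpecialLinearGroup (Fin n) F).2
  · rintro ⟨h1, h2⟩
    refine ⟨⟨⟨(g : Matrix (Fin n) (Fin n) F), h2⟩, fun u v => h1 u v⟩, ?_⟩
    apply Units.ext
    rfl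

/-- the stabilizer of the point `⟨p⟩` -/
def stab (p : Fin n → F) : Subgroup ↥(Cfsg.SU n F q) :=
  (Cfsg.Geo.subspaceStabilizer (Submodule.span F {p})).comap (toGL n)

theorem mem_stab (p : Fin n → F) (g : ↥(Cfsg.SU n F q)) :
    g ∈ stab n p ↔ ∃ l : F, mat n g *ᵥ p = l • p := by
  unfold stab
  rw [Subgroup.mem_comap]
  constructor
  · intro h
    rw [mem_subspaceStabilizer_iff] at h
    have h1 := (h p).1 (Submodule.mem_span_singleton_self p)
    rw [Submodule.mem_span_singleton] at h1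
    obtain ⟨l, hl⟩ := h1
    exact ⟨l, hl.symm⟩
  · rintro ⟨l, hl⟩
    apply mem_subspaceStabilizer_of_forall
    intro v hv
    rw [Submodule.mem_span_singleton] at hv ⊢
    obtain ⟨a, rfl⟩ := hv
    refine ⟨a * l, ?_⟩
    rw [toGL_coe, mulVec_smul, hl, smul_smul]

theorem map_stab (p : Fin n → F) : (stab (q := q) n p).map (toGL n) =
    Cfsg.Geo.subspaceStabilizer (Submodule.span F {p}) ⊓ suGL (F := F) n q := by
  unfold stab
  rw [Subgroup.map_comap_eq, range_toGL, inf_comm]

/-- the stabilizer of an isotropic point is a maximal subgroup -/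
theorem stab_max (hF : Fintype.card F = q ^ 2) (p : Fin n → F) (hp0 : p ≠ 0) (hp : hh p p = 0)
    (M : Subgroup ↥(Cfsg.SU n F q)) (hM : stab n p ≤ M) : M = stab n p ∨ M = ⊤ := by
  have hW0 : Submodule.span F {p} ≠ ⊥ := by
    rw [Ne, Submodule.span_singleton_eq_bot]
    exact hp0
  have hW : Cfsg.Geo.IsTotallySingularFor (Cfsg.hermForm n F q) (Submodule.span F {p}) := by
    intro u hu v hv
    rw [Submodule.mem_span_singleton] at hu hv
    obtain ⟨a, rfl⟩ := hu
    obtain ⟨b, rfl⟩ := hv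
    rw [hf_smul_left, hf_smul_right, hp, mul_zero, mul_zero]
  have hmax := uti_stabilizer_isMaximalIn hF _ hW0 hW
  have h1 : Cfsg.Geo.subspaceStabilizer (Submodule.span F {p}) ⊓
      (Cfsg.GU n F q ⊓ Cfsg.Geo.specialLinear (Fin n) F) ≤ M.map (toGL n) := by
    have := Subgroup.map_mono (f := toGL n) hM
    rw [map_stab] at this
    exact this
  have h2 : M.map (toGL n) ≤ Cfsg.GU n F q ⊓ Cfsg.Geo.specialLinear (Fin n) F := by
    have := Subgroup.map_mono (f := toGL n) (le_top : M ≤ ⊤)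
    rw [← MonoidHom.range_eq_map, range_toGL] at this
    exact this
  rcases hmax.2 _ h1 h2 with h | h
  · left
    apply Subgroup.map_injective (toGL_injective n)
    rw [h, map_stab]
    rfl
  · right
    apply Subgroup.map_injective (toGL_injective n)
    rw [h, ← MonoidHom.range_eq_map, range_toGL]
    rfl

/-- transitivity on isotropic points -/
theorem exists_move (hF : Fintype.card F = q ^ 2) (p r : Fin n → F) (hp0 : p ≠ 0) (hr0 : r ≠ 0)
    (hp : hh p p = 0) (hr : hh r r = 0) :
    ∃ (g : ↥(Cfsg.SU n F q)) (l : F), l ≠ 0 ∧ mat n g *ᵥ p = l • r := by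
  have hts : ∀ (x : Fin n → F), hh x x = 0 → ∀ u ∈ Submodule.span F {x},
      ∀ v ∈ Submodule.span F {x}, hh u v = 0 := by
    intro x hx u hu v hv
    rw [Submodule.mem_span_singleton] at hu hv
    obtain ⟨a, rfl⟩ := hu
    obtain ⟨b, rfl⟩ := hv
    rw [hf_smul_left, hf_smul_right, hx, mul_zero, mul_zero]
  have hfp : Module.finrank F (Submodule.span F {p}) = 1 := finrank_span_singleton hp0
  have hfr : Module.finrank F (Submodule.span F {r}) = 1 := finrank_span_singleton hr0
  obtain ⟨t, ht, htW⟩ := utv_transitive_ti hF 1 (Submodule.span F {p}) (Submodule.span F {r})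
    (hts p hp) (hts r hr) (by rw [hfp, hfr]) (by rw [hfp]; omega)
  have ht' : t ∈ (toGL (F := F) (q := q) n).range := by
    rw [range_toGL]
    exact utvGroup_le_suGL hF ht
  obtain ⟨g, rfl⟩ := ht'
  have h1 := htW p (Submodule.mem_span_singleton_self p)
  rw [Submodule.mem_span_singleton] at h1
  obtain ⟨l, hl⟩ := h1
  refine ⟨g, l, ?_, hl.symm⟩
  rintro rfl
  rw [zero_smul, toGL_coe] at hl
  exact mulVec_ne_zero n g p hp0 hl.symm

theorem le_stab_of_normal (hF : Fintype.card F = q ^ 2) (N : Subgroup ↥(Cfsg.SU n F q))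
    (hNn : N.Normal) (p r : Fin n → F) (hp0 : p ≠ 0) (hr0 : r ≠ 0)
    (hp : hh p p = 0) (hr : hh r r = 0) (hN : N ≤ stab n p) : N ≤ stab n r := by
  intro x hx
  obtain ⟨g, l, hl, hg⟩ := exists_move n hF p r hp0 hr0 hp hr
  have h1 : g⁻¹ * x * g ∈ N := by
    have := hNn.conj_mem x hx g⁻¹
    rw [inv_inv] at this
    exact this
  obtain ⟨a, ha⟩ := (mem_stab n p _).1 (hN h1)
  rw [mem_stab]
  refine ⟨a, ?_⟩
  have h2 : mat n x *ᵥ (mat n g *ᵥ p) = a • (mat n g *ᵥ p) := by
    have := congrArg (fun v => mat n g *ᵥ v) ha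
    rw [su_mul_mulVec, su_mul_mulVec, su_mulVec_inv_mulVec, mulVec_smul] at this
    exact this
  rw [hg, mulVec_smul, smul_comm] at h2
  exact smul_right_injective _ hl h2

/-- an element fixing all isotropic points acts on each by a scalar of norm one -/
theorem scalar_norm (hF : Fintype.card F = q ^ 2) (x : ↥(Cfsg.SU n F q))
    (hx : ∀ r : Fin n → F, r ≠ 0 → hh r r = 0 → ∃ a : F, mat n x *ᵥ r = a • r)
    (r : Fin n → F) (hr0 : r ≠ 0) (hr : hh r r = 0) (a : F) (ha : mat n x *ᵥ r = a • r) :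
    a ^ (q + 1) = 1 := by
  obtain ⟨s, hs, hsr⟩ := exists_isotropic_not_orth n hF r hr0 hr
  have hrs : hh r s ≠ 0 := not_orth_symm n hF hsr
  have hs0 : s ≠ 0 := by
    rintro rfl
    exact hsr (hermForm_zero_left r)
  obtain ⟨ε, hε0, hε⟩ := exists_trace_zero hF
  obtain ⟨α, hα⟩ : ∃ α : F, α = ε / hh s r := ⟨_, rfl⟩
  have hαs : α * hh s r = ε := by
    rw [hα, div_mul_cancel₀ _ hsr]
  have hα0 : α ≠ 0 := by rw [hα]; exact div_ne_zero hε0 hsr
  obtain ⟨t, ht⟩ : ∃ t : Fin n → F, t = r + α • s := ⟨_, rfl⟩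
  have htt : hh t t = 0 := by
    rw [ht, hf_add_left, hf_add_right n hF, hf_add_right n hF, hr, hf_smul_left, hf_smul_left,
      hf_smul_right, hf_smul_right, hs, ← hf_conj n hF s r]
    have : α ^ q * hh s r ^ q = ε ^ q := by rw [← mul_pow, hαs]
    linear_combination hε + this + hαs
  have htr : hh t r = ε := by
    rw [ht, hf_add_left, hr, hf_smul_left, hαs, zero_add]
  have ht0 : t ≠ 0 := by
    intro h0
    rw [h0, hermForm_zero_left] at htr
    exact hε0 htr.symm
  obtain ⟨b, hb⟩ := hx s hs0 hs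
  obtain ⟨d, hd⟩ := hx t ht0 htt
  have hlin : d • r + (d * α) • s = a • r + (α * b) • s := by
    have : mat n x *ᵥ t = a • r + (α * b) • s := by
      rw [ht, mulVec_add, mulVec_smul, ha, hb, smul_smul]
    rw [← this, hd, ht, smul_add, smul_smul]
  have hda : d = a := by
    have := congrArg (fun z => hh z s) hlin
    simp only [hf_add_left, hf_smul_left, hs, mul_zero, add_zero] at this
    exact mul_right_cancel₀ hrs this
  have hdb : d = b := by
    have := congrArg (fun z => hh z r) hlin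
    simp only [hf_add_left, hf_smul_left, hr, mul_zero, zero_add] at this
    have h2 : d * (α * hh s r) = b * (α * hh s r) := by linear_combination this
    rw [hαs] at h2
    exact mul_right_cancel₀ hε0 h2
  have hpres := su_preserves n x s r
  rw [hb, ha, hf_smul_left, hf_smul_right] at hpres
  have hab : b * a ^ q = 1 := by
    have : (b * a ^ q) * hh s r = 1 * hh s r := by linear_combination hpres
    exact mul_right_cancel₀ hsr this
  rw [pow_succ, mul_comm, ← hab, ← hdb, hda]

theorem commute_tvElt (hF : Fintype.card F = q ^ 2) (x : ↥(Cfsg.SU n F q))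
    (hx : ∀ r : Fin n → F, r ≠ 0 → hh r r = 0 → ∃ a : F, mat n x *ᵥ r = a • r)
    (r : Fin n → F) (hr0 : r ≠ 0) (hr : hh r r = 0) (c : F) (hc : c + c ^ q = 0) :
    x * tvElt n hF r c = tvElt n hF r c * x := by
  obtain ⟨a, ha⟩ := hx r hr0 hr
  have h1 := conj_elt n hF x r hr c hc
  rw [ha, elt_smul n hF a r hr c hc, scalar_norm n hF x hx r hr0 hr a ha, mul_one] at h1
  exact mul_inv_eq_iff_eq_mul.1 h1

/-- the generating set of statement S0780 -/
def genSet (n q : ℕ) (F : Type*) [Field F] : Set ↥(Cfsg.SU n F q) :=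
  {A : ↥(Cfsg.SU n F q) | ∃ (v : Fin n → F) (c : F), Cfsg.hermForm n F q v v = 0 ∧
    ((A : Matrix.SpecialLinearGroup (Fin n) F) : Matrix (Fin n) (Fin n) F) =
      Cfsg.unitaryTransvection n q v c}

theorem gen_cases (hF : Fintype.card F = q ^ 2) (A : ↥(Cfsg.SU n F q)) (hA : A ∈ genSet n q F) :
    A = 1 ∨ ∃ (v : Fin n → F) (c : F), v ≠ 0 ∧ hh v v = 0 ∧ c + c ^ q = 0 ∧
      A = tvElt n hF v c := by
  obtain ⟨v, c, hv0, hA⟩ := hA
  by_cases htriv : v = 0 ∨ c = 0
  · left
    have h1 : ((A : Matrix.SpecialLinearGroup (Fin n) F) : Matrix (Fin n) (Fin n) F) = 1 := by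
      rw [hA]
      unfold Cfsg.unitaryTransvection
      rcases htriv with rfl | rfl
      · simp
      · simp
    apply Subtype.ext
    apply Subtype.ext
    exact h1
  · right
    push Not at htriv
    obtain ⟨hvne, hcne⟩ := htriv
    have hc : c + c ^ q = 0 := by
      obtain ⟨x, hx⟩ : ∃ x, Cfsg.hermForm n F q x v ≠ 0 := exists_not_orth n hF v hvne
      have h1 := su_preserves n A x x
      unfold mat at h1
      rw [hA, Helper13.hermForm_unitaryTransvection hF n v hv0] at h1
      have h2 : (c + c ^ q) * (Cfsg.hermForm n F q x v * Cfsg.hermForm n F q v x) = 0 := by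
        linear_combination h1
      have hx' : Cfsg.hermForm n F q v x ≠ 0 := not_orth_symm n hF hx
      rcases mul_eq_zero.1 h2 with h | h
      · exact h
      · exact absurd h (mul_ne_zero hx hx')
    refine ⟨v, c, hvne, hv0, hc, ?_⟩
    apply su_ext
    intro x
    rw [tvElt_mulVec n hF v hv0 c hc]
    unfold mat
    rw [hA, Helper13.unitaryTransvection_mulVec]

theorem mem_center_of_fix (hF : Fintype.card F = q ^ 2)
    (hgen : Subgroup.closure (genSet n q F) = ⊤) (x : ↥(Cfsg.SU n F q))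
    (hx : ∀ r : Fin n → F, r ≠ 0 → hh r r = 0 → ∃ a : F, mat n x *ᵥ r = a • r) :
    x ∈ Subgroup.center ↥(Cfsg.SU n F q) := by
  have hle : Subgroup.closure (genSet n q F) ≤
      Subgroup.centralizer ({x} : Set ↥(Cfsg.SU n F q)) := by
    rw [Subgroup.closure_le]
    intro A hA
    show A ∈ Subgroup.centralizer _
    rw [Subgroup.mem_centralizer_iff]
    intro y hy
    rw [Set.mem_singleton_iff] at hy
    subst hy
    rcases gen_cases n hF A hA with rfl | ⟨v, c, hv0, hv, hc, rfl⟩
    · rw [mul_one, one_mul]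
    · exact commute_tvElt n hF y hx v hv0 hv c hc
  rw [Subgroup.mem_center_iff]
  intro g
  have hg : g ∈ Subgroup.centralizer ({x} : Set ↥(Cfsg.SU n F q)) := by
    apply hle
    rw [hgen]
    exact Subgroup.mem_top g
  rw [Subgroup.mem_centralizer_iff] at hg
  exact (hg x rfl).symm

/-- perfectness from generation and S0781 -/
theorem commutator_eq_top (hF : Fintype.card F = q ^ 2) (hn : 4 ≤ n ∨ (n = 3 ∧ 3 ≤ q))
    (hgen : Subgroup.closure (genSet n q F) = ⊤) :
    commutator ↥(Cfsg.SU n F q) = ⊤ := by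
  rw [eq_top_iff, ← hgen, Subgroup.closure_le]
  rintro A ⟨v, c, hv, hA⟩
  have := Cfsg.Agent.S0781.result hF n hn A v c hv hA
  rw [commutator_eq_closure]
  exact Subgroup.subset_closure this

theorem div_norm_trace_zero (hF : Fintype.card F = q ^ 2) (c l : F) (hc : c + c ^ q = 0) :
    c / l ^ (q + 1) + (c / l ^ (q + 1)) ^ q = 0 := by
  rw [div_pow, norm_pow hF, trace_zero_pow c hc]
  ring

/-- conjugating a transvection of `p` by an element of the stabilizer of `⟨p⟩` -/
theorem conj_mem_root_of_stab (hF : Fintype.card F = q ^ 2) (p : Fin n → F) (hp0 : p ≠ 0)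
    (hp : hh p p = 0) (s : ↥(Cfsg.SU n F q)) (hs : s ∈ stab n p) (c : F) (hc : c + c ^ q = 0) :
    s * tvElt n hF p c * s⁻¹ ∈ root n q p := by
  obtain ⟨b, hb⟩ := (mem_stab n p s).1 hs
  rw [conj_elt n hF s p hp c hc, hb, elt_smul n hF b p hp c hc]
  exact elt_mem_root n hF p hp0 hp _ (mul_norm_trace_zero hF c b hc)

/-- Iwasawa's lemma for `SU_n(q)`: a normal subgroup is central or everything. -/
theorem normal_le_center_or_top (hF : Fintype.card F = q ^ 2) (hn : 4 ≤ n ∨ (n = 3 ∧ 3 ≤ q))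
    (hgen : Subgroup.closure (genSet n q F) = ⊤) (N : Subgroup ↥(Cfsg.SU n F q))
    (hN : N.Normal) : N ≤ Subgroup.center ↥(Cfsg.SU n F q) ∨ N = ⊤ := by
  obtain ⟨m, rfl⟩ : ∃ m, n = m + 2 := ⟨n - 2, by omega⟩
  obtain ⟨p, hp0, hp⟩ := exists_isotropic m hF
  rcases stab_max (m + 2) hF p hp0 hp (N ⊔ stab (m + 2) p) le_sup_right with h | h
  · left
    have hNp : N ≤ stab (m + 2) p := by rw [← h]; exact le_sup_left
    intro x hx
    apply mem_center_of_fix (m + 2) hF hgen x
    intro r hr0 hr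
    exact (mem_stab (m + 2) r x).1 (le_stab_of_normal (m + 2) hF N hN p r hp0 hr0 hp hr hNp hx)
  · right
    have hsup : N ⊔ root (m + 2) q p = ⊤ := by
      rw [eq_top_iff, ← hgen, Subgroup.closure_le]
      intro A hA
      rcases gen_cases (m + 2) hF A hA with rfl | ⟨v, c, hv0, hv, hc, rfl⟩
      · exact Subgroup.one_mem _
      · obtain ⟨g, l, hl, hg⟩ := exists_move (m + 2) hF p v hp0 hv0 hp hv
        have hgm : g ∈ N ⊔ stab (m + 2) p := by rw [h]; exact Subgroup.mem_top g
        rw [← SetLike.mem_coe, Subgroup.normal_mul] at hgm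
        obtain ⟨a, ha, s, hs, rfl⟩ := hgm
        have hc' := div_norm_trace_zero hF c l hc
        have hl' : l ^ (q + 1) ≠ 0 := pow_ne_zero _ hl
        have e1 : tvElt (m + 2) hF v c = (a * s) * tvElt (m + 2) hF p (c / l ^ (q + 1)) *
            (a * s)⁻¹ := by
          rw [conj_elt (m + 2) hF (a * s) p hp _ hc', hg, elt_smul (m + 2) hF l v hv _ hc',
            div_mul_cancel₀ _ hl']
        have e2 : (a * s) * tvElt (m + 2) hF p (c / l ^ (q + 1)) * (a * s)⁻¹ =
            a * (s * tvElt (m + 2) hF p (c / l ^ (q + 1)) * s⁻¹) * a⁻¹ := by group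
        show tvElt (m + 2) hF v c ∈ N ⊔ root (m + 2) q p
        rw [e1, e2]
        have h1 : a ∈ N ⊔ root (m + 2) q p := Subgroup.mem_sup_left ha
        have h2 : s * tvElt (m + 2) hF p (c / l ^ (q + 1)) * s⁻¹ ∈ N ⊔ root (m + 2) q p :=
          Subgroup.mem_sup_right (conj_mem_root_of_stab (m + 2) hF p hp0 hp s hs _ hc')
        exact Subgroup.mul_mem _ (Subgroup.mul_mem _ h1 h2) (Subgroup.inv_mem _ h1)
    have hcomm := hN.commutator_le_of_self_sup_commutative_eq_top hsup
      (root_commutative (m + 2) hF p hp0 hp)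
    rw [commutator_eq_top (m + 2) hF hn hgen] at hcomm
    exact top_le_iff.1 hcomm

/-- a group in which every normal subgroup is central or everything, with non-central elements,
has a simple central quotient -/
theorem isSimpleGroup_quot_center {G : Type*} [Group G]
    (key : ∀ N : Subgroup G, N.Normal → N ≤ Subgroup.center G ∨ N = ⊤)
    (hcne : Subgroup.center G ≠ ⊤) : IsSimpleGroup (G ⧸ Subgroup.center G) := by
  have hnt : Nontrivial (G ⧸ Subgroup.center G) := by
    obtain ⟨g, hg⟩ : ∃ g : G, g ∉ Subgroup.center G := by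
      by_contra hcon
      push Not at hcon
      exact hcne (eq_top_iff.2 (fun g _ => hcon g))
    refine ⟨⟨(g : G ⧸ Subgroup.center G), 1, ?_⟩⟩
    intro h1
    exact hg ((QuotientGroup.eq_one_iff g).1 h1)
  refine @IsSimpleGroup.mk _ _ hnt ?_
  intro H hH
  have hN : (H.comap (QuotientGroup.mk' (Subgroup.center G))).Normal := hH.comap _
  rcases key _ hN with h1 | h1
  · left
    rw [eq_bot_iff]
    intro x hx
    obtain ⟨g, rfl⟩ := QuotientGroup.mk_surjective x
    have hg : g ∈ H.comap (QuotientGroup.mk' (Subgroup.center G)) := hx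
    rw [Subgroup.mem_bot]
    exact (QuotientGroup.eq_one_iff g).2 (h1 hg)
  · right
    rw [eq_top_iff]
    intro x _
    obtain ⟨g, rfl⟩ := QuotientGroup.mk_surjective x
    have hg : g ∈ H.comap (QuotientGroup.mk' (Subgroup.center G)) := by
      rw [h1]; exact Subgroup.mem_top g
    exact hg

/-- `PSU_n(q)` is simple, given generation of `SU_n(q)` by transvections (statement S0780). -/
theorem psu_simple (hF : Fintype.card F = q ^ 2) (hn : 3 ≤ n) (h : ¬ (n = 3 ∧ q = 2))
    (hgen : Subgroup.closure (genSet n q F) = ⊤) : IsSimpleGroup (Cfsg.PSU n F q) := by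
  have hq := q_ge_two hF
  have hn' : 4 ≤ n ∨ (n = 3 ∧ 3 ≤ q) := by
    by_cases h4 : 4 ≤ n
    · exact Or.inl h4
    · right
      have h3 : n = 3 := by omega
      refine ⟨h3, ?_⟩
      by_contra hq3
      exact h ⟨h3, by omega⟩
  apply isSimpleGroup_quot_center (normal_le_center_or_top n hF hn' hgen)
  intro hc
  have hcomm : commutator ↥(Cfsg.SU n F q) = ⊥ := by
    rw [eq_bot_iff, commutator_def, Subgroup.commutator_le]
    intro a _ b _
    rw [Subgroup.mem_bot, commutatorElement_eq_one_iff_mul_comm]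
    have : b ∈ Subgroup.center ↥(Cfsg.SU n F q) := by rw [hc]; exact Subgroup.mem_top b
    exact (Subgroup.mem_center_iff.1 this a)
  rw [commutator_eq_top n hF hn' hgen] at hcomm
  obtain ⟨m, rfl⟩ : ∃ m, n = m + 2 := ⟨n - 2, by omega⟩
  obtain ⟨p, hp0, hp⟩ := exists_isotropic m hF
  apply root_ne_bot (m + 2) hF p hp0 hp
  rw [eq_bot_iff, ← hcomm]
  exact le_top

end Cfsg.Agent.Lib.Helper5.PSUS
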