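import Mathlib
import Cfsg.Agent.Lib.Helper5.PSUSimple
import Cfsg.Agent.Lib.Helper5.AutPSLnMaps
import Cfsg.Agent.Lib.Helper5.UnitaryCard
import Cfsg.Agent.S0279

set_option autoImplicit false
set_option linter.unusedSimpArgs false
set_option linter.unusedVariables false
set_option linter.unnecessarySeqFocus false
set_option linter.unusedSectionVars false
set_option linter.style.haveILetI false

/-!
# The automorphisms of `PSU_n(q)` induced by `GU_n(q)` and by field automorphisms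
-/

namespace Cfsg.Agent.Lib.Helper5.AutPSU

open Matrix Cfsg.Agent.Lib.Helper99 Cfsg.Agent.Lib.Helper99.SURoot

variable {F : Type*} [Field F] [Fintype F] {q n : ℕ}

/-- the projection `SU_n(q) → PSU_n(q)` -/
def pr : ↥(Cfsg.SU n F q) →* Cfsg.PSU n F q := QuotientGroup.mk' _

lemma pr_surjective : Function.Surjective (pr : ↥(Cfsg.SU n F q) →* Cfsg.PSU n F q) :=
  QuotientGroup.mk'_surjective _

lemma pr_def (x : ↥(Cfsg.SU n F q)) : pr x = (QuotientGroup.mk x : Cfsg.PSU n F q) := rfl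

lemma pr_eq_iff {x y : ↥(Cfsg.SU n F q)} :
    pr x = pr y ↔ x⁻¹ * y ∈ Subgroup.center ↥(Cfsg.SU n F q) := QuotientGroup.eq

lemma pr_eq_one_iff {x : ↥(Cfsg.SU n F q)} :
    pr x = 1 ↔ x ∈ Subgroup.center ↥(Cfsg.SU n F q) :=
  QuotientGroup.eq_one_iff x

lemma mem_SU_iff' (x : Matrix.SpecialLinearGroup (Fin n) F) :
    x ∈ Cfsg.SU n F q ↔ ∀ u v, Cfsg.hermForm n F q (x.1 *ᵥ u) (x.1 *ᵥ v) =
      Cfsg.hermForm n F q u v := Iff.rfl

/-- central elements of `SU_n(q)` are scalars of norm one -/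
lemma exists_scalar_of_mem_center (hF : Fintype.card F = q ^ 2) (hn : 3 ≤ n)
    {z : ↥(Cfsg.SU n F q)} (hz : z ∈ Subgroup.center ↥(Cfsg.SU n F q)) :
    ∃ ν : F, ν * ν ^ q = 1 ∧ ∀ v : Fin n → F, mat n z *ᵥ v = ν • v := by
  obtain ⟨a, ha, ha1⟩ := Cfsg.Agent.Lib.Helper5.exists_norm_one_ne_one hF
  have ha0 : a ≠ 0 := by
    rintro rfl
    rw [zero_pow (by omega)] at ha
    exact zero_ne_one ha
  have hanorm : a * a ^ q = 1 := by rw [← pow_succ']; exact ha
  have hcomm : ∀ B ∈ Cfsg.SU n F q, B * z.1 = z.1 * B := by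
    intro B hB
    have := Subgroup.mem_center_iff.mp hz ⟨B, hB⟩
    exact congrArg Subtype.val this
  have hsc := Cfsg.Agent.S0279.scalar_of_commute hn a ha0 ha1 hanorm z.1 hcomm
  set l : F := (z.1 : Matrix (Fin n) (Fin n) F) ⟨0, by omega⟩ ⟨0, by omega⟩ with hl
  have hAeq : (mat n z) = l • (1 : Matrix (Fin n) (Fin n) F) := by
    ext i j
    show (z.1 : Matrix (Fin n) (Fin n) F) i j = _
    rw [hsc i j, Matrix.smul_apply, Matrix.one_apply, smul_eq_mul]
    split_ifs <;> simp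
  refine ⟨l, ?_, ?_⟩
  · have h1 := z.2 (Pi.single ⟨0, by omega⟩ 1) (Pi.single ⟨0, by omega⟩ 1)
    have h2 : (Cfsg.slToMat n F z.1) = mat n z := rfl
    rw [h2, hAeq, Matrix.smul_mulVec, Matrix.one_mulVec, hf_smul_left, hf_smul_right,
      hermForm_single_right hF] at h1
    simpa using h1
  · intro v
    rw [hAeq, Matrix.smul_mulVec, Matrix.one_mulVec]

/-- an element of `SU_n(q)` acting as a scalar is central -/
lemma mem_center_of_scalar {z : ↥(Cfsg.SU n F q)} {ν : F}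
    (hz : ∀ v : Fin n → F, mat n z *ᵥ v = ν • v) : z ∈ Subgroup.center ↥(Cfsg.SU n F q) := by
  rw [Subgroup.mem_center_iff]
  intro g
  apply su_ext
  intro v
  rw [su_mul_mulVec, su_mul_mulVec, hz, hz, Matrix.mulVec_smul]

/-- two elements with the same image differ by a scalar -/
lemma exists_smul_of_pr_eq (hF : Fintype.card F = q ^ 2) (hn : 3 ≤ n)
    {x y : ↥(Cfsg.SU n F q)} (h : pr x = pr y) :
    ∃ ν : F, ν * ν ^ q = 1 ∧ ∀ v : Fin n → F, mat n y *ᵥ v = ν • (mat n x *ᵥ v) := by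
  obtain ⟨ν, hν, hz⟩ := exists_scalar_of_mem_center hF hn (pr_eq_iff.1 h)
  refine ⟨ν, hν, fun v => ?_⟩
  have h2 : y = x * (x⁻¹ * y) := by group
  rw [h2, su_mul_mulVec, hz, Matrix.mulVec_smul]

lemma pr_eq_of_smul {x y : ↥(Cfsg.SU n F q)} {ν : F}
    (h : ∀ v : Fin n → F, mat n y *ᵥ v = ν • (mat n x *ᵥ v)) : pr x = pr y := by
  rw [pr_eq_iff]
  apply mem_center_of_scalar (ν := ν)
  intro v
  rw [su_mul_mulVec, h, Matrix.mulVec_smul, su_inv_mulVec_mulVec]

/-! ### Conjugation by `GU` -/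

lemma conj_mem_SU (g : ↥(Cfsg.GU n F q)) (x : ↥(Cfsg.SU n F q)) :
    AutPSLn.conjS g.1 x.1 ∈ Cfsg.SU n F q := by
  rw [mem_SU_iff']
  intro u v
  rw [AutPSLn.conjS_coe, ← Matrix.mulVec_mulVec, ← Matrix.mulVec_mulVec, ← Matrix.mulVec_mulVec,
    ← Matrix.mulVec_mulVec]
  rw [GU_preserves g.2]
  have := x.2 ((g.1⁻¹).1 *ᵥ u) ((g.1⁻¹).1 *ᵥ v)
  rw [show (Cfsg.slToMat n F x.1) = x.1.1 from rfl] at this
  rw [this]
  exact GU_preserves (inv_mem g.2) u v

/-- conjugation by an element of `GU_n(q)` on `SU_n(q)` -/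
def conjU : ↥(Cfsg.GU n F q) →* MulAut ↥(Cfsg.SU n F q) where
  toFun g :=
    { toFun := fun x => ⟨AutPSLn.conjS g.1 x.1, conj_mem_SU g x⟩
      invFun := fun x => ⟨AutPSLn.conjS (g⁻¹).1 x.1, conj_mem_SU g⁻¹ x⟩
      left_inv := fun x => by
        apply Subtype.ext
        show AutPSLn.conjS (g⁻¹).1 (AutPSLn.conjS g.1 x.1) = x.1
        rw [← MulAut.mul_apply, ← map_mul]
        simp
      right_inv := fun x => by
        apply Subtype.ext
        show AutPSLn.conjS g.1 (AutPSLn.conjS (g⁻¹).1 x.1) = x.1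
        rw [← MulAut.mul_apply, ← map_mul]
        simp
      map_mul' := fun x y => by
        apply Subtype.ext
        show AutPSLn.conjS g.1 (x.1 * y.1) = AutPSLn.conjS g.1 x.1 * AutPSLn.conjS g.1 y.1
        exact map_mul _ _ _ }
  map_one' := by
    ext x : 1
    apply Subtype.ext
    show AutPSLn.conjS (1 : ↥(Cfsg.GU n F q)).1 x.1 = x.1
    simp
  map_mul' g h := by
    ext x : 1
    apply Subtype.ext
    show AutPSLn.conjS (g * h).1 x.1 = AutPSLn.conjS g.1 (AutPSLn.conjS h.1 x.1)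
    rw [← MulAut.mul_apply, ← map_mul]
    rfl

lemma conjU_mat (g : ↥(Cfsg.GU n F q)) (x : ↥(Cfsg.SU n F q)) :
    mat n (conjU g x) = g.1.1 * mat n x * (g.1⁻¹).1 := rfl

lemma conjU_mulVec (g : ↥(Cfsg.GU n F q)) (x : ↥(Cfsg.SU n F q)) (v : Fin n → F) :
    mat n (conjU g x) *ᵥ v = g.1.1 *ᵥ (mat n x *ᵥ ((g.1⁻¹).1 *ᵥ v)) := by
  rw [conjU_mat, ← Matrix.mulVec_mulVec, ← Matrix.mulVec_mulVec]

/-! ### Field automorphisms -/

lemma herm_map (σ : F ≃+* F) (u v : Fin n → F) :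
    Cfsg.hermForm n F q (fun i => σ (u i)) (fun i => σ (v i)) = σ (Cfsg.hermForm n F q u v) := by
  unfold Cfsg.hermForm
  rw [map_sum]
  exact Finset.sum_congr rfl (fun i _ => by rw [map_mul, map_pow])

lemma map_mulVec' (σ : F ≃+* F) (A : Matrix (Fin n) (Fin n) F) (v : Fin n → F) :
    (A.map σ) *ᵥ (fun i => σ (v i)) = fun i => σ ((A *ᵥ v) i) := by
  funext i
  simp only [Matrix.mulVec, dotProduct, Matrix.map_apply, map_sum, map_mul]

lemma field_mem_SU (σ : F ≃+* F) (x : ↥(Cfsg.SU n F q)) :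
    AutPSLn.fieldS σ x.1 ∈ Cfsg.SU n F q := by
  rw [mem_SU_iff']
  intro u v
  rw [AutPSLn.fieldS_coe']
  have hu : u = fun i => σ (σ.symm (u i)) := by funext i; simp
  have hv : v = fun i => σ (σ.symm (v i)) := by funext i; simp
  rw [hu, hv, map_mulVec', map_mulVec', herm_map, herm_map]
  congr 1
  exact x.2 _ _

/-- a field automorphism acting entrywise on `SU_n(q)` -/
def fieldU : (F ≃+* F) →* MulAut ↥(Cfsg.SU n F q) where
  toFun σ :=
    { toFun := fun x => ⟨AutPSLn.fieldS σ x.1, field_mem_SU σ x⟩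
      invFun := fun x => ⟨AutPSLn.fieldS σ⁻¹ x.1, field_mem_SU σ⁻¹ x⟩
      left_inv := fun x => by
        apply Subtype.ext
        show AutPSLn.fieldS σ⁻¹ (AutPSLn.fieldS σ x.1) = x.1
        rw [← MulAut.mul_apply, ← map_mul]
        simp
      right_inv := fun x => by
        apply Subtype.ext
        show AutPSLn.fieldS σ (AutPSLn.fieldS σ⁻¹ x.1) = x.1
        rw [← MulAut.mul_apply, ← map_mul]
        simp
      map_mul' := fun x y => by
        apply Subtype.ext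
        show AutPSLn.fieldS σ (x.1 * y.1) = AutPSLn.fieldS σ x.1 * AutPSLn.fieldS σ y.1
        exact map_mul _ _ _ }
  map_one' := by
    ext x : 1
    apply Subtype.ext
    show AutPSLn.fieldS (1 : F ≃+* F) x.1 = x.1
    simp
  map_mul' σ τ := by
    ext x : 1
    apply Subtype.ext
    show AutPSLn.fieldS (σ * τ) x.1 = AutPSLn.fieldS σ (AutPSLn.fieldS τ x.1)
    rw [← MulAut.mul_apply, ← map_mul]

lemma fieldU_mat (σ : F ≃+* F) (x : ↥(Cfsg.SU n F q)) :
    mat n (fieldU σ x) = (mat n x).map σ := rfl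

lemma fieldU_mulVec (σ : F ≃+* F) (x : ↥(Cfsg.SU n F q)) (v : Fin n → F) :
    mat n (fieldU σ x) *ᵥ (fun i => σ (v i)) = fun i => σ ((mat n x *ᵥ v) i) := by
  rw [fieldU_mat, map_mulVec']

/-- the automorphism of `PSU_n(q)` induced by an element of `GU_n(q)` -/
noncomputable def GamU : ↥(Cfsg.GU n F q) →* MulAut (Cfsg.PSU n F q) :=
  AutPSL2.desc.comp conjU

/-- the automorphism of `PSU_n(q)` induced by a field automorphism -/
noncomputable def PhiU : (F ≃+* F) →* MulAut (Cfsg.PSU n F q) :=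
  AutPSL2.desc.comp fieldU

lemma GamU_pr (g : ↥(Cfsg.GU n F q)) (x : ↥(Cfsg.SU n F q)) :
    GamU g (pr x) = pr (conjU g x) := rfl

lemma PhiU_pr (σ : F ≃+* F) (x : ↥(Cfsg.SU n F q)) :
    PhiU σ (pr x) = pr (fieldU σ x) := rfl

/-- the inclusion of `SU_n(q)` into `GU_n(q)` -/
def toGU : ↥(Cfsg.SU n F q) →* ↥(Cfsg.GU n F q) where
  toFun x := ⟨Matrix.SpecialLinearGroup.toGL x.1, fun u v => x.2 u v⟩
  map_one' := by
    apply Subtype.ext
    simp
  map_mul' x y := by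
    apply Subtype.ext
    simp

lemma toGU_val (x : ↥(Cfsg.SU n F q)) : ((toGU x).1 : Matrix (Fin n) (Fin n) F) = mat n x := rfl

/-- inner automorphisms are induced by `GU_n(q)` -/
lemma conj_pr (x : ↥(Cfsg.SU n F q)) : MulAut.conj (pr x) = GamU (toGU x) := by
  ext y
  obtain ⟨z, rfl⟩ := pr_surjective y
  rw [GamU_pr, MulAut.conj_apply, ← map_inv, ← map_mul, ← map_mul]
  congr 1

end Cfsg.Agent.Lib.Helper5.AutPSU
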