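import Mathlib
import Cfsg.Agent.Lib.Helper6.Nc.Defs
set_option autoImplicit false
namespace Cfsg.Agent.Lib.Helper6.Nc
open Matrix
variable {F : Type*} [Field F]

/-- NC-COUNT. -/
theorem nc_count {n : ℕ} {Gh : Subgroup (GL (Fin n) F)} {AA : Finset (Subgroup (GL (Fin n) F))}
    (h : MinNilCover Gh AA) (P : GL (Fin n) F → Prop) {ι : Type*} [Fintype ι]
    (B : ι → Subgroup (GL (Fin n) F)) (hBZ : ∀ i, Subgroup.center (GL (Fin n) F) ≤ B i)
    (hBp : ∀ i, ¬ Gh ≤ B i) (hBc : ∀ g ∈ Gh, P g → ∃ i, g ∈ B i)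
    (f : Option ι → Subgroup (GL (Fin n) F)) (hf : Function.Injective f) (hfA : ∀ x, f x ∈ AA)
    (hfP : ∀ x, ∀ g ∈ f x, P g) : False := by
  classical
  set S := AA.filter (fun A => ∃ g ∈ A, ¬ P g) with hS
  set T := (Finset.univ : Finset ι).image B with hT
  have hcov : UpCover Gh (T ∪ S) := by
    refine ⟨?_, ?_, ?_⟩
    · intro A hA
      rcases Finset.mem_union.mp hA with hA | hA
      · obtain ⟨i, _, rfl⟩ := Finset.mem_image.mp hA
        exact hBZ i
      · exact h.cover.center_le A (Finset.mem_filter.mp hA).1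
    · intro A hA
      rcases Finset.mem_union.mp hA with hA | hA
      · obtain ⟨i, _, rfl⟩ := Finset.mem_image.mp hA
        exact hBp i
      · exact h.cover.proper A (Finset.mem_filter.mp hA).1
    · intro g hg
      by_cases hP : P g
      · obtain ⟨i, hi⟩ := hBc g hg hP
        exact ⟨B i, Finset.mem_union_left _ (Finset.mem_image_of_mem B (Finset.mem_univ i)), hi⟩
      · obtain ⟨A, hA, hgA⟩ := h.cover.covers g hg
        exact ⟨A, Finset.mem_union_right _ (Finset.mem_filter.mpr ⟨hA, g, hgA, hP⟩), hgA⟩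
  have h1 : AA.card ≤ (T ∪ S).card := h.minimal _ hcov
  have hTc : T.card ≤ Fintype.card ι := by
    rw [hT]
    exact Finset.card_image_le.trans (le_of_eq Finset.card_univ)
  have h2 : (T ∪ S).card ≤ T.card + S.card := Finset.card_union_le _ _
  set U := (Finset.univ : Finset (Option ι)).image f with hU
  have hUc : U.card = Fintype.card ι + 1 := by
    rw [hU, Finset.card_image_of_injective _ hf, Finset.card_univ, Fintype.card_option]
  have hdisj : Disjoint U S := by
    rw [Finset.disjoint_left]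
    intro A hAU hAS
    obtain ⟨x, _, rfl⟩ := Finset.mem_image.mp hAU
    obtain ⟨_, g, hg, hnP⟩ := Finset.mem_filter.mp hAS
    exact hnP (hfP x g hg)
  have hsub : U ∪ S ⊆ AA := by
    intro A hA
    rcases Finset.mem_union.mp hA with hA | hA
    · obtain ⟨x, _, rfl⟩ := Finset.mem_image.mp hA
      exact hfA x
    · exact (Finset.mem_filter.mp hA).1
  have h3 : U.card + S.card ≤ AA.card := by
    rw [← Finset.card_union_of_disjoint hdisj]
    exact Finset.card_le_card hsub
  omega

end Cfsg.Agent.Lib.Helper6.Nc
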