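import Mathlib
import Cfsg.Agent.Lib.Helper5.AutPSL2Maps

set_option autoImplicit false
set_option linter.unusedSimpArgs false
set_option linter.unusedVariables false
set_option linter.unnecessarySeqFocus false
set_option linter.unusedSectionVars false

/-!
# Normalized automorphisms of `PSL₂(F)` are field automorphisms
-/

namespace Cfsg.Agent.Lib.Helper5.AutPSL2

open Matrix

variable {F : Type*} [Field F]

lemma conj_uu_entry (g : SpecialLinearGroup (Fin 2) F) :
    (g * uu 1 * g⁻¹).1 0 1 = (g.1 0 0) ^ 2 := by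
  rw [Matrix.SpecialLinearGroup.coe_mul, Matrix.SpecialLinearGroup.coe_mul,
    Matrix.SpecialLinearGroup.coe_inv, Matrix.adjugate_fin_two]
  simp [Matrix.mul_apply, Fin.sum_univ_two]
  ring

lemma ulu_entry (a b : F) : (uu a * ll b * uu a).1 0 0 = 1 + a * b := by
  simp [Matrix.SpecialLinearGroup.coe_mul, Matrix.mul_apply, Fin.sum_univ_two]

lemma fieldS_uu (σ : F ≃+* F) (t : F) : fieldS σ (uu t) = uu (σ t) := by
  apply sl_ext <;> simp

lemma fieldS_ll (σ : F ≃+* F) (t : F) : fieldS σ (ll t) = ll (σ t) := by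
  apply sl_ext <;> simp

lemma sq_surjective_of_two_eq_zero [Finite F] (h2 : (2 : F) = 0) (x : F) : ∃ y : F, y ^ 2 = x := by
  have inj : Function.Injective (fun y : F => y ^ 2) := by
    intro a b h
    simp only at h
    have h3 : (a - b) ^ 2 = 0 := by linear_combination h + (b ^ 2 - a * b) * h2
    have h4 : a - b = 0 := by simpa using h3
    exact sub_eq_zero.1 h4
  exact Finite.surjective_of_injective inj x

/-- An automorphism of `PSL₂(F)` which maps the upper and lower unitriangular groups to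
themselves and fixes the image of `u(1)` is induced by a field automorphism. -/
theorem eq_Phi_of_normalized [Finite F]
    (α : MulAut (Matrix.ProjectiveSpecialLinearGroup (Fin 2) F))
    (hU : ∀ t : F, ∃ s : F, α (pr (uu t)) = pr (uu s))
    (hL : ∀ t : F, ∃ s : F, α (pr (ll t)) = pr (ll s))
    (h1 : α (pr (uu 1)) = pr (uu 1)) :
    ∃ σ : F ≃+* F, α = Phi σ := by
  choose σ hσ using hU
  choose τ hτ using hL
  have σ_add : ∀ s t, σ (s + t) = σ s + σ t := by
    intro s t
    apply pr_uu_injective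
    rw [← hσ, uu_add, map_mul, map_mul, hσ, hσ, ← map_mul, ← uu_add]
  have τ_add : ∀ s t, τ (s + t) = τ s + τ t := by
    intro s t
    apply pr_ll_injective
    rw [← hτ, ll_add, map_mul, map_mul, hτ, hτ, ← map_mul, ← ll_add]
  have σ_one : σ 1 = 1 := pr_uu_injective (by rw [← hσ, h1])
  have σ_zero : σ 0 = 0 := by
    have := σ_add 0 0
    simpa using this
  have τ_zero : τ 0 = 0 := by
    have := τ_add 0 0
    simpa using this
  have σ_inj : Function.Injective σ := by
    intro s t hst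
    apply pr_uu_injective
    apply α.injective
    rw [hσ, hσ, hst]
  have σ_ne : ∀ t, t ≠ 0 → σ t ≠ 0 := fun t ht h => ht (σ_inj (h.trans σ_zero.symm))
  -- the monomial relation
  have hαw : ∀ t, α (pr (ww t)) = pr (uu (σ t) * ll (τ (-t⁻¹)) * uu (σ t)) := by
    intro t
    unfold ww
    rw [map_mul, map_mul, map_mul, map_mul, hσ, hτ, map_mul, map_mul]
  have key1 : ∀ t, t ≠ 0 → 1 + σ t * τ (-t⁻¹) = 0 := by
    intro t ht
    obtain ⟨g, hg⟩ : ∃ g, g = uu (σ t) * ll (τ (-t⁻¹)) * uu (σ t) := ⟨_, rfl⟩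
    have h2 : α (pr (ww t * uu 1)) = α (pr (ll (-1 * (t⁻¹) ^ 2) * ww t)) := by
      rw [ww_mul_uu ht]
    rw [map_mul, map_mul, map_mul, map_mul, hαw, h1, hτ, ← hg] at h2
    have h3 : pr (g * uu 1 * g⁻¹) = pr (ll (τ (-1 * (t⁻¹) ^ 2))) := by
      rw [map_mul, map_mul, h2, map_inv]
      simp
    have h4 := entry_of_pr_eq_ll h3
    rw [conj_uu_entry, hg, ulu_entry] at h4
    simpa using h4
  have τ_val : ∀ t, t ≠ 0 → τ (-t⁻¹) = -(σ t)⁻¹ := by
    intro t ht
    have h := key1 t ht
    have h0 := σ_ne t ht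
    generalize τ (-t⁻¹) = y at h ⊢
    field_simp
    linear_combination h
  have key2 : ∀ t, t ≠ 0 → α (pr (ww t)) = pr (ww (σ t)) := by
    intro t ht
    rw [hαw, τ_val t ht]
    rfl
  have key3 : ∀ t, t ≠ 0 → α (pr (hh t)) = pr (hh (σ t)) := by
    intro t ht
    unfold hh
    rw [map_mul, map_mul, map_inv, map_inv, key2 t ht, key2 1 one_ne_zero, σ_one, map_mul, map_inv]
  have key4 : ∀ t s, σ (t ^ 2 * s) = (σ t) ^ 2 * σ s := by
    intro t s
    by_cases ht : t = 0
    · subst ht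
      simp [σ_zero]
    have h := congrArg (fun x => α (pr x)) (hh_mul_uu ht s)
    simp only [map_mul] at h
    rw [key3 t ht, hσ, hσ, ← map_mul, hh_mul_uu (σ_ne t ht), map_mul] at h
    exact (pr_uu_injective (mul_right_cancel h)).symm
  have σ_sq : ∀ t, σ (t ^ 2) = (σ t) ^ 2 := by
    intro t
    have := key4 t 1
    simpa [σ_one] using this
  have σ_mul : ∀ x y, σ (x * y) = σ x * σ y := by
    intro x y
    by_cases h2 : (2 : F) = 0
    · obtain ⟨z, rfl⟩ := sq_surjective_of_two_eq_zero h2 x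
      rw [key4, σ_sq]
    · have e1 := key4 (x + 1) y
      have e2 := key4 x y
      have e3 : (x + 1) ^ 2 * y = x ^ 2 * y + (x * y + x * y) + y := by ring
      rw [e3, σ_add, σ_add, σ_add, σ_add x 1, σ_one, e2] at e1
      have e4 : 2 * σ (x * y) = 2 * (σ x * σ y) := by linear_combination e1
      exact mul_left_cancel₀ h2 e4
  let σh : F →+* F :=
    { toFun := σ, map_one' := σ_one, map_mul' := σ_mul, map_zero' := σ_zero, map_add' := σ_add }
  let σR : F ≃+* F := RingEquiv.ofBijective σh ⟨σ_inj, Finite.surjective_of_injective σ_inj⟩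
  have σR_apply : ∀ x, σR x = σ x := fun x => rfl
  have τ_eq : ∀ s, τ s = σ s := by
    intro s
    by_cases hs : s = 0
    · subst hs
      rw [τ_zero, σ_zero]
    have ht : -s⁻¹ ≠ 0 := neg_ne_zero.2 (inv_ne_zero hs)
    have h := τ_val (-s⁻¹) ht
    have e1 : -(-s⁻¹)⁻¹ = s := by field_simp
    have e2 : σ (-s⁻¹) = -(σ s)⁻¹ := by
      rw [← σR_apply, ← σR_apply, map_neg, map_inv₀]
    rw [e1, e2] at h
    rw [h]
    have h0 := σ_ne s hs
    field_simp
  refine ⟨σR, ?_⟩
  have hcomp : α.toMonoidHom.comp pr = (Phi σR).toMonoidHom.comp pr := by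
    apply MonoidHom.eq_of_eqOn_dense closure_uu_ll
    rintro _ (⟨t, rfl⟩ | ⟨t, rfl⟩)
    · show α (pr (uu t)) = Phi σR (pr (uu t))
      rw [hσ, Phi_pr, fieldS_uu, σR_apply]
    · show α (pr (ll t)) = Phi σR (pr (ll t))
      rw [hτ, Phi_pr, fieldS_ll, σR_apply, τ_eq]
  apply MulEquiv.ext
  intro y
  obtain ⟨x, rfl⟩ := pr_surjective y
  exact DFunLike.congr_fun hcomp x

end Cfsg.Agent.Lib.Helper5.AutPSL2
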