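import Mathlib
import Cfsg.Agent.Lib.Helper5.AutPSL2Field
import Cfsg.Agent.Lib.Helper38.SLCard

set_option autoImplicit false
set_option linter.unusedSimpArgs false
set_option linter.unusedVariables false
set_option linter.unnecessarySeqFocus false
set_option linter.unusedSectionVars false

/-!
# Every automorphism of `PSL₂(F)` is induced by `ΓL₂(F)`
-/

namespace Cfsg.Agent.Lib.Helper5.AutPSL2

open Matrix
open scoped Pointwise

variable {F : Type*} [Field F]

/-- `t ↦ u(t)` as a homomorphism -/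
def uuHom : Multiplicative F →* SpecialLinearGroup (Fin 2) F where
  toFun t := uu (Multiplicative.toAdd t)
  map_one' := uu_zero
  map_mul' s t := uu_add _ _

/-- the image of the upper unitriangular group in `PSL₂(F)` -/
def Usub : Subgroup (Matrix.ProjectiveSpecialLinearGroup (Fin 2) F) := (pr.comp uuHom).range

lemma mem_Usub {x : Matrix.ProjectiveSpecialLinearGroup (Fin 2) F} :
    x ∈ Usub ↔ ∃ t : F, pr (uu t) = x := by
  constructor
  · rintro ⟨t, rfl⟩
    exact ⟨Multiplicative.toAdd t, rfl⟩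
  · rintro ⟨t, rfl⟩
    exact ⟨Multiplicative.ofAdd t, rfl⟩

lemma card_Usub [Finite F] : Nat.card (Usub : Subgroup (Matrix.ProjectiveSpecialLinearGroup (Fin 2) F))
    = Nat.card F := by
  have hinj : Function.Injective (pr.comp (uuHom (F := F))) := by
    intro s t h
    have := pr_uu_injective (F := F) h
    exact Multiplicative.toAdd.injective this
  rw [Usub, ← Nat.card_congr (MonoidHom.ofInjective hinj).toEquiv]
  exact Nat.card_congr Multiplicative.toAdd

lemma uu_comm (r s : F) : uu r * uu s = uu s * uu r := by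
  rw [← uu_add, ← uu_add, add_comm]

lemma dg_inv {a : F} (ha : a ≠ 0) : (dg a ha)⁻¹ = dg a⁻¹ (inv_ne_zero ha) := by
  apply inv_eq_of_mul_eq_one_right
  apply Units.ext
  ext i j
  fin_cases i <;> fin_cases j <;> simp [dg, Matrix.mul_apply, Fin.sum_univ_two, ha]

lemma conjS_dg_uu {a : F} (ha : a ≠ 0) (t : F) : conjS (dg a ha) (uu t) = uu (a * t) := by
  apply Subtype.ext
  rw [conjS_coe, dg_inv ha]
  ext i j
  fin_cases i <;> fin_cases j <;> simp [dg, Matrix.mul_apply, Fin.sum_univ_two, ha]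

lemma conjS_dg_ll {a : F} (ha : a ≠ 0) (t : F) : conjS (dg a ha) (ll t) = ll (a⁻¹ * t) := by
  apply Subtype.ext
  rw [conjS_coe, dg_inv ha]
  ext i j
  fin_cases i <;> fin_cases j <;> simp [dg, Matrix.mul_apply, Fin.sum_univ_two, ha, mul_comm]

section Finite

variable [Fintype F]

instance : Finite (SpecialLinearGroup (Fin 2) F) := by
  classical
  exact Finite.of_fintype _

lemma Usub_isPGroup (p : ℕ) [Fact p.Prime] [CharP F p] : IsPGroup p (Usub : Subgroup (Matrix.ProjectiveSpecialLinearGroup (Fin 2) F)) := by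
  obtain ⟨n, hn⟩ := FiniteField.card F p
  apply IsPGroup.of_card (n := (n : ℕ))
  rw [card_Usub, Nat.card_eq_fintype_card, hn.2]

lemma Usub_index_not_dvd (p : ℕ) [Fact p.Prime] [CharP F p] :
    ¬ p ∣ (Usub : Subgroup (Matrix.ProjectiveSpecialLinearGroup (Fin 2) F)).index := by
  obtain ⟨n, hp, hn⟩ := FiniteField.card F p
  intro hdvd
  have h1 := Subgroup.index_mul_card (Usub : Subgroup (Matrix.ProjectiveSpecialLinearGroup (Fin 2) F))
  have h2 := Subgroup.card_eq_card_quotient_mul_card_subgroup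
    (Subgroup.center (SpecialLinearGroup (Fin 2) F))
  have h3 := Cfsg.Agent.Lib.Helper38.card_SL2 (F := F)
  rw [card_Usub, Nat.card_eq_fintype_card] at h1
  set q := Fintype.card F with hq
  have hq2 : 2 ≤ q := Fintype.one_lt_card
  -- index * q * |Z| = q * (q^2 - 1)
  have h4 : (Usub : Subgroup (Matrix.ProjectiveSpecialLinearGroup (Fin 2) F)).index *
      Nat.card (Subgroup.center (SpecialLinearGroup (Fin 2) F)) = q ^ 2 - 1 := by
    have h5 : q * ((Usub : Subgroup (Matrix.ProjectiveSpecialLinearGroup (Fin 2) F)).index *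
        Nat.card (Subgroup.center (SpecialLinearGroup (Fin 2) F))) = q * (q ^ 2 - 1) := by
      rw [← h3, h2]
      show _ = Nat.card (Matrix.ProjectiveSpecialLinearGroup (Fin 2) F) * _
      rw [← h1]
      ring
    exact Nat.eq_of_mul_eq_mul_left (by omega) h5
  have h6 : p ∣ q ^ 2 - 1 := h4 ▸ Dvd.dvd.mul_right hdvd _
  have h7 : p ∣ q := hn ▸ dvd_pow_self p n.ne_zero
  have h8 : p ∣ q ^ 2 := Dvd.dvd.mul_right h7 _ |> fun h => by rw [pow_two]; exact h
  have h9 : 1 ≤ q ^ 2 := Nat.one_le_pow _ _ (by omega)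
  have h10 : p ∣ 1 := by
    have := (Nat.dvd_sub h8 h6)
    rwa [Nat.sub_sub_self h9] at this
  exact hp.one_lt.ne' (Nat.dvd_one.1 h10)

/-- Every automorphism of `PSL₂(F)` is a product of one induced by `GL₂(F)` and one induced by
a field automorphism. -/
theorem exists_Gam_Phi (p : ℕ) [Fact p.Prime] [CharP F p] (α : MulAut (Matrix.ProjectiveSpecialLinearGroup (Fin 2) F)) :
    ∃ (g : GL (Fin 2) F) (σ : F ≃+* F), α = Gam g * Phi σ := by
  have hmul : ∀ (h : GL (Fin 2) F) (β : MulAut (Matrix.ProjectiveSpecialLinearGroup (Fin 2) F)),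
      (∃ (g : GL (Fin 2) F) (σ : F ≃+* F), β = Gam g * Phi σ) →
      ∃ (g : GL (Fin 2) F) (σ : F ≃+* F), Gam h * β = Gam g * Phi σ := by
    rintro h _ ⟨g, σ, rfl⟩
    exact ⟨h * g, σ, by rw [map_mul, mul_assoc]⟩
  -- Step 1: Sylow
  let P : Sylow p (Matrix.ProjectiveSpecialLinearGroup (Fin 2) F) :=
    (Usub_isPGroup p).toSylow (Usub_index_not_dvd p)
  obtain ⟨g0, hg0⟩ := MulAction.exists_smul_eq (Matrix.ProjectiveSpecialLinearGroup (Fin 2) F)
    (α • P) P
  obtain ⟨α1, hα1def⟩ : ∃ α1, α1 = MulAut.conj g0 * α := ⟨_, rfl⟩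
  have hα1P : α1 • (Usub : Subgroup (Matrix.ProjectiveSpecialLinearGroup (Fin 2) F)) = Usub := by
    have h := congrArg (fun Q : Sylow p (Matrix.ProjectiveSpecialLinearGroup (Fin 2) F) => Q.toSubgroup) hg0
    simp only [Sylow.smul_def, Sylow.pointwise_smul_def] at h
    rw [hα1def, mul_smul]
    exact h
  have hα1 : ∀ x, α1 x ∈ (Usub : Subgroup (Matrix.ProjectiveSpecialLinearGroup (Fin 2) F)) ↔
      x ∈ Usub := by
    intro x
    constructor
    · intro hx
      rw [← hα1P] at hx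
      obtain ⟨y, hy, hyx⟩ := hx
      have : y = x := α1.injective hyx
      exact this ▸ hy
    · intro hx
      rw [← hα1P]
      exact ⟨x, hx, rfl⟩
  have hα1U : ∀ t : F, ∃ s : F, α1 (pr (uu t)) = pr (uu s) := by
    intro t
    obtain ⟨s, hs⟩ := mem_Usub.1 ((hα1 _).2 (mem_Usub.2 ⟨t, rfl⟩))
    exact ⟨s, hs.symm⟩
  -- Step 2: the opposite unipotent group
  obtain ⟨x0, hx0⟩ := pr_surjective (α1 (pr (ww 1)))
  have hll : ∀ t : F, ll t = ww 1 * uu (-t) * (ww 1)⁻¹ := by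
    intro t
    rw [ww_mul_uu one_ne_zero]
    simp
  have hα1L : ∀ t : F, ∃ s : F, α1 (pr (ll t)) = pr (x0 * uu s * x0⁻¹) := by
    intro t
    obtain ⟨s, hs⟩ := hα1U (-t)
    refine ⟨s, ?_⟩
    rw [hll, map_mul, map_mul, map_mul, map_mul, map_inv, map_inv, hs, ← hx0, map_mul, map_mul,
      map_inv]
  have hc : x0.1 1 0 ≠ 0 := by
    intro hc
    obtain ⟨s, hs⟩ := hα1L 1
    have h1 : x0 * uu s * x0⁻¹ = uu ((x0.1 0 0) ^ 2 * s) := by
      rw [mul_uu_of_lower_zero x0 hc]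
      group
    rw [h1] at hs
    have h2 : pr (ll (1 : F)) ∈ (Usub : Subgroup (Matrix.ProjectiveSpecialLinearGroup (Fin 2) F)) :=
      (hα1 _).1 (mem_Usub.2 ⟨_, hs.symm⟩)
    obtain ⟨s', hs'⟩ := mem_Usub.1 h2
    have h3 := entry_of_pr_eq_uu hs'.symm
    simp at h3
  obtain ⟨r, hr⟩ : ∃ r : F, r = -(x0.1 0 0) / (x0.1 1 0) := ⟨_, rfl⟩
  obtain ⟨y0, hy0⟩ : ∃ y0, y0 = uu r * x0 := ⟨_, rfl⟩
  have hy00 : y0.1 0 0 = 0 := by
    rw [hy0, hr]
    simp [Matrix.SpecialLinearGroup.coe_mul, Matrix.mul_apply, Fin.sum_univ_two]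
    field_simp
    ring
  obtain ⟨α2, hα2def⟩ : ∃ α2, α2 = MulAut.conj (pr (uu r)) * α1 := ⟨_, rfl⟩
  have hα2U : ∀ t : F, ∃ s : F, α2 (pr (uu t)) = pr (uu s) := by
    intro t
    obtain ⟨s, hs⟩ := hα1U t
    refine ⟨s, ?_⟩
    rw [hα2def, MulAut.mul_apply, hs, MulAut.conj_apply, ← map_inv, ← map_mul, ← map_mul,
      uu_comm r s, mul_assoc, mul_inv_cancel, mul_one]
  have hα2L : ∀ t : F, ∃ s : F, α2 (pr (ll t)) = pr (ll s) := by
    intro t
    obtain ⟨s, hs⟩ := hα1L t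
    refine ⟨-(y0.1 1 0) ^ 2 * s, ?_⟩
    rw [hα2def, MulAut.mul_apply, hs, MulAut.conj_apply, ← map_inv, ← map_mul, ← map_mul]
    congr 1
    have h1 : uu r * (x0 * uu s * x0⁻¹) * (uu r)⁻¹ = y0 * uu s * y0⁻¹ := by
      rw [hy0]; group
    rw [h1, mul_uu_of_zero y0 hy00]
    group
  -- Step 3: normalize `u(1)`
  obtain ⟨a1, ha1⟩ := hα2U 1
  have ha10 : a1 ≠ 0 := by
    rintro rfl
    rw [uu_zero, map_one] at ha1
    have h1 : pr (uu (1 : F)) = 1 := by
      apply α2.injective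
      rw [ha1, map_one]
    rw [← map_one pr, ← uu_zero] at h1
    exact one_ne_zero (pr_uu_injective h1)
  obtain ⟨α3, hα3def⟩ : ∃ α3, α3 = Gam (dg a1 ha10)⁻¹ * α2 := ⟨_, rfl⟩
  have hα3U : ∀ t : F, α3 (pr (uu t)) = Gam (dg a1 ha10)⁻¹ (α2 (pr (uu t))) := by
    intro t; rw [hα3def]; rfl
  have hα3L : ∀ t : F, α3 (pr (ll t)) = Gam (dg a1 ha10)⁻¹ (α2 (pr (ll t))) := by
    intro t; rw [hα3def]; rfl
  have hα3 : ∃ σ : F ≃+* F, α3 = Phi σ := by
    apply eq_Phi_of_normalized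
    · intro t
      obtain ⟨s, hs⟩ := hα2U t
      refine ⟨a1⁻¹ * s, ?_⟩
      rw [hα3U, hs, dg_inv, Gam_pr, conjS_dg_uu]
    · intro t
      obtain ⟨s, hs⟩ := hα2L t
      refine ⟨a1⁻¹⁻¹ * s, ?_⟩
      rw [hα3L, hs, dg_inv, Gam_pr, conjS_dg_ll]
    · rw [hα3U, ha1, dg_inv, Gam_pr, conjS_dg_uu, inv_mul_cancel₀ ha10]
  obtain ⟨σ, hσ⟩ := hα3
  -- assemble
  have e2 : ∃ (g : GL (Fin 2) F) (σ : F ≃+* F), α2 = Gam g * Phi σ := by
    refine ⟨dg a1 ha10, σ, ?_⟩
    rw [← hσ, hα3def, map_inv, mul_inv_cancel_left]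
  have e1 : ∃ (g : GL (Fin 2) F) (σ : F ≃+* F), α1 = Gam g * Phi σ := by
    have h := hmul (Matrix.SpecialLinearGroup.toGL (uu r))⁻¹ α2 e2
    rw [hα2def, map_inv, ← conj_pr, inv_mul_cancel_left] at h
    exact h
  obtain ⟨z0, rfl⟩ := pr_surjective g0
  have h := hmul (Matrix.SpecialLinearGroup.toGL z0)⁻¹ α1 e1
  rw [hα1def, map_inv, ← conj_pr, inv_mul_cancel_left] at h
  exact h

end Finite

end Cfsg.Agent.Lib.Helper5.AutPSL2
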