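import Mathlib

set_option autoImplicit false

namespace Cfsg.Agent.Lib.Helper5

open Matrix

variable {n : Type*} [Fintype n] [DecidableEq n] {F : Type*} [Field F] [Fintype F]

/-- The kernel of `det` on `GL n F` is in bijection with `SL n F`. -/
def kerDetEquivSL :
    (GeneralLinearGroup.det : GL n F →* Fˣ).ker ≃ SpecialLinearGroup n F where
  toFun g := ⟨g.1.1, by
    have := congrArg Units.val (MonoidHom.mem_ker.1 g.2)
    simpa using this⟩
  invFun A := ⟨SpecialLinearGroup.toGL A, by
    rw [MonoidHom.mem_ker]; exact SpecialLinearGroup.coeToGL_det A⟩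
  left_inv g := by
    apply Subtype.ext; apply Units.ext; rfl
  right_inv A := by
    apply Subtype.ext; rfl

lemma card_units_field : Nat.card Fˣ = Fintype.card F - 1 := by
  classical
  rw [Nat.card_eq_fintype_card, Fintype.card_units]

/-- `|GL_n(F)| = |SL_n(F)| * (q-1)` for nonempty `n`. -/
lemma card_GL_eq_card_SL_mul [Nonempty n] :
    Nat.card (GL n F) = Nat.card (SpecialLinearGroup n F) * (Fintype.card F - 1) := by
  have h1 := Subgroup.card_eq_card_quotient_mul_card_subgroup
    (GeneralLinearGroup.det : GL n F →* Fˣ).ker
  have h2 : Nat.card (GL n F ⧸ (GeneralLinearGroup.det : GL n F →* Fˣ).ker) = Nat.card Fˣ :=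
    Nat.card_congr (QuotientGroup.quotientKerEquivOfSurjective _
      GeneralLinearGroup.det_surjective).toEquiv
  rw [h1, h2, Nat.card_congr kerDetEquivSL, card_units_field, mul_comm]

/-- The centre of `GL_n(F)` has `q - 1` elements for nonempty `n`. -/
lemma card_center_GL [Nonempty n] :
    Nat.card (Subgroup.center (GL n F)) = Fintype.card F - 1 := by
  rw [GeneralLinearGroup.center_eq_range_scalar]
  have hinj : Function.Injective (GeneralLinearGroup.scalar n : Fˣ →* GL n F) := by
    intro a b hab
    obtain ⟨i⟩ := ‹Nonempty n›
    have := congrArg (fun g : GL n F ↦ (g : Matrix n n F) i i) hab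
    simp at this
    exact Units.ext this
  rw [← card_units_field (F := F)]
  exact (Nat.card_congr (Equiv.ofInjective _ hinj)).symm

/-- `|PGL_n(F)| = |SL_n(F)|`. -/
lemma card_PGL_eq_card_SL :
    Nat.card (ProjGenLinGroup n F) = Nat.card (SpecialLinearGroup n F) := by
  rcases isEmpty_or_nonempty n with hn | hn
  · have h1 : Subsingleton (GL n F) := by
      constructor
      intro a b
      apply Units.ext
      exact Subsingleton.elim _ _
    have h2 : Subsingleton (ProjGenLinGroup n F) :=
      ProjGenLinGroup.mk_surjective.subsingleton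
    have h3 : Subsingleton (SpecialLinearGroup n F) := inferInstance
    rw [Nat.card_unique, Nat.card_unique]
  · have h1 := Subgroup.card_eq_card_quotient_mul_card_subgroup (Subgroup.center (GL n F))
    rw [card_center_GL, card_GL_eq_card_SL_mul] at h1
    have hq : 0 < Fintype.card F - 1 := by
      have := Fintype.one_lt_card (α := F)
      omega
    exact (Nat.eq_of_mul_eq_mul_right hq h1).symm

end Cfsg.Agent.Lib.Helper5
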