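import Mathlib
import Cfsg.Agent.Lib.Helper5.AutPSL2Main
import Cfsg.Agent.Lib.Helper5.GLCard
import Cfsg.Prelude.Def_KGroupFacts

set_option autoImplicit false
set_option linter.unusedSimpArgs false
set_option linter.unusedVariables false
set_option linter.unnecessarySeqFocus false
set_option linter.unusedSectionVars false

/-!
# Uniqueness of the field automorphism and the kernel of `GL₂ → Aut(PSL₂)`
-/

namespace Cfsg.Agent.Lib.Helper5.AutPSL2

open Matrix

variable {F : Type*} [Field F]

/-- the companion-type matrix with trace `t` -/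
def tt (t : F) : SpecialLinearGroup (Fin 2) F :=
  ⟨!![t, -1; 1, 0], by simp [Matrix.det_fin_two_of]⟩

lemma trace_conjS (k : GL (Fin 2) F) (x : SpecialLinearGroup (Fin 2) F) :
    Matrix.trace (conjS k x).1 = Matrix.trace x.1 := by
  rw [conjS_coe]
  exact Matrix.trace_units_conj k x.1

lemma trace_fieldS (ρ : F ≃+* F) (x : SpecialLinearGroup (Fin 2) F) :
    Matrix.trace (fieldS ρ x).1 = ρ (Matrix.trace x.1) := by
  simp [Matrix.trace_fin_two]

/-- A field automorphism inducing the same automorphism of `PSL₂(F)` as an element of `GL₂(F)`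
is trivial. -/
theorem eq_one_of_Gam_eq_Phi [Finite F] {k : GL (Fin 2) F} {ρ : F ≃+* F} (h : Gam k = Phi ρ) :
    ρ = 1 := by
  have hsq : ∀ t : F, (ρ t) ^ 2 = t ^ 2 := by
    intro t
    have h1 : pr (conjS k (tt t)) = pr (fieldS ρ (tt t)) := by
      rw [← Gam_pr, ← Phi_pr, h]
    obtain ⟨r, hr, h2⟩ := exists_smul_of_pr_eq h1
    have h3 := congrArg Matrix.trace h2
    rw [trace_fieldS, Matrix.trace_smul, trace_conjS] at h3
    have h4 : Matrix.trace (tt t).1 = t := by simp [tt, Matrix.trace_fin_two]
    rw [h4] at h3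
    rw [h3, smul_eq_mul, mul_pow, hr, one_mul]
  apply RingEquiv.ext
  intro t
  show ρ t = t
  by_cases h2 : (2 : F) = 0
  · obtain ⟨z, rfl⟩ := sq_surjective_of_two_eq_zero h2 t
    rw [map_pow, hsq]
  · have e1 := hsq (t + 1)
    have e2 := hsq t
    rw [map_add, map_one] at e1
    have e3 : 2 * ρ t = 2 * t := by linear_combination e1 - e2
    exact mul_left_cancel₀ h2 e3

/-- the field automorphism in a decomposition `Gam g * Phi σ` is unique -/
theorem Phi_unique [Finite F] {g h : GL (Fin 2) F} {σ τ : F ≃+* F}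
    (e : Gam g * Phi σ = Gam h * Phi τ) : σ = τ := by
  have h1 : Gam (h⁻¹ * g) = Phi (τ * σ⁻¹) := by
    rw [map_mul, map_mul, map_inv, map_inv, eq_mul_inv_iff_mul_eq, mul_assoc, e,
      inv_mul_cancel_left]
  have h2 := eq_one_of_Gam_eq_Phi h1
  exact (mul_inv_eq_one.1 h2).symm

/-- the kernel of `GL₂(F) → Aut(PSL₂(F))` is the centre -/
theorem Gam_ker : (Gam : GL (Fin 2) F →* _).ker = Subgroup.center (GL (Fin 2) F) := by
  ext g
  rw [MonoidHom.mem_ker]
  constructor
  · intro hg
    -- g commutes with u(1) and l(1)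
    have hcomm : ∀ x : SpecialLinearGroup (Fin 2) F, Matrix.trace x.1 = 2 →
        g.1 * x.1 = x.1 * g.1 := by
      intro x hx
      have h1 : pr x = pr (conjS g x) := by
        rw [← Gam_pr, hg]; rfl
      obtain ⟨r, hr, h2⟩ := exists_smul_of_pr_eq h1
      have h3 := congrArg Matrix.trace h2
      rw [trace_conjS, Matrix.trace_smul, hx, smul_eq_mul] at h3
      have h4 : (r - 1) ^ 2 = 0 := by linear_combination hr + h3
      have h5 : r = 1 := by
        have : r - 1 = 0 := by simpa using h4
        exact sub_eq_zero.1 this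
      rw [h5, one_smul, conjS_coe] at h2
      have h6 : (g⁻¹).1 * g.1 = 1 := by
        rw [← Units.val_mul, inv_mul_cancel]; rfl
      calc g.1 * x.1 = g.1 * x.1 * ((g⁻¹).1 * g.1) := by rw [h6, Matrix.mul_one]
        _ = (g.1 * x.1 * (g⁻¹).1) * g.1 := by simp only [Matrix.mul_assoc]
        _ = x.1 * g.1 := by rw [h2]
    have hu := hcomm (uu 1) (by simp [Matrix.trace_fin_two]; norm_num)
    have hl := hcomm (ll 1) (by simp [Matrix.trace_fin_two]; norm_num)
    obtain ⟨a, b, c, d, hgm⟩ : ∃ a b c d : F, g.1 = !![a, b; c, d] :=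
      ⟨_, _, _, _, Matrix.eta_fin_two g.1⟩
    rw [hgm] at hu hl
    have u00 := congrFun (congrFun hu 0) 0
    have u01 := congrFun (congrFun hu 0) 1
    have l00 := congrFun (congrFun hl 0) 0
    simp [Matrix.mul_apply, Fin.sum_univ_two] at u00 u01 l00
    -- c = 0, a = d, b = 0
    have hc : c = 0 := u00
    have hd : d = a := by linear_combination -u01
    have hb : b = 0 := l00
    rw [Subgroup.mem_center_iff]
    intro h
    apply Units.ext
    rw [Units.val_mul, Units.val_mul, hgm, hc, hd, hb]
    ext i j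
    fin_cases i <;> fin_cases j <;> simp [Matrix.mul_apply, Fin.sum_univ_two, mul_comm]
  · intro hg
    rw [Subgroup.mem_center_iff] at hg
    ext y
    obtain ⟨x, rfl⟩ := pr_surjective y
    rw [Gam_pr]
    show pr (conjS g x) = pr x
    congr 1
    apply Subtype.ext
    rw [conjS_coe]
    have h1 := congrArg Units.val (hg (Matrix.SpecialLinearGroup.toGL x))
    rw [Units.val_mul, Units.val_mul] at h1
    have h2 : (Matrix.SpecialLinearGroup.toGL x).1 = x.1 := rfl
    rw [h2] at h1
    have h6 : g.1 * (g⁻¹).1 = 1 := by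
      rw [← Units.val_mul, mul_inv_cancel]; rfl
    rw [← h1, Matrix.mul_assoc, h6, Matrix.mul_one]

section Card

variable [Fintype F]

instance : Finite (GL (Fin 2) F) := by
  classical
  exact Finite.of_fintype _

/-- the group of automorphisms induced by `GL₂(F)` has order `|SL₂(F)|` -/
theorem card_Gam_range :
    Nat.card (Gam : GL (Fin 2) F →* _).range = Nat.card (SpecialLinearGroup (Fin 2) F) := by
  have h1 := Subgroup.card_eq_card_quotient_mul_card_subgroup (Gam : GL (Fin 2) F →* _).ker
  rw [Nat.card_congr (QuotientGroup.quotientKerEquivRange (Gam : GL (Fin 2) F →* _)).toEquiv,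
    card_GL_eq_card_SL_mul, Gam_ker, card_center_GL] at h1
  have hq : 2 ≤ Fintype.card F := Fintype.one_lt_card
  exact (Nat.eq_of_mul_eq_mul_right (by omega) h1).symm

/-- `|Inn(PSL₂(F))| = |PSL₂(F)|` -/
theorem card_Inn :
    Nat.card (Cfsg.Inn (Matrix.ProjectiveSpecialLinearGroup (Fin 2) F)) =
      Nat.card (Matrix.ProjectiveSpecialLinearGroup (Fin 2) F) := by
  have hinj : Function.Injective
      (MulAut.conj : Matrix.ProjectiveSpecialLinearGroup (Fin 2) F →* _) := by
    rw [injective_iff_map_eq_one]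
    intro a ha
    have h1 : a ∈ Subgroup.center (Matrix.ProjectiveSpecialLinearGroup (Fin 2) F) := by
      rw [Subgroup.mem_center_iff]
      intro b
      have h2 := congrArg (fun f => f b) ha
      simp only [MulAut.conj_apply, MulAut.one_apply] at h2
      calc b * a = (a * b * a⁻¹) * a := by rw [h2]
        _ = a * b := by group
    rw [center_PSL2_eq_bot] at h1
    exact h1
  exact (Nat.card_congr (MonoidHom.ofInjective hinj).toEquiv).symm

end Card

end Cfsg.Agent.Lib.Helper5.AutPSL2
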