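import Mathlib
import Cfsg.Agent.Lib.Helper5.AutPSL2Ker

set_option autoImplicit false
set_option linter.unusedSimpArgs false
set_option linter.unusedVariables false
set_option linter.unnecessarySeqFocus false
set_option linter.unusedSectionVars false
set_option linter.style.haveILetI false

/-!
# The outer automorphism group of `PSL₂(F)`
-/

namespace Cfsg.Agent.Lib.Helper5.AutPSL2

open Matrix

section RingAut

variable {F : Type*} [Field F] [Fintype F]

/-- ring automorphisms of a field of characteristic `p` are `ZMod p`-algebra automorphisms -/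
noncomputable def ringAutEquivGal (p : ℕ) [Fact p.Prime] [CharP F p] :
    letI : Algebra (ZMod p) F := ZMod.algebra F p
    (F ≃ₐ[ZMod p] F) ≃* (F ≃+* F) :=
  letI : Algebra (ZMod p) F := ZMod.algebra F p
  { toFun := fun e => e.toRingEquiv
    invFun := fun σ => AlgEquiv.ofRingEquiv (f := σ) (fun r => by
      have := Subsingleton.elim ((σ : F →+* F).comp (algebraMap (ZMod p) F)) (algebraMap (ZMod p) F)
      exact DFunLike.congr_fun this r)
    left_inv := fun e => by ext x; rfl
    right_inv := fun σ => by ext x; rfl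
    map_mul' := fun e₁ e₂ => by ext x; rfl }

lemma isCyclic_ringAut (p : ℕ) [Fact p.Prime] [CharP F p] : IsCyclic (F ≃+* F) := by
  letI : Algebra (ZMod p) F := ZMod.algebra F p
  exact isCyclic_of_surjective (ringAutEquivGal (F := F) p).toMonoidHom
    (ringAutEquivGal (F := F) p).surjective

lemma card_ringAut (p : ℕ) [Fact p.Prime] [CharP F p] {f : ℕ} (hF : Fintype.card F = p ^ f) : Nat.card (F ≃+* F) = f := by
  letI : Algebra (ZMod p) F := ZMod.algebra F p
  rw [← Nat.card_congr (ringAutEquivGal (F := F) p).toEquiv, IsGalois.card_aut_eq_finrank]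
  have h1 := FiniteField.pow_finrank_eq_card p F
  rw [hF] at h1
  exact Nat.pow_right_injective (Fact.out : p.Prime).two_le h1

end RingAut

section Center

variable {F : Type*} [Field F] [Fintype F]

lemma card_center_SL2 :
    Nat.card (Subgroup.center (SpecialLinearGroup (Fin 2) F)) = Nat.gcd 2 (Fintype.card F - 1) := by
  classical
  rw [Nat.card_congr (Matrix.SpecialLinearGroup.center_equiv_rootsOfUnity' (0 : Fin 2)).toEquiv]
  have h1 : rootsOfUnity (Fintype.card (Fin 2)) F = (powMonoidHom 2 : Fˣ →* Fˣ).ker := by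
    ext x
    simp [MonoidHom.mem_ker]
  rw [h1, IsCyclic.card_powMonoidHom_ker, Nat.card_eq_fintype_card, Fintype.card_units,
    Nat.gcd_comm]

end Center

section Out

variable {F : Type*} [Field F] [Fintype F]

/-- The outer automorphism group of `PSL₂(F)`, `|F| = p ^ f`, maps onto the cyclic group of
order `f` with cyclic kernel of order `gcd(2, |F| - 1)`. -/
theorem out_PSL2 {p f : ℕ} [Fact p.Prime] (hf : 1 ≤ f) (hF : Fintype.card F = p ^ f) :
    ∃ φ : Cfsg.Out (Matrix.ProjectiveSpecialLinearGroup (Fin 2) F) →* Multiplicative (ZMod f),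
      Function.Surjective φ ∧ IsCyclic φ.ker ∧ Nat.card φ.ker = Nat.gcd 2 (p ^ f - 1) := by
  haveI : CharP F p := charP_of_card_eq_prime_pow hF
  haveI : NeZero f := ⟨by omega⟩
  -- the field automorphism attached to an automorphism
  have ex : ∀ α : MulAut (Matrix.ProjectiveSpecialLinearGroup (Fin 2) F),
      ∃ σ : F ≃+* F, ∃ g : GL (Fin 2) F, α = Gam g * Phi σ := by
    intro α
    obtain ⟨g, σ, h⟩ := exists_Gam_Phi p α
    exact ⟨σ, g, h⟩
  choose ψf hψf using ex
  have ψ_char : ∀ (α : MulAut (Matrix.ProjectiveSpecialLinearGroup (Fin 2) F))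
      (g : GL (Fin 2) F) (σ : F ≃+* F), α = Gam g * Phi σ → ψf α = σ := by
    intro α g σ h
    obtain ⟨g', hg'⟩ := hψf α
    exact Phi_unique (hg'.symm.trans h)
  let ψ : MulAut (Matrix.ProjectiveSpecialLinearGroup (Fin 2) F) →* (F ≃+* F) :=
    { toFun := ψf
      map_one' := ψ_char 1 1 1 (by simp)
      map_mul' := fun α β => by
        obtain ⟨g, hg⟩ := hψf α
        obtain ⟨h, hh⟩ := hψf β
        apply ψ_char (α * β) (g * Matrix.GeneralLinearGroup.map (ψf α).toRingHom h) (ψf α * ψf β)
        conv_lhs => rw [hg, hh]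
        rw [map_mul, map_mul, mul_assoc, mul_assoc, ← mul_assoc (Phi _) (Gam h), Phi_mul_Gam]
        simp only [mul_assoc] }
  have ψ_apply : ∀ α, ψ α = ψf α := fun α => rfl
  have ψ_surj : Function.Surjective ψ := by
    intro σ
    exact ⟨Phi σ, ψ_char _ 1 σ (by simp)⟩
  have ψ_ker : ψ.ker = (Gam : GL (Fin 2) F →* _).range := by
    ext α
    rw [MonoidHom.mem_ker, ψ_apply]
    constructor
    · intro h
      obtain ⟨g, hg⟩ := hψf α
      rw [h, map_one, mul_one] at hg
      exact ⟨g, hg.symm⟩
    · rintro ⟨g, rfl⟩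
      exact ψ_char _ g 1 (by simp)
  have hInn : Cfsg.Inn (Matrix.ProjectiveSpecialLinearGroup (Fin 2) F) ≤ ψ.ker := by
    rw [ψ_ker]
    rintro _ ⟨y, rfl⟩
    obtain ⟨x, rfl⟩ := pr_surjective y
    exact ⟨_, (conj_pr x).symm⟩
  let φ0 : Cfsg.Out (Matrix.ProjectiveSpecialLinearGroup (Fin 2) F) →* (F ≃+* F) :=
    QuotientGroup.lift _ ψ hInn
  have φ0_surj : Function.Surjective φ0 := by
    intro σ
    obtain ⟨α, hα⟩ := ψ_surj σ
    exact ⟨QuotientGroup.mk α, hα⟩
  haveI : IsCyclic (F ≃+* F) := isCyclic_ringAut p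
  have hcard : Nat.card (F ≃+* F) = Nat.card (Multiplicative (ZMod f)) := by
    rw [card_ringAut p hF, Nat.card_eq_fintype_card, Fintype.card_multiplicative, ZMod.card]
  let e : (F ≃+* F) ≃* Multiplicative (ZMod f) := mulEquivOfCyclicCardEq hcard
  let φ : Cfsg.Out (Matrix.ProjectiveSpecialLinearGroup (Fin 2) F) →* Multiplicative (ZMod f) :=
    e.toMonoidHom.comp φ0
  have φ_surj : Function.Surjective φ := e.surjective.comp φ0_surj
  -- counting
  have hq : 2 ≤ Fintype.card F := Fintype.one_lt_card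
  haveI : Finite (Matrix.ProjectiveSpecialLinearGroup (Fin 2) F) := by
    unfold Matrix.ProjectiveSpecialLinearGroup; infer_instance
  haveI : Finite (MulAut (Matrix.ProjectiveSpecialLinearGroup (Fin 2) F)) :=
    Finite.of_injective (fun α : MulAut (Matrix.ProjectiveSpecialLinearGroup (Fin 2) F) =>
      (α : Matrix.ProjectiveSpecialLinearGroup (Fin 2) F → Matrix.ProjectiveSpecialLinearGroup (Fin 2) F))
      (fun a b h => MulEquiv.ext (congrFun h))
  have c1 : Nat.card (MulAut (Matrix.ProjectiveSpecialLinearGroup (Fin 2) F)) =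
      f * Nat.card (SpecialLinearGroup (Fin 2) F) := by
    rw [Subgroup.card_eq_card_quotient_mul_card_subgroup ψ.ker,
      Nat.card_congr (QuotientGroup.quotientKerEquivOfSurjective ψ ψ_surj).toEquiv,
      card_ringAut p hF, ψ_ker, card_Gam_range]
  have c2 : Nat.card (MulAut (Matrix.ProjectiveSpecialLinearGroup (Fin 2) F)) =
      Nat.card (Cfsg.Out (Matrix.ProjectiveSpecialLinearGroup (Fin 2) F)) *
        Nat.card (Matrix.ProjectiveSpecialLinearGroup (Fin 2) F) := by
    rw [Subgroup.card_eq_card_quotient_mul_card_subgroup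
      (Cfsg.Inn (Matrix.ProjectiveSpecialLinearGroup (Fin 2) F)), card_Inn]
  have c3 : Nat.card (Cfsg.Out (Matrix.ProjectiveSpecialLinearGroup (Fin 2) F)) =
      f * Nat.card φ.ker := by
    rw [Subgroup.card_eq_card_quotient_mul_card_subgroup φ.ker,
      Nat.card_congr (QuotientGroup.quotientKerEquivOfSurjective φ φ_surj).toEquiv,
      Nat.card_eq_fintype_card, Fintype.card_multiplicative, ZMod.card]
  have c4 : Nat.card (SpecialLinearGroup (Fin 2) F) =
      Nat.card (Matrix.ProjectiveSpecialLinearGroup (Fin 2) F) *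
        Nat.card (Subgroup.center (SpecialLinearGroup (Fin 2) F)) :=
    Subgroup.card_eq_card_quotient_mul_card_subgroup _
  have hGpos : 0 < Nat.card (Matrix.ProjectiveSpecialLinearGroup (Fin 2) F) := Nat.card_pos
  have c5 : Nat.card φ.ker = Nat.card (Subgroup.center (SpecialLinearGroup (Fin 2) F)) := by
    have h1 : f * Nat.card (Matrix.ProjectiveSpecialLinearGroup (Fin 2) F) * Nat.card φ.ker =
        f * Nat.card (Matrix.ProjectiveSpecialLinearGroup (Fin 2) F) *
          Nat.card (Subgroup.center (SpecialLinearGroup (Fin 2) F)) := by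
      calc f * Nat.card (Matrix.ProjectiveSpecialLinearGroup (Fin 2) F) * Nat.card φ.ker
          = (f * Nat.card φ.ker) * Nat.card (Matrix.ProjectiveSpecialLinearGroup (Fin 2) F) := by
            ring
        _ = Nat.card (MulAut (Matrix.ProjectiveSpecialLinearGroup (Fin 2) F)) := by
            rw [← c3, ← c2]
        _ = f * (Nat.card (Matrix.ProjectiveSpecialLinearGroup (Fin 2) F) *
              Nat.card (Subgroup.center (SpecialLinearGroup (Fin 2) F))) := by rw [c1, c4]
        _ = _ := by ring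
    exact Nat.eq_of_mul_eq_mul_left (Nat.mul_pos (by omega) hGpos) h1
  have c6 : Nat.card φ.ker = Nat.gcd 2 (p ^ f - 1) := by
    rw [c5, card_center_SL2, hF]
  refine ⟨φ, φ_surj, ?_, c6⟩
  -- a group of order 1 or 2 is cyclic
  have h2 : Nat.gcd 2 (p ^ f - 1) = 1 ∨ Nat.gcd 2 (p ^ f - 1) = 2 := by
    have := Nat.gcd_dvd_left 2 (p ^ f - 1)
    exact (Nat.dvd_prime Nat.prime_two).1 this
  rcases h2 with h2 | h2
  · haveI : Subsingleton φ.ker := (Nat.card_eq_one_iff_unique.1 (c6.trans h2)).1
    exact isCyclic_of_subsingleton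
  · haveI : Fact (Nat.Prime 2) := ⟨Nat.prime_two⟩
    exact isCyclic_of_prime_card (p := 2) (c6.trans h2)

end Out

end Cfsg.Agent.Lib.Helper5.AutPSL2
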