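import Mathlib
import Cfsg.Agent.Lib.Helper5.AutPSL2Out

set_option autoImplicit false
set_option linter.unusedSimpArgs false
set_option linter.unusedVariables false
set_option linter.unnecessarySeqFocus false
set_option linter.unusedSectionVars false
set_option linter.style.haveILetI false

/-!
# The order of `Aut(PSL₂(F))`
-/

namespace Cfsg.Agent.Lib.Helper5.AutPSL2

open Matrix

variable {F : Type*} [Field F] [Fintype F]

/-- `|Aut(PSL₂(F))| = f * |SL₂(F)|` for `|F| = p ^ f` -/
theorem card_aut_PSL2 {p f : ℕ} [Fact p.Prime] (hf : 1 ≤ f) (hF : Fintype.card F = p ^ f) :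
    Nat.card (MulAut (Matrix.ProjectiveSpecialLinearGroup (Fin 2) F)) =
      f * Nat.card (SpecialLinearGroup (Fin 2) F) := by
  haveI : CharP F p := charP_of_card_eq_prime_pow hF
  have ex : ∀ α : MulAut (Matrix.ProjectiveSpecialLinearGroup (Fin 2) F),
      ∃ σ : F ≃+* F, ∃ g : GL (Fin 2) F, α = Gam g * Phi σ := by
    intro α
    obtain ⟨g, σ, h⟩ := exists_Gam_Phi p α
    exact ⟨σ, g, h⟩
  choose ψf hψf using ex
  have ψ_char : ∀ (α : MulAut (Matrix.ProjectiveSpecialLinearGroup (Fin 2) F))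
      (g : GL (Fin 2) F) (σ : F ≃+* F), α = Gam g * Phi σ → ψf α = σ := by
    intro α g σ h
    obtain ⟨g', hg'⟩ := hψf α
    exact Phi_unique (hg'.symm.trans h)
  let ψ : MulAut (Matrix.ProjectiveSpecialLinearGroup (Fin 2) F) →* (F ≃+* F) :=
    { toFun := ψf
      map_one' := ψ_char 1 1 1 (by simp)
      map_mul' := fun α β => by
        obtain ⟨g, hg⟩ := hψf α
        obtain ⟨h, hh⟩ := hψf β
        apply ψ_char (α * β) (g * Matrix.GeneralLinearGroup.map (ψf α).toRingHom h) (ψf α * ψf β)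
        conv_lhs => rw [hg, hh]
        rw [map_mul, map_mul, mul_assoc, mul_assoc, ← mul_assoc (Phi _) (Gam h), Phi_mul_Gam]
        simp only [mul_assoc] }
  have ψ_apply : ∀ α, ψ α = ψf α := fun α => rfl
  have ψ_surj : Function.Surjective ψ := by
    intro σ
    exact ⟨Phi σ, ψ_char _ 1 σ (by simp)⟩
  have ψ_ker : ψ.ker = (Gam : GL (Fin 2) F →* _).range := by
    ext α
    rw [MonoidHom.mem_ker, ψ_apply]
    constructor
    · intro h
      obtain ⟨g, hg⟩ := hψf α
      rw [h, map_one, mul_one] at hg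
      exact ⟨g, hg.symm⟩
    · rintro ⟨g, rfl⟩
      exact ψ_char _ g 1 (by simp)
  rw [Subgroup.card_eq_card_quotient_mul_card_subgroup ψ.ker,
    Nat.card_congr (QuotientGroup.quotientKerEquivOfSurjective ψ ψ_surj).toEquiv,
    card_ringAut p hF, ψ_ker, card_Gam_range]

end Cfsg.Agent.Lib.Helper5.AutPSL2
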