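import Mathlib
import Cfsg.Agent.Lib.Helper5.AutPSLnMaps

set_option autoImplicit false
set_option linter.unusedSimpArgs false
set_option linter.unusedVariables false
set_option linter.unnecessarySeqFocus false
set_option linter.unusedSectionVars false

/-!
# Transvections `1 + v φᵀ` in `SL_n(F)`
-/

namespace Cfsg.Agent.Lib.Helper5.AutPSLn

open Matrix

variable {ι : Type*} [Fintype ι] [DecidableEq ι] {F : Type*} [Field F]

lemma det_one_add_vecMulVec (v φ : ι → F) : (1 + vecMulVec v φ).det = 1 + φ ⬝ᵥ v := by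
  rw [vecMulVec_eq Unit, det_one_add_replicateCol_mul_replicateRow]

/-- auxiliary: the transvection `1 + v φᵀ` for `φ · v = 0` -/
def tvAux (v φ : ι → F) (h : φ ⬝ᵥ v = 0) : SpecialLinearGroup ι F :=
  ⟨1 + vecMulVec v φ, by rw [det_one_add_vecMulVec, h, add_zero]⟩

open Classical in
/-- the transvection `1 + v φᵀ` (equal to `1` if `φ · v ≠ 0`) -/
noncomputable def tv (v φ : ι → F) : SpecialLinearGroup ι F :=
  if h : φ ⬝ᵥ v = 0 then tvAux v φ h else 1

lemma tv_coe {v φ : ι → F} (h : φ ⬝ᵥ v = 0) : (tv v φ).1 = 1 + vecMulVec v φ := by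
  rw [tv, dif_pos h]; rfl

lemma tv_of_ne {v φ : ι → F} (h : ¬ φ ⬝ᵥ v = 0) : tv v φ = 1 := by
  rw [tv, dif_neg h]

lemma tv_apply {v φ : ι → F} (h : φ ⬝ᵥ v = 0) (i j : ι) :
    (tv v φ).1 i j = (1 : Matrix ι ι F) i j + v i * φ j := by
  rw [tv_coe h]; rfl

lemma one_add_mul_one_add (v φ w ψ : ι → F) :
    (1 + vecMulVec v φ) * (1 + vecMulVec w ψ) =
      1 + vecMulVec v φ + vecMulVec w ψ + (φ ⬝ᵥ w) • vecMulVec v ψ := by
  rw [Matrix.add_mul, Matrix.mul_add, Matrix.mul_add, Matrix.one_mul, Matrix.one_mul, Matrix.mul_one,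
    vecMulVec_mul_vecMulVec, vecMulVec_smul]
  abel

lemma tv_zero_left (φ : ι → F) : tv (0 : ι → F) φ = 1 := by
  apply sl_ext
  rw [tv_coe (by simp)]
  ext i j
  simp [vecMulVec_apply]

lemma tv_zero_right (v : ι → F) : tv v (0 : ι → F) = 1 := by
  apply sl_ext
  rw [tv_coe (by simp)]
  ext i j
  simp [vecMulVec_apply]

lemma tv_mul_left {v φ ψ : ι → F} (hφ : φ ⬝ᵥ v = 0) (hψ : ψ ⬝ᵥ v = 0) :
    tv v φ * tv v ψ = tv v (φ + ψ) := by
  apply sl_ext
  rw [val_mul, tv_coe hφ, tv_coe hψ,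
    tv_coe (by rw [add_dotProduct, hφ, hψ, add_zero]), one_add_mul_one_add, hφ, zero_smul,
    add_zero, vecMulVec_add, add_assoc]

lemma tv_mul_right {v w φ : ι → F} (hv : φ ⬝ᵥ v = 0) (hw : φ ⬝ᵥ w = 0) :
    tv v φ * tv w φ = tv (v + w) φ := by
  apply sl_ext
  rw [val_mul, tv_coe hv, tv_coe hw,
    tv_coe (by rw [dotProduct_add, hv, hw, add_zero]), one_add_mul_one_add, hw, zero_smul,
    add_zero, add_vecMulVec, add_assoc]

lemma tv_inv {v φ : ι → F} (hφ : φ ⬝ᵥ v = 0) : (tv v φ)⁻¹ = tv v (-φ) := by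
  apply inv_eq_of_mul_eq_one_right
  rw [tv_mul_left hφ (by rw [neg_dotProduct, hφ, neg_zero]), add_neg_cancel, tv_zero_right]

lemma tv_smul (c : F) (v φ : ι → F) : tv (c • v) φ = tv v (c • φ) := by
  by_cases h : φ ⬝ᵥ v = 0
  · apply sl_ext
    rw [tv_coe (by rw [dotProduct_smul, h, smul_zero]),
      tv_coe (by rw [smul_dotProduct, h, smul_zero])]
    congr 1
    ext i j
    simp [vecMulVec_apply, mul_comm, mul_assoc, mul_left_comm]
  · by_cases hc : c = 0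
    · subst hc
      simp [tv_zero_left, tv_zero_right]
    · have h1 : ¬ (φ ⬝ᵥ (c • v) = 0) := by
        rw [dotProduct_smul]; simp [hc, h]
      have h2 : ¬ ((c • φ) ⬝ᵥ v = 0) := by
        rw [smul_dotProduct]; simp [hc, h]
      rw [tv_of_ne h1, tv_of_ne h2]

lemma tv_mulVec {v φ : ι → F} (h : φ ⬝ᵥ v = 0) (x : ι → F) :
    (tv v φ).1 *ᵥ x = x + (φ ⬝ᵥ x) • v := by
  rw [tv_coe h, Matrix.add_mulVec, Matrix.one_mulVec, vecMulVec_mulVec, op_smul_eq_smul]

lemma tv_vecMul {v φ : ι → F} (h : φ ⬝ᵥ v = 0) (x : ι → F) :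
    x ᵥ* (tv v φ).1 = x + (x ⬝ᵥ v) • φ := by
  rw [tv_coe h, Matrix.vecMul_add, Matrix.vecMul_one, vecMul_vecMulVec]

lemma tv_eq_one_iff {v φ : ι → F} (h : φ ⬝ᵥ v = 0) : tv v φ = 1 ↔ v = 0 ∨ φ = 0 := by
  constructor
  · intro h1
    have h2 := congrArg Subtype.val h1
    rw [tv_coe h] at h2
    have h3 : vecMulVec v φ = 0 := by
      have : (1 : Matrix ι ι F) + vecMulVec v φ = 1 + 0 := by rw [h2, add_zero]; rfl
      exact add_left_cancel this
    exact vecMulVec_eq_zero.1 h3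
  · rintro (rfl | rfl)
    · exact tv_zero_left _
    · exact tv_zero_right _

/-- conjugating a transvection -/
lemma conjS_tv (g : GL ι F) {v φ : ι → F} (h : φ ⬝ᵥ v = 0) :
    conjS g (tv v φ) = tv (g.1 *ᵥ v) (φ ᵥ* (g⁻¹).1) := by
  have h1 : (φ ᵥ* (g⁻¹).1) ⬝ᵥ (g.1 *ᵥ v) = 0 := by
    rw [dotProduct_mulVec, Matrix.vecMul_vecMul, ← Units.val_mul, inv_mul_cancel]
    simpa using h
  apply sl_ext
  rw [conjS_coe, tv_coe h, tv_coe h1, Matrix.mul_add, Matrix.add_mul, Matrix.mul_one,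
    ← Units.val_mul, mul_inv_cancel, mul_vecMulVec, vecMulVec_mul]
  rfl

/-- applying a field automorphism to a transvection -/
lemma fieldS_tv (σ : F ≃+* F) {v φ : ι → F} (h : φ ⬝ᵥ v = 0) :
    fieldS σ (tv v φ) = tv (fun i => σ (v i)) (fun i => σ (φ i)) := by
  have h1 : (fun i => σ (φ i)) ⬝ᵥ (fun i => σ (v i)) = 0 := by
    have := congrArg σ h
    rw [map_zero] at this
    rw [← this]
    simp [dotProduct, map_sum]
  apply sl_ext
  ext i j
  rw [fieldS_coe, tv_apply h, tv_apply h1, map_add, map_mul]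
  congr 1
  by_cases hij : i = j
  · subst hij; simp
  · simp [hij]

/-- inverse-transpose of a transvection -/
lemma invT_tv {v φ : ι → F} (h : φ ⬝ᵥ v = 0) :
    invT (tv v φ) = tv φ (-v) := by
  have h1 : (-v) ⬝ᵥ φ = 0 := by
    rw [neg_dotProduct, dotProduct_comm, h, neg_zero]
  apply sl_ext
  rw [invT_coe, tv_inv h, tv_coe (by rw [neg_dotProduct, h, neg_zero]), tv_coe h1,
    Matrix.transpose_add, Matrix.transpose_one, transpose_vecMulVec]
  congr 1
  ext i j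
  simp [vecMulVec_apply]


/-! ### Proportional vectors -/

/-- two vectors are proportional by a nonzero scalar -/
def Par (v w : ι → F) : Prop := ∃ c : F, c ≠ 0 ∧ w = c • v

lemma Par.refl (v : ι → F) : Par v v := ⟨1, one_ne_zero, (one_smul _ _).symm⟩

lemma Par.symm {v w : ι → F} (h : Par v w) : Par w v := by
  obtain ⟨c, hc, rfl⟩ := h
  exact ⟨c⁻¹, inv_ne_zero hc, by rw [smul_smul, inv_mul_cancel₀ hc, one_smul]⟩

lemma Par.trans {u v w : ι → F} (h1 : Par u v) (h2 : Par v w) : Par u w := by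
  obtain ⟨c, hc, rfl⟩ := h1
  obtain ⟨d, hd, rfl⟩ := h2
  exact ⟨d * c, mul_ne_zero hd hc, by rw [smul_smul]⟩

lemma Par.ne_zero {v w : ι → F} (h : Par v w) (hv : v ≠ 0) : w ≠ 0 := by
  obtain ⟨c, hc, rfl⟩ := h
  exact smul_ne_zero hc hv

lemma Par.dot_left {v w : ι → F} (h : Par v w) (φ : ι → F) : φ ⬝ᵥ v = 0 ↔ φ ⬝ᵥ w = 0 := by
  obtain ⟨c, hc, rfl⟩ := h
  rw [dotProduct_smul, smul_eq_mul, mul_eq_zero]
  constructor
  · intro h; exact Or.inr h
  · rintro (h | h)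
    · exact absurd h hc
    · exact h

lemma Par.dot_right {φ ψ : ι → F} (h : Par φ ψ) (v : ι → F) : φ ⬝ᵥ v = 0 ↔ ψ ⬝ᵥ v = 0 := by
  rw [dotProduct_comm φ, dotProduct_comm ψ]
  exact h.dot_left v

lemma exists_ne_zero_of_ne_zero {v : ι → F} (hv : v ≠ 0) : ∃ i, v i ≠ 0 := by
  by_contra h
  push Not at h
  exact hv (funext h)

lemma par_of_det {v w : ι → F} (hv : v ≠ 0) (hw : w ≠ 0) (h : ∀ i j, v i * w j = v j * w i) :
    Par v w := by
  obtain ⟨i, hi⟩ := exists_ne_zero_of_ne_zero hv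
  have h1 : w = (w i / v i) • v := by
    ext j
    rw [Pi.smul_apply, smul_eq_mul]
    field_simp
    rw [mul_comm, h i j, mul_comm]
  refine ⟨w i / v i, ?_, h1⟩
  intro h0
  rw [h0, zero_smul] at h1
  exact hw h1

lemma Par.det {v w : ι → F} (h : Par v w) (i j : ι) : v i * w j = v j * w i := by
  obtain ⟨c, hc, rfl⟩ := h
  simp only [Pi.smul_apply, smul_eq_mul]
  ring

/-- equal transvections have proportional centres and axes -/
lemma tv_eq_tv {v φ v' φ' : ι → F} (h : φ ⬝ᵥ v = 0) (h' : φ' ⬝ᵥ v' = 0) (hv : v ≠ 0) (hφ : φ ≠ 0)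
    (e : tv v φ = tv v' φ') : Par v v' ∧ Par φ φ' := by
  have e1 : ∀ i j, v i * φ j = v' i * φ' j := by
    intro i j
    have := congrFun (congrFun (congrArg Subtype.val e) i) j
    rw [tv_apply h, tv_apply h'] at this
    exact add_left_cancel this
  obtain ⟨i0, hi0⟩ := exists_ne_zero_of_ne_zero hv
  obtain ⟨j0, hj0⟩ := exists_ne_zero_of_ne_zero hφ
  have h00 : v' i0 * φ' j0 ≠ 0 := by
    rw [← e1]; exact mul_ne_zero hi0 hj0
  have hv' : v' ≠ 0 := by
    rintro rfl; simp at h00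
  have hφ' : φ' ≠ 0 := by
    rintro rfl; simp at h00
  constructor
  · apply par_of_det hv hv'
    intro i j
    have h1 := e1 i j0
    have h2 := e1 j j0
    have h3 : φ j0 * (v i * v' j) = φ j0 * (v j * v' i) := by
      calc φ j0 * (v i * v' j) = (v i * φ j0) * v' j := by ring
        _ = (v' i * φ' j0) * v' j := by rw [h1]
        _ = (v' j * φ' j0) * v' i := by ring
        _ = (v j * φ j0) * v' i := by rw [h2]
        _ = φ j0 * (v j * v' i) := by ring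
    exact mul_left_cancel₀ hj0 h3
  · apply par_of_det hφ hφ'
    intro i j
    have h1 := e1 i0 i
    have h2 := e1 i0 j
    have h3 : v i0 * (φ i * φ' j) = v i0 * (φ j * φ' i) := by
      calc v i0 * (φ i * φ' j) = (v i0 * φ i) * φ' j := by ring
        _ = (v' i0 * φ' i) * φ' j := by rw [h1]
        _ = (v' i0 * φ' j) * φ' i := by ring
        _ = (v i0 * φ j) * φ' i := by rw [h2]
        _ = v i0 * (φ j * φ' i) := by ring
    exact mul_left_cancel₀ hi0 h3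

/-! ### Orthogonal vectors -/

/-- in dimension at least three, two linear forms have a common nonzero zero -/
lemma exists_ne_zero_orth2 (h3 : 3 ≤ Fintype.card ι) (a b : ι → F) :
    ∃ u : ι → F, u ≠ 0 ∧ a ⬝ᵥ u = 0 ∧ b ⬝ᵥ u = 0 := by
  let M : Matrix (Fin 2) ι F := Matrix.of ![a, b]
  have hlt : Module.finrank F (Fin 2 → F) < Module.finrank F (ι → F) := by
    rw [Module.finrank_fintype_fun_eq_card, Module.finrank_fintype_fun_eq_card, Fintype.card_fin]
    omega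
  have hker := LinearMap.ker_ne_bot_of_finrank_lt (f := M.mulVecLin) hlt
  obtain ⟨u, hu, hu0⟩ := (Submodule.ne_bot_iff _).1 hker
  refine ⟨u, hu0, ?_, ?_⟩
  · have := congrFun (LinearMap.mem_ker.1 hu) 0
    simpa [M, Matrix.mulVec] using this
  · have := congrFun (LinearMap.mem_ker.1 hu) 1
    simpa [M, Matrix.mulVec] using this

lemma exists_ne_zero_orth1 (h3 : 3 ≤ Fintype.card ι) (a : ι → F) :
    ∃ u : ι → F, u ≠ 0 ∧ a ⬝ᵥ u = 0 := by
  obtain ⟨u, hu, h1, _⟩ := exists_ne_zero_orth2 h3 a a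
  exact ⟨u, hu, h1⟩

/-- in dimension at least three, there is a vector orthogonal to `v` not proportional to `φ` -/
lemma exists_orth_not_par (h3 : 3 ≤ Fintype.card ι) (v : ι → F) {φ : ι → F} (hφ : φ ≠ 0) :
    ∃ ψ : ι → F, ψ ≠ 0 ∧ ψ ⬝ᵥ v = 0 ∧ ¬ Par φ ψ := by
  obtain ⟨j, hj⟩ := exists_ne_zero_of_ne_zero hφ
  obtain ⟨ψ, hψ, h1, h2⟩ := exists_ne_zero_orth2 h3 v (Pi.single j 1)
  refine ⟨ψ, hψ, by rw [dotProduct_comm]; exact h1, ?_⟩
  rintro ⟨c, hc, rfl⟩
  rw [dotProduct_smul, smul_eq_mul, single_dotProduct, one_mul] at h2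
  exact (mul_ne_zero hc hj) h2

/-! ### Elements of `PSL_n` with the same image -/

/-- a transvection has only the eigenvalue one -/
lemma tv_eigen {w ψ : ι → F} (h : ψ ⬝ᵥ w = 0) {u : ι → F} (hu : u ≠ 0) {r : F}
    (e : (tv w ψ).1 *ᵥ u = r • u) : r = 1 := by
  rw [tv_mulVec h] at e
  by_contra hr
  have hr' : r - 1 ≠ 0 := sub_ne_zero.2 hr
  have h1 : (ψ ⬝ᵥ u) • w = (r - 1) • u := by
    rw [sub_smul, one_smul, ← e]; abel
  have h2 : (r - 1) * (ψ ⬝ᵥ u) = 0 := by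
    have := congrArg (fun x => ψ ⬝ᵥ x) h1
    simp only [dotProduct_smul, h, smul_zero, smul_eq_mul, mul_zero] at this
    exact this.symm
  have h3 : ψ ⬝ᵥ u = 0 := by
    rcases mul_eq_zero.1 h2 with h | h
    · exact absurd h hr'
    · exact h
  rw [h3, zero_smul] at h1
  exact hu ((smul_eq_zero.1 h1.symm).resolve_left hr')

/-- an element with a nonzero fixed vector and the same image as a transvection is that
transvection -/
lemma eq_of_pr_eq_tv {x : SpecialLinearGroup ι F} {w ψ : ι → F} (h : ψ ⬝ᵥ w = 0) {u : ι → F}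
    (hu : u ≠ 0) (hx : x.1 *ᵥ u = u) (e : pr x = pr (tv w ψ)) : x = tv w ψ := by
  obtain ⟨r, hr, h1⟩ := exists_smul_of_pr_eq e
  have h2 : (tv w ψ).1 *ᵥ u = r • u := by
    rw [h1, Matrix.smul_mulVec, hx]
  have h3 := tv_eigen h hu h2
  rw [h3, one_smul] at h1
  exact sl_ext h1.symm

lemma tv_eq_of_pr_eq (h3 : 3 ≤ Fintype.card ι) {v φ w ψ : ι → F} (h : φ ⬝ᵥ v = 0)
    (h' : ψ ⬝ᵥ w = 0) (e : pr (tv v φ) = pr (tv w ψ)) : tv v φ = tv w ψ := by
  obtain ⟨u, hu, hu1⟩ := exists_ne_zero_orth1 h3 φ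
  apply eq_of_pr_eq_tv h' hu _ e
  rw [tv_mulVec h, hu1, zero_smul, add_zero]

/-- **Key lemma**: if the product of two transvections is a transvection modulo scalars, then
their centres or their axes are proportional. -/
theorem par_or_par (h3 : 3 ≤ Fintype.card ι) {v1 φ1 v2 φ2 w ψ : ι → F} (h1 : φ1 ⬝ᵥ v1 = 0)
    (h2 : φ2 ⬝ᵥ v2 = 0) (hw : ψ ⬝ᵥ w = 0) (hv1 : v1 ≠ 0) (hφ1 : φ1 ≠ 0) (hv2 : v2 ≠ 0)
    (hφ2 : φ2 ≠ 0) (e : pr (tv v1 φ1) * pr (tv v2 φ2) = pr (tv w ψ)) :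
    Par v1 v2 ∨ Par φ1 φ2 := by
  obtain ⟨u, hu, hu1, hu2⟩ := exists_ne_zero_orth2 h3 φ1 φ2
  rw [← map_mul] at e
  have e1 : tv v1 φ1 * tv v2 φ2 = tv w ψ := by
    apply eq_of_pr_eq_tv hw hu _ e
    rw [val_mul, ← Matrix.mulVec_mulVec, tv_mulVec h2, hu2, zero_smul, add_zero, tv_mulVec h1, hu1,
      zero_smul, add_zero]
  have e2 : ∀ i j, v1 i * φ1 j + v2 i * φ2 j + (φ1 ⬝ᵥ v2) * (v1 i * φ2 j) = w i * ψ j := by
    intro i j
    have := congrFun (congrFun (congrArg Subtype.val e1) i) j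
    rw [val_mul, tv_coe h1, tv_coe h2, tv_coe hw, one_add_mul_one_add] at this
    simp only [Matrix.add_apply, Matrix.smul_apply, vecMulVec_apply, smul_eq_mul] at this
    have h4 := add_left_cancel (a := (1 : Matrix ι ι F) i j)
      (b := v1 i * φ1 j + v2 i * φ2 j + (φ1 ⬝ᵥ v2) * (v1 i * φ2 j)) (c := w i * ψ j)
      (by rw [← this]; ring)
    exact h4
  by_cases hp : Par v1 v2
  · exact Or.inl hp
  · right
    have hD : ∃ i i', v1 i * v2 i' - v1 i' * v2 i ≠ 0 := by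
      by_contra hcon
      push Not at hcon
      exact hp (par_of_det hv1 hv2 (fun i j => sub_eq_zero.1 (hcon i j)))
    obtain ⟨i, i', hD⟩ := hD
    apply par_of_det hφ1 hφ2
    intro j j'
    have a1 := e2 i j
    have a2 := e2 i' j'
    have a3 := e2 i j'
    have a4 := e2 i' j
    have key : (v1 i * v2 i' - v1 i' * v2 i) * (φ1 j * φ2 j' - φ1 j' * φ2 j) = 0 := by
      have hr : (w i * ψ j) * (w i' * ψ j') = (w i * ψ j') * (w i' * ψ j) := by ring
      rw [← a1, ← a2, ← a3, ← a4] at hr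
      linear_combination hr
    rcases mul_eq_zero.1 key with h | h
    · exact absurd h hD
    · exact sub_eq_zero.1 h

end Cfsg.Agent.Lib.Helper5.AutPSLn
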