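import Mathlib
import Cfsg.Agent.Lib.Helper5.AutPSLnTransv

set_option autoImplicit false
set_option linter.unusedSimpArgs false
set_option linter.unusedVariables false
set_option linter.unnecessarySeqFocus false
set_option linter.unusedSectionVars false

/-!
# Subgroups of `PSL_n(F)` consisting of transvections
-/

namespace Cfsg.Agent.Lib.Helper5.AutPSLn

open Matrix
open scoped Pointwise

variable {ι : Type*} [Fintype ι] [DecidableEq ι] {F : Type*} [Field F]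

lemma tv_inv' {v φ : ι → F} (hφ : φ ⬝ᵥ v = 0) : (tv v φ)⁻¹ = tv (-v) φ := by
  rw [tv_inv hφ]
  have := tv_smul (-1 : F) v φ
  rw [neg_one_smul, neg_one_smul] at this
  exact this.symm

/-- transvections with centre `v` -/
def Apt (v : ι → F) : Subgroup (SpecialLinearGroup ι F) where
  carrier := {x | ∃ φ : ι → F, φ ⬝ᵥ v = 0 ∧ x = tv v φ}
  one_mem' := ⟨0, by simp, (tv_zero_right v).symm⟩
  mul_mem' := by
    rintro _ _ ⟨φ, hφ, rfl⟩ ⟨ψ, hψ, rfl⟩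
    exact ⟨φ + ψ, by rw [add_dotProduct, hφ, hψ, add_zero], tv_mul_left hφ hψ⟩
  inv_mem' := by
    rintro _ ⟨φ, hφ, rfl⟩
    exact ⟨-φ, by rw [neg_dotProduct, hφ, neg_zero], tv_inv hφ⟩

/-- transvections with axis `φ` -/
def Ahp (φ : ι → F) : Subgroup (SpecialLinearGroup ι F) where
  carrier := {x | ∃ v : ι → F, φ ⬝ᵥ v = 0 ∧ x = tv v φ}
  one_mem' := ⟨0, by simp, (tv_zero_left φ).symm⟩
  mul_mem' := by
    rintro _ _ ⟨v, hv, rfl⟩ ⟨w, hw, rfl⟩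
    exact ⟨v + w, by rw [dotProduct_add, hv, hw, add_zero], tv_mul_right hv hw⟩
  inv_mem' := by
    rintro _ ⟨v, hv, rfl⟩
    exact ⟨-v, by rw [dotProduct_neg, hv, neg_zero], tv_inv' hv⟩

/-- the image in `PSL_n(F)` of the transvections with centre `v` -/
def Pt (v : ι → F) : Subgroup (Matrix.ProjectiveSpecialLinearGroup ι F) := (Apt v).map pr

/-- the image in `PSL_n(F)` of the transvections with axis `φ` -/
def Hp (φ : ι → F) : Subgroup (Matrix.ProjectiveSpecialLinearGroup ι F) := (Ahp φ).map pr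

lemma mem_Pt {v : ι → F} {y : Matrix.ProjectiveSpecialLinearGroup ι F} :
    y ∈ Pt v ↔ ∃ φ : ι → F, φ ⬝ᵥ v = 0 ∧ y = pr (tv v φ) := by
  constructor
  · rintro ⟨_, ⟨φ, hφ, rfl⟩, rfl⟩
    exact ⟨φ, hφ, rfl⟩
  · rintro ⟨φ, hφ, rfl⟩
    exact ⟨_, ⟨φ, hφ, rfl⟩, rfl⟩

lemma mem_Hp {φ : ι → F} {y : Matrix.ProjectiveSpecialLinearGroup ι F} :
    y ∈ Hp φ ↔ ∃ v : ι → F, φ ⬝ᵥ v = 0 ∧ y = pr (tv v φ) := by
  constructor
  · rintro ⟨_, ⟨v, hv, rfl⟩, rfl⟩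
    exact ⟨v, hv, rfl⟩
  · rintro ⟨v, hv, rfl⟩
    exact ⟨_, ⟨v, hv, rfl⟩, rfl⟩

/-- the images of the nontrivial transvections -/
def IsTv (y : Matrix.ProjectiveSpecialLinearGroup ι F) : Prop :=
  ∃ v φ : ι → F, v ≠ 0 ∧ φ ≠ 0 ∧ φ ⬝ᵥ v = 0 ∧ y = pr (tv v φ)

lemma pr_tv_ne_one (h3 : 3 ≤ Fintype.card ι) {v φ : ι → F} (h : φ ⬝ᵥ v = 0) (hv : v ≠ 0)
    (hφ : φ ≠ 0) : pr (tv v φ) ≠ 1 := by
  intro h1
  have h2 : pr (tv v φ) = pr (tv (0 : ι → F) (0 : ι → F)) := by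
    rw [h1, tv_zero_left, map_one]
  have h4 := tv_eq_of_pr_eq h3 h (by simp) h2
  rw [tv_zero_left] at h4
  rcases (tv_eq_one_iff h).1 h4 with h5 | h5
  · exact hv h5
  · exact hφ h5

lemma IsTv.ne_one (h3 : 3 ≤ Fintype.card ι) {y : Matrix.ProjectiveSpecialLinearGroup ι F}
    (hy : IsTv y) : y ≠ 1 := by
  obtain ⟨v, φ, hv, hφ, h, rfl⟩ := hy
  exact pr_tv_ne_one h3 h hv hφ

lemma isTv_of_mem_Pt {v : ι → F} (hv : v ≠ 0) {y : Matrix.ProjectiveSpecialLinearGroup ι F}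
    (hy : y ∈ Pt v) (hy1 : y ≠ 1) : IsTv y := by
  obtain ⟨φ, hφ, rfl⟩ := mem_Pt.1 hy
  refine ⟨v, φ, hv, ?_, hφ, rfl⟩
  rintro rfl
  rw [tv_zero_right, map_one] at hy1
  exact hy1 rfl

lemma isTv_of_mem_Hp {φ : ι → F} (hφ : φ ≠ 0) {y : Matrix.ProjectiveSpecialLinearGroup ι F}
    (hy : y ∈ Hp φ) (hy1 : y ≠ 1) : IsTv y := by
  obtain ⟨v, hv, rfl⟩ := mem_Hp.1 hy
  refine ⟨v, φ, ?_, hφ, hv, rfl⟩
  rintro rfl
  rw [tv_zero_left, map_one] at hy1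
  exact hy1 rfl

lemma par_of_mem_Pt_Pt (h3 : 3 ≤ Fintype.card ι) {v v' : ι → F} (hv : v ≠ 0)
    {y : Matrix.ProjectiveSpecialLinearGroup ι F} (hy : y ∈ Pt v) (hy' : y ∈ Pt v')
    (hy1 : y ≠ 1) : Par v v' := by
  obtain ⟨φ, hφ, rfl⟩ := mem_Pt.1 hy
  obtain ⟨φ', hφ', e⟩ := mem_Pt.1 hy'
  have hφ0 : φ ≠ 0 := by
    rintro rfl
    rw [tv_zero_right, map_one] at hy1
    exact hy1 rfl
  exact (tv_eq_tv hφ hφ' hv hφ0 (tv_eq_of_pr_eq h3 hφ hφ' e)).1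

lemma par_of_mem_Hp_Hp (h3 : 3 ≤ Fintype.card ι) {φ φ' : ι → F} (hφ : φ ≠ 0)
    {y : Matrix.ProjectiveSpecialLinearGroup ι F} (hy : y ∈ Hp φ) (hy' : y ∈ Hp φ')
    (hy1 : y ≠ 1) : Par φ φ' := by
  obtain ⟨v, hv, rfl⟩ := mem_Hp.1 hy
  obtain ⟨v', hv', e⟩ := mem_Hp.1 hy'
  have hv0 : v ≠ 0 := by
    rintro rfl
    rw [tv_zero_left, map_one] at hy1
    exact hy1 rfl
  exact (tv_eq_tv hv hv' hv0 hφ (tv_eq_of_pr_eq h3 hv hv' e)).2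

lemma of_mem_Pt_Hp (h3 : 3 ≤ Fintype.card ι) {v φ : ι → F} (hv : v ≠ 0) (hφ : φ ≠ 0)
    {y : Matrix.ProjectiveSpecialLinearGroup ι F} (hy : y ∈ Pt v) (hy' : y ∈ Hp φ)
    (hy1 : y ≠ 1) : φ ⬝ᵥ v = 0 ∧ ∃ t : F, y = pr (tv v (t • φ)) := by
  obtain ⟨ψ, hψ, rfl⟩ := mem_Pt.1 hy
  obtain ⟨w, hw, e⟩ := mem_Hp.1 hy'
  have hψ0 : ψ ≠ 0 := by
    rintro rfl
    rw [tv_zero_right, map_one] at hy1
    exact hy1 rfl
  obtain ⟨p1, p2⟩ := tv_eq_tv hψ hw hv hψ0 (tv_eq_of_pr_eq h3 hψ hw e)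
  refine ⟨(p1.symm.dot_left φ).1 hw, ?_⟩
  obtain ⟨c, hc, rfl⟩ := p2.symm
  exact ⟨c, rfl⟩

lemma Pt_congr {v v' : ι → F} (h : Par v v') : Pt v = Pt v' := by
  obtain ⟨c, hc, rfl⟩ := h
  ext y
  rw [mem_Pt, mem_Pt]
  constructor
  · rintro ⟨φ, hφ, rfl⟩
    refine ⟨c⁻¹ • φ, ?_, ?_⟩
    · rw [smul_dotProduct, dotProduct_smul, hφ, smul_zero, smul_zero]
    · rw [tv_smul, smul_smul, mul_inv_cancel₀ hc, one_smul]
  · rintro ⟨φ, hφ, rfl⟩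
    rw [dotProduct_smul, smul_eq_mul, mul_eq_zero] at hφ
    refine ⟨c • φ, ?_, ?_⟩
    · rw [smul_dotProduct, hφ.resolve_left hc, smul_zero]
    · rw [tv_smul]

lemma Hp_congr {φ φ' : ι → F} (h : Par φ φ') : Hp φ = Hp φ' := by
  obtain ⟨c, hc, rfl⟩ := h
  ext y
  rw [mem_Hp, mem_Hp]
  constructor
  · rintro ⟨v, hv, rfl⟩
    refine ⟨c⁻¹ • v, ?_, ?_⟩
    · rw [smul_dotProduct, dotProduct_smul, hv, smul_zero, smul_zero]
    · rw [← tv_smul, smul_smul, mul_inv_cancel₀ hc, one_smul]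
  · rintro ⟨v, hv, rfl⟩
    rw [smul_dotProduct, smul_eq_mul, mul_eq_zero] at hv
    refine ⟨c • v, ?_, ?_⟩
    · rw [dotProduct_smul, hv.resolve_left hc, smul_zero]
    · rw [tv_smul]

lemma exists_mem_Pt_not_mem_Hp (h3 : 3 ≤ Fintype.card ι) {v φ : ι → F} (hv : v ≠ 0)
    (hφ : φ ≠ 0) : ∃ y, y ∈ Pt v ∧ y ∉ Hp φ := by
  obtain ⟨ψ, hψ, h1, h2⟩ := exists_orth_not_par h3 v hφ
  refine ⟨pr (tv v ψ), mem_Pt.2 ⟨ψ, h1, rfl⟩, ?_⟩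
  intro hy
  obtain ⟨w, hw, e⟩ := mem_Hp.1 hy
  exact h2 (tv_eq_tv h1 hw hv hψ (tv_eq_of_pr_eq h3 h1 hw e)).2.symm

lemma exists_mem_Hp_not_mem_Pt (h3 : 3 ≤ Fintype.card ι) {v φ : ι → F} (hv : v ≠ 0)
    (hφ : φ ≠ 0) : ∃ y, y ∈ Hp φ ∧ y ∉ Pt v := by
  obtain ⟨w, hw, h1, h2⟩ := exists_orth_not_par h3 φ hv
  rw [dotProduct_comm] at h1
  refine ⟨pr (tv w φ), mem_Hp.2 ⟨w, h1, rfl⟩, ?_⟩
  intro hy
  obtain ⟨ψ, hψ, e⟩ := mem_Pt.1 hy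
  exact h2 (tv_eq_tv h1 hψ hw hφ (tv_eq_of_pr_eq h3 h1 hψ e)).1.symm

lemma exists_mem_Pt_ne_one (h3 : 3 ≤ Fintype.card ι) {v : ι → F} (hv : v ≠ 0) :
    ∃ y, y ∈ Pt v ∧ y ≠ 1 := by
  obtain ⟨y, hy, hy'⟩ := exists_mem_Pt_not_mem_Hp h3 hv hv
  exact ⟨y, hy, fun h => hy' (h ▸ (Hp v).one_mem)⟩

lemma exists_mem_Hp_ne_one (h3 : 3 ≤ Fintype.card ι) {φ : ι → F} (hφ : φ ≠ 0) :
    ∃ y, y ∈ Hp φ ∧ y ≠ 1 := by
  obtain ⟨y, hy, hy'⟩ := exists_mem_Hp_not_mem_Pt h3 hφ hφ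
  exact ⟨y, hy, fun h => hy' (h ▸ (Pt φ).one_mem)⟩

/-- **Key lemma**: a subgroup of `PSL_n(F)` consisting of images of transvections consists of
transvections with a common centre or of transvections with a common axis. -/
theorem le_Pt_or_le_Hp (h3 : 3 ≤ Fintype.card ι)
    (S : Subgroup (Matrix.ProjectiveSpecialLinearGroup ι F))
    (hS : ∀ y ∈ S, y ≠ 1 → IsTv y) :
    (∃ v : ι → F, v ≠ 0 ∧ S ≤ Pt v) ∨ (∃ φ : ι → F, φ ≠ 0 ∧ S ≤ Hp φ) := by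
  have hS' : ∀ y ∈ S, ∃ w ψ : ι → F, ψ ⬝ᵥ w = 0 ∧ y = pr (tv w ψ) := by
    intro y hy
    by_cases hy1 : y = 1
    · exact ⟨0, 0, by simp, by rw [hy1, tv_zero_left, map_one]⟩
    · obtain ⟨v, φ, _, _, h, e⟩ := hS y hy hy1
      exact ⟨v, φ, h, e⟩
  by_cases hbot : S = ⊥
  · left
    have : Nonempty ι := Fintype.card_pos_iff.1 (by omega)
    obtain ⟨i⟩ := this
    refine ⟨Pi.single i 1, ?_, ?_⟩
    · intro h
      have := congrFun h i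
      simp at this
    · rw [hbot]; exact bot_le
  obtain ⟨a, haS, ha1⟩ : ∃ a, a ∈ S ∧ a ≠ 1 := by
    obtain ⟨a, ha⟩ := Subgroup.ne_bot_iff_exists_ne_one.1 hbot
    exact ⟨a.1, a.2, fun h => ha (Subtype.ext h)⟩
  obtain ⟨v1, φ1, hv1, hφ1, h1, ea⟩ := hS a haS ha1
  by_cases hP : S ≤ Pt v1
  · exact Or.inl ⟨v1, hv1, hP⟩
  by_cases hH : S ≤ Hp φ1
  · exact Or.inr ⟨φ1, hφ1, hH⟩
  exfalso
  obtain ⟨b, hbS, hb⟩ := SetLike.not_le_iff_exists.1 hP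
  obtain ⟨c, hcS, hc⟩ := SetLike.not_le_iff_exists.1 hH
  have hb1 : b ≠ 1 := fun h => hb (h ▸ (Pt v1).one_mem)
  have hc1 : c ≠ 1 := fun h => hc (h ▸ (Hp φ1).one_mem)
  obtain ⟨v2, φ2, hv2, hφ2, h2, eb⟩ := hS b hbS hb1
  obtain ⟨v3, φ3, hv3, hφ3, h3', ec⟩ := hS c hcS hc1
  obtain ⟨w1, ψ1, hw1, e1⟩ := hS' _ (S.mul_mem haS hbS)
  obtain ⟨w2, ψ2, hw2, e2⟩ := hS' _ (S.mul_mem haS hcS)
  obtain ⟨w3, ψ3, hw3, e3⟩ := hS' _ (S.mul_mem hbS hcS)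
  rw [ea, eb] at e1
  rw [ea, ec] at e2
  rw [eb, ec] at e3
  have p1 : Par φ1 φ2 := by
    rcases par_or_par h3 h1 h2 hw1 hv1 hφ1 hv2 hφ2 e1 with p | p
    · exfalso
      apply hb
      rw [Pt_congr p, eb]
      exact mem_Pt.2 ⟨φ2, h2, rfl⟩
    · exact p
  have p2 : Par v1 v3 := by
    rcases par_or_par h3 h1 h3' hw2 hv1 hφ1 hv3 hφ3 e2 with p | p
    · exact p
    · exfalso
      apply hc
      rw [Hp_congr p, ec]
      exact mem_Hp.2 ⟨v3, h3', rfl⟩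
  rcases par_or_par h3 h2 h3' hw3 hv2 hφ2 hv3 hφ3 e3 with p | p
  · apply hb
    rw [Pt_congr (p2.trans p.symm), eb]
    exact mem_Pt.2 ⟨φ2, h2, rfl⟩
  · apply hc
    rw [Hp_congr (p1.trans p), ec]
    exact mem_Hp.2 ⟨v3, h3', rfl⟩


/-! ### The two families of maximal transvection subgroups -/

/-- subgroups of the form `Pt v` -/
def IsPt (M : Subgroup (Matrix.ProjectiveSpecialLinearGroup ι F)) : Prop :=
  ∃ v : ι → F, v ≠ 0 ∧ M = Pt v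

/-- subgroups of the form `Hp φ` -/
def IsHp (M : Subgroup (Matrix.ProjectiveSpecialLinearGroup ι F)) : Prop :=
  ∃ φ : ι → F, φ ≠ 0 ∧ M = Hp φ

lemma IsPt.ne_bot (h3 : 3 ≤ Fintype.card ι) {M : Subgroup (Matrix.ProjectiveSpecialLinearGroup ι F)}
    (h : IsPt M) : M ≠ ⊥ := by
  obtain ⟨v, hv, rfl⟩ := h
  obtain ⟨y, hy, hy1⟩ := exists_mem_Pt_ne_one h3 hv
  intro hb
  rw [hb, Subgroup.mem_bot] at hy
  exact hy1 hy

lemma IsHp.ne_bot (h3 : 3 ≤ Fintype.card ι) {M : Subgroup (Matrix.ProjectiveSpecialLinearGroup ι F)}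
    (h : IsHp M) : M ≠ ⊥ := by
  obtain ⟨v, hv, rfl⟩ := h
  obtain ⟨y, hy, hy1⟩ := exists_mem_Hp_ne_one h3 hv
  intro hb
  rw [hb, Subgroup.mem_bot] at hy
  exact hy1 hy

lemma exists_ne_one_of_ne_bot {G : Type*} [Group G] {M : Subgroup G} (h : M ≠ ⊥) :
    ∃ y, y ∈ M ∧ y ≠ 1 := by
  obtain ⟨a, ha⟩ := Subgroup.ne_bot_iff_exists_ne_one.1 h
  exact ⟨a.1, a.2, fun h => ha (Subtype.ext h)⟩

lemma IsPt.eq_of_inf_ne_bot (h3 : 3 ≤ Fintype.card ι)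
    {M M' : Subgroup (Matrix.ProjectiveSpecialLinearGroup ι F)} (h : IsPt M) (h' : IsPt M')
    (hne : M ⊓ M' ≠ ⊥) : M = M' := by
  obtain ⟨v, hv, rfl⟩ := h
  obtain ⟨v', hv', rfl⟩ := h'
  obtain ⟨y, hy, hy1⟩ := exists_ne_one_of_ne_bot hne
  exact Pt_congr (par_of_mem_Pt_Pt h3 hv hy.1 hy.2 hy1)

lemma IsHp.eq_of_inf_ne_bot (h3 : 3 ≤ Fintype.card ι)
    {M M' : Subgroup (Matrix.ProjectiveSpecialLinearGroup ι F)} (h : IsHp M) (h' : IsHp M')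
    (hne : M ⊓ M' ≠ ⊥) : M = M' := by
  obtain ⟨v, hv, rfl⟩ := h
  obtain ⟨v', hv', rfl⟩ := h'
  obtain ⟨y, hy, hy1⟩ := exists_ne_one_of_ne_bot hne
  exact Hp_congr (par_of_mem_Hp_Hp h3 hv hy.1 hy.2 hy1)

lemma IsPt.not_le_isHp (h3 : 3 ≤ Fintype.card ι)
    {M M' : Subgroup (Matrix.ProjectiveSpecialLinearGroup ι F)} (h : IsPt M) (h' : IsHp M') :
    ¬ M ≤ M' := by
  obtain ⟨v, hv, rfl⟩ := h
  obtain ⟨φ, hφ, rfl⟩ := h'
  obtain ⟨y, hy, hy'⟩ := exists_mem_Pt_not_mem_Hp h3 hv hφ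
  exact fun hle => hy' (hle hy)

lemma IsHp.not_le_isPt (h3 : 3 ≤ Fintype.card ι)
    {M M' : Subgroup (Matrix.ProjectiveSpecialLinearGroup ι F)} (h : IsHp M) (h' : IsPt M') :
    ¬ M ≤ M' := by
  obtain ⟨φ, hφ, rfl⟩ := h
  obtain ⟨v, hv, rfl⟩ := h'
  obtain ⟨y, hy, hy'⟩ := exists_mem_Hp_not_mem_Pt h3 hv hφ
  exact fun hle => hy' (hle hy)

lemma IsPt.ne_isHp (h3 : 3 ≤ Fintype.card ι)
    {M M' : Subgroup (Matrix.ProjectiveSpecialLinearGroup ι F)} (h : IsPt M) (h' : IsHp M') :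
    M ≠ M' := fun e => h.not_le_isHp h3 h' (le_of_eq e)

lemma eq_of_le_of_isMx (h3 : 3 ≤ Fintype.card ι)
    {M M' : Subgroup (Matrix.ProjectiveSpecialLinearGroup ι F)} (hM : IsPt M ∨ IsHp M)
    (hM' : IsPt M' ∨ IsHp M') (hle : M ≤ M') : M = M' := by
  rcases hM with hM | hM <;> rcases hM' with hM' | hM'
  · apply hM.eq_of_inf_ne_bot h3 hM'
    rw [inf_eq_left.2 hle]
    exact hM.ne_bot h3
  · exact absurd hle (hM.not_le_isHp h3 hM')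
  · exact absurd hle (hM.not_le_isPt h3 hM')
  · apply hM.eq_of_inf_ne_bot h3 hM'
    rw [inf_eq_left.2 hle]
    exact hM.ne_bot h3

lemma isTv_of_mem_isMx {M : Subgroup (Matrix.ProjectiveSpecialLinearGroup ι F)}
    (hM : IsPt M ∨ IsHp M) {y : Matrix.ProjectiveSpecialLinearGroup ι F} (hy : y ∈ M)
    (hy1 : y ≠ 1) : IsTv y := by
  rcases hM with ⟨v, hv, rfl⟩ | ⟨φ, hφ, rfl⟩
  · exact isTv_of_mem_Pt hv hy hy1
  · exact isTv_of_mem_Hp hφ hy hy1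

lemma Pt_inf_Hp_ne_bot_iff (h3 : 3 ≤ Fintype.card ι) {v φ : ι → F} (hv : v ≠ 0) (hφ : φ ≠ 0) :
    Pt v ⊓ Hp φ ≠ ⊥ ↔ φ ⬝ᵥ v = 0 := by
  constructor
  · intro hne
    obtain ⟨y, hy, hy1⟩ := exists_ne_one_of_ne_bot hne
    exact (of_mem_Pt_Hp h3 hv hφ hy.1 hy.2 hy1).1
  · intro h hb
    have h1 : pr (tv v φ) ∈ Pt v ⊓ Hp φ := ⟨mem_Pt.2 ⟨φ, h, rfl⟩, mem_Hp.2 ⟨v, h, rfl⟩⟩
    rw [hb, Subgroup.mem_bot] at h1
    exact pr_tv_ne_one h3 h hv hφ h1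

/-- an automorphism preserving the set of transvections permutes the maximal transvection
subgroups -/
theorem isMx_smul (h3 : 3 ≤ Fintype.card ι)
    (α : MulAut (Matrix.ProjectiveSpecialLinearGroup ι F))
    (hα : ∀ y, IsTv y → IsTv (α y)) (hα' : ∀ y, IsTv y → IsTv (α⁻¹ y))
    {M : Subgroup (Matrix.ProjectiveSpecialLinearGroup ι F)} (hM : IsPt M ∨ IsHp M) :
    IsPt (α • M) ∨ IsHp (α • M) := by
  have key : ∀ (β : MulAut (Matrix.ProjectiveSpecialLinearGroup ι F)),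
      (∀ y, IsTv y → IsTv (β y)) →
      ∀ N : Subgroup (Matrix.ProjectiveSpecialLinearGroup ι F), (IsPt N ∨ IsHp N) →
      ∃ N' : Subgroup (Matrix.ProjectiveSpecialLinearGroup ι F), (IsPt N' ∨ IsHp N') ∧
        β • N ≤ N' := by
    intro β hβ N hN
    have h1 : ∀ y ∈ β • N, y ≠ 1 → IsTv y := by
      intro y hy hy1
      obtain ⟨x, hx, rfl⟩ := (Subgroup.mem_smul_pointwise_iff_exists _ _ _).1 hy
      rw [MulAut.smul_def] at hy1 ⊢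
      apply hβ
      apply isTv_of_mem_isMx hN hx
      rintro rfl
      exact hy1 (map_one β)
    rcases le_Pt_or_le_Hp h3 _ h1 with ⟨v, hv, hle⟩ | ⟨φ, hφ, hle⟩
    · exact ⟨Pt v, Or.inl ⟨v, hv, rfl⟩, hle⟩
    · exact ⟨Hp φ, Or.inr ⟨φ, hφ, rfl⟩, hle⟩
  obtain ⟨M', hM', hle'⟩ := key α hα M hM
  obtain ⟨M'', hM'', hle''⟩ := key α⁻¹ hα' M' hM'
  have h1 : M ≤ α⁻¹ • M' := by
    rw [← inv_smul_smul α M]
    exact Subgroup.pointwise_smul_le_pointwise_smul_iff.2 hle'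
  have h2 : M = M'' := eq_of_le_of_isMx h3 hM hM'' (h1.trans hle'')
  have h3' : α⁻¹ • M' = M := le_antisymm (h2 ▸ hle'') h1
  have h4 : α • M = M' := by rw [← h3', smul_inv_smul]
  rw [h4]
  exact hM'


/-! ### The action of the standard automorphisms -/

lemma dot_conj (g : GL ι F) (v φ : ι → F) :
    (φ ᵥ* (g⁻¹).1) ⬝ᵥ (g.1 *ᵥ v) = φ ⬝ᵥ v := by
  rw [dotProduct_mulVec, Matrix.vecMul_vecMul, ← Units.val_mul, inv_mul_cancel]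
  simp

lemma Gam_smul_Pt_le (g : GL ι F) (v : ι → F) : Gam g • Pt v ≤ Pt (g.1 *ᵥ v) := by
  intro y hy
  obtain ⟨x, hx, rfl⟩ := (Subgroup.mem_smul_pointwise_iff_exists _ _ _).1 hy
  obtain ⟨φ, hφ, rfl⟩ := mem_Pt.1 hx
  rw [MulAut.smul_def, Gam_pr, conjS_tv g hφ]
  exact mem_Pt.2 ⟨_, by rw [dot_conj, hφ], rfl⟩

lemma Gam_smul_Pt (g : GL ι F) (v : ι → F) : Gam g • Pt v = Pt (g.1 *ᵥ v) := by
  apply le_antisymm (Gam_smul_Pt_le g v)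
  have h1 := Gam_smul_Pt_le g⁻¹ (g.1 *ᵥ v)
  have h2 : (g⁻¹).1 *ᵥ (g.1 *ᵥ v) = v := by
    rw [Matrix.mulVec_mulVec, ← Units.val_mul, inv_mul_cancel]; simp
  rw [h2] at h1
  have h3 := Subgroup.pointwise_smul_le_pointwise_smul_iff (a := Gam g) |>.2 h1
  rwa [map_inv, smul_inv_smul] at h3

lemma Gam_smul_Hp_le (g : GL ι F) (φ : ι → F) : Gam g • Hp φ ≤ Hp (φ ᵥ* (g⁻¹).1) := by
  intro y hy
  obtain ⟨x, hx, rfl⟩ := (Subgroup.mem_smul_pointwise_iff_exists _ _ _).1 hy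
  obtain ⟨v, hv, rfl⟩ := mem_Hp.1 hx
  rw [MulAut.smul_def, Gam_pr, conjS_tv g hv]
  exact mem_Hp.2 ⟨_, by rw [dot_conj, hv], rfl⟩

lemma Gam_smul_Hp (g : GL ι F) (φ : ι → F) : Gam g • Hp φ = Hp (φ ᵥ* (g⁻¹).1) := by
  apply le_antisymm (Gam_smul_Hp_le g φ)
  have h1 := Gam_smul_Hp_le g⁻¹ (φ ᵥ* (g⁻¹).1)
  have h2 : (φ ᵥ* (g⁻¹).1) ᵥ* ((g⁻¹)⁻¹).1 = φ := by
    rw [Matrix.vecMul_vecMul, ← Units.val_mul, mul_inv_cancel]; simp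
  rw [h2] at h1
  have h3 := Subgroup.pointwise_smul_le_pointwise_smul_iff (a := Gam g) |>.2 h1
  rwa [map_inv, smul_inv_smul] at h3

lemma Iota_smul_Pt_le (v : ι → F) :
    (Iota : MulAut (Matrix.ProjectiveSpecialLinearGroup ι F)) • Pt v ≤ Hp v := by
  intro y hy
  obtain ⟨x, hx, rfl⟩ := (Subgroup.mem_smul_pointwise_iff_exists _ _ _).1 hy
  obtain ⟨φ, hφ, rfl⟩ := mem_Pt.1 hx
  rw [MulAut.smul_def, Iota_pr, invT_tv hφ, ← neg_one_smul F v, ← tv_smul]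
  exact mem_Hp.2 ⟨_, by rw [dotProduct_smul, dotProduct_comm, hφ, smul_zero], rfl⟩

lemma Iota_smul_Hp_le (φ : ι → F) :
    (Iota : MulAut (Matrix.ProjectiveSpecialLinearGroup ι F)) • Hp φ ≤ Pt φ := by
  intro y hy
  obtain ⟨x, hx, rfl⟩ := (Subgroup.mem_smul_pointwise_iff_exists _ _ _).1 hy
  obtain ⟨v, hv, rfl⟩ := mem_Hp.1 hx
  rw [MulAut.smul_def, Iota_pr, invT_tv hv]
  exact mem_Pt.2 ⟨_, by rw [neg_dotProduct, dotProduct_comm, hv, neg_zero], rfl⟩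

lemma Iota_smul_Pt (v : ι → F) :
    (Iota : MulAut (Matrix.ProjectiveSpecialLinearGroup ι F)) • Pt v = Hp v := by
  apply le_antisymm (Iota_smul_Pt_le v)
  have h1 := Iota_smul_Hp_le (F := F) v
  have h3 := Subgroup.pointwise_smul_le_pointwise_smul_iff
    (a := (Iota : MulAut (Matrix.ProjectiveSpecialLinearGroup ι F))) |>.2 h1
  rwa [← mul_smul, Iota_mul_self, one_smul] at h3

lemma Iota_smul_Hp (φ : ι → F) :
    (Iota : MulAut (Matrix.ProjectiveSpecialLinearGroup ι F)) • Hp φ = Pt φ := by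
  apply le_antisymm (Iota_smul_Hp_le φ)
  have h1 := Iota_smul_Pt_le (F := F) φ
  have h3 := Subgroup.pointwise_smul_le_pointwise_smul_iff
    (a := (Iota : MulAut (Matrix.ProjectiveSpecialLinearGroup ι F))) |>.2 h1
  rwa [← mul_smul, Iota_mul_self, one_smul] at h3

lemma map_dot (σ : F ≃+* F) (v φ : ι → F) :
    (fun i => σ (φ i)) ⬝ᵥ (fun i => σ (v i)) = σ (φ ⬝ᵥ v) := by
  simp [dotProduct, map_sum]

lemma Phi_smul_Pt_le (σ : F ≃+* F) (v : ι → F) :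
    (Phi σ : MulAut (Matrix.ProjectiveSpecialLinearGroup ι F)) • Pt v ≤ Pt (fun i => σ (v i)) := by
  intro y hy
  obtain ⟨x, hx, rfl⟩ := (Subgroup.mem_smul_pointwise_iff_exists _ _ _).1 hy
  obtain ⟨φ, hφ, rfl⟩ := mem_Pt.1 hx
  rw [MulAut.smul_def, Phi_pr, fieldS_tv σ hφ]
  exact mem_Pt.2 ⟨_, by rw [map_dot, hφ, map_zero], rfl⟩

lemma Phi_smul_Hp_le (σ : F ≃+* F) (φ : ι → F) :
    (Phi σ : MulAut (Matrix.ProjectiveSpecialLinearGroup ι F)) • Hp φ ≤ Hp (fun i => σ (φ i)) := by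
  intro y hy
  obtain ⟨x, hx, rfl⟩ := (Subgroup.mem_smul_pointwise_iff_exists _ _ _).1 hy
  obtain ⟨v, hv, rfl⟩ := mem_Hp.1 hx
  rw [MulAut.smul_def, Phi_pr, fieldS_tv σ hv]
  exact mem_Hp.2 ⟨_, by rw [map_dot, hv, map_zero], rfl⟩

lemma Phi_smul_Pt (σ : F ≃+* F) (v : ι → F) :
    (Phi σ : MulAut (Matrix.ProjectiveSpecialLinearGroup ι F)) • Pt v = Pt (fun i => σ (v i)) := by
  apply le_antisymm (Phi_smul_Pt_le σ v)
  have h1 := Phi_smul_Pt_le (ι := ι) σ⁻¹ (fun i => σ (v i))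
  have h2 : (fun i => σ⁻¹ (σ (v i))) = v := by
    ext i
    exact σ.symm_apply_apply (v i)
  rw [h2] at h1
  have h3 := Subgroup.pointwise_smul_le_pointwise_smul_iff
    (a := (Phi σ : MulAut (Matrix.ProjectiveSpecialLinearGroup ι F))) |>.2 h1
  rwa [map_inv, smul_inv_smul] at h3

lemma Phi_smul_Hp (σ : F ≃+* F) (φ : ι → F) :
    (Phi σ : MulAut (Matrix.ProjectiveSpecialLinearGroup ι F)) • Hp φ = Hp (fun i => σ (φ i)) := by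
  apply le_antisymm (Phi_smul_Hp_le σ φ)
  have h1 := Phi_smul_Hp_le (ι := ι) σ⁻¹ (fun i => σ (φ i))
  have h2 : (fun i => σ⁻¹ (σ (φ i))) = φ := by
    ext i
    exact σ.symm_apply_apply (φ i)
  rw [h2] at h1
  have h3 := Subgroup.pointwise_smul_le_pointwise_smul_iff
    (a := (Phi σ : MulAut (Matrix.ProjectiveSpecialLinearGroup ι F))) |>.2 h1
  rwa [map_inv, smul_inv_smul] at h3

lemma isTv_Gam (g : GL ι F) {y : Matrix.ProjectiveSpecialLinearGroup ι F} (hy : IsTv y) :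
    IsTv (Gam g y) := by
  obtain ⟨v, φ, hv, hφ, h, rfl⟩ := hy
  rw [Gam_pr, conjS_tv g h]
  refine ⟨_, _, ?_, ?_, by rw [dot_conj, h], rfl⟩
  · intro h0
    apply hv
    have := congrArg (fun x => (g⁻¹).1 *ᵥ x) h0
    simpa [Matrix.mulVec_mulVec, ← Units.val_mul] using this
  · intro h0
    apply hφ
    have := congrArg (fun x => x ᵥ* g.1) h0
    simpa [Matrix.vecMul_vecMul, ← Units.val_mul] using this

lemma isTv_Iota {y : Matrix.ProjectiveSpecialLinearGroup ι F} (hy : IsTv y) :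
    IsTv (Iota y) := by
  obtain ⟨v, φ, hv, hφ, h, rfl⟩ := hy
  rw [Iota_pr, invT_tv h]
  exact ⟨_, _, hφ, neg_ne_zero.2 hv, by rw [neg_dotProduct, dotProduct_comm, h, neg_zero], rfl⟩

end Cfsg.Agent.Lib.Helper5.AutPSLn
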