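import Mathlib
import Cfsg.Agent.Lib.Helper5.AutPSLnRoot

set_option autoImplicit false
set_option linter.unusedSimpArgs false
set_option linter.unusedVariables false
set_option linter.unnecessarySeqFocus false
set_option linter.unusedSectionVars false

/-!
# Root elements `1 + t E_ij` of `SL_n(F)`
-/

namespace Cfsg.Agent.Lib.Helper5.AutPSLn

open Matrix
open scoped Pointwise

variable {ι : Type*} [Fintype ι] [DecidableEq ι] {F : Type*} [Field F]

/-- the standard basis vector -/
def ee (i : ι) : ι → F := Pi.single i 1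

lemma ee_apply (i k : ι) : (ee i : ι → F) k = if k = i then 1 else 0 := by
  unfold ee
  by_cases h : k = i
  · subst h; simp
  · simp [h]

lemma ee_ne_zero (i : ι) : (ee i : ι → F) ≠ 0 := by
  intro h
  have := congrFun h i
  simp [ee] at this

lemma dot_ee (φ : ι → F) (i : ι) : φ ⬝ᵥ ee i = φ i := by
  simp [ee]

lemma ee_dot (v : ι → F) (i : ι) : ee i ⬝ᵥ v = v i := by
  simp [ee]

lemma ee_dot_ee {i j : ι} (hij : i ≠ j) : (ee j : ι → F) ⬝ᵥ ee i = 0 := by
  rw [dot_ee, ee_apply, if_neg hij]

lemma smul_ee_dot_ee {i j : ι} (hij : i ≠ j) (t : F) : (t • ee j : ι → F) ⬝ᵥ ee i = 0 := by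
  rw [smul_dotProduct, ee_dot_ee hij, smul_zero]

/-- the root element `1 + t E_ij` -/
noncomputable def xr (i j : ι) (t : F) : SpecialLinearGroup ι F := tv (ee i) (t • ee j)

lemma xr_val {i j : ι} (hij : i ≠ j) (t : F) : (xr i j t).1 = 1 + single i j t := by
  rw [xr, tv_coe (smul_ee_dot_ee hij t)]
  congr 1
  ext k l
  simp only [vecMulVec_apply, Pi.smul_apply, ee_apply, smul_eq_mul, single_apply]
  by_cases h1 : k = i
  · by_cases h2 : l = j
    · subst h1 h2; simp
    · subst h1; simp [h2, Ne.symm h2]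
  · simp [h1, Ne.symm h1]

lemma xr_eq_transvection {i j : ι} (hij : i ≠ j) (t : F) :
    xr i j t = SpecialLinearGroup.transvection hij t := by
  apply sl_ext
  rw [xr_val hij, SpecialLinearGroup.transvection_coe]

lemma xr_zero (i j : ι) : xr i j (0 : F) = 1 := by
  rw [xr, zero_smul, tv_zero_right]

lemma xr_add {i j : ι} (hij : i ≠ j) (s t : F) : xr i j (s + t) = xr i j s * xr i j t := by
  rw [xr, xr, xr, tv_mul_left (smul_ee_dot_ee hij s) (smul_ee_dot_ee hij t), add_smul]

lemma xr_neg {i j : ι} (hij : i ≠ j) (t : F) : xr i j (-t) = (xr i j t)⁻¹ := by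
  symm
  apply inv_eq_of_mul_eq_one_right
  rw [← xr_add hij, add_neg_cancel, xr_zero]

lemma xr_eq_one_iff {i j : ι} (hij : i ≠ j) (t : F) : xr i j t = 1 ↔ t = 0 := by
  rw [xr, tv_eq_one_iff (smul_ee_dot_ee hij t)]
  constructor
  · rintro (h | h)
    · exact absurd h (ee_ne_zero i)
    · rcases smul_eq_zero.1 h with h | h
      · exact h
      · exact absurd h (ee_ne_zero j)
  · rintro rfl
    right
    rw [zero_smul]

open scoped commutatorElement in
/-- the Chevalley commutator relation -/
lemma commutator_xr {i j k : ι} (hij : i ≠ j) (hjk : j ≠ k) (hik : i ≠ k) (s t : F) :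
    ⁅xr i j s, xr j k t⁆ = xr i k (s * t) := by
  rw [commutatorElement_def, ← xr_neg hij, ← xr_neg hjk]
  apply sl_ext
  simp only [val_mul, xr_val hij, xr_val hjk, xr_val hik]
  simp only [mul_add, add_mul, mul_one, one_mul, single_mul_single_same,
    single_mul_single_of_ne _ _ _ _ hij.symm, single_mul_single_of_ne _ _ _ _ hik.symm,
    single_mul_single_of_ne _ _ _ _ hjk.symm,
    single_mul_single_of_ne _ _ _ _ hij, single_mul_single_of_ne _ _ _ _ hik,
    single_mul_single_of_ne _ _ _ _ hjk, zero_mul,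
    add_zero, zero_add, mul_zero]
  ext a b
  simp only [Matrix.add_apply, Matrix.one_apply, Matrix.single_apply]
  by_cases h1 : a = i <;> by_cases h2 : a = j <;> by_cases h3 : b = j <;> by_cases h4 : b = k <;>
    simp [h1, h2, h3, h4, hij, hik, hjk, hij.symm, hik.symm, hjk.symm, eq_comm (a := i),
      eq_comm (a := j), eq_comm (a := k)]

/-- the image of `xr` in `PSL_n` is injective -/
lemma pr_xr_injective (h3 : 3 ≤ Fintype.card ι) {i j : ι} (hij : i ≠ j) {s t : F}
    (h : pr (xr i j s) = pr (xr i j t)) : s = t := by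
  have h1 := tv_eq_of_pr_eq h3 (smul_ee_dot_ee hij s) (smul_ee_dot_ee hij t) h
  have h2 := congrArg Subtype.val h1
  change (xr i j s).1 = (xr i j t).1 at h2
  rw [xr_val hij, xr_val hij] at h2
  have h4 := congrFun (congrFun h2 i) j
  simpa [hij] using h4

end Cfsg.Agent.Lib.Helper5.AutPSLn
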