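import Mathlib
import Cfsg.Agent.Lib.Helper5.AutPSLnXr

set_option autoImplicit false
set_option linter.unusedSimpArgs false
set_option linter.unusedVariables false
set_option linter.unnecessarySeqFocus false
set_option linter.unusedSectionVars false

/-!
# The frame argument: normalizing an automorphism of `PSL_n(F)` by `PGL_n(F)` and inverse-transpose
-/

namespace Cfsg.Agent.Lib.Helper5.AutPSLn

open Matrix
open scoped Pointwise

variable {ι : Type*} [Fintype ι] [DecidableEq ι] {F : Type*} [Field F]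

lemma exists_ne_ne (h3 : 3 ≤ Fintype.card ι) (i j : ι) : ∃ k, k ≠ i ∧ k ≠ j := by
  by_contra hcon
  push Not at hcon
  have : (Finset.univ : Finset ι) ⊆ {i, j} := by
    intro k _
    by_cases hk : k = i
    · simp [hk]
    · simp [hcon k hk]
  have h1 := Finset.card_le_card this
  have h2 : ({i, j} : Finset ι).card ≤ 2 := Finset.card_le_two
  rw [Finset.card_univ] at h1
  omega

lemma exists_ne (h3 : 3 ≤ Fintype.card ι) (i : ι) : ∃ k, k ≠ i := by
  obtain ⟨k, hk, _⟩ := exists_ne_ne h3 i i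
  exact ⟨k, hk⟩

/-- two distinct maximal transvection subgroups meeting nontrivially are of opposite types -/
lemma opp_of_inf_ne_bot (h3 : 3 ≤ Fintype.card ι)
    {M M' : Subgroup (Matrix.ProjectiveSpecialLinearGroup ι F)} (hM : IsPt M ∨ IsHp M)
    (hM' : IsPt M' ∨ IsHp M') (hne : M ≠ M') (hinf : M ⊓ M' ≠ ⊥) :
    (IsPt M ∧ IsHp M') ∨ (IsHp M ∧ IsPt M') := by
  rcases hM with hM | hM <;> rcases hM' with hM' | hM'
  · exact absurd (hM.eq_of_inf_ne_bot h3 hM' hinf) hne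
  · exact Or.inl ⟨hM, hM'⟩
  · exact Or.inr ⟨hM, hM'⟩
  · exact absurd (hM.eq_of_inf_ne_bot h3 hM' hinf) hne

lemma not_isPt_and_isHp (h3 : 3 ≤ Fintype.card ι)
    {M : Subgroup (Matrix.ProjectiveSpecialLinearGroup ι F)} (hM : IsPt M) (hM' : IsHp M) :
    False := hM.ne_isHp h3 hM' rfl

lemma Pt_ee_inf_Hp_ee_ne_bot (h3 : 3 ≤ Fintype.card ι) {i k : ι} (hik : i ≠ k) :
    Pt (ee i : ι → F) ⊓ Hp (ee k) ≠ ⊥ :=
  (Pt_inf_Hp_ne_bot_iff h3 (ee_ne_zero i) (ee_ne_zero k)).2 (ee_dot_ee hik)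

lemma Pt_ee_inf_Hp_ee_eq_bot (h3 : 3 ≤ Fintype.card ι) (i : ι) :
    Pt (ee i : ι → F) ⊓ Hp (ee i) = ⊥ := by
  by_contra h
  have := (Pt_inf_Hp_ne_bot_iff h3 (ee_ne_zero i) (ee_ne_zero i)).1 h
  rw [dot_ee, ee_apply, if_pos rfl] at this
  exact one_ne_zero this

lemma Pt_ee_ne_Hp_ee (h3 : 3 ≤ Fintype.card ι) (i k : ι) :
    Pt (ee i : ι → F) ≠ Hp (ee k) :=
  IsPt.ne_isHp h3 ⟨_, ee_ne_zero i, rfl⟩ ⟨_, ee_ne_zero k, rfl⟩

/-- the types of the images of the frame are uniform -/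
theorem uniform_type (h3 : 3 ≤ Fintype.card ι)
    (α : MulAut (Matrix.ProjectiveSpecialLinearGroup ι F))
    (hα : ∀ y, IsTv y → IsTv (α y)) (hα' : ∀ y, IsTv y → IsTv (α⁻¹ y)) :
    ((∀ i : ι, IsPt (α • Pt (ee i : ι → F))) ∧ (∀ k : ι, IsHp (α • Hp (ee k : ι → F)))) ∨
    ((∀ i : ι, IsHp (α • Pt (ee i : ι → F))) ∧ (∀ k : ι, IsPt (α • Hp (ee k : ι → F)))) := by
  have hA : ∀ i : ι, IsPt (α • Pt (ee i : ι → F)) ∨ IsHp (α • Pt (ee i : ι → F)) := fun i =>
    isMx_smul h3 α hα hα' (Or.inl ⟨_, ee_ne_zero i, rfl⟩)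
  have hB : ∀ k : ι, IsPt (α • Hp (ee k : ι → F)) ∨ IsHp (α • Hp (ee k : ι → F)) := fun k =>
    isMx_smul h3 α hα hα' (Or.inr ⟨_, ee_ne_zero k, rfl⟩)
  have hopp : ∀ i k : ι, i ≠ k →
      (IsPt (α • Pt (ee i : ι → F)) ∧ IsHp (α • Hp (ee k : ι → F))) ∨
      (IsHp (α • Pt (ee i : ι → F)) ∧ IsPt (α • Hp (ee k : ι → F))) := by
    intro i k hik
    apply opp_of_inf_ne_bot h3 (hA i) (hB k)
    · intro h
      exact Pt_ee_ne_Hp_ee h3 i k (smul_left_cancel α h)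
    · rw [← Subgroup.smul_inf]
      intro h
      apply Pt_ee_inf_Hp_ee_ne_bot (F := F) h3 hik
      rw [← inv_smul_smul α (Pt (ee i : ι → F) ⊓ Hp (ee k)), h, Subgroup.smul_bot]
  have hι : Nonempty ι := Fintype.card_pos_iff.1 (by omega)
  obtain ⟨i0⟩ := hι
  rcases hA i0 with h0 | h0
  · left
    have hBk : ∀ k, k ≠ i0 → IsHp (α • Hp (ee k : ι → F)) := by
      intro k hk
      rcases hopp i0 k hk.symm with h | h
      · exact h.2
      · exact (not_isPt_and_isHp h3 h0 h.1).elim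
    have hAi : ∀ i, IsPt (α • Pt (ee i : ι → F)) := by
      intro i
      obtain ⟨k, hki, hki0⟩ := exists_ne_ne h3 i i0
      rcases hopp i k hki.symm with h | h
      · exact h.1
      · exact (not_isPt_and_isHp h3 h.2 (hBk k hki0)).elim
    refine ⟨hAi, ?_⟩
    intro k
    obtain ⟨i, hi⟩ := exists_ne h3 k
    rcases hopp i k hi with h | h
    · exact h.2
    · exact (not_isPt_and_isHp h3 (hAi i) h.1).elim
  · right
    have hBk : ∀ k, k ≠ i0 → IsPt (α • Hp (ee k : ι → F)) := by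
      intro k hk
      rcases hopp i0 k hk.symm with h | h
      · exact (not_isPt_and_isHp h3 h.1 h0).elim
      · exact h.2
    have hAi : ∀ i, IsHp (α • Pt (ee i : ι → F)) := by
      intro i
      obtain ⟨k, hki, hki0⟩ := exists_ne_ne h3 i i0
      rcases hopp i k hki.symm with h | h
      · exact (not_isPt_and_isHp h3 (hBk k hki0) h.2).elim
      · exact h.1
    refine ⟨hAi, ?_⟩
    intro k
    obtain ⟨i, hi⟩ := exists_ne h3 k
    rcases hopp i k hi with h | h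
    · exact (not_isPt_and_isHp h3 h.1 (hAi i)).elim
    · exact h.2


/-- an automorphism mapping the frame to points and hyperplanes agrees on the frame with an
element of `GL_n(F)` -/
theorem exists_frame_GL (h3 : 3 ≤ Fintype.card ι)
    (α : MulAut (Matrix.ProjectiveSpecialLinearGroup ι F))
    (hP : ∀ i : ι, IsPt (α • Pt (ee i : ι → F))) (hH : ∀ k : ι, IsHp (α • Hp (ee k : ι → F))) :
    ∃ g : GL ι F, (∀ i : ι, α • Pt (ee i : ι → F) = Gam g • Pt (ee i : ι → F)) ∧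
      (∀ k : ι, α • Hp (ee k : ι → F) = Gam g • Hp (ee k : ι → F)) := by
  choose w hw0 hw using hP
  choose ψ hψ0 hψ using hH
  have horth : ∀ i k : ι, i ≠ k → ψ k ⬝ᵥ w i = 0 := by
    intro i k hik
    apply (Pt_inf_Hp_ne_bot_iff h3 (hw0 i) (hψ0 k)).1
    rw [← hw, ← hψ, ← Subgroup.smul_inf]
    intro h
    apply Pt_ee_inf_Hp_ee_ne_bot (F := F) h3 hik
    rw [← inv_smul_smul α (Pt (ee i : ι → F) ⊓ Hp (ee k)), h, Subgroup.smul_bot]
  have hnon : ∀ i : ι, ψ i ⬝ᵥ w i ≠ 0 := by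
    intro i h
    have h1 := (Pt_inf_Hp_ne_bot_iff h3 (hw0 i) (hψ0 i)).2 h
    rw [← hw, ← hψ, ← Subgroup.smul_inf, Pt_ee_inf_Hp_ee_eq_bot h3, Subgroup.smul_bot] at h1
    exact h1 rfl
  obtain ⟨M, hM⟩ : ∃ M : Matrix ι ι F, M = Matrix.of fun r c => w c r := ⟨_, rfl⟩
  obtain ⟨Ψ, hΨ⟩ : ∃ Ψ : Matrix ι ι F, Ψ = Matrix.of fun k c => ψ k c := ⟨_, rfl⟩
  have hprod : Ψ * M = Matrix.diagonal fun k => ψ k ⬝ᵥ w k := by
    ext k i
    rw [Matrix.mul_apply, Matrix.diagonal_apply]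
    by_cases hki : k = i
    · subst hki
      rw [if_pos rfl, hM, hΨ]
      rfl
    · rw [if_neg hki, ← horth i k (Ne.symm hki), hM, hΨ]
      rfl
  have hdet : M.det ≠ 0 := by
    intro h0
    have h1 := congrArg Matrix.det hprod
    rw [Matrix.det_mul, h0, mul_zero, Matrix.det_diagonal] at h1
    exact Finset.prod_ne_zero_iff.2 (fun k _ => hnon k) h1.symm
  obtain ⟨g, hg⟩ : ∃ g : GL ι F, g = Matrix.GeneralLinearGroup.mkOfDetNeZero M hdet := ⟨_, rfl⟩
  have hgM : g.1 = M := by rw [hg]; rfl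
  have hcol : ∀ i : ι, g.1 *ᵥ (ee i : ι → F) = w i := by
    intro i
    rw [hgM, ee, Matrix.mulVec_single_one, hM]
    ext r
    rfl
  have hrow : ∀ k : ι, ψ k = (ψ k ⬝ᵥ w k) • ((ee k : ι → F) ᵥ* (g⁻¹).1) := by
    intro k
    have h1 : ψ k ᵥ* g.1 = (ψ k ⬝ᵥ w k) • (ee k : ι → F) := by
      ext i
      have h2 := congrFun (congrFun hprod k) i
      rw [Matrix.mul_apply, Matrix.diagonal_apply] at h2
      rw [hgM, Pi.smul_apply, ee_apply, smul_eq_mul]
      by_cases hik : i = k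
      · subst hik
        rw [if_pos rfl, mul_one]
        rw [if_pos rfl] at h2
        rw [← h2, hΨ]
        rfl
      · rw [if_neg hik, mul_zero]
        rw [if_neg (Ne.symm hik)] at h2
        rw [← h2, hΨ]
        rfl
    have h3 : (ψ k ᵥ* g.1) ᵥ* (g⁻¹).1 = ψ k := by
      rw [Matrix.vecMul_vecMul, ← Units.val_mul, mul_inv_cancel]
      simp
    rw [h1, Matrix.smul_vecMul] at h3
    exact h3.symm
  refine ⟨g, ?_, ?_⟩
  · intro i
    rw [Gam_smul_Pt, hcol, hw]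
  · intro k
    rw [Gam_smul_Hp, hψ]
    exact (Hp_congr ⟨_, hnon k, hrow k⟩).symm

/-- **Frame theorem**: every automorphism preserving transvections can be normalized by
`PGL_n(F)` and inverse-transpose to fix all coordinate points and hyperplanes. -/
theorem exists_normalize (h3 : 3 ≤ Fintype.card ι)
    (α : MulAut (Matrix.ProjectiveSpecialLinearGroup ι F))
    (hα : ∀ y, IsTv y → IsTv (α y)) (hα' : ∀ y, IsTv y → IsTv (α⁻¹ y)) :
    ∃ (g : GL ι F) (γ : MulAut (Matrix.ProjectiveSpecialLinearGroup ι F)),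
      (γ = 1 ∨ γ = Iota) ∧
      (∀ i : ι, ((Gam g)⁻¹ * α * γ) • Pt (ee i : ι → F) = Pt (ee i : ι → F)) ∧
      (∀ k : ι, ((Gam g)⁻¹ * α * γ) • Hp (ee k : ι → F) = Hp (ee k : ι → F)) := by
  rcases uniform_type h3 α hα hα' with ⟨hP, hH⟩ | ⟨hP, hH⟩
  · obtain ⟨g, hg1, hg2⟩ := exists_frame_GL h3 α hP hH
    refine ⟨g, 1, Or.inl rfl, ?_, ?_⟩
    · intro i
      rw [mul_one, mul_smul, hg1, inv_smul_smul]
    · intro k
      rw [mul_one, mul_smul, hg2, inv_smul_smul]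
  · have hP' : ∀ i : ι, IsPt ((α * Iota) • Pt (ee i : ι → F)) := by
      intro i
      rw [mul_smul, Iota_smul_Pt]
      exact hH i
    have hH' : ∀ k : ι, IsHp ((α * Iota) • Hp (ee k : ι → F)) := by
      intro k
      rw [mul_smul, Iota_smul_Hp]
      exact hP k
    obtain ⟨g, hg1, hg2⟩ := exists_frame_GL h3 (α * Iota) hP' hH'
    refine ⟨g, Iota, Or.inr rfl, ?_, ?_⟩
    · intro i
      rw [mul_assoc, mul_smul, hg1, inv_smul_smul]
    · intro k
      rw [mul_assoc, mul_smul, hg2, inv_smul_smul]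

/-- an automorphism fixing all coordinate points and hyperplanes preserves the root subgroups -/
theorem root_of_fix (h3 : 3 ≤ Fintype.card ι)
    (β : MulAut (Matrix.ProjectiveSpecialLinearGroup ι F))
    (hP : ∀ i : ι, β • Pt (ee i : ι → F) = Pt (ee i : ι → F))
    (hH : ∀ k : ι, β • Hp (ee k : ι → F) = Hp (ee k : ι → F)) {i k : ι} (hik : i ≠ k) (t : F) :
    ∃ s : F, β (pr (xr i k t)) = pr (xr i k s) := by
  have h1 : β (pr (xr i k t)) ∈ Pt (ee i : ι → F) := by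
    rw [← hP i]
    exact (Subgroup.mem_smul_pointwise_iff_exists _ _ _).2
      ⟨_, mem_Pt.2 ⟨_, smul_ee_dot_ee hik t, rfl⟩, rfl⟩
  have h2 : β (pr (xr i k t)) ∈ Hp (ee k : ι → F) := by
    rw [← hH k]
    refine (Subgroup.mem_smul_pointwise_iff_exists _ _ _).2 ⟨_, mem_Hp.2 ⟨t • ee i, ?_, ?_⟩, rfl⟩
    · rw [dotProduct_smul, ee_dot_ee hik, smul_zero]
    · rw [xr, tv_smul]
  by_cases h0 : β (pr (xr i k t)) = 1
  · exact ⟨0, by rw [h0, xr_zero, map_one]⟩
  · obtain ⟨_, s, hs⟩ := of_mem_Pt_Hp h3 (ee_ne_zero i) (ee_ne_zero k) h1 h2 h0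
    exact ⟨s, hs⟩

end Cfsg.Agent.Lib.Helper5.AutPSLn
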