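import Mathlib
import Cfsg.Agent.Lib.Helper5.AutPSLnFrame
import Cfsg.Agent.Lib.Helper5.SLGen

set_option autoImplicit false
set_option linter.unusedSimpArgs false
set_option linter.unusedVariables false
set_option linter.unnecessarySeqFocus false
set_option linter.unusedSectionVars false

/-!
# Automorphisms of `PSL_n(F)` preserving all root subgroups are diagonal-by-field
-/

namespace Cfsg.Agent.Lib.Helper5.AutPSLn

open Matrix
open scoped Pointwise

variable {ι : Type*} [Fintype ι] [DecidableEq ι] {F : Type*} [Field F]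

/-- diagonal matrices in `GL_n(F)` -/
def dgl : (ι → Fˣ) →* GL ι F where
  toFun d := ⟨diagonal (fun i => (d i : F)), diagonal (fun i => ((d i)⁻¹ : Fˣ)),
    by rw [diagonal_mul_diagonal]; simp, by rw [diagonal_mul_diagonal]; simp⟩
  map_one' := by
    apply Units.ext
    simp
  map_mul' d e := by
    apply Units.ext
    show diagonal (fun i => ((d i * e i : Fˣ) : F)) = diagonal _ * diagonal _
    rw [diagonal_mul_diagonal]
    simp

lemma dgl_val (d : ι → Fˣ) : (dgl d).1 = diagonal (fun i => (d i : F)) := rfl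

lemma dgl_inv_val (d : ι → Fˣ) : ((dgl d)⁻¹).1 = diagonal (fun i => (((d i)⁻¹ : Fˣ) : F)) := rfl

lemma conjS_dgl_xr (d : ι → Fˣ) {i k : ι} (hik : i ≠ k) (t : F) :
    conjS (dgl d) (xr i k t) = xr i k ((d i : F) * t * ((d k)⁻¹ : Fˣ)) := by
  rw [xr, conjS_tv _ (smul_ee_dot_ee hik t), dgl_val, dgl_inv_val]
  have h1 : diagonal (fun i => (d i : F)) *ᵥ (ee i : ι → F) = (d i : F) • ee i := by
    ext r
    rw [mulVec_diagonal, Pi.smul_apply, ee_apply, smul_eq_mul]
    by_cases hr : r = i
    · subst hr; simp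
    · simp [hr]
  have h2 : (t • (ee k : ι → F)) ᵥ* diagonal (fun i => (((d i)⁻¹ : Fˣ) : F)) =
      (t * ((d k)⁻¹ : Fˣ)) • ee k := by
    ext r
    rw [vecMul_diagonal, Pi.smul_apply, Pi.smul_apply, ee_apply, smul_eq_mul, smul_eq_mul]
    by_cases hr : r = k
    · subst hr; simp
    · simp [hr]
  rw [h1, h2, tv_smul, smul_smul, xr]
  congr 2
  ring

lemma fieldS_xr (σ : F ≃+* F) {i k : ι} (hik : i ≠ k) (t : F) :
    fieldS σ (xr i k t) = xr i k (σ t) := by
  rw [xr, fieldS_tv _ (smul_ee_dot_ee hik t), xr]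
  congr 1
  · ext r
    rw [ee_apply]
    by_cases hr : r = i
    · subst hr; simp
    · simp [hr]
  · ext r
    rw [Pi.smul_apply, Pi.smul_apply, ee_apply, smul_eq_mul, smul_eq_mul, map_mul]
    by_cases hr : r = k
    · subst hr; simp
    · simp [hr]

/-- two automorphisms of `PSL_n(F)` agreeing on all root elements are equal -/
lemma aut_ext {β γ : MulAut (Matrix.ProjectiveSpecialLinearGroup ι F)}
    (h : ∀ (i k : ι), i ≠ k → ∀ t : F, β (pr (xr i k t)) = γ (pr (xr i k t))) : β = γ := by
  let H : Subgroup (SpecialLinearGroup ι F) :=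
    { carrier := {x | β (pr x) = γ (pr x)}
      one_mem' := by simp
      mul_mem' := fun {x y} hx hy => by
        show β (pr (x * y)) = γ (pr (x * y))
        rw [map_mul, map_mul, map_mul, hx, hy]
      inv_mem' := fun {x} hx => by
        show β (pr x⁻¹) = γ (pr x⁻¹)
        rw [map_inv, map_inv, map_inv, hx] }
  have hH : H = ⊤ := by
    apply Cfsg.Agent.Lib.Helper5.eq_top_of_transvection_mem
    intro i j hij c
    show β (pr _) = γ (pr _)
    rw [← xr_eq_transvection hij]
    exact h i j hij c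
  ext y
  obtain ⟨x, rfl⟩ := pr_surjective y
  have : x ∈ H := hH ▸ Subgroup.mem_top x
  exact this


open scoped commutatorElement in
/-- **Field theorem**: an automorphism of `PSL_n(F)`, `n ≥ 3`, preserving every root subgroup is
the product of a diagonal automorphism and a field automorphism. -/
theorem field_part [Finite F] (h3 : 3 ≤ Fintype.card ι)
    (β : MulAut (Matrix.ProjectiveSpecialLinearGroup ι F))
    (hβ : ∀ i k : ι, i ≠ k → ∀ t : F, ∃ s : F, β (pr (xr i k t)) = pr (xr i k s)) :
    ∃ (d : ι → Fˣ) (σ : F ≃+* F), β = Gam (dgl d) * Phi σ := by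
  classical
  have hβ' : ∀ (i k : ι) (t : F), ∃ s : F, i ≠ k → β (pr (xr i k t)) = pr (xr i k s) := by
    intro i k t
    by_cases hik : i = k
    · exact ⟨0, fun h => absurd hik h⟩
    · obtain ⟨s, hs⟩ := hβ i k hik t
      exact ⟨s, fun _ => hs⟩
  choose σ hσ using hβ'
  have hadd : ∀ i k, i ≠ k → ∀ s t, σ i k (s + t) = σ i k s + σ i k t := by
    intro i k hik s t
    apply pr_xr_injective h3 hik
    rw [← hσ i k _ hik, xr_add hik, map_mul, map_mul, hσ i k s hik, hσ i k t hik, ← map_mul,
      ← xr_add hik]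
  have hinj : ∀ i k, i ≠ k → Function.Injective (σ i k) := by
    intro i k hik s t hst
    have h1 : β (pr (xr i k s)) = β (pr (xr i k t)) := by
      rw [hσ i k s hik, hσ i k t hik, hst]
    exact pr_xr_injective h3 hik (β.injective h1)
  have hzero : ∀ i k, i ≠ k → σ i k 0 = 0 := by
    intro i k hik
    have h := hadd i k hik 0 0
    rw [add_zero] at h
    have h2 : σ i k 0 + 0 = σ i k 0 + σ i k 0 := by rw [add_zero]; exact h
    exact (add_left_cancel h2).symm
  have hcomm : ∀ i j k, i ≠ j → j ≠ k → i ≠ k → ∀ s t,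
      σ i k (s * t) = σ i j s * σ j k t := by
    intro i j k hij hjk hik s t
    apply pr_xr_injective h3 hik
    rw [← hσ i k _ hik, ← commutator_xr hij hjk hik, map_commutatorElement,
      map_commutatorElement, hσ i j s hij, hσ j k t hjk, ← map_commutatorElement,
      commutator_xr hij hjk hik]
  obtain ⟨c, hcdef⟩ : ∃ c : ι → ι → F, c = fun i k => σ i k 1 := ⟨_, rfl⟩
  have hc : ∀ i k, i ≠ k → c i k ≠ 0 := by
    intro i k hik h0
    rw [hcdef] at h0
    have : σ i k 1 = σ i k 0 := by rw [hzero i k hik]; exact h0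
    exact one_ne_zero (hinj i k hik this)
  have hC : ∀ i j k, i ≠ j → j ≠ k → i ≠ k → c i k = c i j * c j k := by
    intro i j k hij hjk hik
    have := hcomm i j k hij hjk hik 1 1
    rw [mul_one] at this
    rw [hcdef]; exact this
  have hA : ∀ i j k, i ≠ j → j ≠ k → i ≠ k → ∀ s, σ i k s = σ i j s * c j k := by
    intro i j k hij hjk hik s
    have := hcomm i j k hij hjk hik s 1
    rw [mul_one] at this
    rw [hcdef]; exact this
  have hB : ∀ i j k, i ≠ j → j ≠ k → i ≠ k → ∀ t, σ i k t = c i j * σ j k t := by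
    intro i j k hij hjk hik t
    have := hcomm i j k hij hjk hik 1 t
    rw [one_mul] at this
    rw [hcdef]; exact this
  obtain ⟨τ, hτdef⟩ : ∃ τ : ι → ι → F → F, τ = fun i k t => σ i k t / c i k := ⟨_, rfl⟩
  have hτ : ∀ i k t, τ i k t = σ i k t / c i k := by
    intro i k t; rw [hτdef]
  have hτA : ∀ i j k, i ≠ j → j ≠ k → i ≠ k → ∀ s, τ i k s = τ i j s := by
    intro i j k hij hjk hik s
    rw [hτ, hτ, hA i j k hij hjk hik, hC i j k hij hjk hik]
    have h1 := hc i j hij
    have h2 := hc j k hjk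
    field_simp
  have hτB : ∀ i j k, i ≠ j → j ≠ k → i ≠ k → ∀ t, τ i k t = τ j k t := by
    intro i j k hij hjk hik t
    rw [hτ, hτ, hB i j k hij hjk hik, hC i j k hij hjk hik]
    have h1 := hc i j hij
    have h2 := hc j k hjk
    field_simp
  have hι : Nonempty ι := Fintype.card_pos_iff.1 (by omega)
  obtain ⟨a0⟩ := hι
  obtain ⟨b0, hb0⟩ := exists_ne h3 a0
  have hrow : ∀ j, j ≠ a0 → ∀ t, τ a0 j t = τ a0 b0 t := by
    intro j hj t
    by_cases hjb : j = b0
    · rw [hjb]
    · exact hτA a0 b0 j hb0.symm (Ne.symm hjb) hj.symm t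
  have hall : ∀ i k, i ≠ k → ∀ t, τ i k t = τ a0 b0 t := by
    intro i k hik t
    by_cases hia : i = a0
    · subst hia
      exact hrow k hik.symm t
    · by_cases hka : k = a0
      · subst hka
        obtain ⟨j, hji, hjk⟩ := exists_ne_ne h3 i k
        rw [hτA i j k hji.symm hjk hik, ← hτB k i j (Ne.symm hia) hji.symm hjk.symm]
        exact hrow j hjk t
      · rw [← hτB a0 i k (Ne.symm hia) hik (Ne.symm hka)]
        exact hrow k hka t
  obtain ⟨j0, hj0a, hj0b⟩ := exists_ne_ne h3 a0 b0
  have hmul : ∀ s t, τ a0 b0 (s * t) = τ a0 b0 s * τ a0 b0 t := by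
    intro s t
    rw [← hall a0 j0 hj0a.symm s, ← hall j0 b0 hj0b t, hτ, hτ, hτ,
      hcomm a0 j0 b0 hj0a.symm hj0b hb0.symm, hC a0 j0 b0 hj0a.symm hj0b hb0.symm]
    have h1 := hc a0 j0 hj0a.symm
    have h2 := hc j0 b0 hj0b
    field_simp
  have hone : τ a0 b0 1 = 1 := by
    rw [hτ]
    have : σ a0 b0 1 = c a0 b0 := by rw [hcdef]
    rw [this, div_self (hc a0 b0 hb0.symm)]
  let τhom : F →+* F :=
    { toFun := τ a0 b0
      map_one' := hone
      map_mul' := hmul
      map_zero' := by rw [hτ, hzero a0 b0 hb0.symm, zero_div]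
      map_add' := fun s t => by
        rw [hτ, hτ, hτ, hadd a0 b0 hb0.symm, add_div] }
  have hbij : Function.Bijective τhom :=
    Finite.injective_iff_bijective.1 τhom.injective
  let σf : F ≃+* F := RingEquiv.ofBijective τhom hbij
  have hσf : ∀ t, σf t = τ a0 b0 t := fun t => rfl
  -- the diagonal matrix
  let d : ι → Fˣ := fun j =>
    if h : j = a0 then 1 else Units.mk0 (c a0 j)⁻¹ (inv_ne_zero (hc a0 j (Ne.symm h)))
  have hda : d a0 = 1 := by simp [d]
  have hdj : ∀ j, j ≠ a0 → ((d j : Fˣ) : F) = (c a0 j)⁻¹ := by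
    intro j hj
    simp [d, hj]
  have hdinv : ∀ j, (((d j)⁻¹ : Fˣ) : F) = ((d j : Fˣ) : F)⁻¹ := fun j => by simp
  have hd : ∀ i k, i ≠ k → c i k = ((d i : Fˣ) : F) * (((d k)⁻¹ : Fˣ) : F) := by
    intro i k hik
    rw [hdinv]
    by_cases hia : i = a0
    · subst hia
      rw [hda, hdj k hik.symm]
      simp
    · by_cases hka : k = a0
      · subst hka
        rw [hda, hdj i hia]
        obtain ⟨j, hji, hjk⟩ := exists_ne_ne h3 i k
        have e1 := hC i k j hik hjk.symm hji.symm
        have e2 := hC k i j hik.symm hji.symm hjk.symm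
        have h1 := hc i j hji.symm
        have h2 := hc k i hik.symm
        have e3 : c i k * c k i = 1 := by
          have : c i j * (c i k * c k i) = c i j * 1 := by
            rw [mul_one]
            conv_rhs => rw [e1, e2]
            ring
          exact mul_left_cancel₀ h1 this
        simp only [Units.val_one, inv_one, mul_one]
        exact eq_inv_of_mul_eq_one_left e3
      · rw [hdj i hia, hdj k hka, inv_inv]
        have e1 := hC a0 i k (Ne.symm hia) hik (Ne.symm hka)
        have h1 := hc a0 i (Ne.symm hia)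
        rw [e1]
        field_simp
  refine ⟨d, σf, ?_⟩
  apply aut_ext
  intro i k hik t
  rw [hσ i k t hik, MulAut.mul_apply, Phi_pr, Gam_pr, fieldS_xr σf hik, conjS_dgl_xr d hik]
  congr 2
  rw [hσf, ← hall i k hik t, hτ, mul_right_comm, ← hd i k hik]
  field_simp [hc i k hik]

end Cfsg.Agent.Lib.Helper5.AutPSLn
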