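import Mathlib
import Cfsg.Agent.Lib.Helper5.AutPSLnXr

set_option autoImplicit false
set_option linter.unusedSimpArgs false
set_option linter.unusedVariables false
set_option linter.unnecessarySeqFocus false
set_option linter.unusedSectionVars false

/-!
# All transvections are conjugate to root elements
-/

namespace Cfsg.Agent.Lib.Helper5.AutPSLn

open Matrix
open scoped Pointwise

variable {ι : Type*} [Fintype ι] [DecidableEq ι] {F : Type*} [Field F]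

/-- conjugating a transvection by a transvection -/
lemma conj_tv_tv {w ψ : ι → F} (hs : ψ ⬝ᵥ w = 0) {v φ : ι → F} (h : φ ⬝ᵥ v = 0) :
    tv w ψ * tv v φ * (tv w ψ)⁻¹ = tv (v + (ψ ⬝ᵥ v) • w) (φ - (φ ⬝ᵥ w) • ψ) := by
  have h1 : conjS (SpecialLinearGroup.toGL (tv w ψ)) (tv v φ) =
      tv w ψ * tv v φ * (tv w ψ)⁻¹ := by
    apply sl_ext
    rw [conjS_coe, ← map_inv]; rfl
  rw [← h1, conjS_tv _ h, ← map_inv]
  congr 1
  · exact tv_mulVec hs v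
  · show φ ᵥ* ((tv w ψ)⁻¹).1 = _
    rw [tv_inv hs, tv_vecMul (by rw [neg_dotProduct, hs, neg_zero]), smul_neg, sub_eq_add_neg]

lemma step {v φ w ψ : ι → F} (hv : v ≠ 0) (hφ : φ ≠ 0) (h : φ ⬝ᵥ v = 0) (hs : ψ ⬝ᵥ w = 0)
    {v' φ' : ι → F} (ev : v' = v + (ψ ⬝ᵥ v) • w) (eφ : φ' = φ - (φ ⬝ᵥ w) • ψ) :
    v' ≠ 0 ∧ φ' ≠ 0 ∧ φ' ⬝ᵥ v' = 0 ∧ IsConj (pr (tv v φ)) (pr (tv v' φ')) := by
  have h0 : φ' ⬝ᵥ v' = 0 := by
    rw [ev, eφ]
    simp only [sub_dotProduct, dotProduct_add, smul_dotProduct, dotProduct_smul, smul_eq_mul, h,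
      hs]
    ring
  have hc := conj_tv_tv hs h
  rw [← ev, ← eφ] at hc
  have hne : tv v' φ' ≠ 1 := by
    intro h1
    rw [h1] at hc
    have h2 : tv v φ = 1 := by
      have := congrArg (fun x => (tv w ψ)⁻¹ * x * tv w ψ) hc
      simp only [mul_one, inv_mul_cancel] at this
      rw [← this]; group
    rcases (tv_eq_one_iff h).1 h2 with h3 | h3
    · exact hv h3
    · exact hφ h3
  refine ⟨fun h1 => hne ((tv_eq_one_iff h0).2 (Or.inl h1)),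
    fun h1 => hne ((tv_eq_one_iff h0).2 (Or.inr h1)), h0, ?_⟩
  exact isConj_iff.2 ⟨pr (tv w ψ), by rw [← map_inv, ← map_mul, ← map_mul, hc]⟩

/-- every transvection is conjugate in `PSL_n(F)` to a root element `x_{az}(t)` -/
theorem isConj_xr {a z : ι} (haz : a ≠ z) {v φ : ι → F} (hv : v ≠ 0) (hφ : φ ≠ 0)
    (h : φ ⬝ᵥ v = 0) : ∃ t : F, t ≠ 0 ∧ IsConj (pr (tv v φ)) (pr (xr a z t)) := by
  -- Step 1: make `φ z ≠ 0`
  obtain ⟨v1, φ1, hv1, hφ1, h1, hz1, c1⟩ : ∃ v1 φ1 : ι → F, v1 ≠ 0 ∧ φ1 ≠ 0 ∧ φ1 ⬝ᵥ v1 = 0 ∧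
      φ1 z ≠ 0 ∧ IsConj (pr (tv v φ)) (pr (tv v1 φ1)) := by
    by_cases hz : φ z = 0
    · obtain ⟨j, hj⟩ := exists_ne_zero_of_ne_zero hφ
      have hjz : j ≠ z := by rintro rfl; exact hj hz
      obtain ⟨a1, a2, a3, a4⟩ := step (w := ee j) (ψ := ee z) hv hφ h (ee_dot_ee hjz) rfl rfl
      refine ⟨_, _, a1, a2, a3, ?_, a4⟩
      simp only [Pi.sub_apply, Pi.smul_apply, dot_ee, ee_apply, hz, smul_eq_mul]
      simpa using hj
    · exact ⟨v, φ, hv, hφ, h, hz, IsConj.refl _⟩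
  -- Step 2: make `φ = ee z`
  obtain ⟨v2, hv2, h2, c2⟩ : ∃ v2 : ι → F, v2 ≠ 0 ∧ (ee z : ι → F) ⬝ᵥ v2 = 0 ∧
      IsConj (pr (tv v φ)) (pr (tv v2 (ee z))) := by
    obtain ⟨a1, a2, a3, a4⟩ := step (w := ee z) (ψ := (φ1 z)⁻¹ • φ1 - ee z) hv1 hφ1 h1
      (by rw [sub_dotProduct, smul_dotProduct, dot_ee, dot_ee, ee_apply, if_pos rfl, smul_eq_mul,
        inv_mul_cancel₀ hz1, sub_self]) rfl rfl
    have e : φ1 - (φ1 ⬝ᵥ ee z) • ((φ1 z)⁻¹ • φ1 - ee z) = (φ1 z) • (ee z : ι → F) := by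
      rw [dot_ee]
      ext k
      simp only [Pi.sub_apply, Pi.smul_apply, smul_eq_mul, ee_apply]
      field_simp
      ring
    rw [e] at a2 a3 a4
    rw [← tv_smul] at a4
    refine ⟨_, smul_ne_zero hz1 a1, ?_, c1.trans a4⟩
    rw [smul_dotProduct, smul_eq_mul, mul_eq_zero] at a3
    rw [dotProduct_smul, a3.resolve_left hz1, smul_zero]
  rw [ee_dot] at h2
  -- Step 3: make `v a ≠ 0`
  obtain ⟨v3, hv3, h3, ha3, c3⟩ : ∃ v3 : ι → F, v3 ≠ 0 ∧ v3 z = 0 ∧ v3 a ≠ 0 ∧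
      IsConj (pr (tv v φ)) (pr (tv v3 (ee z))) := by
    by_cases ha : v2 a = 0
    · obtain ⟨j, hj⟩ := exists_ne_zero_of_ne_zero hv2
      have hja : j ≠ a := by rintro rfl; exact hj ha
      obtain ⟨a1, a2, a3, a4⟩ := step (w := ee a) (ψ := ee j) hv2 (ee_ne_zero z)
        (by rw [ee_dot]; exact h2) (ee_dot_ee hja.symm) rfl rfl
      have e : (ee z : ι → F) - ((ee z : ι → F) ⬝ᵥ ee a) • ee j = ee z := by
        rw [ee_dot_ee haz, zero_smul, sub_zero]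
      rw [e] at a2 a3 a4
      refine ⟨_, a1, ?_, ?_, c2.trans a4⟩
      · simp only [Pi.add_apply, Pi.smul_apply, ee_dot, ee_apply, smul_eq_mul, h2,
          if_neg haz.symm]
        ring
      · simp only [Pi.add_apply, Pi.smul_apply, ee_dot, ee_apply, smul_eq_mul, ha]
        simpa using hj
    · exact ⟨v2, hv2, h2, ha, c2⟩
  -- Step 4: make `v = t • ee a`
  obtain ⟨a1, a2, a3, a4⟩ := step (w := ee a - (v3 a)⁻¹ • v3) (ψ := ee a) hv3 (ee_ne_zero z)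
    (by rw [ee_dot]; exact h3)
    (by rw [dotProduct_sub, dotProduct_smul, ee_dot, ee_dot, ee_apply, if_pos rfl, smul_eq_mul,
      inv_mul_cancel₀ ha3, sub_self]) rfl rfl
  have e1 : (ee z : ι → F) - ((ee z : ι → F) ⬝ᵥ (ee a - (v3 a)⁻¹ • v3)) • ee a = ee z := by
    rw [dotProduct_sub, dotProduct_smul, ee_dot, ee_dot, ee_apply, if_neg haz.symm, h3,
      smul_zero, sub_zero, zero_smul, sub_zero]
  have e2 : v3 + ((ee a : ι → F) ⬝ᵥ v3) • (ee a - (v3 a)⁻¹ • v3) = (v3 a) • (ee a : ι → F) := by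
    rw [ee_dot]
    ext k
    simp only [Pi.add_apply, Pi.sub_apply, Pi.smul_apply, smul_eq_mul, ee_apply]
    field_simp
    ring
  rw [e1, e2, tv_smul] at a4
  exact ⟨v3 a, ha3, c3.trans a4⟩

end Cfsg.Agent.Lib.Helper5.AutPSLn
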