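import Mathlib

set_option autoImplicit false

namespace Cfsg.Agent.Lib.Helper5

open Matrix

/-- `∏_{i<n} (q^n - q^i) = q^(n(n-1)/2) * ∏_{i<n} (q^(n-i) - 1)`. -/
lemma prod_pow_sub_pow (q n : ℕ) :
    ∏ i : Fin n, (q ^ n - q ^ (i : ℕ)) =
      q ^ (n * (n - 1) / 2) * ∏ i : Fin n, (q ^ (n - (i : ℕ)) - 1) := by
  have h1 : ∀ i : Fin n, q ^ n - q ^ (i : ℕ) = q ^ (i : ℕ) * (q ^ (n - (i : ℕ)) - 1) := by
    intro i
    rw [Nat.mul_sub, mul_one, ← pow_add]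
    congr 2
    have := i.2
    omega
  simp only [h1]
  rw [Finset.prod_mul_distrib, Finset.prod_pow_eq_pow_sum]
  congr 2
  rw [Fin.sum_univ_eq_sum_range (fun i ↦ i) n, Finset.sum_range_id]

lemma not_dvd_prod_pow_sub_one {p k : ℕ} (hp : p.Prime) (hk : 0 < k) (n : ℕ) :
    ¬ p ∣ ∏ i : Fin n, ((p ^ k) ^ (n - (i : ℕ)) - 1) := by
  intro h
  rw [hp.prime.dvd_finsetProd_iff] at h
  obtain ⟨i, -, hi⟩ := h
  have hj : 0 < n - (i : ℕ) := by have := i.2; omega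
  have h1 : p ∣ (p ^ k) ^ (n - (i : ℕ)) := by
    rw [← pow_mul]
    exact dvd_pow_self p (by positivity)
  have h2 : 1 ≤ (p ^ k) ^ (n - (i : ℕ)) := Nat.one_le_pow _ _ (pow_pos hp.pos _)
  have h3 : p ∣ 1 := by
    have := (Nat.dvd_sub h1 hi)
    rwa [Nat.sub_sub_self h2] at this
  exact hp.one_lt.ne' (Nat.dvd_one.1 h3)

/-- A Sylow `p`-subgroup of `GL_n(q)`, `p` the characteristic, has order `q^(n(n-1)/2)`. -/
theorem card_sylow_char_GL {F : Type*} [Field F] [Fintype F] (p : ℕ) [Fact p.Prime] [CharP F p]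
    (n : ℕ) (P : Sylow p (GL (Fin n) F)) :
    Nat.card P = Fintype.card F ^ (n * (n - 1) / 2) := by
  have hp : p.Prime := Fact.out
  obtain ⟨k, -, hk⟩ := FiniteField.card F p
  have hkpos : 0 < (k : ℕ) := k.pos
  rw [Sylow.card_eq_multiplicity, Matrix.card_GL_field, prod_pow_sub_pow, hk]
  have hM := not_dvd_prod_pow_sub_one hp hkpos n
  have hM0 : ∏ i : Fin n, ((p ^ (k : ℕ)) ^ (n - (i : ℕ)) - 1) ≠ 0 := by
    intro h0
    apply hM
    rw [h0]
    exact dvd_zero _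
  have hq0 : (p ^ (k : ℕ)) ^ (n * (n - 1) / 2) ≠ 0 := by
    have := hp.pos
    positivity
  rw [Nat.factorization_mul hq0 hM0, Finsupp.add_apply,
    Nat.factorization_eq_zero_of_not_dvd hM, add_zero, ← pow_mul, Nat.factorization_pow,
    Finsupp.smul_apply, hp.factorization_self, smul_eq_mul, mul_one]

end Cfsg.Agent.Lib.Helper5
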