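import Mathlib
import Cfsg.Agent.Lib.Helper5.AutPSLnConj
import Cfsg.Agent.Lib.Helper5.GLSylowCard
import Cfsg.Agent.Lib.Helper5.GLCard

set_option autoImplicit false
set_option linter.unusedSimpArgs false
set_option linter.unusedVariables false
set_option linter.unnecessarySeqFocus false
set_option linter.unusedSectionVars false
set_option linter.style.haveILetI false

/-!
# The unitriangular group is a Sylow subgroup of `SL_n(F)`; its centre
-/

namespace Cfsg.Agent.Lib.Helper5.AutPSLn

open Matrix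
open scoped Pointwise

variable {n : ℕ} {F : Type*} [Field F]

/-- upper unitriangular matrices -/
def IsUni (M : Matrix (Fin n) (Fin n) F) : Prop :=
  ∀ i j : Fin n, j ≤ i → M i j = (1 : Matrix (Fin n) (Fin n) F) i j

lemma IsUni.diag {M : Matrix (Fin n) (Fin n) F} (h : IsUni M) (i : Fin n) : M i i = 1 := by
  rw [h i i le_rfl, Matrix.one_apply_eq]

lemma IsUni.lower {M : Matrix (Fin n) (Fin n) F} (h : IsUni M) {i j : Fin n} (hij : j < i) :
    M i j = 0 := by
  rw [h i j hij.le, Matrix.one_apply_ne hij.ne']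

lemma isUni_one : IsUni (1 : Matrix (Fin n) (Fin n) F) := fun _ _ _ => rfl

lemma IsUni.mul {M N : Matrix (Fin n) (Fin n) F} (hM : IsUni M) (hN : IsUni N) :
    IsUni (M * N) := by
  intro i j hji
  rw [Matrix.mul_apply]
  rcases hji.lt_or_eq with hlt | heq
  · rw [Matrix.one_apply_ne hlt.ne']
    apply Finset.sum_eq_zero
    intro k _
    by_cases hk : k < i
    · rw [hM.lower hk, zero_mul]
    · have : j < k := lt_of_lt_of_le hlt (not_lt.1 hk)
      rw [hN.lower this, mul_zero]
  · subst heq
    rw [Matrix.one_apply_eq, Finset.sum_eq_single j]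
    · rw [hM.diag, hN.diag, one_mul]
    · intro k _ hk
      rcases lt_or_gt_of_ne hk with h | h
      · rw [hM.lower h, zero_mul]
      · rw [hN.lower h, mul_zero]
    · intro h; exact absurd (Finset.mem_univ _) h

section Fin

variable [Fintype F]

instance instFiniteSL : Finite (SpecialLinearGroup (Fin n) F) := by
  classical
  exact Finite.of_fintype _

/-- the upper unitriangular subgroup of `SL_n(F)` -/
def Uni (n : ℕ) (F : Type*) [Field F] [Fintype F] : Subgroup (SpecialLinearGroup (Fin n) F) where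
  carrier := {x | IsUni x.1}
  one_mem' := isUni_one
  mul_mem' := fun {x y} hx hy => IsUni.mul hx hy
  inv_mem' := by
    intro x hx
    have hpow : ∀ k : ℕ, IsUni (x ^ k).1 := by
      intro k
      induction k with
      | zero => rw [pow_zero]; exact isUni_one
      | succ k ih => rw [pow_succ]; exact IsUni.mul ih hx
    have h1 : x⁻¹ = x ^ (orderOf x - 1) := by
      apply inv_eq_of_mul_eq_one_right
      rw [← pow_succ', Nat.sub_add_cancel (orderOf_pos x), pow_orderOf_eq_one]
    show IsUni (x⁻¹).1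
    rw [h1]
    exact hpow _

lemma mem_Uni {x : SpecialLinearGroup (Fin n) F} : x ∈ Uni n F ↔ IsUni x.1 := Iff.rfl

/-- the matrix with prescribed entries above the diagonal -/
def uniMat (f : {p : Fin n × Fin n // p.1 < p.2} → F) : Matrix (Fin n) (Fin n) F :=
  fun i j => if h : i < j then f ⟨(i, j), h⟩ else if i = j then 1 else 0

lemma isUni_uniMat (f : {p : Fin n × Fin n // p.1 < p.2} → F) : IsUni (uniMat f) := by
  intro i j hji
  unfold uniMat
  rw [dif_neg (not_lt.2 hji)]
  by_cases h : i = j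
  · subst h; simp
  · simp [h]

lemma det_of_isUni {M : Matrix (Fin n) (Fin n) F} (h : IsUni M) : M.det = 1 := by
  rw [Matrix.det_of_isUpperTriangular]
  · simp [h.diag]
  · intro i j hij
    exact h.lower hij

/-- the unitriangular element with prescribed entries above the diagonal -/
def uniElt (f : {p : Fin n × Fin n // p.1 < p.2} → F) : SpecialLinearGroup (Fin n) F :=
  ⟨uniMat f, det_of_isUni (isUni_uniMat f)⟩

lemma uniElt_val (f : {p : Fin n × Fin n // p.1 < p.2} → F) : (uniElt f).1 = uniMat f := rfl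

lemma uniElt_mem (f : {p : Fin n × Fin n // p.1 < p.2} → F) : uniElt f ∈ Uni n F :=
  isUni_uniMat f

/-- the unitriangular group is in bijection with the families of entries above the diagonal -/
def uniEquiv : Uni n F ≃ ({p : Fin n × Fin n // p.1 < p.2} → F) where
  toFun x := fun p => x.1.1 p.1.1 p.1.2
  invFun f := ⟨uniElt f, uniElt_mem f⟩
  left_inv x := by
    apply Subtype.ext
    apply sl_ext
    ext i j
    rw [uniElt_val]
    unfold uniMat
    by_cases h : i < j
    · rw [dif_pos h]
    · rw [dif_neg h]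
      have hx : IsUni x.1.1 := x.2
      rw [hx i j (not_lt.1 h), Matrix.one_apply]
  right_inv f := by
    ext p
    show (uniElt f).1 p.1.1 p.1.2 = f p
    rw [uniElt_val]
    unfold uniMat
    rw [dif_pos p.2]

lemma card_pairs_lt (n : ℕ) :
    Fintype.card {p : Fin n × Fin n // p.1 < p.2} = n * (n - 1) / 2 := by
  have e : {p : Fin n × Fin n // p.1 < p.2} ≃ Σ j : Fin n, Fin (j : ℕ) :=
    { toFun := fun p => ⟨p.1.2, ⟨p.1.1, p.2⟩⟩
      invFun := fun s => ⟨(⟨s.2, lt_trans s.2.2 s.1.2⟩, s.1), s.2.2⟩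
      left_inv := fun p => by
        apply Subtype.ext
        rfl
      right_inv := fun s => by
        rfl }
  rw [Fintype.card_congr e, Fintype.card_sigma]
  simp only [Fintype.card_fin]
  rw [Fin.sum_univ_eq_sum_range (fun i => i) n, Finset.sum_range_id]

lemma card_Uni : Nat.card (Uni n F) = Fintype.card F ^ (n * (n - 1) / 2) := by
  classical
  rw [Nat.card_congr uniEquiv, Nat.card_eq_fintype_card, Fintype.card_fun, card_pairs_lt]

end Fin

section Char

variable [Fintype F] (p : ℕ) [Fact p.Prime] [CharP F p]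

lemma Uni_isPGroup : IsPGroup p (Uni n F) := by
  obtain ⟨k, hp, hk⟩ := FiniteField.card F p
  apply IsPGroup.of_card (n := (k : ℕ) * (n * (n - 1) / 2))
  rw [card_Uni, hk, pow_mul]

lemma Uni_index_not_dvd [NeZero n] : ¬ p ∣ (Uni n F).index := by
  classical
  intro hdvd
  obtain ⟨P⟩ : Nonempty (Sylow p (GL (Fin n) F)) := inferInstance
  have h1 := Cfsg.Agent.Lib.Helper5.card_sylow_char_GL p n P
  have h2 := P.not_dvd_index
  have h3 : Nat.card (GL (Fin n) F) =
      Nat.card (SpecialLinearGroup (Fin n) F) * (Fintype.card F - 1) :=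
    Cfsg.Agent.Lib.Helper5.card_GL_eq_card_SL_mul
  have h4 := (P : Subgroup (GL (Fin n) F)).card_mul_index
  have h5 := (Uni n F).card_mul_index
  rw [card_Uni] at h5
  rw [h1] at h4
  have hq : 0 < Fintype.card F ^ (n * (n - 1) / 2) := pow_pos Fintype.card_pos _
  have h6 : (Uni n F).index * (Fintype.card F - 1) = (P : Subgroup (GL (Fin n) F)).index := by
    apply Nat.eq_of_mul_eq_mul_left hq
    rw [h4, h3, ← h5]
    ring
  exact h2 (h6 ▸ Dvd.dvd.mul_right hdvd _)

/-- the image of the unitriangular group in `PSL_n(F)` -/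
def Ubar (n : ℕ) (F : Type*) [Field F] [Fintype F] :
    Subgroup (Matrix.ProjectiveSpecialLinearGroup (Fin n) F) := (Uni n F).map pr

lemma Ubar_isPGroup : IsPGroup p (Ubar n F) := (Uni_isPGroup p).map pr

lemma Ubar_index_not_dvd [NeZero n] : ¬ p ∣ (Ubar n F).index := by
  intro h
  exact Uni_index_not_dvd p (dvd_trans h (Subgroup.index_map_dvd _ pr_surjective))

end Char

section Center

variable [Fintype F]

lemma xr_mem_Uni {i j : Fin n} (hij : i < j) (c : F) : xr i j c ∈ Uni n F := by
  rw [mem_Uni, xr_val hij.ne]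
  intro k l hlk
  rw [Matrix.add_apply, single_apply_of_ne, add_zero]
  rintro ⟨rfl, rfl⟩
  exact absurd hij (not_lt.2 hlk)

/-- unitriangular elements commuting modulo scalars commute -/
lemma comm_of_pr_comm {u u' : SpecialLinearGroup (Fin n) F} (hu : u ∈ Uni n F)
    (hu' : u' ∈ Uni n F) (h : pr u * pr u' = pr u' * pr u) (a : Fin n) : u * u' = u' * u := by
  rw [← map_mul, ← map_mul] at h
  obtain ⟨r, _, hr⟩ := exists_smul_of_pr_eq h
  have h1 : IsUni (u * u').1 := (Uni n F).mul_mem hu hu'
  have h2 : IsUni (u' * u).1 := (Uni n F).mul_mem hu' hu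
  have h3 := congrFun (congrFun hr a) a
  rw [h2.diag, Matrix.smul_apply, h1.diag, smul_eq_mul, mul_one] at h3
  rw [← h3, one_smul] at hr
  exact sl_ext hr.symm

/-- the centre of the image of the unitriangular group consists of root elements -/
theorem center_Ubar {a z : Fin n} (haz : a ≠ z) (ha : ∀ i : Fin n, a ≤ i)
    (hz : ∀ i : Fin n, i ≤ z) {y : Matrix.ProjectiveSpecialLinearGroup (Fin n) F}
    (hy : y ∈ Ubar n F) (hc : ∀ w ∈ Ubar n F, y * w = w * y) :
    ∃ t : F, y = pr (xr a z t) := by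
  obtain ⟨u, hu, rfl⟩ := hy
  have hcomm : ∀ u' ∈ Uni n F, u * u' = u' * u := fun u' hu' =>
    comm_of_pr_comm hu hu' (hc _ ⟨u', hu', rfl⟩) a
  have hU : IsUni u.1 := hu
  have hsingle : ∀ i j : Fin n, i < j → u.1 * single i j (1 : F) = single i j (1 : F) * u.1 := by
    intro i j hlt
    have h1 := hcomm _ (xr_mem_Uni hlt 1)
    have h2 := congrArg Subtype.val h1
    rw [val_mul, val_mul, xr_val hlt.ne, Matrix.mul_add, Matrix.add_mul, Matrix.mul_one,
      Matrix.one_mul] at h2
    exact add_left_cancel h2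
  have hcol : ∀ i k : Fin n, i ≠ z → k ≠ i → u.1 k i = 0 := by
    intro i k hiz hki
    have hlt : i < z := lt_of_le_of_ne (hz i) hiz
    have h4 := congrFun (congrFun (hsingle i z hlt) k) z
    rw [mul_single_apply_same, single_mul_apply_of_ne _ _ _ _ _ hki, mul_one] at h4
    exact h4
  have hrow : ∀ j l : Fin n, j ≠ a → l ≠ j → u.1 j l = 0 := by
    intro j l hja hlj
    have hlt : a < j := lt_of_le_of_ne (ha j) (Ne.symm hja)
    have h4 := congrFun (congrFun (hsingle a j hlt) a) l
    rw [mul_single_apply_of_ne _ _ _ _ _ hlj, single_mul_apply_same, one_mul] at h4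
    exact h4.symm
  refine ⟨u.1 a z, ?_⟩
  congr 1
  apply sl_ext
  rw [xr_val haz]
  ext k l
  rw [Matrix.add_apply]
  by_cases hkl : k = l
  · subst hkl
    rw [hU.diag, Matrix.one_apply_eq, single_apply_of_ne, add_zero]
    rintro ⟨rfl, rfl⟩; exact haz rfl
  · rw [Matrix.one_apply_ne hkl, zero_add]
    by_cases hka : k = a
    · by_cases hlz : l = z
      · subst hka hlz; rw [single_apply_same]
      · rw [hcol l k hlz hkl, single_apply_of_ne]; rintro ⟨_, rfl⟩; exact hlz rfl
    · rw [hrow k l hka (Ne.symm hkl), single_apply_of_ne]; rintro ⟨rfl, _⟩; exact hka rfl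

/-- the corner root elements are central in the unitriangular group -/
lemma xr_central {a z : Fin n} (haz : a ≠ z) (ha : ∀ i : Fin n, a ≤ i)
    (hz : ∀ i : Fin n, i ≤ z) (t : F) {u : SpecialLinearGroup (Fin n) F} (hu : u ∈ Uni n F) :
    u * xr a z t = xr a z t * u := by
  have hU : IsUni u.1 := hu
  apply sl_ext
  rw [val_mul, val_mul, xr_val haz, Matrix.mul_add, Matrix.add_mul, Matrix.mul_one,
    Matrix.one_mul]
  congr 1
  ext k l
  by_cases hl : l = z
  · subst hl
    rw [mul_single_apply_same, hU k a (ha k)]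
    by_cases hk : k = a
    · subst hk
      rw [single_mul_apply_same, hU.diag, Matrix.one_apply_eq, one_mul, mul_one]
    · rw [single_mul_apply_of_ne _ _ _ _ _ hk, Matrix.one_apply_ne hk, zero_mul]
  · rw [mul_single_apply_of_ne _ _ _ _ _ hl]
    by_cases hk : k = a
    · subst hk
      rw [single_mul_apply_same, hU z l (hz l), Matrix.one_apply_ne (Ne.symm hl), mul_zero]
    · rw [single_mul_apply_of_ne _ _ _ _ _ hk]

end Center

section Main

variable [Fintype F]

lemma isTv_conj (c : Matrix.ProjectiveSpecialLinearGroup (Fin n) F)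
    {y : Matrix.ProjectiveSpecialLinearGroup (Fin n) F} (hy : IsTv y) : IsTv (c * y * c⁻¹) := by
  obtain ⟨s, rfl⟩ := pr_surjective c
  have h1 : pr s * y * (pr s)⁻¹ = Gam (Matrix.SpecialLinearGroup.toGL s) y := by
    rw [← conj_pr, MulAut.conj_apply]
  rw [h1]
  exact isTv_Gam _ hy

/-- **Every automorphism of `PSL_n(F)` maps transvections to transvections.** -/
theorem isTv_map (hn : 3 ≤ n) (p : ℕ) [Fact p.Prime] [CharP F p]
    (α : MulAut (Matrix.ProjectiveSpecialLinearGroup (Fin n) F))
    {y : Matrix.ProjectiveSpecialLinearGroup (Fin n) F} (hy : IsTv y) : IsTv (α y) := by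
  haveI : NeZero n := ⟨by omega⟩
  have h3 : 3 ≤ Fintype.card (Fin n) := by rw [Fintype.card_fin]; exact hn
  obtain ⟨a, ha⟩ : ∃ a : Fin n, a = ⟨0, by omega⟩ := ⟨_, rfl⟩
  obtain ⟨z, hz⟩ : ∃ z : Fin n, z = ⟨n - 1, by omega⟩ := ⟨_, rfl⟩
  have haz : a ≠ z := by
    rw [ha, hz]
    intro h
    have := congrArg Fin.val h
    simp at this
    omega
  have hamin : ∀ i : Fin n, a ≤ i := by
    intro i; rw [ha]; exact Fin.mk_le_of_le_val (Nat.zero_le _)
  have hzmax : ∀ i : Fin n, i ≤ z := by
    intro i; rw [hz]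
    apply Fin.le_def.2
    have := i.2
    show (i : ℕ) ≤ n - 1
    omega
  have hazlt : a < z := lt_of_le_of_ne (hamin z) haz
  -- Sylow
  let P : Sylow p (Matrix.ProjectiveSpecialLinearGroup (Fin n) F) :=
    (Ubar_isPGroup p).toSylow (Ubar_index_not_dvd p)
  obtain ⟨g0, hg0⟩ := MulAction.exists_smul_eq (Matrix.ProjectiveSpecialLinearGroup (Fin n) F)
    (α • P) P
  obtain ⟨α1, hα1def⟩ : ∃ α1, α1 = MulAut.conj g0 * α := ⟨_, rfl⟩
  have hα1P : α1 • (Ubar n F) = Ubar n F := by
    have h := congrArg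
      (fun Q : Sylow p (Matrix.ProjectiveSpecialLinearGroup (Fin n) F) => Q.toSubgroup) hg0
    simp only [Sylow.smul_def, Sylow.pointwise_smul_def] at h
    rw [hα1def, mul_smul]
    exact h
  have hα1 : ∀ x, α1 x ∈ Ubar n F ↔ x ∈ Ubar n F := by
    intro x
    constructor
    · intro hx
      rw [← hα1P] at hx
      obtain ⟨y, hy, hyx⟩ := hx
      have : y = x := α1.injective hyx
      exact this ▸ hy
    · intro hx
      rw [← hα1P]
      exact ⟨x, hx, rfl⟩
  -- the corner root elements
  have hroot : ∀ t : F, t ≠ 0 → IsTv (α (pr (xr a z t))) := by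
    intro t ht
    have hmem : pr (xr a z t) ∈ Ubar n F := ⟨_, xr_mem_Uni hazlt t, rfl⟩
    have hcen : ∀ w ∈ Ubar n F, α1 (pr (xr a z t)) * w = w * α1 (pr (xr a z t)) := by
      intro w hw
      obtain ⟨w', rfl⟩ := α1.surjective w
      have hw' := (hα1 w').1 hw
      obtain ⟨u, hu, rfl⟩ := hw'
      rw [← map_mul, ← map_mul, ← map_mul, ← map_mul, xr_central haz hamin hzmax t hu]
    obtain ⟨s, hs⟩ := center_Ubar haz hamin hzmax ((hα1 _).2 hmem) hcen
    have hs0 : s ≠ 0 := by
      rintro rfl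
      rw [xr_zero, map_one] at hs
      have h1 : pr (xr a z t) = 1 := by
        apply α1.injective
        rw [hs, map_one]
      rw [← map_one pr, ← xr_zero a z] at h1
      exact ht (pr_xr_injective h3 haz h1)
    have h1 : IsTv (α1 (pr (xr a z t))) := by
      rw [hs]
      exact ⟨ee a, s • ee z, ee_ne_zero a, smul_ne_zero hs0 (ee_ne_zero z),
        smul_ee_dot_ee haz s, rfl⟩
    have h2 : α (pr (xr a z t)) = g0⁻¹ * α1 (pr (xr a z t)) * g0⁻¹⁻¹ := by
      rw [hα1def, MulAut.mul_apply, MulAut.conj_apply]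
      group
    rw [h2]
    exact isTv_conj _ h1
  -- the general case
  obtain ⟨v, φ, hv, hφ, h, rfl⟩ := hy
  obtain ⟨t, ht, hc⟩ := isConj_xr haz hv hφ h
  obtain ⟨c, hc⟩ := isConj_iff.1 hc
  have h1 : pr (tv v φ) = c⁻¹ * pr (xr a z t) * c⁻¹⁻¹ := by
    rw [← hc]; group
  rw [h1, map_mul, map_mul, map_inv, map_inv, map_inv]
  exact isTv_conj _ (hroot t ht)

end Main

end Cfsg.Agent.Lib.Helper5.AutPSLn
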