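import Mathlib
import Cfsg.Agent.Lib.Helper5.AutPSLnField
import Cfsg.Agent.Lib.Helper5.AutPSLnSylow

set_option autoImplicit false
set_option linter.unusedSimpArgs false
set_option linter.unusedVariables false
set_option linter.unnecessarySeqFocus false
set_option linter.unusedSectionVars false
set_option linter.style.haveILetI false

/-!
# The automorphism group of `PSL_n(F)`, `n ≥ 3`
-/

namespace Cfsg.Agent.Lib.Helper5.AutPSLn

open Matrix
open scoped Pointwise

section Main

variable {n : ℕ} {F : Type*} [Field F] [Fintype F]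

/-- **Every automorphism of `PSL_n(F)`, `n ≥ 3`, is a product of one induced by `GL_n(F)`, a field
automorphism, and possibly the inverse-transpose automorphism.** -/
theorem exists_Gam_Phi_Iota (hn : 3 ≤ n) (p : ℕ) [Fact p.Prime] [CharP F p]
    (α : MulAut (Matrix.ProjectiveSpecialLinearGroup (Fin n) F)) :
    ∃ (g : GL (Fin n) F) (σ : F ≃+* F)
      (γ : MulAut (Matrix.ProjectiveSpecialLinearGroup (Fin n) F)),
      (γ = 1 ∨ γ = Iota) ∧ α = Gam g * Phi σ * γ := by
  have h3 : 3 ≤ Fintype.card (Fin n) := by rw [Fintype.card_fin]; exact hn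
  have hα : ∀ y, IsTv y → IsTv (α y) := fun y hy => isTv_map hn p α hy
  have hα' : ∀ y, IsTv y → IsTv (α⁻¹ y) := fun y hy => isTv_map hn p α⁻¹ hy
  obtain ⟨g, γ, hγ, hP, hH⟩ := exists_normalize h3 α hα hα'
  obtain ⟨d, σ, hβ⟩ := field_part h3 ((Gam g)⁻¹ * α * γ)
    (fun i k hik t => root_of_fix h3 _ hP hH hik t)
  have hγinv : γ⁻¹ = γ := by
    rcases hγ with rfl | rfl
    · simp
    · exact Iota_inv
  refine ⟨g * dgl d, σ, γ, hγ, ?_⟩
  rw [map_mul, mul_assoc (Gam g), ← hβ]
  have hγ2 : γ * γ = 1 := by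
    nth_rewrite 1 [← hγinv]
    exact inv_mul_cancel γ
  rw [mul_assoc, mul_assoc, mul_assoc, hγ2, mul_one, mul_inv_cancel_left]

end Main

section Unique

variable {ι : Type*} [Fintype ι] [DecidableEq ι] {F : Type*} [Field F]

/-- an automorphism induced both by a matrix and a field automorphism: the field automorphism is
trivial and the matrix is scalar -/
theorem scalar_of_Gam_eq_Phi (h3 : 3 ≤ Fintype.card ι) {k : GL ι F} {ρ : F ≃+* F}
    (h : (Gam k : MulAut (Matrix.ProjectiveSpecialLinearGroup ι F)) = Phi ρ) :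
    ρ = 1 ∧ k ∈ Subgroup.center (GL ι F) := by
  have key : ∀ i j : ι, i ≠ j → ∀ t : F, k.1 * single i j t = single i j (ρ t) * k.1 := by
    intro i j hij t
    have h1 : pr (conjS k (xr i j t)) = pr (fieldS ρ (xr i j t)) := by
      rw [← Gam_pr, ← Phi_pr, h]
    rw [fieldS_xr ρ hij] at h1
    have h2 : conjS k (xr i j t) = xr i j (ρ t) := by
      have e := conjS_tv k (smul_ee_dot_ee hij t)
      rw [← xr] at e
      rw [e] at h1 ⊢
      exact tv_eq_of_pr_eq h3 (by rw [dot_conj]; exact smul_ee_dot_ee hij t)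
        (smul_ee_dot_ee hij (ρ t)) h1
    have h4 := congrArg Subtype.val h2
    change (conjS k (xr i j t)).1 = (xr i j (ρ t)).1 at h4
    rw [conjS_coe, xr_val hij, xr_val hij] at h4
    have h5 : (k⁻¹).1 * k.1 = 1 := by
      rw [← Units.val_mul, inv_mul_cancel]; rfl
    have h6 : k.1 * (1 + single i j t) = (1 + single i j (ρ t)) * k.1 := by
      calc k.1 * (1 + single i j t) = k.1 * (1 + single i j t) * ((k⁻¹).1 * k.1) := by
            rw [h5, Matrix.mul_one]
        _ = (k.1 * (1 + single i j t) * (k⁻¹).1) * k.1 := by simp only [Matrix.mul_assoc]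
        _ = _ := by rw [h4]
    rw [Matrix.mul_add, Matrix.add_mul, Matrix.mul_one, Matrix.one_mul] at h6
    exact add_left_cancel h6
  have hsc : k.1 ∈ Set.range (Matrix.scalar ι) := by
    apply Matrix.mem_range_scalar_of_commute_single
    intro i j hij
    have := key i j hij 1
    rw [map_one] at this
    exact this.symm
  obtain ⟨c, hc⟩ := hsc
  have hι : Nonempty ι := Fintype.card_pos_iff.1 (by omega)
  have hc0 : c ≠ 0 := by
    rintro rfl
    rw [map_zero] at hc
    have h5 : k.1 * (k⁻¹).1 = 1 := by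
      rw [← Units.val_mul, mul_inv_cancel]; rfl
    rw [← hc, Matrix.zero_mul] at h5
    obtain ⟨i⟩ := hι
    have := congrFun (congrFun h5 i) i
    simp at this
  refine ⟨?_, Matrix.GeneralLinearGroup.mem_center_iff_val_mem_range_scalar.2 ⟨c, hc⟩⟩
  obtain ⟨i⟩ := hι
  obtain ⟨j, hj⟩ := exists_ne h3 i
  ext t
  have h1 := congrFun (congrFun (key i j hj.symm t) i) j
  rw [← hc] at h1
  simp only [Matrix.scalar_apply, Matrix.diagonal_mul, Matrix.mul_diagonal, single_apply_same]
    at h1
  rw [mul_comm] at h1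
  exact (mul_right_cancel₀ hc0 h1).symm

/-- the kernel of `GL_n(F) → Aut(PSL_n(F))` is the centre -/
theorem Gam_ker (h3 : 3 ≤ Fintype.card ι) :
    (Gam : GL ι F →* MulAut (Matrix.ProjectiveSpecialLinearGroup ι F)).ker =
      Subgroup.center (GL ι F) := by
  ext g
  rw [MonoidHom.mem_ker]
  constructor
  · intro hg
    have : (Gam g : MulAut (Matrix.ProjectiveSpecialLinearGroup ι F)) = Phi 1 := by
      rw [hg, map_one]
    exact (scalar_of_Gam_eq_Phi h3 this).2
  · intro hg
    rw [Subgroup.mem_center_iff] at hg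
    ext y
    obtain ⟨x, rfl⟩ := pr_surjective y
    rw [Gam_pr]
    show pr (conjS g x) = pr x
    congr 1
    apply sl_ext
    rw [conjS_coe]
    have h1 := congrArg Units.val (hg (Matrix.SpecialLinearGroup.toGL x))
    rw [Units.val_mul, Units.val_mul] at h1
    have h2 : (Matrix.SpecialLinearGroup.toGL x).1 = x.1 := rfl
    rw [h2] at h1
    have h6 : g.1 * (g⁻¹).1 = 1 := by
      rw [← Units.val_mul, mul_inv_cancel]; rfl
    rw [← h1, Matrix.mul_assoc, h6, Matrix.mul_one]

end Unique

end Cfsg.Agent.Lib.Helper5.AutPSLn
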