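import Mathlib
import Cfsg.Agent.Lib.Helper5.AutPSLnMain
import Cfsg.Agent.Lib.Helper5.GLCard
import Cfsg.Agent.Lib.Helper5.AutPSL2Out
import Cfsg.Prelude.Def_KGroupFacts

set_option autoImplicit false
set_option linter.unusedSimpArgs false
set_option linter.unusedVariables false
set_option linter.unnecessarySeqFocus false
set_option linter.unusedSectionVars false
set_option linter.style.haveILetI false

/-!
# The structure of `Aut(PSL_n(F))` and `Out(PSL_n(F))`, `n ≥ 3`
-/

namespace Cfsg.Agent.Lib.Helper5.AutPSLn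

open Matrix
open scoped Pointwise

section General

variable {ι : Type*} [Fintype ι] [DecidableEq ι] {F : Type*} [Field F]

lemma mulVec_ne_zero (g : GL ι F) {v : ι → F} (hv : v ≠ 0) : g.1 *ᵥ v ≠ 0 := by
  intro h0
  apply hv
  have := congrArg (fun x => (g⁻¹).1 *ᵥ x) h0
  simpa [Matrix.mulVec_mulVec, ← Units.val_mul] using this

lemma vecMul_ne_zero (g : GL ι F) {φ : ι → F} (hφ : φ ≠ 0) : φ ᵥ* (g⁻¹).1 ≠ 0 := by
  intro h0
  apply hφ
  have := congrArg (fun x => x ᵥ* g.1) h0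
  simpa [Matrix.vecMul_vecMul, ← Units.val_mul] using this

lemma map_ne_zero' (σ : F ≃+* F) {v : ι → F} (hv : v ≠ 0) : (fun i => σ (v i)) ≠ 0 := by
  intro h0
  apply hv
  ext i
  have := congrFun h0 i
  simpa using this

lemma IsPt.Gam (g : GL ι F) {M : Subgroup (Matrix.ProjectiveSpecialLinearGroup ι F)}
    (h : IsPt M) : IsPt (AutPSLn.Gam g • M) := by
  obtain ⟨v, hv, rfl⟩ := h
  exact ⟨_, mulVec_ne_zero g hv, Gam_smul_Pt g v⟩

lemma IsHp.Gam (g : GL ι F) {M : Subgroup (Matrix.ProjectiveSpecialLinearGroup ι F)}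
    (h : IsHp M) : IsHp (AutPSLn.Gam g • M) := by
  obtain ⟨v, hv, rfl⟩ := h
  exact ⟨_, vecMul_ne_zero g hv, Gam_smul_Hp g v⟩

lemma IsPt.Phi (σ : F ≃+* F) {M : Subgroup (Matrix.ProjectiveSpecialLinearGroup ι F)}
    (h : IsPt M) :
    IsPt ((AutPSLn.Phi σ : MulAut (Matrix.ProjectiveSpecialLinearGroup ι F)) • M) := by
  obtain ⟨v, hv, rfl⟩ := h
  exact ⟨_, map_ne_zero' σ hv, Phi_smul_Pt σ v⟩

lemma IsHp.Phi (σ : F ≃+* F) {M : Subgroup (Matrix.ProjectiveSpecialLinearGroup ι F)}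
    (h : IsHp M) :
    IsHp ((AutPSLn.Phi σ : MulAut (Matrix.ProjectiveSpecialLinearGroup ι F)) • M) := by
  obtain ⟨v, hv, rfl⟩ := h
  exact ⟨_, map_ne_zero' σ hv, Phi_smul_Hp σ v⟩

lemma IsPt.Iota {M : Subgroup (Matrix.ProjectiveSpecialLinearGroup ι F)}
    (h : IsPt M) : IsHp ((AutPSLn.Iota : MulAut (Matrix.ProjectiveSpecialLinearGroup ι F)) • M) := by
  obtain ⟨v, hv, rfl⟩ := h
  exact ⟨_, hv, Iota_smul_Pt v⟩

/-- powers of the inverse-transpose automorphism, indexed by `ZMod 2` -/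
noncomputable def IotaPow (ε : ZMod 2) : MulAut (Matrix.ProjectiveSpecialLinearGroup ι F) :=
  if ε = 0 then 1 else Iota

lemma zmod2_cases (ε : ZMod 2) : ε = 0 ∨ ε = 1 := by
  revert ε; decide

lemma IotaPow_zero : (IotaPow 0 : MulAut (Matrix.ProjectiveSpecialLinearGroup ι F)) = 1 := by
  simp [IotaPow]

lemma IotaPow_one : (IotaPow 1 : MulAut (Matrix.ProjectiveSpecialLinearGroup ι F)) = Iota := by
  simp [IotaPow]

lemma IotaPow_add (a b : ZMod 2) :
    (IotaPow (a + b) : MulAut (Matrix.ProjectiveSpecialLinearGroup ι F)) =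
      IotaPow a * IotaPow b := by
  have h11 : (1 + 1 : ZMod 2) = 0 := by decide
  rcases zmod2_cases a with rfl | rfl <;> rcases zmod2_cases b with rfl | rfl
  · simp [IotaPow_zero]
  · simp [IotaPow_zero, IotaPow_one]
  · simp [IotaPow_zero, IotaPow_one]
  · rw [h11, IotaPow_zero, IotaPow_one, Iota_mul_self]

/-- powers of the inverse-transpose on `GL_n` -/
def glPow (ε : ZMod 2) (g : GL ι F) : GL ι F := if ε = 0 then g else glInvT g

lemma IotaPow_mul_Gam (ε : ZMod 2) (g : GL ι F) :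
    IotaPow ε * Gam g = Gam (glPow ε g) * IotaPow ε := by
  rcases zmod2_cases ε with rfl | rfl
  · simp [IotaPow_zero, glPow]
  · rw [IotaPow_one, Iota_mul_Gam]
    simp [glPow]

lemma IotaPow_mul_Phi (ε : ZMod 2) (σ : F ≃+* F) :
    IotaPow ε * Phi σ = Phi σ * (IotaPow ε : MulAut (Matrix.ProjectiveSpecialLinearGroup ι F)) := by
  rcases zmod2_cases ε with rfl | rfl
  · simp [IotaPow_zero]
  · rw [IotaPow_one, Iota_mul_Phi]

/-- multiplication of normal forms -/
theorem nf_mul (g : GL ι F) (σ : F ≃+* F) (ε : ZMod 2) (g' : GL ι F) (σ' : F ≃+* F)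
    (ε' : ZMod 2) :
    ∃ g'' : GL ι F, Gam g * Phi σ * IotaPow ε * (Gam g' * Phi σ' * IotaPow ε') =
      Gam g'' * Phi (σ * σ') * IotaPow (ε + ε') := by
  refine ⟨g * Matrix.GeneralLinearGroup.map σ.toRingHom (glPow ε g'), ?_⟩
  calc Gam g * Phi σ * IotaPow ε * (Gam g' * Phi σ' * IotaPow ε')
      = Gam g * Phi σ * (IotaPow ε * Gam g') * Phi σ' * IotaPow ε' := by simp only [mul_assoc]
    _ = Gam g * (Phi σ * Gam (glPow ε g')) * (IotaPow ε * Phi σ') * IotaPow ε' := by
        rw [IotaPow_mul_Gam]; simp only [mul_assoc]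
    _ = Gam g * (Gam (Matrix.GeneralLinearGroup.map σ.toRingHom (glPow ε g')) * Phi σ) *
          (Phi σ' * IotaPow ε) * IotaPow ε' := by rw [Phi_mul_Gam, IotaPow_mul_Phi]
    _ = _ := by
        rw [map_mul, map_mul, IotaPow_add]; simp only [mul_assoc]

/-- the type of a normal form -/
lemma nf_type (h3 : 3 ≤ Fintype.card ι) (g : GL ι F) (σ : F ≃+* F) (ε : ZMod 2)
    {M : Subgroup (Matrix.ProjectiveSpecialLinearGroup ι F)} (hM : IsPt M) :
    (ε = 0 → IsPt ((Gam g * Phi σ * IotaPow ε) • M)) ∧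
    (ε = 1 → IsHp ((Gam g * Phi σ * IotaPow ε) • M)) := by
  constructor
  · rintro rfl
    rw [IotaPow_zero, mul_one, mul_smul]
    exact (hM.Phi σ).Gam g
  · rintro rfl
    rw [IotaPow_one, mul_smul, mul_smul]
    exact (hM.Iota.Phi σ).Gam g

/-- uniqueness of the normal form -/
theorem nf_unique (h3 : 3 ≤ Fintype.card ι) {g g' : GL ι F} {σ σ' : F ≃+* F} {ε ε' : ZMod 2}
    (e : (Gam g * Phi σ * IotaPow ε : MulAut (Matrix.ProjectiveSpecialLinearGroup ι F)) =
      Gam g' * Phi σ' * IotaPow ε') : σ = σ' ∧ ε = ε' := by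
  have hι : Nonempty ι := Fintype.card_pos_iff.1 (by omega)
  obtain ⟨i0⟩ := hι
  have hM : IsPt (Pt (ee i0 : ι → F)) := ⟨_, ee_ne_zero i0, rfl⟩
  have hε : ε = ε' := by
    have t1 := nf_type h3 g σ ε hM
    have t2 := nf_type h3 g' σ' ε' hM
    rw [← e] at t2
    rcases zmod2_cases ε with h | h <;> rcases zmod2_cases ε' with h' | h'
    · rw [h, h']
    · exact (not_isPt_and_isHp h3 (t1.1 h) (t2.2 h')).elim
    · exact (not_isPt_and_isHp h3 (t2.1 h') (t1.2 h)).elim
    · rw [h, h']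
  refine ⟨?_, hε⟩
  subst hε
  have e1 : (Gam g * Phi σ : MulAut (Matrix.ProjectiveSpecialLinearGroup ι F)) =
      Gam g' * Phi σ' := mul_right_cancel e
  have h1 : (Gam (g'⁻¹ * g) : MulAut (Matrix.ProjectiveSpecialLinearGroup ι F)) =
      Phi (σ' * σ⁻¹) := by
    rw [map_mul, map_mul, map_inv, map_inv, eq_mul_inv_iff_mul_eq, mul_assoc, e1,
      inv_mul_cancel_left]
  have h2 := (scalar_of_Gam_eq_Phi h3 h1).1
  exact (mul_inv_eq_one.1 h2).symm

end General

section Theta

variable {n : ℕ} {F : Type*} [Field F] [Fintype F]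

/-- the homomorphism `Aut(PSL_n(F)) → Aut(F) × Z/2` -/
theorem exists_theta (hn : 3 ≤ n) (p : ℕ) [Fact p.Prime] [CharP F p] :
    ∃ θ : MulAut (Matrix.ProjectiveSpecialLinearGroup (Fin n) F) →*
        (F ≃+* F) × Multiplicative (ZMod 2),
      Function.Surjective θ ∧
      θ.ker = (Gam : GL (Fin n) F →* MulAut (Matrix.ProjectiveSpecialLinearGroup (Fin n) F)).range := by
  have h3 : 3 ≤ Fintype.card (Fin n) := by rw [Fintype.card_fin]; exact hn
  have ex : ∀ α : MulAut (Matrix.ProjectiveSpecialLinearGroup (Fin n) F),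
      ∃ (σ : F ≃+* F) (ε : ZMod 2) (g : GL (Fin n) F), α = Gam g * Phi σ * IotaPow ε := by
    intro α
    obtain ⟨g, σ, γ, hγ, e⟩ := exists_Gam_Phi_Iota hn p α
    rcases hγ with rfl | rfl
    · exact ⟨σ, 0, g, by rw [IotaPow_zero]; exact e⟩
    · exact ⟨σ, 1, g, by rw [IotaPow_one]; exact e⟩
  choose fσ fε fg hf using ex
  have char : ∀ (α : MulAut (Matrix.ProjectiveSpecialLinearGroup (Fin n) F)) (g : GL (Fin n) F)
      (σ : F ≃+* F) (ε : ZMod 2), α = Gam g * Phi σ * IotaPow ε → fσ α = σ ∧ fε α = ε := by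
    intro α g σ ε h
    exact nf_unique h3 ((hf α).symm.trans h)
  let θ : MulAut (Matrix.ProjectiveSpecialLinearGroup (Fin n) F) →*
      (F ≃+* F) × Multiplicative (ZMod 2) :=
    { toFun := fun α => (fσ α, Multiplicative.ofAdd (fε α))
      map_one' := by
        obtain ⟨h1, h2⟩ := char 1 1 1 0 (by rw [IotaPow_zero]; simp)
        rw [h1, h2]; rfl
      map_mul' := fun α β => by
        obtain ⟨g'', hg''⟩ := nf_mul (fg α) (fσ α) (fε α) (fg β) (fσ β) (fε β)
        rw [← hf α, ← hf β] at hg''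
        obtain ⟨h1, h2⟩ := char _ _ _ _ hg''
        rw [h1, h2]; rfl }
  have θ_apply : ∀ α, θ α = (fσ α, Multiplicative.ofAdd (fε α)) := fun α => rfl
  refine ⟨θ, ?_, ?_⟩
  · rintro ⟨σ, ε⟩
    refine ⟨Phi σ * IotaPow (Multiplicative.toAdd ε), ?_⟩
    obtain ⟨h1, h2⟩ := char (Phi σ * IotaPow (Multiplicative.toAdd ε)) 1 σ
      (Multiplicative.toAdd ε) (by simp)
    rw [θ_apply, h1, h2]; rfl
  · ext α
    rw [MonoidHom.mem_ker, θ_apply]
    constructor
    · intro h
      have h1 : fσ α = 1 := congrArg Prod.fst h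
      have h2 : fε α = 0 := by
        have := congrArg Prod.snd h
        exact this
      have := hf α
      rw [h1, h2, map_one, mul_one, IotaPow_zero, mul_one] at this
      exact ⟨fg α, this.symm⟩
    · rintro ⟨g, rfl⟩
      obtain ⟨h1, h2⟩ := char (Gam g) g 1 0 (by rw [IotaPow_zero]; simp)
      rw [h1, h2]; rfl

instance instFiniteGL : Finite (GL (Fin n) F) := by
  classical
  exact Finite.of_fintype _

/-- the group of automorphisms induced by `GL_n(F)` has order `|SL_n(F)|` -/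
theorem card_Gam_range (hn : 3 ≤ n) :
    Nat.card (Gam : GL (Fin n) F →* MulAut (Matrix.ProjectiveSpecialLinearGroup (Fin n) F)).range =
      Nat.card (SpecialLinearGroup (Fin n) F) := by
  have h3 : 3 ≤ Fintype.card (Fin n) := by rw [Fintype.card_fin]; exact hn
  haveI : Nonempty (Fin n) := ⟨⟨0, by omega⟩⟩
  have h1 := Subgroup.card_eq_card_quotient_mul_card_subgroup
    (Gam : GL (Fin n) F →* MulAut (Matrix.ProjectiveSpecialLinearGroup (Fin n) F)).ker
  rw [Nat.card_congr (QuotientGroup.quotientKerEquivRange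
      (Gam : GL (Fin n) F →* MulAut (Matrix.ProjectiveSpecialLinearGroup (Fin n) F))).toEquiv,
    Cfsg.Agent.Lib.Helper5.card_GL_eq_card_SL_mul, Gam_ker h3,
    Cfsg.Agent.Lib.Helper5.card_center_GL] at h1
  have hq : 2 ≤ Fintype.card F := Fintype.one_lt_card
  exact (Nat.eq_of_mul_eq_mul_right (by omega) h1).symm

/-- `|Inn(PSL_n(F))| = |PSL_n(F)|` -/
theorem card_Inn (hn : 3 ≤ n) :
    Nat.card (Cfsg.Inn (Matrix.ProjectiveSpecialLinearGroup (Fin n) F)) =
      Nat.card (Matrix.ProjectiveSpecialLinearGroup (Fin n) F) := by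
  have h3 : 3 ≤ Fintype.card (Fin n) := by rw [Fintype.card_fin]; exact hn
  have hinj : Function.Injective
      (MulAut.conj : Matrix.ProjectiveSpecialLinearGroup (Fin n) F →* _) := by
    rw [injective_iff_map_eq_one]
    intro a ha
    obtain ⟨x, rfl⟩ := pr_surjective a
    rw [conj_pr] at ha
    have h1 : Matrix.SpecialLinearGroup.toGL x ∈ Subgroup.center (GL (Fin n) F) := by
      rw [← Gam_ker h3, MonoidHom.mem_ker]; exact ha
    obtain ⟨c, hc⟩ := Matrix.GeneralLinearGroup.mem_center_iff_val_mem_range_scalar.1 h1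
    have hx : x ∈ Subgroup.center (SpecialLinearGroup (Fin n) F) := by
      rw [Matrix.SpecialLinearGroup.mem_center_iff]
      refine ⟨c, ?_, hc⟩
      have hdet := x.2
      have hc' : (Matrix.scalar (Fin n)) c = x.1 := hc
      rw [← hc', Matrix.scalar_apply, Matrix.det_diagonal] at hdet
      simpa using hdet
    exact (QuotientGroup.eq_one_iff x).2 hx
  exact (Nat.card_congr (MonoidHom.ofInjective hinj).toEquiv).symm

lemma card_center_SLn [NeZero n] :
    Nat.card (Subgroup.center (SpecialLinearGroup (Fin n) F)) =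
      Nat.gcd n (Fintype.card F - 1) := by
  classical
  rw [Nat.card_congr (Matrix.SpecialLinearGroup.center_equiv_rootsOfUnity' (0 : Fin n)).toEquiv]
  have h1 : rootsOfUnity (Fintype.card (Fin n)) F = (powMonoidHom n : Fˣ →* Fˣ).ker := by
    ext x
    simp [MonoidHom.mem_ker]
  rw [h1, IsCyclic.card_powMonoidHom_ker, Nat.card_eq_fintype_card, Fintype.card_units,
    Nat.gcd_comm]

/-- the order of `Aut(PSL_n(F))` -/
theorem card_aut (hn : 3 ≤ n) (p : ℕ) [Fact p.Prime] [CharP F p] {f : ℕ}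
    (hF : Fintype.card F = p ^ f) :
    Nat.card (MulAut (Matrix.ProjectiveSpecialLinearGroup (Fin n) F)) =
      2 * f * Nat.card (SpecialLinearGroup (Fin n) F) := by
  obtain ⟨θ, θ_surj, θ_ker⟩ := exists_theta (F := F) hn p
  rw [Subgroup.card_eq_card_quotient_mul_card_subgroup θ.ker,
    Nat.card_congr (QuotientGroup.quotientKerEquivOfSurjective θ θ_surj).toEquiv, θ_ker,
    card_Gam_range hn, Nat.card_prod, AutPSL2.card_ringAut p hF, Nat.card_eq_fintype_card,
    Fintype.card_multiplicative, ZMod.card]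
  ring

end Theta

end Cfsg.Agent.Lib.Helper5.AutPSLn
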