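import Mathlib
import Cfsg.Prelude.Def_LieTypeDatum
import Cfsg.Agent.Lib.Helper5.AutPSLnMaps

set_option autoImplicit false
set_option linter.unusedSimpArgs false
set_option linter.unusedVariables false
set_option linter.unnecessarySeqFocus false
set_option linter.unusedSectionVars false

/-!
# The standard automorphisms of `PSL_n(F)` satisfy the predicates of the statements
-/

namespace Cfsg.Agent.Lib.Helper5.AutPSLn

open Matrix

variable {n : ℕ} {F : Type*} [Field F]

lemma isInnerDiagonal_Gam (g : GL (Fin n) F) : Cfsg.IsInnerDiagonalAutPSL (Gam g) := by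
  refine ⟨g, ?_⟩
  intro s s' h
  have : s' = conjS g s := sl_ext h
  rw [this]
  rfl

lemma isStdField_Phi (σ : F ≃+* F) :
    Cfsg.IsStdFieldAutPSL σ (Phi σ : MulAut (Matrix.ProjectiveSpecialLinearGroup (Fin n) F)) := by
  intro s s' h
  have : s' = fieldS σ s := sl_ext h
  rw [this]
  rfl

lemma isInvT_Iota :
    Cfsg.IsInverseTransposeAutPSL
      (Iota : MulAut (Matrix.ProjectiveSpecialLinearGroup (Fin n) F)) := by
  intro s s' h
  have : s' = invT s := sl_ext h
  rw [this]
  rfl

lemma isInduced_Gam_Phi (g : GL (Fin n) F) (σ : F ≃+* F) :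
    Cfsg.IsInducedBySemilinearPSL g σ (Gam g * Phi σ) := by
  intro s s' h
  have : s' = conjS g (fieldS σ s) := sl_ext h
  rw [this]
  rfl

lemma Gam2_eq (g : GL (Fin 2) F) : AutPSL2.Gam g = Gam g := by
  ext y
  obtain ⟨x, rfl⟩ := pr_surjective y
  rfl

lemma Phi2_eq (σ : F ≃+* F) :
    AutPSL2.Phi σ = (Phi σ : MulAut (Matrix.ProjectiveSpecialLinearGroup (Fin 2) F)) := by
  ext y
  obtain ⟨x, rfl⟩ := pr_surjective y
  rfl

end Cfsg.Agent.Lib.Helper5.AutPSLn
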