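import Mathlib
import Cfsg.Prelude.Def_LieTypeDatum
import Cfsg.Agent.Lib.Helper5.AutPSLnOut
import Cfsg.Agent.Lib.Helper5.AutPSLnPred
import Cfsg.Agent.Lib.Helper5.AutPSL2Main
import Cfsg.Agent.Lib.Helper5.AutPSL2Ker

set_option autoImplicit false
set_option linter.unusedSimpArgs false
set_option linter.unusedVariables false
set_option linter.unnecessarySeqFocus false
set_option linter.unusedSectionVars false

/-!
# Uniform facts on `Aut(PSL_n(F))` for `n ≥ 2`
-/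

namespace Cfsg.Agent.Lib.Helper5.AutPSLn

open Matrix

section

variable {n : ℕ} {F : Type*} [Field F] [Fintype F]

/-- normal form of an automorphism, `n ≥ 2` -/
theorem exists_nf (hn : 2 ≤ n) (p : ℕ) [Fact p.Prime] [CharP F p]
    (α : MulAut (Matrix.ProjectiveSpecialLinearGroup (Fin n) F)) :
    ∃ (g : GL (Fin n) F) (σ : F ≃+* F) (ε : ZMod 2), α = Gam g * Phi σ * IotaPow ε := by
  rcases Nat.lt_or_ge n 3 with h | h
  · have h2 : n = 2 := by omega
    subst h2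
    obtain ⟨g, σ, e⟩ := AutPSL2.exists_Gam_Phi p α
    rw [Gam2_eq, Phi2_eq] at e
    exact ⟨g, σ, 0, by rw [IotaPow_zero, mul_one]; exact e⟩
  · obtain ⟨g, σ, γ, hγ, e⟩ := exists_Gam_Phi_Iota h p α
    rcases hγ with rfl | rfl
    · exact ⟨g, σ, 0, by rw [IotaPow_zero]; exact e⟩
    · exact ⟨g, σ, 1, by rw [IotaPow_one]; exact e⟩

/-- the kernel of `GL_n → Aut(PSL_n)`, `n ≥ 2` -/
theorem Gam_ker2 (hn : 2 ≤ n) :
    (Gam : GL (Fin n) F →* MulAut (Matrix.ProjectiveSpecialLinearGroup (Fin n) F)).ker =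
      Subgroup.center (GL (Fin n) F) := by
  rcases Nat.lt_or_ge n 3 with h | h
  · have h2 : n = 2 := by omega
    subst h2
    have := AutPSL2.Gam_ker (F := F)
    ext g
    rw [← this, MonoidHom.mem_ker, MonoidHom.mem_ker, Gam2_eq]
  · exact Gam_ker (by rw [Fintype.card_fin]; exact h)

/-- `Phi` is injective, `n ≥ 2` -/
theorem Phi_eq_one (hn : 2 ≤ n) {σ : F ≃+* F}
    (h : (Phi σ : MulAut (Matrix.ProjectiveSpecialLinearGroup (Fin n) F)) = 1) : σ = 1 := by
  rcases Nat.lt_or_ge n 3 with h3 | h3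
  · have h2 : n = 2 := by omega
    subst h2
    have : AutPSL2.Gam (1 : GL (Fin 2) F) = AutPSL2.Phi σ := by
      rw [Phi2_eq, h, map_one]
    exact AutPSL2.eq_one_of_Gam_eq_Phi this
  · have : (Gam (1 : GL (Fin n) F) : MulAut (Matrix.ProjectiveSpecialLinearGroup (Fin n) F)) =
        Phi σ := by rw [h, map_one]
    exact (scalar_of_Gam_eq_Phi (by rw [Fintype.card_fin]; exact h3) this).1

theorem Phi_injective (hn : 2 ≤ n) : Function.Injective
    (Phi : (F ≃+* F) →* MulAut (Matrix.ProjectiveSpecialLinearGroup (Fin n) F)) := by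
  rw [injective_iff_map_eq_one]
  intro σ h
  exact Phi_eq_one hn h

/-- scalar matrices act trivially -/
lemma Gam_scalar (hn : 2 ≤ n) (g : GL (Fin n) F) (hg : g ∈ Subgroup.center (GL (Fin n) F)) :
    (Gam g : MulAut (Matrix.ProjectiveSpecialLinearGroup (Fin n) F)) = 1 := by
  rw [← Gam_ker2 hn] at hg
  exact hg

/-- the automorphisms induced by `GL_n` form a normal subgroup -/
theorem Gam_range_normal (hn : 2 ≤ n) (p : ℕ) [Fact p.Prime] [CharP F p] :
    (Gam : GL (Fin n) F →* MulAut (Matrix.ProjectiveSpecialLinearGroup (Fin n) F)).range.Normal := by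
  constructor
  rintro _ ⟨h, rfl⟩ α
  obtain ⟨g, σ, ε, rfl⟩ := exists_nf hn p α
  refine ⟨g * Matrix.GeneralLinearGroup.map σ.toRingHom (glPow ε h) * g⁻¹, ?_⟩
  rw [map_mul, map_mul, map_inv]
  have e1 : (IotaPow ε * Gam h : MulAut (Matrix.ProjectiveSpecialLinearGroup (Fin n) F)) =
      Gam (glPow ε h) * IotaPow ε := IotaPow_mul_Gam ε h
  have e2 := Phi_mul_Gam (ι := Fin n) σ (glPow ε h)
  calc Gam g * Gam (Matrix.GeneralLinearGroup.map σ.toRingHom (glPow ε h)) * (Gam g)⁻¹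
      = Gam g * (Gam (Matrix.GeneralLinearGroup.map σ.toRingHom (glPow ε h)) * Phi σ) *
          (Phi σ)⁻¹ * (Gam g)⁻¹ := by group
    _ = Gam g * (Phi σ * Gam (glPow ε h)) * (Phi σ)⁻¹ * (Gam g)⁻¹ := by rw [e2]
    _ = Gam g * Phi σ * (Gam (glPow ε h) * IotaPow ε) * (IotaPow ε)⁻¹ * (Phi σ)⁻¹ * (Gam g)⁻¹ := by
        group
    _ = Gam g * Phi σ * (IotaPow ε * Gam h) * (IotaPow ε)⁻¹ * (Phi σ)⁻¹ * (Gam g)⁻¹ := by rw [e1]
    _ = Gam g * Phi σ * IotaPow ε * Gam h * (Gam g * Phi σ * IotaPow ε)⁻¹ := by group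

end

section Pred

variable {n : ℕ} {F : Type*} [Field F]

/-- an inner-diagonal automorphism is induced by `GL_n` -/
lemma eq_Gam_of_isInnerDiagonal {β : MulAut (Matrix.ProjectiveSpecialLinearGroup (Fin n) F)}
    (h : Cfsg.IsInnerDiagonalAutPSL β) : ∃ g : GL (Fin n) F, β = Gam g := by
  obtain ⟨g, hg⟩ := h
  refine ⟨g, ?_⟩
  ext y
  obtain ⟨s, rfl⟩ := pr_surjective y
  rw [Gam_pr]
  exact hg s (conjS g s) rfl

/-- a standard field automorphism is `Phi σ` -/
lemma eq_Phi_of_isStdField {σ : F ≃+* F}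
    {β : MulAut (Matrix.ProjectiveSpecialLinearGroup (Fin n) F)}
    (h : Cfsg.IsStdFieldAutPSL σ β) : β = Phi σ := by
  ext y
  obtain ⟨s, rfl⟩ := pr_surjective y
  rw [Phi_pr]
  exact h s (fieldS σ s) rfl

/-- an inverse-transpose automorphism is `Iota` -/
lemma eq_Iota_of_isInvT {β : MulAut (Matrix.ProjectiveSpecialLinearGroup (Fin n) F)}
    (h : Cfsg.IsInverseTransposeAutPSL β) : β = Iota := by
  ext y
  obtain ⟨s, rfl⟩ := pr_surjective y
  rw [Iota_pr]
  exact h s (invT s) rfl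

/-- `Inndiag(PSL_n(F))` is the image of `GL_n(F)` -/
theorem inndiag_eq :
    Cfsg.inndiagPSL n F =
      (Gam : GL (Fin n) F →* MulAut (Matrix.ProjectiveSpecialLinearGroup (Fin n) F)).range := by
  unfold Cfsg.inndiagPSL Cfsg.autSubgroupOf
  apply le_antisymm
  · rw [Subgroup.closure_le]
    intro β hβ
    obtain ⟨g, rfl⟩ := eq_Gam_of_isInnerDiagonal hβ
    exact ⟨g, rfl⟩
  · rintro _ ⟨g, rfl⟩
    exact Subgroup.subset_closure (isInnerDiagonal_Gam g)

/-- inner automorphisms are induced by `SL_n` -/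
lemma mem_Inn_iff (β : MulAut (Matrix.ProjectiveSpecialLinearGroup (Fin n) F)) :
    β ∈ Cfsg.Inn (Matrix.ProjectiveSpecialLinearGroup (Fin n) F) ↔
      ∃ s : SpecialLinearGroup (Fin n) F, β = Gam (Matrix.SpecialLinearGroup.toGL s) := by
  constructor
  · rintro ⟨y, rfl⟩
    obtain ⟨s, rfl⟩ := pr_surjective y
    exact ⟨s, conj_pr s⟩
  · rintro ⟨s, rfl⟩
    exact ⟨pr s, conj_pr s⟩

end Pred

end Cfsg.Agent.Lib.Helper5.AutPSLn
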