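import Mathlib
import Cfsg.Agent.Lib.Helper5.AutPSLnOut

set_option autoImplicit false
set_option linter.unusedSimpArgs false
set_option linter.unusedVariables false
set_option linter.unnecessarySeqFocus false
set_option linter.unusedSectionVars false
set_option linter.style.haveILetI false

/-!
# The outer automorphism group of `PSL_n(F)`, `n ≥ 3`
-/

namespace Cfsg.Agent.Lib.Helper5.AutPSLn

open Matrix
open scoped Pointwise

section

variable {ι : Type*} [Fintype ι] [DecidableEq ι] {F : Type*} [Field F]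

lemma det_dgl (d : ι → Fˣ) : (dgl d).1.det = ∏ i, ((d i : Fˣ) : F) := by
  rw [dgl_val, det_diagonal]

lemma det_dgl_mulSingle (i0 : ι) (u : Fˣ) : (dgl (Pi.mulSingle i0 u)).1.det = (u : F) := by
  rw [det_dgl, Finset.prod_eq_single i0]
  · simp
  · intro b _ hb
    simp [Pi.mulSingle_eq_of_ne hb]
  · intro h; exact absurd (Finset.mem_univ _) h

/-- every element of `GL_n` is a product of `diag(u, 1, …, 1)` and an element of `SL_n` -/
lemma exists_dgl_mul_toGL (i0 : ι) (g : GL ι F) :
    ∃ (u : Fˣ) (s : SpecialLinearGroup ι F),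
      g = dgl (Pi.mulSingle i0 u) * Matrix.SpecialLinearGroup.toGL s := by
  obtain ⟨u, hu⟩ : ∃ u : Fˣ, u = Matrix.GeneralLinearGroup.det g := ⟨_, rfl⟩
  have hu' : (u : F) = g.1.det := by rw [hu]; rfl
  obtain ⟨t, ht⟩ : ∃ t : GL ι F, t = (dgl (Pi.mulSingle i0 u))⁻¹ * g := ⟨_, rfl⟩
  have hdet : t.1.det = 1 := by
    have h1 : (dgl (Pi.mulSingle i0 u)) * t = g := by rw [ht, mul_inv_cancel_left]
    have h2 := congrArg (fun x : GL ι F => x.1.det) h1
    simp only [Units.val_mul, Matrix.det_mul, det_dgl_mulSingle] at h2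
    rw [← hu'] at h2
    have hu0 : (u : F) ≠ 0 := u.ne_zero
    exact mul_left_cancel₀ hu0 (by rw [h2, mul_one])
  refine ⟨u, ⟨t.1, hdet⟩, ?_⟩
  have h3 : Matrix.SpecialLinearGroup.toGL (⟨t.1, hdet⟩ : SpecialLinearGroup ι F) = t := by
    apply Units.ext
    rfl
  rw [h3, ht, mul_inv_cancel_left]

end

section Out

variable {F : Type*} [Field F] [Fintype F]

/-- The outer automorphism group of `PSL_n(F)`, `n ≥ 3`, `|F| = p ^ f`, maps onto
`Z/f × Z/2` with cyclic kernel of order `gcd(n, |F| - 1)`. -/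
theorem out_PSLn {p f n : ℕ} [Fact p.Prime] (hf : 1 ≤ f) (hF : Fintype.card F = p ^ f)
    (hn : 3 ≤ n) :
    ∃ φ : Cfsg.Out (Matrix.ProjectiveSpecialLinearGroup (Fin n) F) →*
        Multiplicative (ZMod f × ZMod 2),
      Function.Surjective φ ∧ IsCyclic φ.ker ∧ Nat.card φ.ker = Nat.gcd n (p ^ f - 1) := by
  haveI : CharP F p := charP_of_card_eq_prime_pow hF
  haveI : NeZero f := ⟨by omega⟩
  haveI : NeZero n := ⟨by omega⟩
  obtain ⟨θ, θ_surj, θ_ker⟩ := exists_theta (F := F) hn p
  have hInn : Cfsg.Inn (Matrix.ProjectiveSpecialLinearGroup (Fin n) F) ≤ θ.ker := by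
    rw [θ_ker]
    rintro _ ⟨y, rfl⟩
    obtain ⟨x, rfl⟩ := pr_surjective y
    exact ⟨_, (conj_pr x).symm⟩
  let φ0 : Cfsg.Out (Matrix.ProjectiveSpecialLinearGroup (Fin n) F) →*
      (F ≃+* F) × Multiplicative (ZMod 2) := QuotientGroup.lift _ θ hInn
  have φ0_mk : ∀ α, φ0 (QuotientGroup.mk α) = θ α := fun α => rfl
  have φ0_surj : Function.Surjective φ0 := by
    intro σ
    obtain ⟨α, hα⟩ := θ_surj σ
    exact ⟨QuotientGroup.mk α, hα⟩
  haveI : IsCyclic (F ≃+* F) := AutPSL2.isCyclic_ringAut p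
  have hcard : Nat.card (F ≃+* F) = Nat.card (Multiplicative (ZMod f)) := by
    rw [AutPSL2.card_ringAut p hF, Nat.card_eq_fintype_card, Fintype.card_multiplicative,
      ZMod.card]
  let e1 : (F ≃+* F) ≃* Multiplicative (ZMod f) := mulEquivOfCyclicCardEq hcard
  let e : (F ≃+* F) × Multiplicative (ZMod 2) ≃* Multiplicative (ZMod f × ZMod 2) :=
    (MulEquiv.prodCongr e1 (MulEquiv.refl _)).trans
      (MulEquiv.prodMultiplicative (ZMod f) (ZMod 2)).symm
  let φ : Cfsg.Out (Matrix.ProjectiveSpecialLinearGroup (Fin n) F) →*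
      Multiplicative (ZMod f × ZMod 2) := e.toMonoidHom.comp φ0
  have φ_apply : ∀ x, φ x = e (φ0 x) := fun x => rfl
  have φ_surj : Function.Surjective φ := e.surjective.comp φ0_surj
  -- counting
  have hq : 2 ≤ Fintype.card F := Fintype.one_lt_card
  haveI : Finite (Matrix.ProjectiveSpecialLinearGroup (Fin n) F) := by
    unfold Matrix.ProjectiveSpecialLinearGroup; infer_instance
  haveI : Finite (MulAut (Matrix.ProjectiveSpecialLinearGroup (Fin n) F)) :=
    Finite.of_injective (fun α : MulAut (Matrix.ProjectiveSpecialLinearGroup (Fin n) F) =>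
      (α : Matrix.ProjectiveSpecialLinearGroup (Fin n) F →
        Matrix.ProjectiveSpecialLinearGroup (Fin n) F))
      (fun a b h => MulEquiv.ext (congrFun h))
  have c1 := card_aut (F := F) hn p hF
  have c2 : Nat.card (MulAut (Matrix.ProjectiveSpecialLinearGroup (Fin n) F)) =
      Nat.card (Cfsg.Out (Matrix.ProjectiveSpecialLinearGroup (Fin n) F)) *
        Nat.card (Matrix.ProjectiveSpecialLinearGroup (Fin n) F) := by
    rw [Subgroup.card_eq_card_quotient_mul_card_subgroup
      (Cfsg.Inn (Matrix.ProjectiveSpecialLinearGroup (Fin n) F)), card_Inn hn]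
  have c3 : Nat.card (Cfsg.Out (Matrix.ProjectiveSpecialLinearGroup (Fin n) F)) =
      (f * 2) * Nat.card φ.ker := by
    rw [Subgroup.card_eq_card_quotient_mul_card_subgroup φ.ker,
      Nat.card_congr (QuotientGroup.quotientKerEquivOfSurjective φ φ_surj).toEquiv,
      Nat.card_eq_fintype_card, Fintype.card_multiplicative, Fintype.card_prod, ZMod.card,
      ZMod.card]
  have c4 : Nat.card (SpecialLinearGroup (Fin n) F) =
      Nat.card (Matrix.ProjectiveSpecialLinearGroup (Fin n) F) *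
        Nat.card (Subgroup.center (SpecialLinearGroup (Fin n) F)) :=
    Subgroup.card_eq_card_quotient_mul_card_subgroup _
  have hGpos : 0 < Nat.card (Matrix.ProjectiveSpecialLinearGroup (Fin n) F) := Nat.card_pos
  have c5 : Nat.card φ.ker = Nat.card (Subgroup.center (SpecialLinearGroup (Fin n) F)) := by
    have h1 : (f * 2) * Nat.card (Matrix.ProjectiveSpecialLinearGroup (Fin n) F) *
        Nat.card φ.ker =
        (f * 2) * Nat.card (Matrix.ProjectiveSpecialLinearGroup (Fin n) F) *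
          Nat.card (Subgroup.center (SpecialLinearGroup (Fin n) F)) := by
      calc (f * 2) * Nat.card (Matrix.ProjectiveSpecialLinearGroup (Fin n) F) * Nat.card φ.ker
          = ((f * 2) * Nat.card φ.ker) *
              Nat.card (Matrix.ProjectiveSpecialLinearGroup (Fin n) F) := by ring
        _ = Nat.card (MulAut (Matrix.ProjectiveSpecialLinearGroup (Fin n) F)) := by
            rw [← c3, ← c2]
        _ = 2 * f * (Nat.card (Matrix.ProjectiveSpecialLinearGroup (Fin n) F) *
              Nat.card (Subgroup.center (SpecialLinearGroup (Fin n) F))) := by rw [c1, c4]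
        _ = _ := by ring
    exact Nat.eq_of_mul_eq_mul_left (Nat.mul_pos (by omega) hGpos) h1
  have c6 : Nat.card φ.ker = Nat.gcd n (p ^ f - 1) := by
    rw [c5, card_center_SLn, hF]
  refine ⟨φ, φ_surj, ?_, c6⟩
  -- the kernel is cyclic: it is the image of the diagonal automorphisms
  obtain ⟨i0, -⟩ : ∃ i0 : Fin n, i0 = ⟨0, by omega⟩ := ⟨_, rfl⟩
  let δ : Fˣ →* Cfsg.Out (Matrix.ProjectiveSpecialLinearGroup (Fin n) F) :=
    (QuotientGroup.mk' (Cfsg.Inn (Matrix.ProjectiveSpecialLinearGroup (Fin n) F))).comp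
      ((Gam : GL (Fin n) F →* _).comp
        ((dgl : (Fin n → Fˣ) →* GL (Fin n) F).comp (MonoidHom.mulSingle (fun _ => Fˣ) i0)))
  have δ_apply : ∀ u : Fˣ, δ u = QuotientGroup.mk (Gam (dgl (Pi.mulSingle i0 u))) := fun u => rfl
  have hδker : ∀ u : Fˣ, δ u ∈ φ.ker := by
    intro u
    rw [MonoidHom.mem_ker, φ_apply, δ_apply, φ0_mk]
    have : Gam (dgl (Pi.mulSingle i0 u)) ∈ θ.ker := by
      rw [θ_ker]; exact ⟨_, rfl⟩
    rw [MonoidHom.mem_ker.1 this, map_one]
  let δ' : Fˣ →* φ.ker := δ.codRestrict φ.ker hδker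
  have δ'_surj : Function.Surjective δ' := by
    rintro ⟨x, hx⟩
    obtain ⟨α, rfl⟩ := QuotientGroup.mk_surjective x
    rw [MonoidHom.mem_ker, φ_apply, φ0_mk] at hx
    have h1 : θ α = 1 := by
      have := congrArg e.symm hx
      simpa using this
    have h2 : α ∈ θ.ker := h1
    rw [θ_ker] at h2
    obtain ⟨g, rfl⟩ := h2
    obtain ⟨u, s, hg⟩ := exists_dgl_mul_toGL i0 g
    refine ⟨u, ?_⟩
    apply Subtype.ext
    show δ u = QuotientGroup.mk (Gam g)
    rw [δ_apply, hg, map_mul, ← conj_pr, QuotientGroup.mk_mul]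
    have h3 : (QuotientGroup.mk (MulAut.conj (pr s)) :
        Cfsg.Out (Matrix.ProjectiveSpecialLinearGroup (Fin n) F)) = 1 :=
      (QuotientGroup.eq_one_iff _).2 ⟨_, rfl⟩
    rw [h3, mul_one]
  exact isCyclic_of_surjective δ' δ'_surj

end Out

end Cfsg.Agent.Lib.Helper5.AutPSLn
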