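import Mathlib
import Cfsg.Prelude.Def_LieTypeDatum

set_option autoImplicit false
set_option linter.unusedSimpArgs false
set_option linter.unusedVariables false
set_option linter.unnecessarySeqFocus false
set_option linter.unusedSectionVars false

/-!
# Generalities on `IsConjUnder`, `splitClassCount` and centralizers in a normal subgroup
-/

namespace Cfsg.Agent.Lib.Helper5.SplitClass

variable {X : Type*} [Group X]

lemma isConjUnder_refl (H : Subgroup X) (x : X) : Cfsg.IsConjUnder H x x :=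
  ⟨1, H.one_mem, by simp⟩

lemma isConjUnder_symm {H : Subgroup X} {x y : X} (h : Cfsg.IsConjUnder H x y) :
    Cfsg.IsConjUnder H y x := by
  obtain ⟨k, hk, rfl⟩ := h
  exact ⟨k⁻¹, H.inv_mem hk, by group⟩

lemma isConjUnder_trans {H : Subgroup X} {x y z : X} (h1 : Cfsg.IsConjUnder H x y)
    (h2 : Cfsg.IsConjUnder H y z) : Cfsg.IsConjUnder H x z := by
  obtain ⟨k, hk, rfl⟩ := h1
  obtain ⟨l, hl, rfl⟩ := h2
  exact ⟨l * k, H.mul_mem hl hk, by group⟩

/-- conjugating by `α` transports `IsConjUnder` for a normal subgroup -/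
lemma isConjUnder_conj {H : Subgroup X} (hH : H.Normal) (α : X) {x y : X} :
    Cfsg.IsConjUnder H (α * x * α⁻¹) (α * y * α⁻¹) ↔ Cfsg.IsConjUnder H x y := by
  constructor
  · rintro ⟨k, hk, e⟩
    refine ⟨α⁻¹ * k * α, ?_, ?_⟩
    · have := hH.conj_mem k hk α⁻¹
      simpa using this
    · have e2 : y = α⁻¹ * (α * y * α⁻¹) * α := by group
      rw [e2, e]; group
  · rintro ⟨k, hk, rfl⟩
    exact ⟨α * k * α⁻¹, hH.conj_mem k hk α, by group⟩

/-- the number of `K`-classes in the `H`-class is invariant under conjugation by any element,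
when `H` and `K` are normal -/
theorem splitClassCount_conj {H K : Subgroup X} (hH : H.Normal) (hK : K.Normal) (α x : X) :
    Cfsg.splitClassCount H K (α * x * α⁻¹) = Cfsg.splitClassCount H K x := by
  unfold Cfsg.splitClassCount
  symm
  let e : {y : X // Cfsg.IsConjUnder H x y} ≃ {y : X // Cfsg.IsConjUnder H (α * x * α⁻¹) y} :=
    { toFun := fun y => ⟨α * y.1 * α⁻¹, (isConjUnder_conj hH α).2 y.2⟩
      invFun := fun y => ⟨α⁻¹ * y.1 * α, by
        have h1 := y.2
        have h2 : y.1 = α * (α⁻¹ * y.1 * α) * α⁻¹ := by group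
        rw [h2] at h1
        exact (isConjUnder_conj hH α).1 h1⟩
      left_inv := fun y => by
        apply Subtype.ext
        show α⁻¹ * (α * y.1 * α⁻¹) * α = y.1
        group
      right_inv := fun y => by
        apply Subtype.ext
        show α * (α⁻¹ * y.1 * α) * α⁻¹ = y.1
        group }
  refine Nat.card_congr (Quot.congr e ?_)
  intro a b
  exact (isConjUnder_conj hK α).symm

/-- computing `splitClassCount` from a complete invariant -/
theorem splitClassCount_eq_card {H K : Subgroup X} {x : X} {D : Type*}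
    (Φ : {y : X // Cfsg.IsConjUnder H x y} → D) (hsurj : Function.Surjective Φ)
    (hΦ : ∀ y z, Φ y = Φ z ↔ Cfsg.IsConjUnder K y.1 z.1) :
    Cfsg.splitClassCount H K x = Nat.card D := by
  unfold Cfsg.splitClassCount
  let Ψ : Quot (fun y z : {y : X // Cfsg.IsConjUnder H x y} => Cfsg.IsConjUnder K y.1 z.1) → D :=
    Quot.lift Φ (fun a b h => (hΦ a b).2 h)
  refine Nat.card_congr (Equiv.ofBijective Ψ ⟨?_, ?_⟩)
  · intro a b
    induction a using Quot.ind with | _ a => ?_
    induction b using Quot.ind with | _ b => ?_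
    intro h
    exact Quot.sound ((hΦ a b).1 h)
  · intro d
    obtain ⟨y, rfl⟩ := hsurj d
    exact ⟨Quot.mk _ y, rfl⟩

/-- conjugation by `α` carries the centralizer of `x` in a normal subgroup `N` to that of
`α x α⁻¹` -/
noncomputable def centralizerConjEquiv {N : Subgroup X} (hN : N.Normal) (α x : X) :
    ↥(N ⊓ Subgroup.centralizer {x}) ≃* ↥(N ⊓ Subgroup.centralizer {α * x * α⁻¹}) :=
  { toFun := fun y => ⟨α * y.1 * α⁻¹, by
      obtain ⟨h1, h2⟩ := Subgroup.mem_inf.1 y.2
      refine Subgroup.mem_inf.2 ⟨hN.conj_mem _ h1 α, ?_⟩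
      rw [Subgroup.mem_centralizer_singleton_iff] at h2 ⊢
      calc α * y.1 * α⁻¹ * (α * x * α⁻¹) = α * (y.1 * x) * α⁻¹ := by group
        _ = α * (x * y.1) * α⁻¹ := by rw [h2]
        _ = _ := by group⟩
    invFun := fun y => ⟨α⁻¹ * y.1 * α, by
      obtain ⟨h1, h2⟩ := Subgroup.mem_inf.1 y.2
      refine Subgroup.mem_inf.2 ⟨by simpa using hN.conj_mem _ h1 α⁻¹, ?_⟩
      rw [Subgroup.mem_centralizer_singleton_iff] at h2 ⊢
      calc α⁻¹ * y.1 * α * x = α⁻¹ * (y.1 * (α * x * α⁻¹)) * α := by group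
        _ = α⁻¹ * ((α * x * α⁻¹) * y.1) * α := by rw [h2]
        _ = _ := by group⟩
    left_inv := fun y => by
      apply Subtype.ext
      show α⁻¹ * (α * y.1 * α⁻¹) * α = y.1
      group
    right_inv := fun y => by
      apply Subtype.ext
      show α * (α⁻¹ * y.1 * α) * α⁻¹ = y.1
      group
    map_mul' := fun y z => by
      apply Subtype.ext
      show α * (y.1 * z.1) * α⁻¹ = (α * y.1 * α⁻¹) * (α * z.1 * α⁻¹)
      group }

end Cfsg.Agent.Lib.Helper5.SplitClass
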