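import Mathlib
import Cfsg.Prelude.Def_LieTypeDatum
import Cfsg.Agent.Lib.Helper5.AutPSLnNF
import Cfsg.Agent.Lib.Helper5.AutPSLnOut2
import Cfsg.Agent.Lib.Helper5.SplitClass

set_option autoImplicit false
set_option linter.unusedSimpArgs false
set_option linter.unusedVariables false
set_option linter.unnecessarySeqFocus false
set_option linter.unusedSectionVars false

/-!
# Counting the `PSL_n`-classes in a `PGL_n`-class of automorphisms of `PSL_n(F)`
-/

namespace Cfsg.Agent.Lib.Helper5.AutPSLn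

open Matrix

section Cyc

variable {G : Type*} [CommGroup G] [Finite G] [IsCyclic G]

/-- in a finite cyclic group of order `N`, with `N₁ ∣ N` and `e = gcd(n, N / N₁)`: an element killed
by `N / e` is the product of an element killed by `N₁` and an `n`-th power -/
lemma cyc_decomp {N N₁ n : ℕ} (hN : Nat.card G = N) (h1 : N₁ ∣ N) (a : G)
    (ha : a ^ (N / Nat.gcd n (N / N₁)) = 1) :
    ∃ a₁ b : G, a₁ ^ N₁ = 1 ∧ a = a₁ * b ^ n := by
  have hNpos : 0 < N := by rw [← hN]; exact Nat.card_pos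
  obtain ⟨ζ, hζ⟩ := IsCyclic.exists_generator (α := G)
  have hord : orderOf ζ = N := by
    rw [← hN]; exact orderOf_eq_card_of_forall_mem_zpowers hζ
  obtain ⟨k, rfl⟩ := Subgroup.mem_zpowers_iff.1 (hζ a)
  set e := Nat.gcd n (N / N₁) with he
  have he1 : e ∣ N / N₁ := Nat.gcd_dvd_right _ _
  have he2 : e ∣ N := he1.trans (Nat.div_dvd_of_dvd h1)
  have hepos : 0 < e := Nat.pos_of_dvd_of_pos he2 hNpos
  -- e ∣ k
  have hk : (e : ℤ) ∣ k := by
    rw [← zpow_natCast, ← _root_.zpow_mul] at ha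
    have h2 := (orderOf_dvd_iff_zpow_eq_one).2 ha
    rw [hord] at h2
    obtain ⟨c, hc⟩ := he2
    have hc' : N / e = c := by rw [hc]; exact Nat.mul_div_cancel_left c hepos
    rw [hc', hc] at h2
    have hcpos : (c : ℤ) ≠ 0 := by
      intro h0
      have : c = 0 := by exact_mod_cast h0
      rw [this, mul_zero] at hc
      omega
    push_cast at h2
    rw [mul_comm (e : ℤ) (c : ℤ), mul_comm k (c : ℤ)] at h2
    exact (mul_dvd_mul_iff_left hcpos).1 h2
  obtain ⟨j, rfl⟩ := hk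
  -- Bezout
  have hb : (e : ℤ) = n * Nat.gcdA n (N / N₁) + (N / N₁ : ℕ) * Nat.gcdB n (N / N₁) :=
    Nat.gcd_eq_gcd_ab n (N / N₁)
  set s := Nat.gcdA n (N / N₁)
  set t := Nat.gcdB n (N / N₁)
  refine ⟨ζ ^ (((N / N₁ : ℕ) : ℤ) * t * j), ζ ^ (s * j), ?_, ?_⟩
  · rw [← zpow_natCast, ← _root_.zpow_mul]
    have h3 : ((N / N₁ : ℕ) : ℤ) * t * j * (N₁ : ℤ) = (N : ℤ) * (t * j) := by
      have h4 : ((N / N₁ : ℕ) : ℤ) * (N₁ : ℤ) = (N : ℤ) := by
        exact_mod_cast Nat.div_mul_cancel h1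
      calc ((N / N₁ : ℕ) : ℤ) * t * j * (N₁ : ℤ) = (((N / N₁ : ℕ) : ℤ) * (N₁ : ℤ)) * (t * j) := by
            ring
        _ = _ := by rw [h4]
    rw [h3, _root_.zpow_mul, zpow_natCast, ← hord, pow_orderOf_eq_one, _root_.one_zpow]
  · rw [← zpow_natCast (ζ ^ (s * j)) n, ← _root_.zpow_mul, ← _root_.zpow_add]
    congr 1
    rw [hb]
    ring

/-- the image of the `N / e`-th power map has `e` elements when `e ∣ N` -/
lemma card_pow_range {N e : ℕ} (hN : Nat.card G = N) (he : e ∣ N) :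
    Nat.card (powMonoidHom (N / e) : G →* G).range = e := by
  have hNpos : 0 < N := by rw [← hN]; exact Nat.card_pos
  have hepos : 0 < e := Nat.pos_of_dvd_of_pos he hNpos
  rw [IsCyclic.card_powMonoidHom_range, hN]
  obtain ⟨c, hc⟩ := he
  have hc' : N / e = c := by rw [hc]; exact Nat.mul_div_cancel_left c hepos
  have hcpos : 0 < c := by
    rcases Nat.eq_zero_or_pos c with h | h
    · rw [h, mul_zero] at hc; omega
    · exact h
  rw [hc', hc, Nat.gcd_mul_left_left, Nat.mul_div_cancel _ hcpos]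

end Cyc

section Split

variable {n : ℕ} {F : Type*} [Field F] [Fintype F]

/-- the scalar matrix as an element of `GL_n` -/
def sgl (b : Fˣ) : GL (Fin n) F := dgl (fun _ => b)

lemma sgl_mem_center (b : Fˣ) : (sgl b : GL (Fin n) F) ∈ Subgroup.center (GL (Fin n) F) := by
  rw [Matrix.GeneralLinearGroup.mem_center_iff_val_mem_range_scalar]
  refine ⟨(b : F), ?_⟩
  show _ = diagonal _
  ext i j
  simp [Matrix.scalar_apply]

lemma det_sgl (b : Fˣ) : Matrix.GeneralLinearGroup.det (sgl b : GL (Fin n) F) = b ^ n := by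
  apply Units.ext
  show (dgl (fun _ => b)).1.det = _
  rw [det_dgl]
  simp

lemma det_dgl_mulSingle' (i0 : Fin n) (u : Fˣ) :
    Matrix.GeneralLinearGroup.det (dgl (Pi.mulSingle i0 u) : GL (Fin n) F) = u := by
  apply Units.ext
  exact det_dgl_mulSingle i0 u

/-- an element of `GL_n` of determinant one comes from `SL_n` -/
lemma exists_toGL_of_det_eq_one (g : GL (Fin n) F) (hg : Matrix.GeneralLinearGroup.det g = 1) :
    ∃ s : SpecialLinearGroup (Fin n) F, Matrix.SpecialLinearGroup.toGL s = g := by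
  have h1 : g.1.det = 1 := by
    have := congrArg Units.val hg
    exact this
  exact ⟨⟨g.1, h1⟩, Units.ext rfl⟩

lemma det_toGL (s : SpecialLinearGroup (Fin n) F) :
    Matrix.GeneralLinearGroup.det (Matrix.SpecialLinearGroup.toGL s) = 1 := by
  apply Units.ext
  exact s.2

/-- **The class-splitting count** for an automorphism `z` whose centralizer in `PGL_n` is the
image of the subgroup `CS` of `GL_n`. -/
theorem split_count_Gam (hn : 2 ≤ n)
    (z : MulAut (Matrix.ProjectiveSpecialLinearGroup (Fin n) F)) (CS : Subgroup (GL (Fin n) F))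
    (hCS : ∀ g : GL (Fin n) F, Gam g * z = z * Gam g ↔ g ∈ CS) (M : ℕ)
    (ha : ∀ c ∈ CS, (Matrix.GeneralLinearGroup.det c) ^ M = 1)
    (hb : ∀ b : Fˣ, (b ^ n) ^ M = 1)
    (hc : ∀ a : Fˣ, a ^ M = 1 → ∃ c ∈ CS, ∃ b : Fˣ, a = Matrix.GeneralLinearGroup.det c * b ^ n) :
    Cfsg.splitClassCount
      (Gam : GL (Fin n) F →* MulAut (Matrix.ProjectiveSpecialLinearGroup (Fin n) F)).range
      (Cfsg.Inn (Matrix.ProjectiveSpecialLinearGroup (Fin n) F)) z =
      Nat.card (powMonoidHom M : Fˣ →* Fˣ).range := by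
  have hn0 : 0 < n := by omega
  -- K1
  have K1 : ∀ g g' : GL (Fin n) F, Gam g * z * (Gam g)⁻¹ = Gam g' * z * (Gam g')⁻¹ →
      Matrix.GeneralLinearGroup.det g ^ M = Matrix.GeneralLinearGroup.det g' ^ M := by
    intro g g' e
    have h1 : Gam (g⁻¹ * g') * z = z * Gam (g⁻¹ * g') := by
      rw [map_mul, map_inv]
      calc (Gam g)⁻¹ * Gam g' * z = (Gam g)⁻¹ * (Gam g' * z * (Gam g')⁻¹) * Gam g' := by group
        _ = (Gam g)⁻¹ * (Gam g * z * (Gam g)⁻¹) * Gam g' := by rw [e]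
        _ = _ := by group
    have h2 := ha _ ((hCS _).1 h1)
    rw [map_mul, map_inv, mul_pow, inv_pow] at h2
    exact (inv_mul_eq_one.1 h2)
  -- K2
  have K2 : ∀ g g' : GL (Fin n) F,
      Matrix.GeneralLinearGroup.det g ^ M = Matrix.GeneralLinearGroup.det g' ^ M ↔
      Cfsg.IsConjUnder (Cfsg.Inn (Matrix.ProjectiveSpecialLinearGroup (Fin n) F))
        (Gam g * z * (Gam g)⁻¹) (Gam g' * z * (Gam g')⁻¹) := by
    intro g g'
    constructor
    · intro h
      have h1 : (Matrix.GeneralLinearGroup.det g' * (Matrix.GeneralLinearGroup.det g)⁻¹) ^ M = 1 := by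
        rw [mul_pow, inv_pow, h, mul_inv_cancel]
      obtain ⟨c, hcCS, b, hab⟩ := hc _ h1
      obtain ⟨g'', hg''⟩ : ∃ g'' : GL (Fin n) F, g'' = g * c * sgl b := ⟨_, rfl⟩
      have hdet : Matrix.GeneralLinearGroup.det (g' * g''⁻¹) = 1 := by
        rw [hg'', map_mul, map_inv, map_mul, map_mul, det_sgl, mul_assoc
          (Matrix.GeneralLinearGroup.det g), ← hab]
        have : Matrix.GeneralLinearGroup.det g * (Matrix.GeneralLinearGroup.det g' *
            (Matrix.GeneralLinearGroup.det g)⁻¹) = Matrix.GeneralLinearGroup.det g' := by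
          rw [mul_comm (Matrix.GeneralLinearGroup.det g'), mul_inv_cancel_left]
        rw [this, mul_inv_cancel]
      obtain ⟨s, hs⟩ := exists_toGL_of_det_eq_one _ hdet
      have hy : Gam g'' * z * (Gam g'')⁻¹ = Gam g * z * (Gam g)⁻¹ := by
        have e1 : (Gam (sgl b) : MulAut (Matrix.ProjectiveSpecialLinearGroup (Fin n) F)) = 1 :=
          Gam_scalar hn _ (sgl_mem_center b)
        have e2 : Gam c * z = z * Gam c := (hCS c).2 hcCS
        rw [hg'', map_mul, map_mul, e1, mul_one]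
        calc Gam g * Gam c * z * (Gam g * Gam c)⁻¹ = Gam g * (Gam c * z) * (Gam c)⁻¹ * (Gam g)⁻¹ := by
              group
          _ = Gam g * (z * Gam c) * (Gam c)⁻¹ * (Gam g)⁻¹ := by rw [e2]
          _ = _ := by group
      refine ⟨Gam (Matrix.SpecialLinearGroup.toGL s), (mem_Inn_iff _).2 ⟨s, rfl⟩, ?_⟩
      rw [← hy, hs, map_mul, map_inv]
      group
    · rintro ⟨k, hk, e⟩
      obtain ⟨s, rfl⟩ := (mem_Inn_iff _).1 hk
      have e' : Gam g' * z * (Gam g')⁻¹ = Gam (Matrix.SpecialLinearGroup.toGL s * g) * z *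
          (Gam (Matrix.SpecialLinearGroup.toGL s * g))⁻¹ := by
        rw [e, map_mul]; group
      have h1 := K1 _ _ e'
      rw [h1, map_mul, det_toGL, one_mul]
  -- the invariant
  have ex : ∀ y : {y : MulAut (Matrix.ProjectiveSpecialLinearGroup (Fin n) F) //
      Cfsg.IsConjUnder (Gam : GL (Fin n) F →* _).range z y},
      ∃ g : GL (Fin n) F, y.1 = Gam g * z * (Gam g)⁻¹ := by
    rintro ⟨y, h, ⟨g, rfl⟩, e⟩
    exact ⟨g, e⟩
  choose gy hgy using ex
  refine SplitClass.splitClassCount_eq_card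
    (fun y => (⟨Matrix.GeneralLinearGroup.det (gy y) ^ M, ⟨_, rfl⟩⟩ :
      (powMonoidHom M : Fˣ →* Fˣ).range)) ?_ ?_
  · rintro ⟨_, a, rfl⟩
    let g : GL (Fin n) F := dgl (Pi.mulSingle (⟨0, hn0⟩ : Fin n) a)
    have hy : Cfsg.IsConjUnder (Gam : GL (Fin n) F →* _).range z (Gam g * z * (Gam g)⁻¹) :=
      ⟨Gam g, ⟨g, rfl⟩, rfl⟩
    refine ⟨⟨_, hy⟩, ?_⟩
    apply Subtype.ext
    show Matrix.GeneralLinearGroup.det (gy ⟨_, hy⟩) ^ M = a ^ M
    have h1 := K1 _ _ (hgy ⟨_, hy⟩)
    rw [← h1, det_dgl_mulSingle']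
  · intro y y'
    rw [hgy y, hgy y', ← K2]
    constructor
    · intro h
      exact congrArg Subtype.val h
    · intro h
      exact Subtype.ext h

end Split

end Cfsg.Agent.Lib.Helper5.AutPSLn
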