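import Mathlib
import Cfsg.Prelude.Def_LieTypeDatum
import Cfsg.Agent.Lib.Helper5.AutPSLnSplit

set_option autoImplicit false
set_option linter.unusedSimpArgs false
set_option linter.unusedVariables false
set_option linter.unnecessarySeqFocus false
set_option linter.unusedSectionVars false
set_option linter.style.haveILetI false

/-!
# The centralizer of a field automorphism of `PSL_n(F)` in `PGL_n(F)`
-/

namespace Cfsg.Agent.Lib.Helper5.AutPSLn

open Matrix

section Fixed

variable {F : Type*} [Field F] [Fintype F]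

instance instFiniteRingAut : Finite (F ≃+* F) :=
  Finite.of_injective (fun e : F ≃+* F => (e : F → F)) DFunLike.coe_injective

/-- the fixed subfield of a field automorphism -/
theorem exists_fixed_subfield (σ : F ≃+* F) :
    ∃ F₁ : Subfield F, (∀ a, a ∈ F₁ ↔ σ a = a) ∧ Module.finrank F₁ F = orderOf σ := by
  classical
  let G : Subgroup (F ≃+* F) := Subgroup.zpowers σ
  letI : Fintype G := Fintype.ofFinite G
  refine ⟨FixedPoints.subfield G F, ?_, ?_⟩
  · intro a
    constructor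
    · intro h
      exact h ⟨σ, Subgroup.mem_zpowers σ⟩
    · intro h
      rintro ⟨g, hg⟩
      obtain ⟨k, rfl⟩ := Subgroup.mem_zpowers_iff.1 hg
      show (σ ^ k) a = a
      have h1 : ∀ m : ℕ, (σ ^ m) a = a := by
        intro m
        induction m with
        | zero => simp
        | succ m ih => rw [pow_succ, RingAut.mul_apply, h, ih]
      have h2 : ∀ m : ℕ, (σ ^ m)⁻¹ a = a := by
        intro m
        have := h1 m
        exact (RingEquiv.symm_apply_eq (σ ^ m)).2 this.symm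
      cases k with
      | ofNat m => simpa using h1 m
      | negSucc m => simpa using h2 (m+1)
  · rw [FixedPoints.finrank_eq_card G F, ← Nat.card_eq_fintype_card, Nat.card_zpowers]

/-- the order of the fixed subfield -/
theorem card_fixed_subfield {p f : ℕ} [Fact p.Prime] (hF : Fintype.card F = p ^ f) {r : ℕ}
    (hr : 0 < r) (F₁ : Subfield F) (h : Module.finrank F₁ F = r) :
    r ∣ f ∧ Nat.card F₁ = p ^ (f / r) := by
  classical
  letI : Fintype F₁ := Fintype.ofFinite F₁
  have h1 : Fintype.card F = Fintype.card F₁ ^ r := by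
    rw [← h]; exact Module.card_eq_pow_finrank
  have h2 : Fintype.card F₁ ∣ p ^ f := by
    rw [← hF, h1]
    exact dvd_pow_self _ (by omega)
  obtain ⟨k, hk, hk2⟩ := (Nat.dvd_prime_pow (Fact.out : p.Prime)).1 h2
  rw [hF, hk2, ← pow_mul] at h1
  have h3 : f = k * r := Nat.pow_right_injective (Fact.out : p.Prime).two_le h1
  refine ⟨⟨k, by rw [h3, mul_comm]⟩, ?_⟩
  rw [Nat.card_eq_fintype_card, hk2, h3, Nat.mul_div_cancel _ hr]

end Fixed

section Descent

variable {n : ℕ} {F : Type*} [Field F] [Fintype F] {F₀ : Type*} [Field F₀]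

/-- a matrix over `F` with all entries in the image of `F₀` comes from `GL_n(F₀)` -/
lemma exists_map_eq (j : F₀ →+* F) (g : GL (Fin n) F)
    (hg : ∀ k l, g.1 k l ∈ Set.range j) :
    ∃ g₀ : GL (Fin n) F₀, Matrix.GeneralLinearGroup.map j g₀ = g := by
  choose A hA using hg
  have hmap : (Matrix.of A).map j = g.1 := by
    ext k l
    exact hA k l
  have hdet : (Matrix.of A).det ≠ 0 := by
    intro h0
    have h1 : j (Matrix.of A).det = g.1.det := by
      rw [RingHom.map_det]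
      congr 1
    rw [h0, map_zero] at h1
    have h2 : IsUnit g.1.det := (Matrix.isUnit_iff_isUnit_det g.1).1 ⟨g, rfl⟩
    rw [← h1] at h2
    exact not_isUnit_zero h2
  refine ⟨Matrix.GeneralLinearGroup.mkOfDetNeZero (Matrix.of A) hdet, ?_⟩
  apply Units.ext
  exact hmap

lemma map_val (j : F₀ →+* F) (g₀ : GL (Fin n) F₀) :
    (Matrix.GeneralLinearGroup.map j g₀).1 = g₀.1.map j := rfl

/-- the image of `g₀` is central iff `g₀` is -/
lemma map_mem_center_iff (j : F₀ →+* F) (g₀ : GL (Fin n) F₀) :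
    Matrix.GeneralLinearGroup.map j g₀ ∈ Subgroup.center (GL (Fin n) F) ↔
      g₀ ∈ Subgroup.center (GL (Fin n) F₀) := by
  rw [Matrix.GeneralLinearGroup.mem_center_iff_val_mem_range_scalar,
    Matrix.GeneralLinearGroup.mem_center_iff_val_mem_range_scalar]
  constructor
  · rintro ⟨c, hc⟩
    rw [map_val] at hc
    rcases Nat.eq_zero_or_pos n with h0 | h0
    · subst h0
      exact ⟨0, by ext i; exact i.elim0⟩
    refine ⟨g₀.1 ⟨0, h0⟩ ⟨0, h0⟩, ?_⟩
    ext k l
    have h1 := congrFun (congrFun hc k) l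
    rw [Matrix.scalar_apply, Matrix.map_apply] at h1
    rw [Matrix.scalar_apply]
    by_cases hkl : k = l
    · subst hkl
      rw [Matrix.diagonal_apply_eq] at h1 ⊢
      have h2 := congrFun (congrFun hc ⟨0, h0⟩) ⟨0, h0⟩
      rw [Matrix.scalar_apply, Matrix.map_apply, Matrix.diagonal_apply_eq] at h2
      exact (j.injective (h1.symm.trans h2)).symm
    · rw [Matrix.diagonal_apply_ne _ hkl] at h1 ⊢
      exact (j.injective (by rw [map_zero]; exact h1.symm)).symm
  · rintro ⟨c, hc⟩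
    refine ⟨j c, ?_⟩
    rw [map_val, ← hc]
    ext k l
    rw [Matrix.scalar_apply, Matrix.map_apply, Matrix.scalar_apply]
    by_cases hkl : k = l
    · subst hkl
      rw [Matrix.diagonal_apply_eq, Matrix.diagonal_apply_eq]
    · rw [Matrix.diagonal_apply_ne _ hkl, Matrix.diagonal_apply_ne _ hkl, map_zero]

end Descent

section Cent

variable {n : ℕ} {F : Type*} [Field F] [Fintype F] {F₀ : Type*} [Field F₀]

lemma sgl_val (b : Fˣ) : (sgl b : GL (Fin n) F).1 = diagonal (fun _ => (b : F)) := rfl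

lemma sgl_mul_inv (b : Fˣ) : (sgl b : GL (Fin n) F) * sgl b⁻¹ = 1 := by
  unfold sgl
  rw [← map_mul]
  have : ((fun _ : Fin n => b) * fun _ => b⁻¹) = 1 := by
    ext i
    simp
  rw [this, map_one]

lemma Gam_sgl_mul (hn : 2 ≤ n) (b : Fˣ) (g : GL (Fin n) F) :
    (Gam (sgl b * g) : MulAut (Matrix.ProjectiveSpecialLinearGroup (Fin n) F)) = Gam g := by
  rw [map_mul, Gam_scalar hn _ (sgl_mem_center b), one_mul]

/-- an invertible matrix has a non-zero entry -/
lemma exists_entry_ne_zero (hn : 0 < n) (g : GL (Fin n) F) : ∃ k l, g.1 k l ≠ 0 := by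
  by_contra hcon
  push Not at hcon
  have h0 : g.1 = 0 := by
    ext k l
    exact hcon k l
  have h2 : IsUnit g.1.det := (Matrix.isUnit_iff_isUnit_det g.1).1 ⟨g, rfl⟩
  haveI : Nonempty (Fin n) := ⟨⟨0, hn⟩⟩
  rw [h0, Matrix.det_zero] at h2
  exact not_isUnit_zero h2

/-- the matrices inducing automorphisms that commute with `Phi σ` -/
theorem Gam_comm_Phi_iff (hn : 2 ≤ n) (σ : F ≃+* F) (j : F₀ →+* F)
    (hj : ∀ a : F, σ a = a ↔ a ∈ Set.range j) (g : GL (Fin n) F) :
    (Gam g * Phi σ : MulAut (Matrix.ProjectiveSpecialLinearGroup (Fin n) F)) = Phi σ * Gam g ↔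
      ∃ (θ : Fˣ) (g₀ : GL (Fin n) F₀), g = sgl θ * Matrix.GeneralLinearGroup.map j g₀ := by
  constructor
  · intro h
    rw [Phi_mul_Gam] at h
    have h1 : (Gam g : MulAut (Matrix.ProjectiveSpecialLinearGroup (Fin n) F)) =
        Gam (Matrix.GeneralLinearGroup.map σ.toRingHom g) := mul_right_cancel h
    have h2 : g⁻¹ * Matrix.GeneralLinearGroup.map σ.toRingHom g ∈
        Subgroup.center (GL (Fin n) F) := by
      rw [← Gam_ker2 hn, MonoidHom.mem_ker, map_mul, map_inv, ← h1, inv_mul_cancel]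
    obtain ⟨c, hc⟩ := Matrix.GeneralLinearGroup.mem_center_iff_val_mem_range_scalar.1 h2
    have h3 : (Matrix.GeneralLinearGroup.map σ.toRingHom g).1 = g.1 * Matrix.scalar (Fin n) c := by
      rw [hc, Units.val_mul, ← Matrix.mul_assoc]
      have : g.1 * (g⁻¹).1 = 1 := by rw [← Units.val_mul, mul_inv_cancel]; rfl
      rw [this, Matrix.one_mul]
    have h4 : ∀ k l, σ (g.1 k l) = g.1 k l * c := by
      intro k l
      have := congrFun (congrFun h3 k) l
      rw [Matrix.scalar_apply, Matrix.mul_diagonal] at this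
      exact this
    obtain ⟨k, l, hkl⟩ := exists_entry_ne_zero (by omega) g
    have hσθ : σ (g.1 k l) ≠ 0 := by
      intro h0
      exact hkl ((map_eq_zero σ).1 h0)
    have hc0 : c ≠ 0 := by
      intro h0
      rw [h4 k l, h0, mul_zero] at hσθ
      exact hσθ rfl
    have hfix : ∀ a b, (sgl (Units.mk0 _ hkl)⁻¹ * g).1 a b ∈ Set.range j := by
      intro a b
      rw [← hj, Units.val_mul, sgl_val, Matrix.diagonal_mul, map_mul, h4 a b]
      simp only [Units.val_inv_eq_inv_val, Units.val_mk0, map_inv₀, h4 k l]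
      field_simp
    obtain ⟨g₀, hg₀⟩ := exists_map_eq j _ hfix
    refine ⟨Units.mk0 _ hkl, g₀, ?_⟩
    rw [hg₀, ← mul_assoc, sgl_mul_inv, one_mul]
  · rintro ⟨θ, g₀, rfl⟩
    rw [Gam_sgl_mul hn, Phi_mul_Gam]
    congr 2
    apply Units.ext
    ext k l
    show j (g₀.1 k l) = σ (j (g₀.1 k l))
    exact ((hj _).2 ⟨_, rfl⟩).symm

/-- **The centralizer in `PGL_n(F)` of the standard field automorphism `Phi σ`** is `PGL_n` of
the fixed field. -/
theorem centralizer_Phi_equiv (hn : 2 ≤ n) (σ : F ≃+* F) (j : F₀ →+* F)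
    (hj : ∀ a : F, σ a = a ↔ a ∈ Set.range j) :
    Nonempty (↥((Gam : GL (Fin n) F →* MulAut (Matrix.ProjectiveSpecialLinearGroup (Fin n) F)).range ⊓
      Subgroup.centralizer {Phi σ}) ≃* Matrix.ProjGenLinGroup (Fin n) F₀) := by
  let ψ : GL (Fin n) F₀ →* MulAut (Matrix.ProjectiveSpecialLinearGroup (Fin n) F) :=
    Gam.comp (Matrix.GeneralLinearGroup.map j)
  have hker : ψ.ker = Subgroup.center (GL (Fin n) F₀) := by
    ext g₀
    rw [MonoidHom.mem_ker, ← map_mem_center_iff j g₀, ← Gam_ker2 hn, MonoidHom.mem_ker]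
    rfl
  have hrange : ψ.range = (Gam : GL (Fin n) F →* _).range ⊓ Subgroup.centralizer {Phi σ} := by
    ext y
    rw [Subgroup.mem_inf, Subgroup.mem_centralizer_singleton_iff]
    constructor
    · rintro ⟨g₀, rfl⟩
      refine ⟨⟨_, rfl⟩, ?_⟩
      have := (Gam_comm_Phi_iff hn σ j hj (Matrix.GeneralLinearGroup.map j g₀)).2
        ⟨1, g₀, by
          have : (sgl (1 : Fˣ) : GL (Fin n) F) = 1 := map_one dgl
          rw [this, one_mul]⟩
      exact this
    · rintro ⟨⟨g, rfl⟩, h2⟩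
      obtain ⟨θ, g₀, rfl⟩ := (Gam_comm_Phi_iff hn σ j hj g).1 h2
      exact ⟨g₀, (Gam_sgl_mul hn θ _).symm⟩
  have e1 := QuotientGroup.quotientKerEquivRange ψ
  have e2 : GL (Fin n) F₀ ⧸ Subgroup.center (GL (Fin n) F₀) ≃* GL (Fin n) F₀ ⧸ ψ.ker :=
    QuotientGroup.quotientMulEquivOfEq hker.symm
  have e3 := MulEquiv.subgroupCongr hrange
  exact ⟨(e3.symm.trans e1.symm).trans e2.symm⟩

end Cent

section Count

variable {n : ℕ} {F : Type*} [Field F] [Fintype F]

/-- the elements of `Fˣ` killed by `|F₁| - 1` are those of the subfield `F₁` -/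
lemma pow_eq_one_iff_mem_subfield (F₁ : Subfield F) {N₁ : ℕ} (hN₁ : Nat.card F₁ = N₁ + 1)
    (hdvd : N₁ ∣ Nat.card Fˣ) (a : Fˣ) : a ^ N₁ = 1 ↔ (a : F) ∈ F₁ := by
  have hcu : Nat.card F₁ˣ = N₁ := by rw [Nat.card_units, hN₁]; rfl
  let φ : F₁ˣ →* Fˣ := Units.map (F₁.subtype : F₁ →+* F).toMonoidHom
  have hinj : Function.Injective φ := Units.map_injective (fun x y h => Subtype.ext h)
  have hle : φ.range ≤ (powMonoidHom N₁ : Fˣ →* Fˣ).ker := by
    rintro _ ⟨u, rfl⟩
    rw [MonoidHom.mem_ker, powMonoidHom_apply, ← map_pow, ← hcu, pow_card_eq_one', map_one]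
  have hcard : Nat.card (powMonoidHom N₁ : Fˣ →* Fˣ).ker ≤ Nat.card φ.range := by
    rw [IsCyclic.card_powMonoidHom_ker, Nat.gcd_eq_right hdvd,
      ← Nat.card_congr (MonoidHom.ofInjective hinj).toEquiv, hcu]
  have heq := Subgroup.eq_of_le_of_card_ge hle hcard
  constructor
  · intro h
    have h1 : a ∈ φ.range := by
      rw [heq, MonoidHom.mem_ker]; exact h
    obtain ⟨u, rfl⟩ := h1
    exact (u : F₁).2
  · intro h
    have h1 : a ∈ φ.range := by
      have ha0 : (⟨(a : F), h⟩ : F₁) ≠ 0 := by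
        intro h0
        have := congrArg Subtype.val h0
        exact a.ne_zero this
      exact ⟨Units.mk0 _ ha0, Units.ext rfl⟩
    rw [heq, MonoidHom.mem_ker] at h1
    exact h1

/-- **The class-splitting number of a field automorphism of prime (or any positive) order `r`.** -/
theorem split_count_Phi (hn : 2 ≤ n) {p f : ℕ} [Fact p.Prime] (hF : Fintype.card F = p ^ f)
    (σ : F ≃+* F) {r : ℕ} (hr : 0 < r) (hσ : orderOf σ = r) :
    Cfsg.splitClassCount
      (Gam : GL (Fin n) F →* MulAut (Matrix.ProjectiveSpecialLinearGroup (Fin n) F)).range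
      (Cfsg.Inn (Matrix.ProjectiveSpecialLinearGroup (Fin n) F)) (Phi σ) =
      Nat.gcd n ((p ^ f - 1) / (p ^ (f / r) - 1)) := by
  have hp : p.Prime := Fact.out
  obtain ⟨F₁, hmem, hrank⟩ := exists_fixed_subfield σ
  rw [hσ] at hrank
  obtain ⟨hdvd, hcard⟩ := card_fixed_subfield hF hr F₁ hrank
  have hj : ∀ a : F, σ a = a ↔ a ∈ Set.range (F₁.subtype : F₁ →+* F) := by
    intro a
    rw [← hmem]
    constructor
    · intro h; exact ⟨⟨a, h⟩, rfl⟩
    · rintro ⟨x, rfl⟩; exact x.2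
  have hN : Nat.card Fˣ = p ^ f - 1 := by
    rw [Nat.card_units, Nat.card_eq_fintype_card, hF]
  have hq1 : 1 ≤ p ^ (f / r) := Nat.one_le_pow _ _ hp.pos
  have hN₁ : Nat.card F₁ = (p ^ (f / r) - 1) + 1 := by rw [hcard]; omega
  have h1 : p ^ (f / r) - 1 ∣ p ^ f - 1 := by
    have h2 := Nat.sub_dvd_pow_sub_pow (p ^ (f / r)) 1 r
    rw [one_pow, ← pow_mul, Nat.div_mul_cancel hdvd] at h2
    exact h2
  set N := p ^ f - 1 with hNdef
  set N₁ := p ^ (f / r) - 1 with hN₁def
  set e := Nat.gcd n (N / N₁) with he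
  have he1 : e ∣ N / N₁ := Nat.gcd_dvd_right _ _
  have he2 : e ∣ N := he1.trans (Nat.div_dvd_of_dvd h1)
  have hen : e ∣ n := Nat.gcd_dvd_left _ _
  have hNpos : 0 < N := by rw [← hN]; exact Nat.card_pos
  have hepos : 0 < e := Nat.pos_of_dvd_of_pos he2 hNpos
  have hM1 : N₁ ∣ N / e := by
    obtain ⟨c, hc⟩ := he1
    obtain ⟨d, hd⟩ := h1
    have hN1pos : 0 < N₁ := by
      rcases Nat.eq_zero_or_pos N₁ with h | h
      · rw [h, zero_mul] at hd; omega
      · exact h
    have h3 : N / N₁ = d := by rw [hd]; exact Nat.mul_div_cancel_left d hN1pos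
    rw [h3] at hc
    refine ⟨c, ?_⟩
    rw [hd, hc]
    rw [show N₁ * (e * c) = e * (N₁ * c) by ring]
    exact Nat.mul_div_cancel_left _ hepos
  have hT : ∀ a : Fˣ, a ^ N₁ = 1 ↔ σ a = a := by
    intro a
    rw [pow_eq_one_iff_mem_subfield F₁ hN₁ (by rw [hN]; exact h1), hmem]
  let CS : Subgroup (GL (Fin n) F) :=
    (Subgroup.centralizer {(Phi σ : MulAut (Matrix.ProjectiveSpecialLinearGroup (Fin n) F))}).comap Gam
  have hCS : ∀ g : GL (Fin n) F, Gam g * Phi σ = Phi σ * Gam g ↔ g ∈ CS := by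
    intro g
    rw [Subgroup.mem_comap, Subgroup.mem_centralizer_singleton_iff]
  have hpowN : ∀ b : Fˣ, b ^ N = 1 := by
    intro b
    rw [← hN]; exact pow_card_eq_one'
  have hb : ∀ b : Fˣ, (b ^ n) ^ (N / e) = 1 := by
    intro b
    obtain ⟨c, hc⟩ := hen
    obtain ⟨d, hd⟩ := he2
    have h3 : N / e = d := by rw [hd]; exact Nat.mul_div_cancel_left d hepos
    rw [h3, ← pow_mul, hc, show e * c * d = (e * d) * c by ring, ← hd, pow_mul, hpowN, one_pow]
  have ha : ∀ c ∈ CS, (Matrix.GeneralLinearGroup.det c) ^ (N / e) = 1 := by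
    intro c hc
    obtain ⟨θ, g₀, rfl⟩ := (Gam_comm_Phi_iff hn σ _ hj c).1 ((hCS c).2 hc)
    rw [map_mul, det_sgl, mul_pow, hb, one_mul, Matrix.GeneralLinearGroup.map_det]
    obtain ⟨k, hk⟩ := hM1
    rw [hk]
    have h4 : ∀ u : Fˣ, σ u = u → u ^ (N₁ * k) = 1 := by
      intro u hu
      rw [pow_mul, (hT u).2 hu, one_pow]
    apply h4
    exact (hj _).2 ⟨_, rfl⟩
  have hc : ∀ a : Fˣ, a ^ (N / e) = 1 →
      ∃ c ∈ CS, ∃ b : Fˣ, a = Matrix.GeneralLinearGroup.det c * b ^ n := by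
    intro a haM
    obtain ⟨a₁, b, ha₁, hab⟩ := cyc_decomp (n := n) hN h1 a haM
    have hσa : σ (a₁ : F) = a₁ := (hT a₁).1 ha₁
    refine ⟨dgl (Pi.mulSingle (⟨0, by omega⟩ : Fin n) a₁), ?_, b, ?_⟩
    · rw [← hCS]
      have hfix : ∀ k l, (dgl (Pi.mulSingle (⟨0, by omega⟩ : Fin n) a₁)).1 k l ∈
          Set.range (F₁.subtype : F₁ →+* F) := by
        intro k l
        rw [← hj, dgl_val]
        by_cases hkl : k = l
        · subst hkl
          rw [Matrix.diagonal_apply_eq]
          by_cases hk0 : k = ⟨0, by omega⟩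
          · subst hk0
            rw [Pi.mulSingle_eq_same]; exact hσa
          · rw [Pi.mulSingle_eq_of_ne hk0]; simp
        · rw [Matrix.diagonal_apply_ne _ hkl, map_zero]
      obtain ⟨g₀, hg₀⟩ := exists_map_eq _ _ hfix
      refine (Gam_comm_Phi_iff hn σ _ hj _).2 ⟨1, g₀, ?_⟩
      have : (sgl (1 : Fˣ) : GL (Fin n) F) = 1 := map_one dgl
      rw [this, one_mul, hg₀]
    · rw [det_dgl_mulSingle', hab]
  rw [split_count_Gam hn _ CS hCS (N / e) ha hb hc, card_pow_range hN he2]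

end Count

end Cfsg.Agent.Lib.Helper5.AutPSLn
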