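import Mathlib
import Cfsg.Prelude.Def_LieTypeDatum
import Cfsg.Agent.Lib.Helper5.AutPSLnFieldCent

set_option autoImplicit false
set_option linter.unusedSimpArgs false
set_option linter.unusedVariables false
set_option linter.unnecessarySeqFocus false
set_option linter.unusedSectionVars false
set_option linter.style.haveILetI false

/-!
# The centralizer of an involutory graph-field automorphism of `PSL_n(F)` in `PGL_n(F)`
-/

namespace Cfsg.Agent.Lib.Helper5.AutPSLn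

open Matrix

section Frob

variable {F : Type*} [Field F] [Fintype F]

/-- an involutory automorphism of a finite field of order `p^f` is the `p^(f/2)`-th power map -/
theorem sigma_eq_pow {p f : ℕ} [Fact p.Prime] (hF : Fintype.card F = p ^ f) (σ : F ≃+* F)
    (hσ : orderOf σ = 2) : 2 ∣ f ∧ ∀ a : F, σ a = a ^ (p ^ (f / 2)) := by
  classical
  have hp : p.Prime := Fact.out
  have hchar : CharP F p := charP_of_card_eq_prime_pow hF
  obtain ⟨F₁, hmem, hrank⟩ := exists_fixed_subfield σ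
  rw [hσ] at hrank
  obtain ⟨hdvd, hcard⟩ := card_fixed_subfield hF (by norm_num) F₁ hrank
  refine ⟨hdvd, ?_⟩
  set q₀ := p ^ (f / 2) with hq₀
  have hq1 : 1 ≤ q₀ := Nat.one_le_pow _ _ hp.pos
  have hσ2 : ∀ a : F, σ (σ a) = a := by
    intro a
    have h1 : σ ^ 2 = 1 := by rw [← hσ]; exact pow_orderOf_eq_one σ
    have h2 : (σ ^ 2) a = a := by rw [h1]; rfl
    rw [pow_two] at h2
    exact h2
  letI : Fintype F₁ := Fintype.ofFinite F₁
  have hcard' : Fintype.card F₁ = q₀ := by rw [← Nat.card_eq_fintype_card, hcard]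
  have hfix : ∀ x : F, σ x = x → x ^ q₀ = x := by
    intro x hx
    have h1 : (⟨x, (hmem x).2 hx⟩ : F₁) ^ Fintype.card F₁ = ⟨x, (hmem x).2 hx⟩ :=
      FiniteField.pow_card _
    rw [hcard'] at h1
    exact congrArg Subtype.val h1
  have hN : Nat.card Fˣ = q₀ ^ 2 - 1 := by
    rw [Nat.card_units, Nat.card_eq_fintype_card, hF, hq₀, ← pow_mul, Nat.div_mul_cancel hdvd]
  have hdv : q₀ - 1 ∣ Nat.card Fˣ := by
    rw [hN]
    have := Nat.sub_dvd_pow_sub_pow q₀ 1 2
    rwa [one_pow] at this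
  intro a
  by_cases ha0 : a = 0
  · rw [ha0, map_zero, zero_pow (by omega)]
  have hs : (a + σ a) ^ q₀ = a + σ a := by
    apply hfix
    rw [map_add, hσ2, add_comm]
  have ht : (a * σ a) ^ q₀ = a * σ a := by
    apply hfix
    rw [map_mul, hσ2, mul_comm]
  rw [hq₀, add_pow_char_pow, ← hq₀] at hs
  rw [mul_pow] at ht
  have hprod : (a ^ q₀ - a) * (a ^ q₀ - σ a) = 0 := by
    generalize a ^ q₀ = b at hs ht ⊢
    generalize σ a ^ q₀ = b' at hs ht ⊢
    linear_combination b * hs - ht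
  rcases mul_eq_zero.1 hprod with h | h
  · have h1 : a ^ q₀ = a := sub_eq_zero.1 h
    have h2 : (Units.mk0 a ha0) ^ (q₀ - 1) = 1 := by
      apply Units.ext
      rw [Units.val_pow_eq_pow_val, Units.val_mk0, Units.val_one]
      have h3 : a ^ (q₀ - 1) * a = 1 * a := by
        rw [← pow_succ, Nat.sub_add_cancel hq1, h1, one_mul]
      exact mul_right_cancel₀ ha0 h3
    have hN₁ : Nat.card F₁ = (q₀ - 1) + 1 := by rw [hcard]; omega
    have h4 := (pow_eq_one_iff_mem_subfield F₁ hN₁ hdv (Units.mk0 a ha0)).1 h2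
    rw [Units.val_mk0, hmem] at h4
    rw [h4, h1]
  · exact (sub_eq_zero.1 h).symm

end Frob

section Unitary

variable {n : ℕ} {F : Type*} [Field F] [Fintype F]

/-- the hermitian form in terms of the field automorphism -/
lemma herm_eq_dot (σ : F ≃+* F) {q₀ : ℕ} (hσ : ∀ a, σ a = a ^ q₀) (u v : Fin n → F) :
    Cfsg.hermForm n F q₀ u v = u ⬝ᵥ (fun i => σ (v i)) := by
  unfold Cfsg.hermForm dotProduct
  simp [hσ]

lemma sigma_mulVec (σ : F ≃+* F) (A : Matrix (Fin n) (Fin n) F) (v : Fin n → F) :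
    (fun i => σ ((A *ᵥ v) i)) = (A.map σ) *ᵥ (fun i => σ (v i)) := by
  ext i
  simp [Matrix.mulVec, dotProduct, map_sum]

lemma dot_mulVec_mulVec (A B : Matrix (Fin n) (Fin n) F) (u w : Fin n → F) :
    (A *ᵥ u) ⬝ᵥ (B *ᵥ w) = u ⬝ᵥ ((Aᵀ * B) *ᵥ w) := by
  rw [← Matrix.mulVec_mulVec, Matrix.dotProduct_mulVec u, Matrix.vecMul_transpose]

lemma sigma_single (σ : F ≃+* F) (l : Fin n) :
    (fun i => σ ((Pi.single l 1 : Fin n → F) i)) = Pi.single l 1 := by
  ext i
  by_cases h : i = l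
  · subst h; simp
  · simp [Pi.single_eq_of_ne h]

/-- matrix criterion for membership in the unitary group -/
lemma mem_GU_iff_mul (σ : F ≃+* F) {q₀ : ℕ} (hσ : ∀ a, σ a = a ^ q₀) (g : GL (Fin n) F) :
    g ∈ Cfsg.GU n F q₀ ↔ g.1ᵀ * g.1.map σ = 1 := by
  constructor
  · intro h
    ext k l
    have h1 := h (Pi.single k 1) (Pi.single l 1)
    simp only [Units.coeHom_apply] at h1
    rw [herm_eq_dot σ hσ, herm_eq_dot σ hσ, sigma_mulVec, dot_mulVec_mulVec, sigma_single,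
      Matrix.mulVec_single_one, single_one_dotProduct, single_one_dotProduct] at h1
    rw [Matrix.one_apply]
    rw [Pi.single_apply] at h1
    simpa [eq_comm] using h1
  · intro h u v
    simp only [Units.coeHom_apply]
    rw [herm_eq_dot σ hσ, herm_eq_dot σ hσ, sigma_mulVec, dot_mulVec_mulVec, h, Matrix.one_mulVec]

/-- two elements of `GL_n` induce the same automorphism iff they differ by a scalar -/
lemma Gam_eq_iff (hn : 2 ≤ n) (g h : GL (Fin n) F) :
    (Gam g : MulAut (Matrix.ProjectiveSpecialLinearGroup (Fin n) F)) = Gam h ↔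
      ∃ b : Fˣ, h = sgl b * g := by
  constructor
  · intro e
    have h2 : g⁻¹ * h ∈ Subgroup.center (GL (Fin n) F) := by
      rw [← Gam_ker2 hn, MonoidHom.mem_ker, map_mul, map_inv, e, inv_mul_cancel]
    obtain ⟨c, hc⟩ := Matrix.GeneralLinearGroup.mem_center_iff_val_mem_range_scalar.1 h2
    have hc0 : c ≠ 0 := by
      intro h0
      obtain ⟨k, l, hkl⟩ := exists_entry_ne_zero (by omega) (g⁻¹ * h)
      apply hkl
      rw [← hc, h0, map_zero]
      rfl
    refine ⟨Units.mk0 c hc0, ?_⟩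
    have h3 : g⁻¹ * h = sgl (Units.mk0 c hc0) := by
      apply Units.ext
      rw [← hc, sgl_val, Matrix.scalar_apply]
      rfl
    have h4 : h = g * sgl (Units.mk0 c hc0) := by rw [← h3, mul_inv_cancel_left]
    rw [h4]
    exact Subgroup.mem_center_iff.1 (sgl_mem_center _) g
  · rintro ⟨b, rfl⟩
    exact (Gam_sgl_mul hn b g).symm

lemma sgl_mul_val (b : Fˣ) (g : GL (Fin n) F) : (sgl b * g).1 = (b : F) • g.1 := by
  rw [Units.val_mul, sgl_val, Matrix.smul_eq_diagonal_mul]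

lemma map_map_sigma (σ : F ≃+* F) (hσ2 : ∀ a, σ (σ a) = a) (A : Matrix (Fin n) (Fin n) F) :
    (A.map σ).map σ = A := by
  ext i j
  exact hσ2 _

/-- the matrices inducing automorphisms commuting with the graph-field automorphism
`Phi σ * Iota` are the scalar multiples of unitary matrices -/
theorem Gam_comm_PhiIota_iff (hn : 2 ≤ n) (σ : F ≃+* F) (hσ2 : ∀ a, σ (σ a) = a) {q₀ : ℕ}
    (hσ : ∀ a, σ a = a ^ q₀) (hnorm : ∀ d : Fˣ, σ d = d → ∃ μ : Fˣ, (μ : F) * σ μ = d)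
    (g : GL (Fin n) F) :
    (Gam g * (Phi σ * Iota) : MulAut (Matrix.ProjectiveSpecialLinearGroup (Fin n) F)) =
        Phi σ * Iota * Gam g ↔
      ∃ (θ : Fˣ) (g' : GL (Fin n) F), g' ∈ Cfsg.GU n F q₀ ∧ g = sgl θ * g' := by
  have e : ∀ k : GL (Fin n) F,
      (Phi σ * Iota * Gam k : MulAut (Matrix.ProjectiveSpecialLinearGroup (Fin n) F)) =
      Gam (Matrix.GeneralLinearGroup.map σ.toRingHom (glInvT k)) * (Phi σ * Iota) := by
    intro k
    rw [mul_assoc, Iota_mul_Gam, ← mul_assoc, Phi_mul_Gam, mul_assoc]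
  have hn0 : 0 < n := by omega
  constructor
  · intro h
    rw [e] at h
    obtain ⟨b, hb⟩ := (Gam_eq_iff hn _ _).1 (mul_right_cancel h)
    have hb' := congrArg Units.val hb
    rw [sgl_mul_val] at hb'
    have hAB : (g⁻¹).1 * g.1 = 1 := by rw [← Units.val_mul, inv_mul_cancel]; rfl
    have hb'' : ((g⁻¹).1ᵀ).map σ = (b : F) • g.1 := hb'
    have key : (g.1ᵀ).map σ * ((g⁻¹).1ᵀ).map σ = 1 := by
      rw [← Matrix.map_mul, ← Matrix.transpose_mul, hAB, Matrix.transpose_one, Matrix.map_one]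
      · exact map_zero σ
      · exact map_one σ
    rw [hb'', Matrix.mul_smul] at key
    have key2 : (b : F) • (g.1ᵀ * g.1.map σ) = 1 := by
      have := congrArg Matrix.transpose key
      rw [Matrix.transpose_smul, Matrix.transpose_mul, Matrix.transpose_map,
        Matrix.transpose_transpose, Matrix.transpose_one] at this
      exact this
    have hb0 : (b : F) ≠ 0 := b.ne_zero
    have E1 : g.1ᵀ * g.1.map σ = ((b⁻¹ : Fˣ) : F) • (1 : Matrix (Fin n) (Fin n) F) := by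
      rw [← key2, smul_smul, Units.val_inv_eq_inv_val, inv_mul_cancel₀ hb0, one_smul]
    have E2 : (g.1ᵀ).map σ * g.1 = ((b⁻¹ : Fˣ) : F) • (1 : Matrix (Fin n) (Fin n) F) := by
      rw [← key, smul_smul, Units.val_inv_eq_inv_val, inv_mul_cancel₀ hb0, one_smul]
    have hd : σ ((b⁻¹ : Fˣ) : F) = ((b⁻¹ : Fˣ) : F) := by
      have h1 := congrArg (fun M : Matrix (Fin n) (Fin n) F => M.map σ) E1
      rw [Matrix.map_mul, map_map_sigma σ hσ2, E2] at h1
      have h2 := congrFun (congrFun h1 ⟨0, hn0⟩) ⟨0, hn0⟩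
      simpa using h2.symm
    obtain ⟨μ, hμ⟩ := hnorm b⁻¹ hd
    refine ⟨μ, sgl μ⁻¹ * g, ?_, ?_⟩
    · rw [mem_GU_iff_mul σ hσ, sgl_mul_val]
      have h3 : (((μ⁻¹ : Fˣ) : F) • g.1).map σ = σ ((μ⁻¹ : Fˣ) : F) • g.1.map σ := by
        ext i j
        simp
      rw [h3, Matrix.transpose_smul, Matrix.smul_mul, Matrix.mul_smul, E1, smul_smul, smul_smul,
        ← hμ]
      have hμ0 : (μ : F) ≠ 0 := μ.ne_zero
      have hσμ0 : σ (μ : F) ≠ 0 := fun h0 => hμ0 ((map_eq_zero σ).1 h0)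
      have h4 : ((μ⁻¹ : Fˣ) : F) * σ ((μ⁻¹ : Fˣ) : F) * ((μ : F) * σ μ) = 1 := by
        rw [Units.val_inv_eq_inv_val, map_inv₀]
        field_simp
      rw [h4, one_smul]
    · rw [← mul_assoc, sgl_mul_inv, one_mul]
  · rintro ⟨θ, g', hg', rfl⟩
    rw [Gam_sgl_mul hn, e]
    congr 2
    rw [mem_GU_iff_mul σ hσ] at hg'
    apply Units.ext
    show g'.1 = ((g'⁻¹).1ᵀ).map σ
    have hAB : g'.1 * (g'⁻¹).1 = 1 := by rw [← Units.val_mul, mul_inv_cancel]; rfl
    have h1 : g'.1.map σ = (g'⁻¹).1ᵀ := by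
      have h2 : (g'⁻¹).1ᵀ * (g'.1ᵀ * g'.1.map σ) = (g'⁻¹).1ᵀ := by rw [hg', Matrix.mul_one]
      rw [← Matrix.mul_assoc, ← Matrix.transpose_mul, hAB, Matrix.transpose_one,
        Matrix.one_mul] at h2
      exact h2
    rw [← h1, map_map_sigma σ hσ2]

end Unitary

section GF

variable {n : ℕ} {F : Type*} [Field F] [Fintype F]

lemma scalars_eq_center (hn : 0 < n) :
    Cfsg.Geo.scalars (Fin n) F = Subgroup.center (GL (Fin n) F) := by
  ext g
  rw [Cfsg.Geo.mem_scalars_iff, Matrix.GeneralLinearGroup.mem_center_iff_val_mem_range_scalar]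
  constructor
  · rintro ⟨c, hc⟩
    refine ⟨(c : F), ?_⟩
    rw [hc, Matrix.scalar_apply, Matrix.smul_one_eq_diagonal]
  · rintro ⟨c, hc⟩
    have hc0 : c ≠ 0 := by
      intro h0
      obtain ⟨k, l, hkl⟩ := exists_entry_ne_zero hn g
      apply hkl
      rw [← hc, h0, map_zero]
      rfl
    refine ⟨Units.mk0 c hc0, ?_⟩
    rw [← hc, Matrix.scalar_apply, Units.val_mk0, Matrix.smul_one_eq_diagonal]

/-- **The centralizer in `PGL_n(F)` of the graph-field automorphism `Phi σ * Iota`** is `PGU_n`. -/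
theorem centralizer_PhiIota_equiv (hn : 2 ≤ n) (σ : F ≃+* F) (hσ2 : ∀ a, σ (σ a) = a) {q₀ : ℕ}
    (hσ : ∀ a, σ a = a ^ q₀) (hnorm : ∀ d : Fˣ, σ d = d → ∃ μ : Fˣ, (μ : F) * σ μ = d) :
    Nonempty (↥((Gam : GL (Fin n) F →* MulAut (Matrix.ProjectiveSpecialLinearGroup (Fin n) F)).range ⊓
      Subgroup.centralizer {Phi σ * Iota}) ≃* Cfsg.PGU n F q₀) := by
  let ψ : ↥(Cfsg.GU n F q₀) →* MulAut (Matrix.ProjectiveSpecialLinearGroup (Fin n) F) :=
    Gam.comp (Cfsg.GU n F q₀).subtype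
  have hker : ψ.ker = (Cfsg.Geo.scalars (Fin n) F).subgroupOf (Cfsg.GU n F q₀) := by
    ext g
    rw [MonoidHom.mem_ker, Subgroup.mem_subgroupOf, scalars_eq_center (by omega), ← Gam_ker2 hn,
      MonoidHom.mem_ker]
    rfl
  have hrange : ψ.range = (Gam : GL (Fin n) F →* _).range ⊓
      Subgroup.centralizer {Phi σ * Iota} := by
    ext y
    rw [Subgroup.mem_inf, Subgroup.mem_centralizer_singleton_iff]
    constructor
    · rintro ⟨g, rfl⟩
      refine ⟨⟨_, rfl⟩, ?_⟩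
      have := (Gam_comm_PhiIota_iff hn σ hσ2 hσ hnorm g.1).2
        ⟨1, g.1, g.2, by
          have : (sgl (1 : Fˣ) : GL (Fin n) F) = 1 := map_one dgl
          rw [this, one_mul]⟩
      exact this
    · rintro ⟨⟨g, rfl⟩, h2⟩
      obtain ⟨θ, g', hg', rfl⟩ := (Gam_comm_PhiIota_iff hn σ hσ2 hσ hnorm g).1 h2
      exact ⟨⟨g', hg'⟩, (Gam_sgl_mul hn θ _).symm⟩
  have e1 := QuotientGroup.quotientKerEquivRange ψ
  have e2 : ↥(Cfsg.GU n F q₀) ⧸ (Cfsg.Geo.scalars (Fin n) F).subgroupOf (Cfsg.GU n F q₀) ≃*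
      ↥(Cfsg.GU n F q₀) ⧸ ψ.ker :=
    QuotientGroup.quotientMulEquivOfEq hker.symm
  have e3 := MulEquiv.subgroupCongr hrange
  exact ⟨(e3.symm.trans e1.symm).trans e2.symm⟩

/-- surjectivity of the norm for the quadratic extension `F / F₁` -/
lemma norm_surj {q₀ : ℕ} (hq : 2 ≤ q₀) (hN : Nat.card Fˣ = q₀ ^ 2 - 1) (d : Fˣ)
    (hd : d ^ (q₀ - 1) = 1) : ∃ μ : Fˣ, μ ^ (q₀ + 1) = d := by
  have hfac : q₀ ^ 2 - 1 = (q₀ + 1) * (q₀ - 1) := by
    obtain ⟨k, rfl⟩ : ∃ k, q₀ = k + 1 := ⟨q₀ - 1, by omega⟩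
    simp only [Nat.add_sub_cancel]
    have : (k + 1) ^ 2 = (k + 1 + 1) * k + 1 := by ring
    rw [this, Nat.add_sub_cancel]
  have hle : (powMonoidHom (q₀ + 1) : Fˣ →* Fˣ).range ≤ (powMonoidHom (q₀ - 1) : Fˣ →* Fˣ).ker := by
    rintro _ ⟨μ, rfl⟩
    rw [MonoidHom.mem_ker, powMonoidHom_apply, powMonoidHom_apply, ← pow_mul, ← hfac, ← hN]
    exact pow_card_eq_one'
  have hcard : Nat.card (powMonoidHom (q₀ - 1) : Fˣ →* Fˣ).ker ≤
      Nat.card (powMonoidHom (q₀ + 1) : Fˣ →* Fˣ).range := by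
    rw [IsCyclic.card_powMonoidHom_ker, IsCyclic.card_powMonoidHom_range, hN, hfac,
      Nat.gcd_mul_left_left, Nat.gcd_mul_right_left, Nat.mul_div_cancel_left _ (by omega)]
  have heq := Subgroup.eq_of_le_of_card_ge hle hcard
  have h1 : d ∈ (powMonoidHom (q₀ + 1) : Fˣ →* Fˣ).range := by
    rw [heq, MonoidHom.mem_ker]; exact hd
  obtain ⟨μ, hμ⟩ := h1
  exact ⟨μ, hμ⟩

/-- everything we need about an involutory automorphism of a finite field -/
theorem involution_data {p f : ℕ} [Fact p.Prime] (hF : Fintype.card F = p ^ f) (σ : F ≃+* F)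
    (hσo : orderOf σ = 2) :
    2 ∣ f ∧ 2 ≤ p ^ (f / 2) ∧ Nat.card Fˣ = (p ^ (f / 2)) ^ 2 - 1 ∧ (∀ a, σ (σ a) = a) ∧
      (∀ a, σ a = a ^ (p ^ (f / 2))) ∧
      (∀ d : Fˣ, σ d = d → ∃ μ : Fˣ, (μ : F) * σ μ = d) := by
  have hp : p.Prime := Fact.out
  obtain ⟨hdvd, hpow⟩ := sigma_eq_pow hF σ hσo
  have hf0 : f ≠ 0 := by
    rintro rfl
    have := Fintype.one_lt_card (α := F)
    rw [hF] at this
    simp at this
  have hq : 2 ≤ p ^ (f / 2) := by
    obtain ⟨k, rfl⟩ := hdvd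
    have hk : 1 ≤ k := by omega
    rw [Nat.mul_div_cancel_left _ (by norm_num : 0 < 2)]
    calc 2 ≤ p := hp.two_le
      _ = p ^ 1 := (pow_one p).symm
      _ ≤ p ^ k := Nat.pow_le_pow_right hp.pos hk
  have hN : Nat.card Fˣ = (p ^ (f / 2)) ^ 2 - 1 := by
    rw [Nat.card_units, Nat.card_eq_fintype_card, hF, ← pow_mul, Nat.div_mul_cancel hdvd]
  have hσ2 : ∀ a : F, σ (σ a) = a := by
    intro a
    have h1 : σ ^ 2 = 1 := by rw [← hσo]; exact pow_orderOf_eq_one σ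
    have h2 : (σ ^ 2) a = a := by rw [h1]; rfl
    rw [pow_two] at h2
    exact h2
  refine ⟨hdvd, hq, hN, hσ2, hpow, ?_⟩
  intro d hd
  have hd1 : d ^ (p ^ (f / 2) - 1) = 1 := by
    apply Units.ext
    rw [Units.val_pow_eq_pow_val, Units.val_one]
    have h3 : (d : F) ^ (p ^ (f / 2) - 1) * d = 1 * d := by
      rw [← pow_succ, Nat.sub_add_cancel (by omega), ← hpow, hd, one_mul]
    exact mul_right_cancel₀ d.ne_zero h3
  obtain ⟨μ, hμ⟩ := norm_surj hq hN d hd1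
  refine ⟨μ, ?_⟩
  rw [hpow, ← hμ, Units.val_pow_eq_pow_val, pow_succ, mul_comm]

/-- **The class-splitting number of an involutory graph-field automorphism.** -/
theorem split_count_PhiIota (hn : 2 ≤ n) {p f : ℕ} [Fact p.Prime] (hF : Fintype.card F = p ^ f)
    (σ : F ≃+* F) (hσo : orderOf σ = 2) :
    Cfsg.splitClassCount
      (Gam : GL (Fin n) F →* MulAut (Matrix.ProjectiveSpecialLinearGroup (Fin n) F)).range
      (Cfsg.Inn (Matrix.ProjectiveSpecialLinearGroup (Fin n) F)) (Phi σ * Iota) =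
      Nat.gcd n (p ^ (f / 2) - 1) := by
  obtain ⟨hdvd, hq, hN, hσ2, hσ, hnorm⟩ := involution_data hF σ hσo
  set q₀ := p ^ (f / 2) with hq₀
  have hfac : q₀ ^ 2 - 1 = (q₀ + 1) * (q₀ - 1) := by
    obtain ⟨k, hk⟩ : ∃ k, q₀ = k + 1 := ⟨q₀ - 1, by omega⟩
    rw [hk]
    simp only [Nat.add_sub_cancel]
    have : (k + 1) ^ 2 = (k + 1 + 1) * k + 1 := by ring
    rw [this, Nat.add_sub_cancel]
  set N := q₀ ^ 2 - 1 with hNdef
  have h1 : q₀ + 1 ∣ N := ⟨_, hfac⟩
  have hdiv : N / (q₀ + 1) = q₀ - 1 := by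
    rw [hfac]; exact Nat.mul_div_cancel_left _ (by omega)
  set e := Nat.gcd n (N / (q₀ + 1)) with he
  have he1 : e ∣ N / (q₀ + 1) := Nat.gcd_dvd_right _ _
  have he2 : e ∣ N := he1.trans (Nat.div_dvd_of_dvd h1)
  have hen : e ∣ n := Nat.gcd_dvd_left _ _
  have hNpos : 0 < N := by rw [← hN]; exact Nat.card_pos
  have hepos : 0 < e := Nat.pos_of_dvd_of_pos he2 hNpos
  have hM1 : q₀ + 1 ∣ N / e := by
    obtain ⟨c, hc⟩ := he1
    rw [hdiv] at hc
    refine ⟨c, ?_⟩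
    rw [hfac, hc, show (q₀ + 1) * (e * c) = e * ((q₀ + 1) * c) by ring]
    exact Nat.mul_div_cancel_left _ hepos
  let CS : Subgroup (GL (Fin n) F) :=
    (Subgroup.centralizer
      {(Phi σ * Iota : MulAut (Matrix.ProjectiveSpecialLinearGroup (Fin n) F))}).comap Gam
  have hCS : ∀ g : GL (Fin n) F, Gam g * (Phi σ * Iota) = Phi σ * Iota * Gam g ↔ g ∈ CS := by
    intro g
    rw [Subgroup.mem_comap, Subgroup.mem_centralizer_singleton_iff]
  have hpowN : ∀ b : Fˣ, b ^ N = 1 := by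
    intro b
    rw [← hN]; exact pow_card_eq_one'
  have hb : ∀ b : Fˣ, (b ^ n) ^ (N / e) = 1 := by
    intro b
    obtain ⟨c, hc⟩ := hen
    obtain ⟨d, hd⟩ := he2
    have h3 : N / e = d := by rw [hd]; exact Nat.mul_div_cancel_left d hepos
    rw [h3, ← pow_mul, hc, show e * c * d = (e * d) * c by ring, ← hd, pow_mul, hpowN, one_pow]
  have ha : ∀ c ∈ CS, (Matrix.GeneralLinearGroup.det c) ^ (N / e) = 1 := by
    intro c hc
    obtain ⟨θ, g', hg', rfl⟩ := (Gam_comm_PhiIota_iff hn σ hσ2 hσ hnorm c).1 ((hCS c).2 hc)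
    rw [map_mul, det_sgl, mul_pow, hb, one_mul]
    obtain ⟨k, hk⟩ := hM1
    rw [hk, pow_mul]
    have h4 : (Matrix.GeneralLinearGroup.det g') ^ (q₀ + 1) = 1 := by
      rw [mem_GU_iff_mul σ hσ] at hg'
      have h5 := congrArg Matrix.det hg'
      rw [Matrix.det_mul, Matrix.det_transpose, Matrix.det_one] at h5
      have h6 : (g'.1.map σ).det = σ g'.1.det := by
        have := (σ : F →+* F).map_det g'.1
        exact this.symm
      rw [h6, hσ] at h5
      apply Units.ext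
      rw [Units.val_pow_eq_pow_val, Units.val_one, pow_succ, mul_comm]
      exact h5
    rw [h4, one_pow]
  have hc : ∀ a : Fˣ, a ^ (N / e) = 1 →
      ∃ c ∈ CS, ∃ b : Fˣ, a = Matrix.GeneralLinearGroup.det c * b ^ n := by
    intro a haM
    obtain ⟨a₁, b, ha₁, hab⟩ := cyc_decomp (n := n) hN h1 a haM
    obtain ⟨dd, hdd⟩ : ∃ dd : Fin n → Fˣ, dd = Pi.mulSingle (⟨0, by omega⟩ : Fin n) a₁ := ⟨_, rfl⟩
    have hdd1 : ∀ i, (dd i) ^ (q₀ + 1) = 1 := by
      intro i
      rw [hdd]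
      by_cases hi : i = ⟨0, by omega⟩
      · subst hi
        rw [Pi.mulSingle_eq_same, ha₁]
      · rw [Pi.mulSingle_eq_of_ne hi]; simp
    refine ⟨dgl (Pi.mulSingle (⟨0, by omega⟩ : Fin n) a₁), ?_, b, ?_⟩
    · rw [← hCS, ← hdd]
      refine (Gam_comm_PhiIota_iff hn σ hσ2 hσ hnorm _).2 ⟨1, dgl dd, ?_, ?_⟩
      · rw [mem_GU_iff_mul σ hσ, dgl_val, Matrix.diagonal_transpose]
        have h7 : (diagonal fun i => ((dd i : Fˣ) : F)).map σ =
            diagonal fun i => σ ((dd i : Fˣ) : F) := by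
          ext i j
          by_cases hij : i = j
          · subst hij; simp
          · simp [Matrix.diagonal_apply_ne _ hij]
        rw [h7, Matrix.diagonal_mul_diagonal]
        rw [← Matrix.diagonal_one]
        congr 1
        ext i
        rw [hσ, ← pow_succ', ← Units.val_pow_eq_pow_val, hdd1, Units.val_one]
      · have : (sgl (1 : Fˣ) : GL (Fin n) F) = 1 := map_one dgl
        rw [this, one_mul]
    · rw [det_dgl_mulSingle', hab]
  rw [split_count_Gam hn _ CS hCS (N / e) ha hb hc, card_pow_range hN he2, he, hdiv]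

/-- every conjugate of `Phi σ * Iota` (with `σ` an involution) under the full automorphism group
is already conjugate under `PGL_n` -/
theorem conj_PhiIota (hn : 2 ≤ n) (p : ℕ) [Fact p.Prime] [CharP F p] (σ : F ≃+* F) {q₀ : ℕ}
    (hσ : ∀ a, σ a = a ^ q₀) (β : MulAut (Matrix.ProjectiveSpecialLinearGroup (Fin n) F)) :
    ∃ g : GL (Fin n) F, β * (Phi σ * Iota) * β⁻¹ = Gam g * (Phi σ * Iota) * (Gam g)⁻¹ := by
  obtain ⟨g, τ, ε, rfl⟩ := exists_nf hn p β
  refine ⟨g, ?_⟩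
  have hcomm : τ * σ = σ * τ := by
    ext a
    show τ (σ a) = σ (τ a)
    rw [hσ, hσ, map_pow]
  have h1 : (Phi τ * Phi σ : MulAut (Matrix.ProjectiveSpecialLinearGroup (Fin n) F)) =
      Phi σ * Phi τ := by rw [← map_mul, hcomm, map_mul]
  have h2 : (IotaPow ε * Iota : MulAut (Matrix.ProjectiveSpecialLinearGroup (Fin n) F)) =
      Iota * IotaPow ε := by
    rw [← IotaPow_one, ← IotaPow_add, ← IotaPow_add, add_comm]
  have h3 := IotaPow_mul_Phi (ι := Fin n) ε σ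
  have h4 := Iota_mul_Phi (ι := Fin n) τ
  have key : (Phi τ * IotaPow ε) * (Phi σ * Iota) =
      (Phi σ * Iota : MulAut (Matrix.ProjectiveSpecialLinearGroup (Fin n) F)) *
        (Phi τ * IotaPow ε) := by
    calc (Phi τ * IotaPow ε) * (Phi σ * Iota) = Phi τ * (IotaPow ε * Phi σ) * Iota := by group
      _ = Phi τ * (Phi σ * IotaPow ε) * Iota := by rw [h3]
      _ = (Phi τ * Phi σ) * (IotaPow ε * Iota) := by group
      _ = (Phi σ * Phi τ) * (Iota * IotaPow ε) := by rw [h1, h2]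
      _ = Phi σ * (Phi τ * Iota) * IotaPow ε := by group
      _ = Phi σ * (Iota * Phi τ) * IotaPow ε := by rw [h4]
      _ = _ := by group
  calc Gam g * Phi τ * IotaPow ε * (Phi σ * Iota) * (Gam g * Phi τ * IotaPow ε)⁻¹
      = Gam g * ((Phi τ * IotaPow ε) * (Phi σ * Iota)) * (Phi τ * IotaPow ε)⁻¹ * (Gam g)⁻¹ := by
        group
    _ = Gam g * ((Phi σ * Iota) * (Phi τ * IotaPow ε)) * (Phi τ * IotaPow ε)⁻¹ * (Gam g)⁻¹ := by
        rw [key]
    _ = _ := by group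

end GF

end Cfsg.Agent.Lib.Helper5.AutPSLn
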