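import Mathlib
import Cfsg.Agent.Lib.Helper41.PsDefs
import Cfsg.Agent.Lib.Helper27.CgCG7
import Cfsg.Agent.Lib.Helper78.CgCG7b
import Cfsg.Agent.Lib.Helper8.CgCG8b
import Cfsg.Agent.Lib.Helper49.CgCG8c

/-!
# Ps hive (S4321): leaf PS5, reduction of `e`.
-/

set_option autoImplicit false

namespace Cfsg.Agent.Lib.Helper41.Ps

open Subgroup
open Cfsg.Agent.Lib.Helper22.Cg

universe u

/-- PS5. reduction of `e` (class size prime to `p`): `p`-part `ε` and `p'`-part `φ`, both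
centralizing a Sylow `p`-subgroup `P`, `ε ∈ Z(P)`. (cg8c, cg7, cg7b, cg8b) -/
theorem ps_red_e {G : Type u} [Group G] [Finite G] (p : ℕ) [Fact p.Prime] (e : G)
    (he : p ∣ orderOf e) (hpe : ¬ p ∣ cs e) :
    ∃ (P : Sylow p G) (ε φ : G), ε ∈ P ∧ ε ≠ 1 ∧ (∀ y ∈ P, ε * y = y * ε) ∧
      (∀ y ∈ P, φ * y = y * φ) ∧ ¬ p ∣ orderOf φ ∧ cs φ ∣ cs e ∧ cs ε ∣ cs e ∧
      (cs φ = 1 → cs ε = cs e) := by
  obtain ⟨Q, hQ⟩ := cg8c p e hpe
  obtain ⟨a, b, hab, ha, hb, hao, hbo⟩ := cg7 p e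
  -- powers of `e` commute with everything commuting with `e`
  have hpow : ∀ c : G, c ∈ zpowers e → ∀ y ∈ Q, c * y = y * c := by
    intro c hc y hy
    obtain ⟨k, rfl⟩ := Subgroup.mem_zpowers_iff.1 hc
    have hcomm : Commute e y := hQ y hy
    exact (hcomm.zpow_left k).eq
  have haQ : ∀ y ∈ Q, a * y = y * a := hpow a ha
  have hbQ : ∀ y ∈ Q, b * y = y * b := hpow b hb
  have hcent : centralizer ({e} : Set G) = centralizer ({a} : Set G) ⊓ centralizer ({b} : Set G) :=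
    cg7b e a b hab ha hb
  refine ⟨Q, a, b, cg8b p Q a hao haQ, ?_, haQ, hbQ, hbo, ?_, ?_, ?_⟩
  · intro h1
    rw [h1, one_mul] at hab
    rw [hab] at hbo
    exact hbo he
  · apply Subgroup.index_dvd_of_le
    rw [hcent]
    exact inf_le_right
  · apply Subgroup.index_dvd_of_le
    rw [hcent]
    exact inf_le_left
  · intro h1
    have htop : centralizer ({b} : Set G) = ⊤ := Subgroup.index_eq_one.1 h1
    rw [htop, inf_top_eq] at hcent
    show (centralizer ({a} : Set G)).index = (centralizer ({e} : Set G)).index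
    rw [hcent]

end Cfsg.Agent.Lib.Helper41.Ps
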