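import Cfsg.Agent.Lib.Helper5.HyAsmA
import Cfsg.Agent.Lib.Helper25.TsBRIDGE
import Cfsg.Agent.Lib.Helper27.HyT5
import Cfsg.Agent.Lib.Helper45.HyELT
import Cfsg.Agent.Lib.Helper64.HyCONG
import Cfsg.Agent.Lib.Helper64.HyTWO

/-! # S5992 / S5993 hive (helper5): assembly, part B (`main`: both types, `r ≠ p`) -/

set_option autoImplicit false
set_option linter.unusedSectionVars false

namespace Cfsg.Agent.Lib.Helper5.Hy

open Polynomial Module
open Cfsg.Agent.Lib.Helper2.BG Cfsg.Agent.Lib.Helper99 Cfsg.Agent.Lib.Helper48.Ti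
open Cfsg.Agent.Lib.Helper67.Ts

section mapprops

variable {F V : Type*} [Field F] [AddCommGroup V] [Module F V] [FiniteDimensional F V]
variable {B : V →ₗ[F] V →ₗ[F] F}

/-- images of subspaces under an injective isometry keep `Nd`, `finrank` and `Plus` -/
theorem asm_map_props {f : Module.End F V} (hf : Isom B f) (hinj : Function.Injective f)
    (W : Submodule F V) :
    (Nd B W → Nd B (W.map f)) ∧ finrank F ↥(W.map f) = finrank F W ∧
      (Plus B W → Plus B (W.map f)) := by
  have hdim : ∀ U : Submodule F V, finrank F ↥(U.map f) = finrank F U := fun U =>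
    LinearEquiv.finrank_eq (Submodule.equivMapOfInjective f hinj U).symm
  refine ⟨?_, hdim W, ?_⟩
  · intro hW u hu h
    obtain ⟨u', hu', rfl⟩ := Submodule.mem_map.1 hu
    have : u' = 0 := hW u' hu' (fun v hv => by
      have := h (f v) (Submodule.mem_map_of_mem hv)
      rwa [hf] at this)
    rw [this, map_zero]
  · rintro ⟨U, hUW, hU, hdimU⟩
    refine ⟨U.map f, Submodule.map_mono hUW, ?_, by rw [hdim, hdim, hdimU]⟩
    intro a ha b hb
    obtain ⟨a', ha', rfl⟩ := Submodule.mem_map.1 ha
    obtain ⟨b', hb', rfl⟩ := Submodule.mem_map.1 hb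
    rw [hf]
    exact hU a' ha' b' hb'

end mapprops

section concrete

variable {F : Type*} [Field F] [Fintype F]

theorem asm_not_dvd_card {p : ℕ} [Fact p.Prime] [CharP F p] (r : ℕ) [Fact r.Prime] (hrp : r ≠ p) :
    ¬ r ∣ Fintype.card F := by
  obtain ⟨n, hp, hn⟩ := FiniteField.card F p
  rw [hn]
  intro h
  have := (Nat.prime_dvd_prime_iff_eq (Fact.out : r.Prime) hp).1
    ((Fact.out : r.Prime).dvd_of_dvd_pow h)
  exact hrp this

theorem asm_toLin_pow {ι : Type*} [Fintype ι] [DecidableEq ι] (x : GL ι F) (k : ℕ) :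
    (Matrix.toLin' (x : Matrix ι ι F)) ^ k = Matrix.toLin' ((x ^ k : GL ι F) : Matrix ι ι F) := by
  induction k with
  | zero => simp; rfl
  | succ k ih =>
    rw [pow_succ, ih, pow_succ, Units.val_mul, Matrix.toLin'_mul]
    rfl

theorem asm_toLin_inj {ι : Type*} [Fintype ι] [DecidableEq ι] (x : GL ι F) :
    Function.Injective (Matrix.toLin' (x : Matrix ι ι F)) := by
  intro u v h
  have h1 := congrArg (Matrix.toLin' ((x⁻¹ : GL ι F) : Matrix ι ι F)) h
  rw [← Matrix.toLin'_mul_apply, ← Matrix.toLin'_mul_apply, ← Units.val_mul, inv_mul_cancel] at h1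
  simpa using h1

/-- the main equivalence for `r ≠ p`, both types (`b = True`: hyperbolic, `b = False`: elliptic) -/
theorem main {p : ℕ} [Fact p.Prime] [CharP F p] (hqodd : Odd (Fintype.card F)) (d m : ℕ)
    (hm : 2 ≤ m) (hme : Even m) (hmn : m ≤ 2 * d) (r : ℕ) [Fact r.Prime] (hrp : r ≠ p)
    (b : Prop)
    (hrΩ : r ∣ Nat.card {W : Submodule F (VO d F) //
      Nd (oddB d) W ∧ finrank F W = m ∧ (Plus (oddB d) W ↔ b)})
    (i c : ℕ) (hi : i = orderOf ((Fintype.card F : ℕ) : ZMod r))
    (hc : c = if Even i then i else 2 * i) :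
    (∀ x : GL (Unit ⊕ (Fin d ⊕ Fin d)) F, x ∈ Cfsg.Geo.omegaGL (Cfsg.quadFormOdd d F) →
      orderOf x = r →
      Fixes (oddB d) (Matrix.toLin'
        (x : Matrix (Unit ⊕ (Fin d ⊕ Fin d)) (Unit ⊕ (Fin d ⊕ Fin d)) F)) m b) ↔
    (r = 2 ∨ (2 < r ∧ c ≤ m ∧ m % c < (2 * d + 1) % c ∧
      (m % c = 0 → (b ↔ ((Fintype.card F : ℕ) : ZMod r) ^ (m / 2) = 1)))) := by
  have hr : r.Prime := Fact.out
  have h2 : (2 : F) ≠ 0 := by
    intro h
    have h' : ((2 : ℕ) : F) = 0 := by exact_mod_cast h
    have hp2 : p ∣ 2 := (CharP.cast_eq_zero_iff F p 2).1 h'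
    have hp : p.Prime := Fact.out
    have hp2' : p = 2 := (Nat.prime_dvd_prime_iff_eq hp Nat.prime_two).1 hp2
    obtain ⟨n, -, hn⟩ := FiniteField.card F p
    rw [hn, hp2'] at hqodd
    have : Even (2 ^ (n : ℕ)) := (Nat.even_pow.2 ⟨even_two, n.ne_zero⟩)
    exact (Nat.not_even_iff_odd.2 hqodd) this
  have hs : ∀ u v : VO d F, oddB d u v = oddB d v u := oddB_symm d
  have hV : Nd (oddB (F := F) d) ⊤ := oddB_nd h2 d
  have hn : finrank F (VO d F) = 2 * d + 1 := finrank_VO d
  have hodd : Odd (finrank F (VO d F)) := by rw [hn]; exact ⟨d, rfl⟩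
  have hrq : ¬ r ∣ Fintype.card F := asm_not_dvd_card (p := p) r hrp
  obtain ⟨hipos, hcpos, hceven⟩ := asm_c_pos (F := F) r hrq i c hi hc
  constructor
  · -- LHS → RHS
    intro hL
    by_cases hr2 : r = 2
    · exact Or.inl hr2
    right
    have hr3 : 2 < r := by have := hr.two_le; omega
    -- c ≤ 2d
    have hcd : c ≤ 2 * d := by
      by_contra hcd
      have hno : ∀ g : Module.End F (VO d F), Isom (oddB d) g → g ^ r = 1 →
          (∀ v, (∀ u ∈ (⊤ : Submodule F (VO d F)), oddB d u v = 0) → g v = v) → g = 1 := by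
        intro g hg hgr hgC
        have hVC : (∀ v : VO d F, (∀ u ∈ (⊤ : Submodule F (VO d F)), oddB d u v = 0) → v = 0) := by
          intro v hv
          apply hV v Submodule.mem_top
          intro u _
          rw [hs]; exact hv u Submodule.mem_top
        -- use sym_blocks directly: dim = fix + s c, c > 2d
        obtain ⟨-, s, hs1, -⟩ := sym_blocks h2 hs hg r hr2 hrq hgr i c hi hc (inv_top g) hV
        rw [top_inf_eq, finrank_top, hn] at hs1
        have hs0 : s = 0 := by
          by_contra h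
          have h1 : c ≤ s * c := Nat.le_mul_of_pos_left c (Nat.pos_of_ne_zero h)
          rcases hceven with ⟨w, hw⟩
          omega
        have hfull : finrank F ↥(Fix g) = finrank F (VO d F) := by rw [hn, hs1, hs0]; simp
        have htop : Fix g = ⊤ := Submodule.eq_top_of_finrank_eq hfull
        refine LinearMap.ext fun v => ?_
        have hv : v ∈ Fix g := by rw [htop]; exact Submodule.mem_top
        rw [LinearMap.mem_ker, LinearMap.sub_apply, Module.End.one_apply, sub_eq_zero] at hv
        rw [hv, Module.End.one_apply]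
      have h5 := not_dvd_card_type h2 hs hV (C := ⊤) hV r hno m hme (by omega)
        (by rw [finrank_top, hn]; omega) b
      apply h5
      have hcard : Nat.card {W : Submodule F (VO d F) // W ≤ ⊤ ∧ Nd (oddB d) W ∧
          finrank F W = m ∧ (Plus (oddB d) W ↔ b)} = Nat.card {W : Submodule F (VO d F) //
          Nd (oddB d) W ∧ finrank F W = m ∧ (Plus (oddB d) W ↔ b)} :=
        Nat.card_congr (Equiv.subtypeEquivRight (fun W => by simp))
      rw [hcard]; exact hrΩ
    obtain ⟨x, hxΩ, hxr, hxfix⟩ := exists_elt (p := p) hqodd d r hr2 hrp i c hi hc hcd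
    set f := Matrix.toLin' (x : Matrix (Unit ⊕ (Fin d ⊕ Fin d)) (Unit ⊕ (Fin d ⊕ Fin d)) F)
      with hfdef
    have hf : Isom (oddB d) f := (isom_of_mem_omega d x hxΩ).2
    have hfr : f ^ r = 1 := by
      rw [hfdef, asm_toLin_pow, ← hxr, pow_orderOf_eq_one]; simp; rfl
    have hfd : finrank F ↥(Fix f) = (finrank F (VO d F) - 1) % c + 1 := by
      rw [hxfix, hn]; simp
    obtain ⟨W, hWi, hWnd, hWdim, hWt⟩ := hL x hxΩ hxr
    obtain ⟨hk, hcl, hsmall⟩ := nec_of_fixes h2 hs hodd hf r hr2 hrq hfr i c hi hc hfd m hme b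
      hWi hWnd hWdim hWt
    rw [hn] at hk
    refine ⟨hr3, ?_, hk, hcl⟩
    -- c ≤ m by counting
    by_contra hcm
    have hmc : m < c := by omega
    -- k' = (2d) % c
    have hk'e : Even ((2 * d) % c) := by
      have h1 : (2 * d) - (2 * d) % c = c * ((2 * d) / c) := by
        have := Nat.div_add_mod (2 * d) c; omega
      have h2' : Even ((2 * d) - (2 * d) % c) := by rw [h1]; exact hceven.mul_right _
      exact ((Nat.even_sub (Nat.mod_le _ _)).1 h2').1 (even_two_mul d)
    have hk'lt : (2 * d) % c < c := Nat.mod_lt _ hcpos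
    have hCdim : finrank F ↥(Fix f) = (2 * d) % c + 1 := hxfix
    have hCc : finrank F ↥(Fix f) < c := by
      rcases hk'e with ⟨u, hu⟩
      rcases hceven with ⟨w, hw⟩
      omega
    have hmodm : m % c = m := Nat.mod_eq_of_lt hmc
    have hnmod : (2 * d + 1) % c = (2 * d) % c + 1 := by
      have hk'2 : (2 * d) % c + 1 < c := by omega
      rw [Nat.add_mod, Nat.mod_eq_of_lt (a := 1) (by omega)]
      exact Nat.mod_eq_of_lt hk'2
    have hmC : m < finrank F ↥(Fix f) := by omega
    have hCnd : Nd (oddB d) (Fix f) := by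
      have := (sym_blocks h2 hs hf r hr2 hrq hfr i c hi hc (inv_top f) hV).1
      rwa [top_inf_eq] at this
    have hno := fun g hg hgr hgC =>
      no_isom_of_small h2 hs hV r hr2 hrq i c hi hc hCc g hg hgr hgC
    have h5 := not_dvd_card_type h2 hs hV hCnd r hno m hme (by omega) hmC b
    apply h5
    -- fixed point congruence
    have hxpow : x ^ r = 1 := by rw [← hxr]; exact pow_orderOf_eq_one x
    have hinj := asm_toLin_inj x
    have hcong := card_modEq_fixed x r hxpow
      (fun W : Submodule F (VO d F) => Nd (oddB d) W ∧ finrank F W = m ∧ (Plus (oddB d) W ↔ b))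
      (by
        intro W ⟨h1, h2', h3⟩
        obtain ⟨m1, m2, m3⟩ := asm_map_props hf hinj W
        refine ⟨m1 h1, by rw [m2, h2'], ?_⟩
        constructor
        · intro hP
          -- pull back along f^(r-1)
          apply h3.1
          have hfi : Isom (oddB d) (f ^ (r - 1)) := by
            intro u v
            induction (r - 1) with
            | zero => simp
            | succ k ih => rw [pow_succ', Module.End.mul_apply, Module.End.mul_apply, hf, ih]
          have hinj' : Function.Injective (f ^ (r - 1)) := by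
            have : f ^ (r - 1) * f = 1 := by
              rw [← pow_succ, Nat.sub_add_cancel hr.one_le, hfr]
            intro u v huv
            have h1 : f * f ^ (r - 1) = 1 := by
              rw [← pow_succ', Nat.sub_add_cancel hr.one_le, hfr]
            have := congrArg f huv
            rw [← Module.End.mul_apply, ← Module.End.mul_apply, h1] at this
            simpa using this
          have h4 := (asm_map_props hfi hinj' (W.map f)).2.2 hP
          have h5 : (W.map f).map (f ^ (r - 1)) = W := by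
            rw [← Submodule.map_comp]
            have : (f ^ (r - 1)) ∘ₗ f = LinearMap.id := by
              have : f ^ (r - 1) * f = 1 := by
                rw [← pow_succ, Nat.sub_add_cancel hr.one_le, hfr]
              exact this
            rw [this, Submodule.map_id]
          rwa [h5] at h4
        · intro hb
          exact m3 (h3.2 hb))
    have hcard : Nat.card {W : Submodule F (VO d F) //
        (Nd (oddB d) W ∧ finrank F W = m ∧ (Plus (oddB d) W ↔ b)) ∧ W.map f ≤ W} =
        Nat.card {W : Submodule F (VO d F) // W ≤ Fix f ∧ Nd (oddB d) W ∧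
          finrank F W = m ∧ (Plus (oddB d) W ↔ b)} := by
      apply Nat.card_congr
      apply Equiv.subtypeEquivRight
      intro W
      constructor
      · rintro ⟨⟨h1, h2', h3⟩, h4⟩
        have hWi' : Inv f W := (inv_iff_map_le f W).2 h4
        exact ⟨(nec_of_fixes h2 hs hodd hf r hr2 hrq hfr i c hi hc hfd m hme b
          hWi' h1 h2' h3).2.2 hmc, h1, h2', h3⟩
      · rintro ⟨h0, h1, h2', h3⟩
        exact ⟨⟨h1, h2', h3⟩, (inv_iff_map_le f W).1 (asm_inv_of_le_fix h0)⟩
    rw [← hcard]
    exact (Nat.modEq_zero_iff_dvd.1 (hcong.symm.trans (Nat.modEq_zero_iff_dvd.2 hrΩ)))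
  · -- RHS → LHS
    rintro hR x hxΩ hxr
    set f := Matrix.toLin' (x : Matrix (Unit ⊕ (Fin d ⊕ Fin d)) (Unit ⊕ (Fin d ⊕ Fin d)) F)
      with hfdef
    have hf : Isom (oddB d) f := (isom_of_mem_omega d x hxΩ).2
    have hfr : f ^ r = 1 := by
      rw [hfdef, asm_toLin_pow, ← hxr, pow_orderOf_eq_one]; simp; rfl
    rcases hR with h2r | ⟨hr3, -, hk, hcl⟩
    · have hff : f * f = 1 := by
        rw [← pow_two, ← h2r]; exact hfr
      exact fixes_of_invol h2 hs hV hodd hf hff m hme hm (by rw [hn]; omega) b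
    · have hr2 : r ≠ 2 := by omega
      exact fixes_of_odd h2 hs hV hodd hf r hr2 hrq hfr i c hi hc m hme hm (by rw [hn]; omega) b
        (by rw [hn]; exact hk) hcl

end concrete

end Cfsg.Agent.Lib.Helper5.Hy
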