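import Mathlib
import Cfsg.Prelude.Def_ClassicalGeometry
import Cfsg.Prelude.Def_GeometricClasses
import Cfsg.Agent.Lib.Helper5.HyDefs
import Cfsg.Agent.Lib.Helper55.HySUP
import Cfsg.Agent.Lib.Helper33.HyT1
import Cfsg.Agent.Lib.Helper76.HyT2
import Cfsg.Agent.Lib.Helper83.HyT3
import Cfsg.Agent.Lib.Helper68.HyB1

/-! # S5992 / S5993 hive (helper5): abstract assembly, part A

`fixes_of_odd` (sufficiency), `nec_of_fixes` (necessity), `no_isom_of_small` for an isometry of odd prime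
order `r ≠ p` of a nondegenerate symmetric space over a finite field of odd characteristic. -/

set_option autoImplicit false

namespace Cfsg.Agent.Lib.Helper5.Hy

open Polynomial Module
open Cfsg.Agent.Lib.Helper2.BG Cfsg.Agent.Lib.Helper99 Cfsg.Agent.Lib.Helper48.Ti
open Cfsg.Agent.Lib.Helper67.Ts

section abstract

variable {F V : Type*} [Field F] [Fintype F] [AddCommGroup V] [Module F V] [FiniteDimensional F V]
variable {B : V →ₗ[F] V →ₗ[F] F}

theorem asm_c_pos (r : ℕ) [Fact r.Prime] (hrq : ¬ r ∣ Fintype.card F) (i c : ℕ)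
    (hi : i = orderOf ((Fintype.card F : ℕ) : ZMod r)) (hc : c = if Even i then i else 2 * i) :
    0 < i ∧ 0 < c ∧ Even c := by
  have hr : r.Prime := Fact.out
  have hq0 : ((Fintype.card F : ℕ) : ZMod r) ≠ 0 := by
    rw [Ne, ZMod.natCast_eq_zero_iff]
    exact hrq
  have hipos : 0 < i := by
    rw [hi]
    apply orderOf_pos_iff.2
    exact isOfFinOrder_iff_pow_eq_one.2 ⟨r - 1, by have := hr.two_le; omega,
      ZMod.pow_card_sub_one_eq_one hq0⟩
  refine ⟨hipos, ?_, ?_⟩
  · rw [hc]; split_ifs <;> omega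
  · rw [hc]; split_ifs with h
    · exact h
    · exact even_two_mul i

theorem asm_inv_sup {f : Module.End F V} {W₀ W₁ : Submodule F V} (h₀ : Inv f W₀) (h₁ : Inv f W₁) :
    Inv f (W₀ ⊔ W₁) := h₀.sup h₁

theorem asm_inv_of_le_fix {f : Module.End F V} {W : Submodule F V} (h : W ≤ Fix f) : Inv f W := by
  intro v hv
  have h1 : f v = v := by
    have := LinearMap.mem_ker.1 (h hv)
    rwa [LinearMap.sub_apply, Module.End.one_apply, sub_eq_zero] at this
  rw [h1]; exact hv

/-- sufficiency for odd `r` -/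
theorem fixes_of_odd (h2 : (2 : F) ≠ 0) (hs : ∀ u v, B u v = B v u) (hV : Nd B ⊤)
    (hodd : Odd (finrank F V)) {f : Module.End F V} (hf : Isom B f) (r : ℕ) [Fact r.Prime]
    (hr2 : r ≠ 2) (hrq : ¬ r ∣ Fintype.card F) (hfr : f ^ r = 1) (i c : ℕ)
    (hi : i = orderOf ((Fintype.card F : ℕ) : ZMod r)) (hc : c = if Even i then i else 2 * i)
    (m : ℕ) (hme : Even m) (h2m : 2 ≤ m) (hmn : m < finrank F V) (b : Prop)
    (hk : m % c < finrank F V % c)
    (hcl : m % c = 0 → (b ↔ ((Fintype.card F : ℕ) : ZMod r) ^ (m / 2) = 1)) :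
    Fixes B f m b := by
  obtain ⟨hipos, hcpos, hceven⟩ := asm_c_pos (F := F) r hrq i c hi hc
  obtain ⟨hFixNd, s, hs1, hblocks⟩ :=
    sym_blocks h2 hs hf r hr2 hrq hfr i c hi hc (inv_top f) hV
  have htopfix : (⊤ : Submodule F V) ⊓ Fix f = Fix f := top_inf_eq _
  rw [htopfix] at hs1 hFixNd
  rw [finrank_top] at hs1
  set n := finrank F V with hn
  set z := finrank F ↥(Fix f) with hz
  -- choose j
  set j := min s (m / c) with hj
  have hjs : j ≤ s := min_le_left _ _
  have hjm : j * c ≤ m := by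
    calc j * c ≤ (m / c) * c := Nat.mul_le_mul_right c (min_le_right _ _)
      _ ≤ m := Nat.div_mul_le_self m c
  obtain ⟨W₁, -, hW₁i, hW₁nd, hW₁fix, hW₁orth, hW₁dim⟩ := hblocks j hjs
  set m₀ := m - j * c with hm₀
  have hm₀e : Even m₀ := by
    have h1 : Even (j * c) := hceven.mul_left j
    exact (Nat.even_sub hjm).2 ⟨fun _ => h1, fun _ => hme⟩
  have hze : Odd z := by
    have h1 : Even (s * c) := hceven.mul_left s
    rcases hodd with ⟨t, ht⟩
    rcases h1 with ⟨u, hu⟩
    exact ⟨t - u, by omega⟩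
  have hm₀lt : m₀ < z := by
    by_cases hsB : s ≤ m / c
    · -- j = s
      have hjs' : j = s := min_eq_left hsB
      have hjm' : s * c ≤ m := by rw [← hjs']; exact hjm
      rw [hm₀, hjs']
      omega
    · -- j = m / c, m₀ = m % c
      have hjB : j = m / c := min_eq_right (by omega)
      have h1 : m₀ = m % c := by
        rw [hm₀, hjB]
        have := Nat.div_add_mod m c
        have h3 : m / c * c = c * (m / c) := Nat.mul_comm _ _
        omega
      rw [h1]
      -- n % c ≤ z: n = z + s c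
      have h4 : n % c = z % c := by
        rw [hs1, Nat.add_mul_mod_self_right]
      have h5 : z % c ≤ z := Nat.mod_le _ _
      omega
  have hW₁e : Even (finrank F W₁) := by rw [hW₁dim]; exact hceven.mul_left j
  by_cases hm₀0 : m₀ = 0
  · -- W = W₁
    refine ⟨W₁, hW₁i, hW₁nd, by rw [hW₁dim]; omega, ?_⟩
    have hmjc : m = j * c := by omega
    have hmod : m % c = 0 := by rw [hmjc]; exact Nat.mul_mod_left j c
    rw [plus_fpf h2 hs hf r hr2 hrq hfr hW₁i hW₁nd hW₁fix, hW₁dim, ← hmjc]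
    exact (hcl hmod).symm
  · -- W = W₀ ⊔ W₁ with W₀ ≤ Fix f of the right type
    obtain ⟨W₀, hW₀le, hW₀nd, hW₀dim, hW₀type⟩ :=
      exists_nd_of_type h2 hs hFixNd m₀ hm₀e (Nat.pos_of_ne_zero hm₀0) hm₀lt (Plus B W₁ ↔ b)
    have horth : Orth B W₀ W₁ := fun u hu v hv => hW₁orth u (hW₀le hu) v hv
    obtain ⟨hnd, -, hdim⟩ := nd_sup hs hW₀nd hW₁nd horth
    refine ⟨W₀ ⊔ W₁, (asm_inv_of_le_fix hW₀le).sup hW₁i, hnd, by rw [hdim, hW₀dim, hW₁dim]; omega,
      ?_⟩
    rw [plus_sup h2 hs hW₀nd hW₁nd horth (by rw [hW₀dim]; exact hm₀e) hW₁e, hW₀type]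
    tauto

/-- necessity for odd `r`, for an isometry with the largest possible moved part -/
theorem nec_of_fixes (h2 : (2 : F) ≠ 0) (hs : ∀ u v, B u v = B v u)
    (hodd : Odd (finrank F V)) {f : Module.End F V} (hf : Isom B f) (r : ℕ) [Fact r.Prime]
    (hr2 : r ≠ 2) (hrq : ¬ r ∣ Fintype.card F) (hfr : f ^ r = 1) (i c : ℕ)
    (hi : i = orderOf ((Fintype.card F : ℕ) : ZMod r)) (hc : c = if Even i then i else 2 * i)
    (hfd : finrank F ↥(Fix f) = (finrank F V - 1) % c + 1)
    (m : ℕ) (hme : Even m) (b : Prop) {W : Submodule F V} (hWi : Inv f W) (hWnd : Nd B W)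
    (hWdim : finrank F W = m) (hWt : Plus B W ↔ b) :
    m % c < finrank F V % c ∧
      (m % c = 0 → (b ↔ ((Fintype.card F : ℕ) : ZMod r) ^ (m / 2) = 1)) ∧
      (m < c → W ≤ Fix f) := by
  obtain ⟨hipos, hcpos, hceven⟩ := asm_c_pos (F := F) r hrq i c hi hc
  obtain ⟨hW₀nd, s, hs1, -⟩ := sym_blocks h2 hs hf r hr2 hrq hfr i c hi hc hWi hWnd
  set n := finrank F V with hn
  set m₀ := finrank F ↥(W ⊓ Fix f) with hm₀
  have hle : m₀ ≤ finrank F ↥(Fix f) := Submodule.finrank_mono inf_le_right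
  rw [hWdim] at hs1
  have hm₀e : Even m₀ := by
    have h1 : Even (s * c) := hceven.mul_left s
    rcases hme with ⟨t, ht⟩
    rcases h1 with ⟨u, hu⟩
    exact ⟨t - u, by omega⟩
  -- (n-1) % c is even, < c
  have hn1e : Even (n - 1) := by
    rcases hodd with ⟨t, ht⟩
    exact ⟨t, by omega⟩
  have hk'e : Even ((n - 1) % c) := (Nat.even_sub (Nat.mod_le _ _)).1
    (by
      have h1 : (n - 1) - (n - 1) % c = c * ((n - 1) / c) := by
        have := Nat.div_add_mod (n - 1) c; omega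
      rw [h1]; exact hceven.mul_right _) |>.1 hn1e
  have hk'lt : (n - 1) % c < c := Nat.mod_lt _ hcpos
  have hm₀k : m₀ ≤ (n - 1) % c := by
    rcases hm₀e with ⟨t, ht⟩
    rcases hk'e with ⟨u, hu⟩
    omega
  have hm₀c : m₀ < c := by omega
  have hmod : m % c = m₀ := by
    rw [hs1, Nat.add_mul_mod_self_right, Nat.mod_eq_of_lt hm₀c]
  have hnpos : 1 ≤ n := by rcases hodd with ⟨t, ht⟩; omega
  have hnmod : n % c = (n - 1) % c + 1 := by
    have hk'2 : (n - 1) % c + 1 < c := by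
      rcases hk'e with ⟨u, hu⟩
      rcases hceven with ⟨w, hw⟩
      omega
    have h1 : n = (n - 1) + 1 := by omega
    conv_lhs => rw [h1]
    rw [Nat.add_mod, Nat.mod_eq_of_lt (a := 1) (by omega)]
    exact Nat.mod_eq_of_lt hk'2
  refine ⟨by omega, ?_, ?_⟩
  · intro h0
    have hm₀0 : m₀ = 0 := by omega
    have hbot : W ⊓ Fix f = ⊥ := Submodule.finrank_eq_zero.1 hm₀0
    rw [← hWt, plus_fpf h2 hs hf r hr2 hrq hfr hWi hWnd hbot, hWdim]
  · intro hmc
    have hs0 : s = 0 := by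
      by_contra h
      have : c ≤ s * c := Nat.le_mul_of_pos_left c (Nat.pos_of_ne_zero h)
      omega
    have hdimeq : finrank F ↥(W ⊓ Fix f) = finrank F W := by
      rw [hWdim, hs1, hs0]; simp [hm₀]
    have heq : W ⊓ Fix f = W :=
      Submodule.eq_of_le_of_finrank_eq inf_le_left hdimeq
    rw [← heq]
    exact inf_le_right

/-- no isometry of order `r` is supported on a subspace of dimension `< c` -/
theorem no_isom_of_small (h2 : (2 : F) ≠ 0) (hs : ∀ u v, B u v = B v u) (hV : Nd B ⊤)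
    (r : ℕ) [Fact r.Prime] (hr2 : r ≠ 2) (hrq : ¬ r ∣ Fintype.card F) (i c : ℕ)
    (hi : i = orderOf ((Fintype.card F : ℕ) : ZMod r)) (hc : c = if Even i then i else 2 * i)
    {C : Submodule F V} (hCc : finrank F C < c) (g : Module.End F V) (hg : Isom B g)
    (hgr : g ^ r = 1) (hgC : ∀ v, (∀ u ∈ C, B u v = 0) → g v = v) : g = 1 := by
  obtain ⟨hipos, hcpos, hceven⟩ := asm_c_pos (F := F) r hrq i c hi hc
  obtain ⟨-, s, hs1, -⟩ := sym_blocks h2 hs hg r hr2 hrq hgr i c hi hc (inv_top g) hV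
  rw [top_inf_eq, finrank_top] at hs1
  -- C^⊥ ≤ Fix g
  have hBr : LinearMap.BilinForm.IsRefl B := fun u v h => by rw [hs v u]; exact h
  have hle : LinearMap.BilinForm.orthogonal B C ≤ Fix g := by
    intro v hv
    rw [LinearMap.mem_ker, LinearMap.sub_apply, Module.End.one_apply, sub_eq_zero]
    apply hgC v
    intro u hu
    exact hv u hu
  have h1 := LinearMap.BilinForm.finrank_add_finrank_orthogonal hBr C
  have h3 : finrank F ↥(LinearMap.BilinForm.orthogonal B C) ≤ finrank F ↥(Fix g) :=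
    Submodule.finrank_mono hle
  have hs0 : s = 0 := by
    by_contra h
    have : c ≤ s * c := Nat.le_mul_of_pos_left c (Nat.pos_of_ne_zero h)
    omega
  have hfull : finrank F ↥(Fix g) = finrank F V := by rw [hs1, hs0]; simp
  have htop : Fix g = ⊤ := Submodule.eq_top_of_finrank_eq hfull
  ext v
  have hv : v ∈ Fix g := by rw [htop]; exact Submodule.mem_top
  rw [LinearMap.mem_ker, LinearMap.sub_apply, Module.End.one_apply, sub_eq_zero] at hv
  rw [hv, Module.End.one_apply]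

end abstract

end Cfsg.Agent.Lib.Helper5.Hy
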