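import Mathlib
import Cfsg.Prelude.Def_ClassicalGeometry
import Cfsg.Prelude.Def_GeometricClasses
import Cfsg.Agent.Lib.Helper65.QeDefs
import Cfsg.Agent.Lib.Helper55.HySUP
import Cfsg.Agent.Lib.Helper5.HyAsmA

/-! # QE-ASM1 / QE-ASM2 cores (helper5, for helper65's Qe hive S5988, shared with Hq S5974 / Qm S5990)

`asm1_core` = QE-ASM1 `fixesQ_of_mode` and `asm2_core` = QE-ASM2 `mode_of_fixesQ` with the GLUE statements
(`plusQ_sup`, `plusQ_fpf`, `exists_ndQ_of_type`, `q_blocks`) as explicit hypotheses. -/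

set_option autoImplicit false
set_option linter.unusedSectionVars false

namespace Cfsg.Agent.Lib.Helper65.Qe

open Polynomial Module
open Cfsg.Agent.Lib.Helper2.BG Cfsg.Agent.Lib.Helper99 Cfsg.Agent.Lib.Helper48.Ti
open Cfsg.Agent.Lib.Helper5.Hy

section abstract

variable {F V : Type*} [Field F] [Fintype F] [AddCommGroup V] [Module F V] [FiniteDimensional F V]
variable {Q : QuadraticForm F V}

theorem asm1_pol_symm (u v : V) : pol Q u v = pol Q v u :=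
  QuadraticMap.polar_comm Q u v

/-- `PlusQ Q ⊥` -/
theorem asm1_plusQ_bot : PlusQ Q (⊥ : Submodule F V) :=
  ⟨⊥, le_rfl, fun u hu => by rw [(Submodule.mem_bot F).1 hu, map_zero], by simp⟩

section semisimple

variable {f : Module.End F V} (r : ℕ) [Fact r.Prime]

/-- QE-ASM1 with the GLUE statements as hypotheses -/
theorem asm1_core
    (hSUP : ∀ {W₀ W₁ : Submodule F V}, Nd (pol Q) W₀ → Nd (pol Q) W₁ → Orth (pol Q) W₀ W₁ →
      Even (finrank F W₀) → Even (finrank F W₁) →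
      (PlusQ Q (W₀ ⊔ W₁) ↔ (PlusQ Q W₀ ↔ PlusQ Q W₁)))
    (hFPF : ∀ {N : Submodule F V}, Inv f N → Nd (pol Q) N → N ⊓ Fix f = ⊥ →
      (PlusQ Q N ↔ tp F r (finrank F N)))
    (hT3 : ∀ {Z : Submodule F V}, Nd (pol Q) Z → ∀ m₀ : ℕ, Even m₀ → 0 < m₀ → m₀ < finrank F Z →
      ∀ b : Prop, ∃ W₀ : Submodule F V, W₀ ≤ Z ∧ Nd (pol Q) W₀ ∧ finrank F W₀ = m₀ ∧
        (PlusQ Q W₀ ↔ b))
    (c : ℕ) (hcpos : 0 < c) (hceven : Even c)
    (hBLK : ∀ {N : Submodule F V}, Inv f N → Nd (pol Q) N →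
      Nd (pol Q) (N ⊓ Fix f) ∧ ∃ s : ℕ, finrank F N = finrank F ↥(N ⊓ Fix f) + s * c ∧
        ∀ j ≤ s, ∃ W₁ : Submodule F V, W₁ ≤ N ∧ Inv f W₁ ∧ Nd (pol Q) W₁ ∧ W₁ ⊓ Fix f = ⊥ ∧
          Orth (pol Q) (Fix f) W₁ ∧ finrank F W₁ = j * c)
    (hV : Nd (pol Q) ⊤)
    (m : ℕ) (hme : Even m) (b : Prop) (j : ℕ) (hjm : j * c ≤ m)
    (hjs : j * c + finrank F ↥(Fix f) ≤ finrank F V)
    (hmode : (0 < m - j * c ∧ m - j * c < finrank F ↥(Fix f)) ∨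
      (m = j * c ∧ (b ↔ tp F r (j * c))) ∨
      (m - j * c = finrank F ↥(Fix f) ∧ (b ↔ (PlusQ Q (Fix f) ↔ tp F r (j * c))))) :
    FixesQ Q f m b := by
  obtain ⟨hFixNd, s, hs1, hblocks⟩ := hBLK (inv_top f) hV
  have htopfix : (⊤ : Submodule F V) ⊓ Fix f = Fix f := top_inf_eq _
  rw [htopfix] at hs1 hFixNd
  rw [finrank_top] at hs1
  have hjs' : j ≤ s := by
    have h1 : j * c ≤ s * c := by omega
    exact Nat.le_of_mul_le_mul_right h1 hcpos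
  obtain ⟨W₁, -, hW₁i, hW₁nd, hW₁fix, hW₁orth, hW₁dim⟩ := hblocks j hjs'
  have hW₁t : PlusQ Q W₁ ↔ tp F r (j * c) := by
    rw [hFPF hW₁i hW₁nd hW₁fix, hW₁dim]
  have hjce : Even (j * c) := hceven.mul_left j
  have hW₁e : Even (finrank F W₁) := by rw [hW₁dim]; exact hjce
  have hae : Even (m - j * c) := (Nat.even_sub hjm).2 ⟨fun _ => hjce, fun _ => hme⟩
  rcases hmode with ⟨ha0, halt⟩ | ⟨hmj, hb⟩ | ⟨hmj, hb⟩
  · obtain ⟨W₀, hW₀le, hW₀nd, hW₀dim, hW₀type⟩ :=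
      hT3 hFixNd (m - j * c) hae ha0 halt (PlusQ Q W₁ ↔ b)
    have horth : Orth (pol Q) W₀ W₁ := fun u hu v hv => hW₁orth u (hW₀le hu) v hv
    obtain ⟨hnd, -, hdim⟩ := nd_sup asm1_pol_symm hW₀nd hW₁nd horth
    refine ⟨W₀ ⊔ W₁, (asm_inv_of_le_fix hW₀le).sup hW₁i, hnd, by rw [hdim, hW₀dim, hW₁dim]; omega,
      ?_⟩
    rw [hSUP hW₀nd hW₁nd horth (by rw [hW₀dim]; exact hae) hW₁e, hW₀type]
    tauto
  · refine ⟨W₁, hW₁i, hW₁nd, by rw [hW₁dim]; omega, ?_⟩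
    rw [hW₁t]
    exact hb.symm
  · obtain ⟨hnd, -, hdim⟩ := nd_sup asm1_pol_symm hFixNd hW₁nd hW₁orth
    refine ⟨Fix f ⊔ W₁, (asm_inv_of_le_fix le_rfl).sup hW₁i, hnd, by rw [hdim, hW₁dim]; omega, ?_⟩
    rw [hSUP hFixNd hW₁nd hW₁orth (by rw [← hmj]; exact hae) hW₁e, hW₁t]
    exact hb.symm

/-- QE-ASM2 with the GLUE statements as hypotheses -/
theorem asm2_core
    (hSUP : ∀ {W₀ W₁ : Submodule F V}, Nd (pol Q) W₀ → Nd (pol Q) W₁ → Orth (pol Q) W₀ W₁ →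
      Even (finrank F W₀) → Even (finrank F W₁) →
      (PlusQ Q (W₀ ⊔ W₁) ↔ (PlusQ Q W₀ ↔ PlusQ Q W₁)))
    (hFPF : ∀ {N : Submodule F V}, Inv f N → Nd (pol Q) N → N ⊓ Fix f = ⊥ →
      (PlusQ Q N ↔ tp F r (finrank F N)))
    (c : ℕ) (hceven : Even c)
    (hBLK : ∀ {N : Submodule F V}, Inv f N → Nd (pol Q) N →
      Nd (pol Q) (N ⊓ Fix f) ∧ ∃ s : ℕ, finrank F N = finrank F ↥(N ⊓ Fix f) + s * c ∧
        ∀ j ≤ s, ∃ W₁ : Submodule F V, W₁ ≤ N ∧ Inv f W₁ ∧ Nd (pol Q) W₁ ∧ W₁ ⊓ Fix f = ⊥ ∧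
          Orth (pol Q) (Fix f) W₁ ∧ finrank F W₁ = j * c)
    (m : ℕ) (hme : Even m) (b : Prop) (h : FixesQ Q f m b) :
    ∃ j : ℕ, j * c ≤ m ∧ j * c + finrank F ↥(Fix f) ≤ finrank F V ∧
      m - j * c ≤ finrank F ↥(Fix f) ∧
      (m = j * c → (b ↔ tp F r (j * c))) ∧
      (m - j * c = finrank F ↥(Fix f) → (b ↔ (PlusQ Q (Fix f) ↔ tp F r (j * c)))) := by
  obtain ⟨W, hWi, hWnd, hWdim, hWt⟩ := h
  obtain ⟨hW₀nd, s, hs1, hblocks⟩ := hBLK hWi hWnd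
  obtain ⟨W₁, hW₁le, hW₁i, hW₁nd, hW₁fix, hW₁orth, hW₁dim⟩ := hblocks s le_rfl
  rw [hWdim] at hs1
  have hW₁t : PlusQ Q W₁ ↔ tp F r (s * c) := by
    rw [hFPF hW₁i hW₁nd hW₁fix, hW₁dim]
  have hsce : Even (s * c) := hceven.mul_left s
  have hW₁e : Even (finrank F W₁) := by rw [hW₁dim]; exact hsce
  have hle : finrank F ↥(W ⊓ Fix f) ≤ finrank F ↥(Fix f) :=
    Submodule.finrank_mono inf_le_right
  refine ⟨s, by omega, ?_, by omega, ?_, ?_⟩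
  · -- `W₁ ⊕ Fix f ≤ V`
    have h1 := Submodule.finrank_sup_add_finrank_inf_eq W₁ (Fix f)
    rw [hW₁fix, finrank_bot, add_zero] at h1
    have h2 : finrank F ↥(W₁ ⊔ Fix f) ≤ finrank F V := Submodule.finrank_le _
    omega
  · intro hm
    have h0 : finrank F ↥(W ⊓ Fix f) = 0 := by omega
    have hbot : W ⊓ Fix f = ⊥ := Submodule.finrank_eq_zero.1 h0
    rw [← hWt, hFPF hWi hWnd hbot, hWdim, hm]
  · intro hm
    have hdimeq : finrank F ↥(W ⊓ Fix f) = finrank F ↥(Fix f) := by omega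
    have heq : W ⊓ Fix f = Fix f := Submodule.eq_of_le_of_finrank_eq inf_le_right hdimeq
    rw [heq] at hW₀nd
    have hFle : Fix f ≤ W := by rw [← heq]; exact inf_le_left
    obtain ⟨hnd, -, hdim⟩ := nd_sup asm1_pol_symm hW₀nd hW₁nd hW₁orth
    have hsupW : Fix f ⊔ W₁ = W := by
      apply Submodule.eq_of_le_of_finrank_eq (sup_le hFle hW₁le)
      rw [hdim, hW₁dim, hWdim]
      omega
    have hFe : Even (finrank F ↥(Fix f)) := by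
      rw [← hm]
      exact (Nat.even_sub (by omega)).2 ⟨fun _ => hsce, fun _ => hme⟩
    rw [← hWt, ← hsupW, hSUP hW₀nd hW₁nd hW₁orth hFe hW₁e, hW₁t]

end semisimple

end abstract

end Cfsg.Agent.Lib.Helper65.Qe
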