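import Mathlib
import Cfsg.Prelude.Def_ClassicalGeometry
import Cfsg.Prelude.Def_GeometricClasses
import Cfsg.Agent.Lib.Helper65.QeDefs
import Cfsg.Agent.Lib.Helper5.QeASM1core
import Cfsg.Agent.Lib.Helper65.QeLayer

/-! # QE-ASM1 `fixesQ_of_mode` + QE-ASM2 `mode_of_fixesQ` (helper5, for helper65's Qe hive S5988) -/

set_option autoImplicit false
set_option linter.unusedSectionVars false
set_option linter.unusedVariables false

namespace Cfsg.Agent.Lib.Helper65.Qe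

open Polynomial Module
open Cfsg.Agent.Lib.Helper2.BG Cfsg.Agent.Lib.Helper99 Cfsg.Agent.Lib.Helper48.Ti
open Cfsg.Agent.Lib.Helper5.Hy

section abstract

variable {F V : Type*} [Field F] [Fintype F] [AddCommGroup V] [Module F V] [FiniteDimensional F V]
variable {Q : QuadraticForm F V}

section semisimple

variable {f : Module.End F V} (r : ℕ) [Fact r.Prime]

/-- QE-ASM1 (sufficiency) -/
theorem fixesQ_of_mode (hV : Nd (pol Q) ⊤) (hf : IsomQ Q f) (hr2 : r ≠ 2)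
    (hrq : ¬ r ∣ Fintype.card F) (hfr : f ^ r = 1) (i c : ℕ)
    (hi : i = orderOf ((Fintype.card F : ℕ) : ZMod r)) (hc : c = if Even i then i else 2 * i)
    (m : ℕ) (hme : Even m) (b : Prop) (j : ℕ) (hjm : j * c ≤ m)
    (hjs : j * c + finrank F ↥(Fix f) ≤ finrank F V)
    (hmode : (0 < m - j * c ∧ m - j * c < finrank F ↥(Fix f)) ∨
      (m = j * c ∧ (b ↔ tp F r (j * c))) ∨
      (m - j * c = finrank F ↥(Fix f) ∧ (b ↔ (PlusQ Q (Fix f) ↔ tp F r (j * c))))) :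
    FixesQ Q f m b := by
  obtain ⟨-, hcpos, hceven⟩ := asm_c_pos (F := F) r hrq i c hi hc
  exact asm1_core r
    (fun h₀ h₁ ho he₀ he₁ => plusQ_sup h₀ h₁ ho he₀ he₁)
    (fun hNi hN hfix => plusQ_fpf hf r hr2 hrq hfr hNi hN hfix)
    (fun hZ m₀ hme h0 hlt b => exists_ndQ_of_type hZ m₀ hme h0 hlt b)
    c hcpos hceven
    (fun hNi hN => q_blocks hf r hr2 hrq hfr i c hi hc hNi hN)
    hV m hme b j hjm hjs hmode

/-- QE-ASM2 (necessity) -/
theorem mode_of_fixesQ (hV : Nd (pol Q) ⊤) (hf : IsomQ Q f) (hr2 : r ≠ 2)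
    (hrq : ¬ r ∣ Fintype.card F) (hfr : f ^ r = 1) (i c : ℕ)
    (hi : i = orderOf ((Fintype.card F : ℕ) : ZMod r)) (hc : c = if Even i then i else 2 * i)
    (m : ℕ) (hme : Even m) (b : Prop) (h : FixesQ Q f m b) :
    ∃ j : ℕ, j * c ≤ m ∧ j * c + finrank F ↥(Fix f) ≤ finrank F V ∧
      m - j * c ≤ finrank F ↥(Fix f) ∧
      (m = j * c → (b ↔ tp F r (j * c))) ∧
      (m - j * c = finrank F ↥(Fix f) → (b ↔ (PlusQ Q (Fix f) ↔ tp F r (j * c)))) := by
  obtain ⟨-, hcpos, hceven⟩ := asm_c_pos (F := F) r hrq i c hi hc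
  exact asm2_core r
    (fun h₀ h₁ ho he₀ he₁ => plusQ_sup h₀ h₁ ho he₀ he₁)
    (fun hNi hN hfix => plusQ_fpf hf r hr2 hrq hfr hNi hN hfix)
    c hceven
    (fun hNi hN => q_blocks hf r hr2 hrq hfr i c hi hc hNi hN)
    m hme b h

end semisimple

end abstract

end Cfsg.Agent.Lib.Helper65.Qe
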