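import Cfsg.Agent.Lib.Helper14.WeDefs

/-! # We hive (S2347, helper14), leaf WE-MUL (helper5): `R(v) R(w) = ψ(-B(v,w)/2) R(v+w)`, `R(0) = 1`. -/

set_option autoImplicit false

namespace Cfsg.Agent.Lib.Helper14.We

open Matrix Cfsg

section Concrete

variable {F : Type*} [Field F] {n : ℕ}

/-- WE-MUL (a) -/
theorem Rop_mul (ψ : AddChar F ℂ) (h2 : (2 : F) ≠ 0) (v w : VV F n) :
    Rop ψ v * Rop ψ w = ψ (-(Bf v w) / 2) • Rop ψ (v + w) := by
  apply LinearMap.ext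
  intro f
  funext x
  rw [Module.End.mul_apply, Rop_apply, Rop_apply, LinearMap.smul_apply, Pi.smul_apply, smul_eq_mul,
    Rop_apply, ← mul_assoc, ← mul_assoc, ← AddChar.map_add_eq_mul, ← AddChar.map_add_eq_mul]
  have e1 : x + v ∘ Sum.inl + w ∘ Sum.inl = x + (v + w) ∘ Sum.inl := by
    funext i
    simp only [Pi.add_apply, Function.comp_apply]
    ring
  have e2 : (v + w) ∘ Sum.inl = v ∘ Sum.inl + w ∘ Sum.inl := rfl
  have e3 : (v + w) ∘ Sum.inr = v ∘ Sum.inr + w ∘ Sum.inr := rfl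
  rw [e1]
  congr 2
  unfold Bf
  rw [e2, e3]
  simp only [add_dotProduct, dotProduct_add]
  rw [dotProduct_comm (w ∘ Sum.inr) (v ∘ Sum.inl), dotProduct_comm (w ∘ Sum.inl) (v ∘ Sum.inr)]
  field_simp
  ring

/-- WE-MUL (b) -/
theorem Rop_zero (ψ : AddChar F ℂ) : Rop ψ (0 : VV F n) = 1 := by
  apply LinearMap.ext
  intro f
  funext x
  rw [Rop_apply]
  have e1 : (0 : VV F n) ∘ Sum.inl = 0 := rfl
  have e2 : (0 : VV F n) ∘ Sum.inr = 0 := rfl
  rw [e1, e2, zero_dotProduct, zero_dotProduct, zero_div, add_zero, AddChar.map_zero_eq_one,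
    one_mul, add_zero]
  rfl

end Concrete

end Cfsg.Agent.Lib.Helper14.We
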