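import Mathlib

/-! # We hive (S2347, helper14), leaf WE-SCHUR (helper5): an endomorphism commuting with a spanning set of `End W`
is a scalar. -/

set_option autoImplicit false

namespace Cfsg.Agent.Lib.Helper14.We

section Abstract

variable {W : Type*} [AddCommGroup W] [Module ℂ W] [FiniteDimensional ℂ W]

/-- WE-SCHUR -/
theorem scalar_of_commute_span {V : Type*} (R : V → Module.End ℂ W)
    (hspan : Submodule.span ℂ (Set.range R) = ⊤) (S : Module.End ℂ W)
    (hS : ∀ v, S * R v = R v * S) : ∃ c : ℂ, S = c • (1 : Module.End ℂ W) := by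
  have hall : ∀ A : Module.End ℂ W, S * A = A * S := by
    intro A
    have hA : A ∈ Submodule.span ℂ (Set.range R) := by rw [hspan]; exact Submodule.mem_top
    induction hA using Submodule.span_induction with
    | mem x hx =>
      obtain ⟨v, rfl⟩ := hx
      exact hS v
    | zero => rw [mul_zero, zero_mul]
    | add x y _ _ hx hy => rw [mul_add, add_mul, hx, hy]
    | smul a x _ hx => rw [mul_smul_comm, smul_mul_assoc, hx]
  by_cases hW : ∀ x : W, x = 0
  · refine ⟨0, ?_⟩
    ext x
    rw [hW (S x), hW (((0 : ℂ) • (1 : Module.End ℂ W)) x)]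
  · push Not at hW
    obtain ⟨x0, hx0⟩ := hW
    obtain ⟨f0, hf0⟩ := Module.Projective.exists_dual_eq_one ℂ hx0
    refine ⟨f0 (S x0), ?_⟩
    ext y
    have h := LinearMap.congr_fun (hall (f0.smulRight y)) x0
    simp only [Module.End.mul_apply, LinearMap.smulRight_apply, hf0, one_smul] at h
    rw [h]
    simp

end Abstract

end Cfsg.Agent.Lib.Helper14.We
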