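import Mathlib
import Cfsg.Agent.Lib.Helper45.BalanceSkel

set_option autoImplicit false
set_option linter.unusedSimpArgs false
set_option linter.unusedVariables false
set_option linter.unusedSectionVars false
set_option linter.unnecessarySeqFocus false
set_option linter.style.haveILetI false

/-!
# A skeleton for *local balance* (trivial `p'`-core of the centralizer of an automorphism)

Let `P` have trivial centre, `A ≤ Aut(P)` contain the inner automorphisms and `x ∈ Aut(P)`.
If the fixed points of `x` contain a subgroup `L`, normalized by all fixed points, with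
`O_{p'}(L) = 1`, such that no nontrivial `p'`-automorphism of `P` fixes `L` pointwise, then
`O_{p'}(C_A(x)) = 1`.
-/

namespace Cfsg.Agent.Lib.Helper5.BalE

open Cfsg.Agent.Lib.Helper45.Balance

variable {P : Type*} [Group P]

/-- the data of the skeleton, in a form stable under conjugation -/
structure GoodE (p : ℕ) (x : MulAut P) (L : Subgroup P) : Prop where
  fix : ∀ l ∈ L, x l = l
  norm : ∀ k : P, x k = k → ∀ l ∈ L, k * l * k⁻¹ ∈ L
  simple : ∀ M : Subgroup P, M ≤ L → (∀ l ∈ L, ∀ m ∈ M, l * m * l⁻¹ ∈ M) →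
    (Nat.card ↥M).Coprime p → M = ⊥
  cent : ∀ n : MulAut P, (∃ k : ℕ, k.Coprime p ∧ n ^ k = 1) → (∀ l ∈ L, n l = l) → n = 1

theorem GoodE.conj {p : ℕ} {x : MulAut P} {L : Subgroup P} (h : GoodE p x L) (δ : MulAut P) :
    GoodE p (δ * x * δ⁻¹) (L.map δ.toMonoidHom) := by
  have hxk : ∀ k : P, (δ * x * δ⁻¹) k = k → x (δ⁻¹ k) = δ⁻¹ k := by
    intro k hk
    simp only [MulAut.mul_apply] at hk
    apply δ.injective
    rw [hk, MulAut.apply_inv_self]
  refine ⟨?_, ?_, ?_, ?_⟩
  · rintro _ ⟨l, hl, rfl⟩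
    show (δ * x * δ⁻¹) (δ l) = δ l
    simp [MulAut.mul_apply, h.fix l hl]
  · rintro k hk _ ⟨l, hl, rfl⟩
    refine ⟨δ⁻¹ k * l * (δ⁻¹ k)⁻¹, h.norm _ (hxk k hk) l hl, ?_⟩
    show δ (δ⁻¹ k * l * (δ⁻¹ k)⁻¹) = k * δ l * k⁻¹
    simp
  · intro M hML hMinv hMc
    have h1 : M.comap δ.toMonoidHom = ⊥ := by
      apply h.simple
      · intro k hk
        obtain ⟨l, hl, hlk⟩ := hML hk
        have : l = k := δ.injective hlk
        exact this ▸ hl
      · intro l hl m hm
        show δ (l * m * l⁻¹) ∈ M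
        rw [map_mul, map_mul, map_inv]
        exact hMinv _ ⟨l, hl, rfl⟩ _ hm
      · have e : ↥(M.comap δ.toMonoidHom) ≃ ↥M :=
          ⟨fun k => ⟨δ k.1, k.2⟩, fun m => ⟨δ⁻¹ m.1, by
            show δ (δ⁻¹ m.1) ∈ M
            rw [MulAut.apply_inv_self]
            exact m.2⟩, fun k => by
            apply Subtype.ext
            simp, fun m => by
            apply Subtype.ext
            simp⟩
        rwa [Nat.card_congr e]
    rw [eq_bot_iff]
    intro k hk
    have : δ⁻¹ k ∈ M.comap δ.toMonoidHom := by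
      show δ (δ⁻¹ k) ∈ M
      simpa using hk
    rw [h1, Subgroup.mem_bot] at this
    rw [Subgroup.mem_bot]
    have h2 := congrArg δ this
    simpa using h2
  · intro n ⟨k, hkp, hnk⟩ hn
    have h1 : δ⁻¹ * n * δ = 1 := by
      apply h.cent
      · refine ⟨k, hkp, ?_⟩
        have : (δ⁻¹ * n * δ) ^ k = δ⁻¹ * n ^ k * δ := by
          have := map_pow (MulAut.conj δ⁻¹) n k
          simp only [MulAut.conj_apply, inv_inv] at this
          exact this.symm
        rw [this, hnk]
        group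
      · intro l hl
        have := hn (δ l) ⟨l, hl, rfl⟩
        simp only [MulAut.mul_apply]
        rw [this]
        simp
    calc n = δ * (δ⁻¹ * n * δ) * δ⁻¹ := by group
      _ = 1 := by rw [h1]; group

/-- the skeleton theorem: the `p'`-core of the centralizer is trivial -/
theorem GoodE.core_eq_bot [Finite P] (hZ : Function.Injective (MulAut.conj : P →* MulAut P))
    (A : Subgroup (MulAut P)) (hinn : ∀ k : P, MulAut.conj k ∈ A) {p : ℕ}
    {x : MulAut P} {L : Subgroup P} (h : GoodE p x L) :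
    Cfsg.pPrimeCore p ↥(A ⊓ Subgroup.centralizer {x}) = ⊥ := by
  by_contra hne
  obtain ⟨N, hNH, hNn, hNc, hN⟩ := (pPrimeCore_ne_bot_iff p _).1 hne
  apply hN
  have hmemC : ∀ n : MulAut P, n ∈ Subgroup.centralizer ({x} : Set (MulAut P)) ↔ n * x = x * n := by
    intro n
    rw [Subgroup.mem_centralizer_iff]
    constructor
    · intro h
      exact (h x rfl).symm
    · rintro h _ rfl
      exact h.symm
  have hconjC : ∀ k : P, x k = k → MulAut.conj k ∈ A ⊓ Subgroup.centralizer {x} := by
    intro k hk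
    exact ⟨hinn k, (hmemC _).2 ((conj_comm_iff hZ x k).2 hk)⟩
  have hpow : ∀ n ∈ N, ∃ k : ℕ, k.Coprime p ∧ n ^ k = 1 := by
    intro n hn
    refine ⟨Nat.card ↥N, hNc, ?_⟩
    have := pow_card_eq_one' (G := ↥N) (x := ⟨n, hn⟩)
    exact congrArg Subtype.val this
  -- Step 1
  have hM1 : ∀ l ∈ L, MulAut.conj l ∈ N → l = 1 := by
    obtain ⟨M, hM⟩ : ∃ M : Subgroup P, M = L ⊓ N.comap (MulAut.conj : P →* MulAut P) := ⟨_, rfl⟩
    have hML : M ≤ L := hM ▸ inf_le_left
    have hMinv : ∀ l ∈ L, ∀ m ∈ M, l * m * l⁻¹ ∈ M := by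
      intro l hl m hm
      rw [hM] at hm ⊢
      obtain ⟨hm1, hm2⟩ := Subgroup.mem_inf.1 hm
      refine Subgroup.mem_inf.2 ⟨L.mul_mem (L.mul_mem hl hm1) (L.inv_mem hl), ?_⟩
      show MulAut.conj (l * m * l⁻¹) ∈ N
      rw [map_mul, map_mul, map_inv]
      exact hNn _ (hconjC l (h.fix l hl)) _ hm2
    have hMc : (Nat.card ↥M).Coprime p := by
      have h1 : M.map (MulAut.conj : P →* MulAut P) ≤ N := by
        rintro _ ⟨l, hl, rfl⟩
        rw [hM] at hl
        exact (Subgroup.mem_inf.1 hl).2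
      have h2 : Nat.card ↥M ∣ Nat.card ↥N := by
        rw [Nat.card_congr (M.equivMapOfInjective _ hZ).toEquiv]
        exact Subgroup.card_dvd_of_le h1
      exact Nat.Coprime.coprime_dvd_left h2 hNc
    have hbot := h.simple M hML hMinv hMc
    intro l hl hlN
    have : l ∈ M := by rw [hM]; exact Subgroup.mem_inf.2 ⟨hl, hlN⟩
    rw [hbot] at this
    exact this
  -- Step 2
  have hM0 : ∀ k : P, x k = k → MulAut.conj k ∈ N → k = 1 := by
    intro k hk hkN
    apply hZ
    rw [map_one]
    apply h.cent _ (hpow _ hkN)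
    intro l hl
    rw [MulAut.conj_apply]
    have h1 : k * l * k⁻¹ * l⁻¹ = 1 := by
      apply hM1
      · exact L.mul_mem (h.norm k hk l hl) (L.inv_mem hl)
      · have e : MulAut.conj (k * l * k⁻¹ * l⁻¹) = MulAut.conj k *
            (MulAut.conj l * (MulAut.conj k)⁻¹ * (MulAut.conj l)⁻¹) := by
          simp only [map_mul, map_inv]
          group
        rw [e]
        exact N.mul_mem hkN (hNn _ (hconjC l (h.fix l hl)) _ (N.inv_mem hkN))
    calc k * l * k⁻¹ = k * l * k⁻¹ * l⁻¹ * l := by group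
      _ = l := by rw [h1, one_mul]
  -- Step 3
  rw [eq_bot_iff]
  intro n hn
  rw [Subgroup.mem_bot]
  have hnx : n * x = x * n := (hmemC n).1 (hNH hn).2
  apply h.cent n (hpow n hn)
  intro l hl
  have hk : x l = l := h.fix l hl
  have hxn : x (n l) = n l := by
    have := congrArg (fun f : MulAut P => f l) hnx
    simp only [MulAut.mul_apply] at this
    rw [← this, hk]
  have h1 : n l * l⁻¹ = 1 := by
    apply hM0
    · rw [map_mul, map_inv, hxn, hk]
    · have e : MulAut.conj (n l * l⁻¹) = n * (MulAut.conj l * n⁻¹ * (MulAut.conj l)⁻¹) := by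
        rw [map_mul, map_inv]
        have : MulAut.conj (n l) = n * MulAut.conj l * n⁻¹ := by
          ext y
          simp [MulAut.mul_apply, MulAut.conj_apply]
        rw [this]
        group
      rw [e]
      exact N.mul_mem hn (hNn _ (hconjC l hk) _ (N.inv_mem hn))
  exact mul_inv_eq_one.1 h1

end Cfsg.Agent.Lib.Helper5.BalE
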