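import Mathlib
import Cfsg.Agent.Lib.Helper5.BalE
import Cfsg.Agent.Lib.Helper45.AutPSLGF
import Cfsg.Agent.Lib.Helper45.AutPSLField

set_option autoImplicit false
set_option linter.unusedSimpArgs false
set_option linter.unusedVariables false
set_option linter.unusedSectionVars false
set_option linter.unnecessarySeqFocus false
set_option linter.style.haveILetI false

/-!
# Local balance in `Aut(PSL_n(F))`: the subgroups fixed by the standard automorphisms
-/

namespace Cfsg.Agent.Lib.Helper5.Bal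

open Matrix Cfsg.Agent.Lib.Helper5.AutPSLn Cfsg.Agent.Lib.Helper45.AutPSL
  Cfsg.Agent.Lib.Helper5.BalE

variable {n : ℕ} {F : Type*} [Field F]

/-- the elements `x` of `SL_n(F)` with `x g xᵀ = g` -/
def formSL (g : Matrix (Fin n) (Fin n) F) : Subgroup (SpecialLinearGroup (Fin n) F) where
  carrier := {x | x.1 * g * x.1ᵀ = g}
  mul_mem' {a b} ha hb := by
    show (a * b).1 * g * ((a * b).1)ᵀ = g
    have ha' : a.1 * g * a.1ᵀ = g := ha
    have hb' : b.1 * g * b.1ᵀ = g := hb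
    rw [val_mul, Matrix.transpose_mul]
    calc a.1 * b.1 * g * (b.1ᵀ * a.1ᵀ) = a.1 * (b.1 * g * b.1ᵀ) * a.1ᵀ := by
          simp only [Matrix.mul_assoc]
      _ = g := by rw [hb', ha']
  one_mem' := by
    show (1 : SpecialLinearGroup (Fin n) F).1 * g * ((1 : SpecialLinearGroup (Fin n) F).1)ᵀ = g
    simp [val_one]
  inv_mem' {a} ha := by
    show (a⁻¹).1 * g * ((a⁻¹).1)ᵀ = g
    have ha' : a.1 * g * a.1ᵀ = g := ha
    have h1 : (a⁻¹).1 * a.1 = 1 := by rw [← val_mul, inv_mul_cancel, val_one]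
    have h2 : a.1ᵀ * ((a⁻¹).1)ᵀ = 1 := by
      rw [← Matrix.transpose_mul, h1, Matrix.transpose_one]
    calc (a⁻¹).1 * g * ((a⁻¹).1)ᵀ = (a⁻¹).1 * (a.1 * g * a.1ᵀ) * ((a⁻¹).1)ᵀ := by rw [ha']
      _ = ((a⁻¹).1 * a.1) * g * (a.1ᵀ * ((a⁻¹).1)ᵀ) := by simp only [Matrix.mul_assoc]
      _ = g := by rw [h1, h2, Matrix.one_mul, Matrix.mul_one]

lemma mem_formSL {g : Matrix (Fin n) (Fin n) F} {x : SpecialLinearGroup (Fin n) F} :
    x ∈ formSL g ↔ x.1 * g * x.1ᵀ = g := Iff.rfl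

/-- the image in `PSL_n(F)` of the special isometry group of `g` -/
def LG (g : Matrix (Fin n) (Fin n) F) : Subgroup (Matrix.ProjectiveSpecialLinearGroup (Fin n) F) :=
  (formSL g).map pr

/-- the elements of `SL_n(F)` fixed by `σ` entrywise -/
def fixSL (σ : F ≃+* F) : Subgroup (SpecialLinearGroup (Fin n) F) where
  carrier := {x | fieldS σ x = x}
  mul_mem' {a b} ha hb := by
    show fieldS σ (a * b) = a * b
    rw [map_mul, show fieldS σ a = a from ha, show fieldS σ b = b from hb]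
  one_mem' := map_one _
  inv_mem' {a} ha := by
    show fieldS σ a⁻¹ = a⁻¹
    rw [map_inv, show fieldS σ a = a from ha]

lemma mem_fixSL {σ : F ≃+* F} {x : SpecialLinearGroup (Fin n) F} :
    x ∈ fixSL σ ↔ fieldS σ x = x := Iff.rfl

/-- the image in `PSL_n(F)` of `SL_n(F₀)`, `F₀` the fixed field of `σ` -/
def L0 (σ : F ≃+* F) : Subgroup (Matrix.ProjectiveSpecialLinearGroup (Fin n) F) :=
  (fixSL σ).map pr

/-- the image in `PSL_n(F)` of `SU_n(q₀)` -/
def LU (n : ℕ) (F : Type*) [Field F] (q₀ : ℕ) :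
    Subgroup (Matrix.ProjectiveSpecialLinearGroup (Fin n) F) :=
  (Cfsg.SU n F q₀).map pr

end Cfsg.Agent.Lib.Helper5.Bal
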