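import Mathlib
import Cfsg.Agent.Lib.Helper5.BalDefs
import Cfsg.Agent.Lib.Helper5.AutPSLnNF
import Cfsg.Agent.Lib.Helper5.AutPSLnGraphField

set_option autoImplicit false
set_option linter.unusedSimpArgs false
set_option linter.unusedVariables false
set_option linter.unusedSectionVars false
set_option linter.unnecessarySeqFocus false
set_option linter.style.haveILetI false

/-!
# Local balance in `Aut(PSL_n(F))`: reductions to matrix statements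
-/

namespace Cfsg.Agent.Lib.Helper5.Bal

open Matrix Cfsg.Agent.Lib.Helper5.AutPSLn Cfsg.Agent.Lib.Helper45.AutPSL
  Cfsg.Agent.Lib.Helper5.BalE

variable {n : ℕ} {F : Type*} [Field F]

/-- powers of a normal form -/
lemma pow_nf (g : GL (Fin n) F) (σ : F ≃+* F) (ε : ZMod 2) (k : ℕ) :
    ∃ g' : GL (Fin n) F,
      (Gam g * Phi σ * IotaPow ε : MulAut (Matrix.ProjectiveSpecialLinearGroup (Fin n) F)) ^ k =
        Gam g' * Phi (σ ^ k) * IotaPow (k • ε) := by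
  induction k with
  | zero =>
    refine ⟨1, ?_⟩
    rw [pow_zero, pow_zero, zero_smul, IotaPow_zero, map_one, map_one, mul_one, mul_one]
  | succ k ih =>
    obtain ⟨g', hg'⟩ := ih
    obtain ⟨g'', hg''⟩ := nf_mul g' (σ ^ k) (k • ε) g σ ε
    refine ⟨g'', ?_⟩
    rw [pow_succ, hg', hg'', pow_succ, succ_nsmul]

/-- an automorphism in normal form with trivial `k`-th power -/
lemma nf_pow_eq_one (hn : 3 ≤ n) {g : GL (Fin n) F} {σ : F ≃+* F} {ε : ZMod 2} {k : ℕ}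
    (h : (Gam g * Phi σ * IotaPow ε : MulAut (Matrix.ProjectiveSpecialLinearGroup (Fin n) F)) ^ k
      = 1) : σ ^ k = 1 ∧ k • ε = 0 := by
  obtain ⟨g', hg'⟩ := pow_nf g σ ε k
  rw [h] at hg'
  have e : (Gam (1 : GL (Fin n) F) * Phi (1 : F ≃+* F) * IotaPow 0 :
      MulAut (Matrix.ProjectiveSpecialLinearGroup (Fin n) F)) =
      Gam g' * Phi (σ ^ k) * IotaPow (k • ε) := by
    rw [← hg', map_one, map_one, IotaPow_zero, mul_one, mul_one]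
  obtain ⟨h1, h2⟩ := nf_unique (by rw [Fintype.card_fin]; exact hn) e
  exact ⟨h1.symm, h2.symm⟩

/-- the fixed points of `Gam g * Iota` contain the isometries of `g` -/
lemma LG_fix (g : GL (Fin n) F) :
    ∀ l ∈ LG g.1, (Gam g * Iota : MulAut (Matrix.ProjectiveSpecialLinearGroup (Fin n) F)) l = l := by
  rintro _ ⟨x, hx, rfl⟩
  rw [MulAut.mul_apply, Iota_pr, Gam_pr]
  congr 1
  apply Subtype.ext
  rw [conjS_coe, invT_coe]
  have hx' : x.1 * g.1 * x.1ᵀ = g.1 := hx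
  have h1 : x.1ᵀ * ((x⁻¹).1)ᵀ = 1 := by
    rw [← Matrix.transpose_mul, ← val_mul, inv_mul_cancel, val_one, Matrix.transpose_one]
  have h2 : g.1 * (g⁻¹).1 = 1 := by rw [← Units.val_mul, mul_inv_cancel]; rfl
  calc g.1 * ((x⁻¹).1)ᵀ * (g⁻¹).1 = (x.1 * g.1 * x.1ᵀ) * ((x⁻¹).1)ᵀ * (g⁻¹).1 := by rw [hx']
    _ = x.1 * g.1 * (x.1ᵀ * ((x⁻¹).1)ᵀ) * (g⁻¹).1 := by simp only [Matrix.mul_assoc]
    _ = x.1 * (g.1 * (g⁻¹).1) := by rw [h1, Matrix.mul_one, Matrix.mul_assoc]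
    _ = x.1 := by rw [h2, Matrix.mul_one]

/-- the fixed points of `Gam g * Iota` are similitudes of `g` -/
lemma fix_beta_iff (hn : 1 ≤ n) (g : GL (Fin n) F) (y : SpecialLinearGroup (Fin n) F)
    (h : (Gam g * Iota : MulAut (Matrix.ProjectiveSpecialLinearGroup (Fin n) F)) (pr y) = pr y) :
    ∃ c : F, c ≠ 0 ∧ y.1 * g.1 * y.1ᵀ = c • g.1 := by
  rw [MulAut.mul_apply, Iota_pr, Gam_pr] at h
  obtain ⟨r, hr, hr2⟩ := exists_smul_of_pr_eq h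
  rw [conjS_coe, invT_coe] at hr2
  have hr0 : r ≠ 0 := by
    rintro rfl
    rw [Fintype.card_fin, zero_pow (by omega)] at hr
    exact zero_ne_one hr
  refine ⟨r, hr0, ?_⟩
  have h1 : ((y⁻¹).1)ᵀ * y.1ᵀ = 1 := by
    rw [← Matrix.transpose_mul, ← val_mul, mul_inv_cancel, val_one, Matrix.transpose_one]
  have h2 : (g⁻¹).1 * g.1 = 1 := by rw [← Units.val_mul, inv_mul_cancel]; rfl
  calc y.1 * g.1 * y.1ᵀ = (r • (g.1 * ((y⁻¹).1)ᵀ * (g⁻¹).1)) * g.1 * y.1ᵀ := by rw [← hr2]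
    _ = r • (g.1 * ((y⁻¹).1)ᵀ * ((g⁻¹).1 * g.1) * y.1ᵀ) := by
        simp only [Matrix.smul_mul, Matrix.mul_assoc]
    _ = r • (g.1 * (((y⁻¹).1)ᵀ * y.1ᵀ)) := by rw [h2, Matrix.mul_one, Matrix.mul_assoc]
    _ = r • g.1 := by rw [h1, Matrix.mul_one]

end Cfsg.Agent.Lib.Helper5.Bal

namespace Cfsg.Agent.Lib.Helper5.Bal

open Matrix Cfsg.Agent.Lib.Helper5.AutPSLn Cfsg.Agent.Lib.Helper45.AutPSL
  Cfsg.Agent.Lib.Helper5.BalE

variable {n : ℕ} {F : Type*} [Field F]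

lemma sl_inv_mul (y : SpecialLinearGroup (Fin n) F) : (y⁻¹).1 * y.1 = 1 := by
  rw [← val_mul, inv_mul_cancel, val_one]

lemma sl_mul_inv (y : SpecialLinearGroup (Fin n) F) : y.1 * (y⁻¹).1 = 1 := by
  rw [← val_mul, mul_inv_cancel, val_one]

/-- the fixed points of `Gam g * Iota` normalize the isometries of `g` -/
lemma LG_norm (hn : 1 ≤ n) (g : GL (Fin n) F) :
    ∀ k : Matrix.ProjectiveSpecialLinearGroup (Fin n) F,
      (Gam g * Iota : MulAut (Matrix.ProjectiveSpecialLinearGroup (Fin n) F)) k = k →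
      ∀ l ∈ LG g.1, k * l * k⁻¹ ∈ LG g.1 := by
  intro k hk l hl
  obtain ⟨y, rfl⟩ := pr_surjective k
  obtain ⟨z, hz, rfl⟩ := hl
  obtain ⟨c, hc0, hc⟩ := fix_beta_iff hn g y hk
  refine ⟨y * z * y⁻¹, ?_, by rw [map_mul, map_mul, map_inv]⟩
  have hz' : z.1 * g.1 * z.1ᵀ = g.1 := hz
  show (y * z * y⁻¹).1 * g.1 * ((y * z * y⁻¹).1)ᵀ = g.1
  rw [val_mul, val_mul, Matrix.transpose_mul, Matrix.transpose_mul]
  have h1 : (y⁻¹).1 * g.1 * ((y⁻¹).1)ᵀ = c⁻¹ • g.1 := by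
    have h2 : ((y⁻¹).1 * y.1) * g.1 * (y.1ᵀ * ((y⁻¹).1)ᵀ) = c • ((y⁻¹).1 * g.1 * ((y⁻¹).1)ᵀ) := by
      calc ((y⁻¹).1 * y.1) * g.1 * (y.1ᵀ * ((y⁻¹).1)ᵀ)
          = (y⁻¹).1 * (y.1 * g.1 * y.1ᵀ) * ((y⁻¹).1)ᵀ := by simp only [Matrix.mul_assoc]
        _ = c • ((y⁻¹).1 * g.1 * ((y⁻¹).1)ᵀ) := by
            rw [hc]; simp only [Matrix.mul_smul, Matrix.smul_mul]
    rw [sl_inv_mul, ← Matrix.transpose_mul, sl_inv_mul, Matrix.transpose_one, Matrix.one_mul,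
      Matrix.mul_one] at h2
    exact ((inv_smul_eq_iff₀ hc0).2 h2).symm
  calc y.1 * z.1 * (y⁻¹).1 * g.1 * (((y⁻¹).1)ᵀ * (z.1ᵀ * y.1ᵀ))
      = y.1 * z.1 * ((y⁻¹).1 * g.1 * ((y⁻¹).1)ᵀ) * z.1ᵀ * y.1ᵀ := by simp only [Matrix.mul_assoc]
    _ = c⁻¹ • (y.1 * (z.1 * g.1 * z.1ᵀ) * y.1ᵀ) := by
        rw [h1]; simp only [Matrix.mul_smul, Matrix.smul_mul, Matrix.mul_assoc]
    _ = g.1 := by rw [hz', hc, smul_smul, inv_mul_cancel₀ hc0, one_smul]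

/-- membership in `SU_n(q₀)` through matrices -/
lemma mem_SU_iff_mul [Fintype F] (σ : F ≃+* F) {q₀ : ℕ} (hσ : ∀ a, σ a = a ^ q₀)
    (x : SpecialLinearGroup (Fin n) F) :
    x ∈ Cfsg.SU n F q₀ ↔ x.1ᵀ * x.1.map σ = 1 :=
  mem_GU_iff_mul σ hσ (Matrix.SpecialLinearGroup.toGL x)

end Cfsg.Agent.Lib.Helper5.Bal

namespace Cfsg.Agent.Lib.Helper5.Bal

open Matrix Cfsg.Agent.Lib.Helper5.AutPSLn Cfsg.Agent.Lib.Helper45.AutPSL
  Cfsg.Agent.Lib.Helper5.BalE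

variable {n : ℕ} {F : Type*} [Field F]

lemma map_sigma_sigma (σ : F ≃+* F) (hσ2 : ∀ a, σ (σ a) = a) (A : Matrix (Fin n) (Fin n) F) :
    (A.map σ).map σ = A := by
  ext i j
  exact hσ2 _

lemma map_sigma_mul (σ : F ≃+* F) (A B : Matrix (Fin n) (Fin n) F) :
    (A * B).map σ = A.map σ * B.map σ := by
  exact Matrix.map_mul (f := σ)

lemma map_sigma_one (σ : F ≃+* F) : (1 : Matrix (Fin n) (Fin n) F).map σ = 1 := by
  have := Matrix.map_one (n := Fin n) (σ : F → F) (map_zero σ) (map_one σ)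
  exact this

lemma map_sigma_smul (σ : F ≃+* F) (c : F) (A : Matrix (Fin n) (Fin n) F) :
    (c • A).map σ = σ c • A.map σ := by
  ext i j
  simp

lemma map_sigma_transpose (σ : F ≃+* F) (A : Matrix (Fin n) (Fin n) F) :
    (Aᵀ).map σ = (A.map σ)ᵀ := rfl

/-- for a unitary matrix, `σ(x) = x^{-T}` -/
lemma su_map_eq [Fintype F] (σ : F ≃+* F) {q₀ : ℕ} (hσ : ∀ a, σ a = a ^ q₀)
    {x : SpecialLinearGroup (Fin n) F} (hx : x ∈ Cfsg.SU n F q₀) :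
    x.1.map σ = ((x⁻¹).1)ᵀ := by
  have h := (mem_SU_iff_mul σ hσ x).1 hx
  have h1 : ((x⁻¹).1)ᵀ * x.1ᵀ = 1 := by
    rw [← Matrix.transpose_mul, sl_mul_inv, Matrix.transpose_one]
  calc x.1.map σ = (((x⁻¹).1)ᵀ * x.1ᵀ) * x.1.map σ := by rw [h1, Matrix.one_mul]
    _ = ((x⁻¹).1)ᵀ * (x.1ᵀ * x.1.map σ) := by rw [Matrix.mul_assoc]
    _ = ((x⁻¹).1)ᵀ := by rw [h, Matrix.mul_one]

/-- `SU_n(q₀)` is fixed by the graph-field automorphism -/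
lemma LU_fix [Fintype F] (σ : F ≃+* F) (hσ2 : ∀ a, σ (σ a) = a) {q₀ : ℕ}
    (hσ : ∀ a, σ a = a ^ q₀) :
    ∀ l ∈ LU n F q₀, (PhiIota σ : MulAut (Matrix.ProjectiveSpecialLinearGroup (Fin n) F)) l = l := by
  rintro _ ⟨x, hx, rfl⟩
  unfold PhiIota
  rw [MulAut.mul_apply, Iota_pr, Phi_pr]
  congr 1
  apply Subtype.ext
  rw [fieldS_coe', invT_coe, ← su_map_eq σ hσ hx, map_sigma_sigma σ hσ2]

/-- the fixed points of the graph-field automorphism: `σ(y) yᵀ` is scalar -/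
lemma fix_PhiIota [Fintype F] (hn : 1 ≤ n) (σ : F ≃+* F) (hσ2 : ∀ a, σ (σ a) = a)
    (y : SpecialLinearGroup (Fin n) F)
    (h : (PhiIota σ : MulAut (Matrix.ProjectiveSpecialLinearGroup (Fin n) F)) (pr y) = pr y) :
    ∃ d : F, d ≠ 0 ∧ y.1.map σ * y.1ᵀ = d • (1 : Matrix (Fin n) (Fin n) F) := by
  unfold PhiIota at h
  rw [MulAut.mul_apply, Iota_pr, Phi_pr] at h
  obtain ⟨r, hr, hr2⟩ := exists_smul_of_pr_eq h
  rw [fieldS_coe', invT_coe] at hr2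
  have hr0 : r ≠ 0 := by
    rintro rfl
    rw [Fintype.card_fin, zero_pow (by omega)] at hr
    exact zero_ne_one hr
  refine ⟨σ r, by simpa using hr0, ?_⟩
  have h1 : y.1.map σ = σ r • ((y⁻¹).1)ᵀ := by
    rw [hr2, map_sigma_smul, map_sigma_sigma σ hσ2]
  rw [h1, Matrix.smul_mul, ← Matrix.transpose_mul, sl_mul_inv, Matrix.transpose_one]

/-- the fixed points of the graph-field automorphism normalize `SU_n(q₀)` -/
lemma LU_norm [Fintype F] (hn : 1 ≤ n) (σ : F ≃+* F) (hσ2 : ∀ a, σ (σ a) = a) {q₀ : ℕ}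
    (hσ : ∀ a, σ a = a ^ q₀) :
    ∀ k : Matrix.ProjectiveSpecialLinearGroup (Fin n) F,
      (PhiIota σ : MulAut (Matrix.ProjectiveSpecialLinearGroup (Fin n) F)) k = k →
      ∀ l ∈ LU n F q₀, k * l * k⁻¹ ∈ LU n F q₀ := by
  intro k hk l hl
  obtain ⟨y, rfl⟩ := pr_surjective k
  obtain ⟨z, hz, rfl⟩ := hl
  obtain ⟨d, hd0, hd⟩ := fix_PhiIota hn σ hσ2 y hk
  refine ⟨y * z * y⁻¹, ?_, by rw [map_mul, map_mul, map_inv]⟩
  apply (mem_SU_iff_mul σ hσ _).2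
  have hz' := (mem_SU_iff_mul σ hσ z).1 hz
  -- `yᵀ σ(y) = d`
  have hd' : y.1ᵀ * y.1.map σ = d • (1 : Matrix (Fin n) (Fin n) F) := by
    have h1 : ((y⁻¹).1.map σ) * (y.1.map σ) = 1 := by
      rw [← map_sigma_mul, sl_inv_mul, map_sigma_one]
    have h2 : y.1ᵀ = d • (y⁻¹).1.map σ := by
      calc y.1ᵀ = ((y⁻¹).1.map σ * y.1.map σ) * y.1ᵀ := by rw [h1, Matrix.one_mul]
        _ = (y⁻¹).1.map σ * (y.1.map σ * y.1ᵀ) := by rw [Matrix.mul_assoc]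
        _ = d • (y⁻¹).1.map σ := by rw [hd, Matrix.mul_smul, Matrix.mul_one]
    rw [h2, Matrix.smul_mul, h1]
  have hi : ((y⁻¹).1)ᵀ * (y⁻¹).1.map σ = d⁻¹ • (1 : Matrix (Fin n) (Fin n) F) := by
    have h1 : (((y⁻¹).1)ᵀ * (y⁻¹).1.map σ) * (y.1.map σ * y.1ᵀ) = 1 := by
      calc (((y⁻¹).1)ᵀ * (y⁻¹).1.map σ) * (y.1.map σ * y.1ᵀ)
          = ((y⁻¹).1)ᵀ * ((y⁻¹).1.map σ * y.1.map σ) * y.1ᵀ := by simp only [Matrix.mul_assoc]
        _ = 1 := by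
            rw [← map_sigma_mul, sl_inv_mul, map_sigma_one, Matrix.mul_one, ← Matrix.transpose_mul,
              sl_mul_inv, Matrix.transpose_one]
    rw [hd, Matrix.mul_smul, Matrix.mul_one] at h1
    calc ((y⁻¹).1)ᵀ * (y⁻¹).1.map σ = d⁻¹ • (d • (((y⁻¹).1)ᵀ * (y⁻¹).1.map σ)) := by
          rw [smul_smul, inv_mul_cancel₀ hd0, one_smul]
      _ = d⁻¹ • 1 := by rw [h1]
  show ((y * z * y⁻¹).1)ᵀ * ((y * z * y⁻¹).1).map σ = 1
  rw [val_mul, val_mul, Matrix.transpose_mul, Matrix.transpose_mul, map_sigma_mul, map_sigma_mul]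
  calc ((y⁻¹).1)ᵀ * (z.1ᵀ * y.1ᵀ) * (y.1.map σ * z.1.map σ * (y⁻¹).1.map σ)
      = ((y⁻¹).1)ᵀ * z.1ᵀ * (y.1ᵀ * y.1.map σ) * z.1.map σ * (y⁻¹).1.map σ := by
        simp only [Matrix.mul_assoc]
    _ = d • (((y⁻¹).1)ᵀ * (z.1ᵀ * z.1.map σ) * (y⁻¹).1.map σ) := by
        rw [hd']; simp only [Matrix.mul_smul, Matrix.smul_mul, Matrix.mul_one, Matrix.mul_assoc]
    _ = 1 := by
        rw [hz', Matrix.mul_one, hi, smul_smul, mul_inv_cancel₀ hd0, one_smul]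

/-- `SL_n(F₀)` is fixed by the field automorphism -/
lemma L0_fix (σ : F ≃+* F) :
    ∀ l ∈ L0 (n := n) σ, (Phi σ : MulAut (Matrix.ProjectiveSpecialLinearGroup (Fin n) F)) l = l := by
  rintro _ ⟨x, hx, rfl⟩
  rw [Phi_pr, show fieldS σ x = x from hx]

/-- the fixed points of the field automorphism normalize `SL_n(F₀)` -/
lemma L0_norm (σ : F ≃+* F) :
    ∀ k : Matrix.ProjectiveSpecialLinearGroup (Fin n) F,
      (Phi σ : MulAut (Matrix.ProjectiveSpecialLinearGroup (Fin n) F)) k = k →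
      ∀ l ∈ L0 σ, k * l * k⁻¹ ∈ L0 σ := by
  intro k hk l hl
  obtain ⟨y, rfl⟩ := pr_surjective k
  obtain ⟨z, hz, rfl⟩ := hl
  rw [Phi_pr] at hk
  have hc : y⁻¹ * fieldS σ y ∈ Subgroup.center (SpecialLinearGroup (Fin n) F) :=
    QuotientGroup.eq.1 hk.symm
  refine ⟨y * z * y⁻¹, ?_, by rw [map_mul, map_mul, map_inv]⟩
  show fieldS σ (y * z * y⁻¹) = y * z * y⁻¹
  have hz' : fieldS σ z = z := hz
  obtain ⟨c, hc1⟩ : ∃ c, c = y⁻¹ * fieldS σ y := ⟨_, rfl⟩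
  have hy : fieldS σ y = y * c := by rw [hc1]; group
  rw [← hc1] at hc
  have hcz : c * z = z * c := (Subgroup.mem_center_iff.1 hc z).symm
  rw [map_mul, map_mul, map_inv, hy, hz']
  calc y * c * z * (y * c)⁻¹ = y * (c * z) * c⁻¹ * y⁻¹ := by group
    _ = y * z * y⁻¹ := by rw [hcz]; group

end Cfsg.Agent.Lib.Helper5.Bal

namespace Cfsg.Agent.Lib.Helper5.Bal

open Matrix Cfsg.Agent.Lib.Helper5.AutPSLn Cfsg.Agent.Lib.Helper45.AutPSL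
  Cfsg.Agent.Lib.Helper5.BalE

variable {n : ℕ} {F : Type*} [Field F]

/-- an automorphism `Gam k * Phi τ` fixing the class of `x`: matrix form -/
lemma mat_of_fix (hn : 1 ≤ n) (k : GL (Fin n) F) (τ : F ≃+* F) (x : SpecialLinearGroup (Fin n) F)
    (h : (Gam k * Phi τ : MulAut (Matrix.ProjectiveSpecialLinearGroup (Fin n) F)) (pr x) = pr x) :
    ∃ c : F, k.1 * x.1.map τ * (k⁻¹).1 = c • x.1 := by
  rw [MulAut.mul_apply, Phi_pr, Gam_pr] at h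
  obtain ⟨r, hr, hr2⟩ := exists_smul_of_pr_eq h.symm
  rw [conjS_coe, fieldS_coe'] at hr2
  exact ⟨r, hr2⟩

/-- an automorphism `Gam k * Phi τ * Iota` fixing the class of `x`: matrix form -/
lemma mat_of_fix_iota (hn : 1 ≤ n) (k : GL (Fin n) F) (τ : F ≃+* F)
    (x : SpecialLinearGroup (Fin n) F)
    (h : (Gam k * Phi τ * Iota : MulAut (Matrix.ProjectiveSpecialLinearGroup (Fin n) F)) (pr x) =
      pr x) :
    ∃ c : F, k.1 * (((x⁻¹).1)ᵀ).map τ * (k⁻¹).1 = c • x.1 := by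
  rw [MulAut.mul_apply, Iota_pr, MulAut.mul_apply, Phi_pr, Gam_pr] at h
  obtain ⟨r, hr, hr2⟩ := exists_smul_of_pr_eq h.symm
  rw [conjS_coe, fieldS_coe', invT_coe] at hr2
  exact ⟨r, hr2⟩

lemma zmod2_odd_smul {j : ℕ} (hj : j.Coprime 2) (ε : ZMod 2) (h : j • ε = 0) : ε = 0 := by
  have hodd : Odd j := Nat.odd_iff.2 (by
    rcases Nat.mod_two_eq_zero_or_one j with h0 | h1
    · exfalso
      have : 2 ∣ j := Nat.dvd_of_mod_eq_zero h0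
      have := Nat.Coprime.eq_one_of_dvd hj.symm this
      omega
    · exact h1)
  obtain ⟨m, rfl⟩ := hodd
  revert h
  rw [add_smul, mul_smul, one_smul]
  have : (2 : ℕ) • ε = 0 := by
    revert ε; decide
  rw [smul_comm, this, smul_zero, zero_add]
  exact id

/-- **reduction of the centralizer condition to matrices** -/
theorem cent_of_mat [Fintype F] (hn : 3 ≤ n) (r : ℕ) [Fact r.Prime] [CharP F r]
    (S : Subgroup (SpecialLinearGroup (Fin n) F))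
    (hS : ∀ (k : GL (Fin n) F) (τ : F ≃+* F),
      (∀ x ∈ S, ∃ c : F, k.1 * x.1.map τ * (k⁻¹).1 = c • x.1) →
        τ = 1 ∧ k ∈ Subgroup.center (GL (Fin n) F)) :
    ∀ ν : MulAut (Matrix.ProjectiveSpecialLinearGroup (Fin n) F),
      (∃ j : ℕ, j.Coprime 2 ∧ ν ^ j = 1) → (∀ l ∈ S.map pr, ν l = l) → ν = 1 := by
  rintro ν ⟨j, hj, hνj⟩ hν
  obtain ⟨k, τ, ε, rfl⟩ := exists_nf (by omega) r ν
  obtain ⟨-, h2⟩ := nf_pow_eq_one hn hνj
  have hε : ε = 0 := zmod2_odd_smul hj ε h2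
  subst hε
  rw [IotaPow_zero, mul_one] at hν ⊢
  obtain ⟨hτ, hk⟩ := hS k τ (fun x hx => mat_of_fix (by omega) k τ x (hν _ ⟨x, hx, rfl⟩))
  rw [hτ, map_one, mul_one, ← MonoidHom.mem_ker, Gam_ker2 (by omega)]
  exact hk

end Cfsg.Agent.Lib.Helper5.Bal
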