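import Cfsg.Agent.Lib.Helper21.Lq.Defs
import Cfsg.Agent.Lib.Helper13.SpParabolic

set_option autoImplicit false

namespace Cfsg.Agent.Lib.Helper21.Lq

open Module Cfsg.Agent.Lib.Helper6.Ls Cfsg.Agent.Lib.Helper13

section concrete

variable {F : Type*} [Field F] [Fintype F]

/-! ### field lemmas -/

theorem corb5_sq_inj [CharP F 2] {a b : F} (h : a ^ 2 = b ^ 2) : a = b := by
  have h2 : (a + b) ^ 2 = 0 := by
    rw [CharTwo.add_sq, h, CharTwo.add_self_eq_zero]
  have h3 : a + b = 0 := by simpa using h2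
  exact CharTwo.add_eq_zero.mp h3

theorem corb5_sqrt [CharP F 2] (a : F) : ∃ r : F, r ^ 2 = a := by
  have hinj : Function.Injective (fun r : F => r ^ 2) := fun x y h => corb5_sq_inj h
  exact (Finite.injective_iff_surjective.mp hinj) a

theorem corb5_char_repr (ψ : AddChar F ℂ) (hψ : ψ ≠ 1) (χ : AddChar F ℂ) :
    ∃ a : F, ∀ s, χ s = ψ (a * s) := by
  classical
  have hprim : ψ.IsPrimitive := AddChar.IsPrimitive.of_ne_one hψ
  have hinj : Function.Injective (fun a : F => ψ.mulShift a) :=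
    AddChar.to_mulShift_inj_of_isPrimitive hprim
  have hcard : Fintype.card (AddChar F ℂ) = Fintype.card F := AddChar.card_eq
  have hsurj : Function.Surjective (fun a : F => ψ.mulShift a) :=
    ((Fintype.bijective_iff_injective_and_card _).mpr ⟨hinj, hcard.symm⟩).2
  obtain ⟨a, ha⟩ := hsurj χ
  refine ⟨a, fun s => ?_⟩
  rw [← ha]
  rfl

theorem corb5_shift_inj (ψ : AddChar F ℂ) (hψ : ψ ≠ 1) {a b : F}
    (h : ∀ s, ψ (a * s) = ψ (b * s)) : a = b := by
  have hprim : ψ.IsPrimitive := AddChar.IsPrimitive.of_ne_one hψ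
  have hinj : Function.Injective (fun a : F => ψ.mulShift a) :=
    AddChar.to_mulShift_inj_of_isPrimitive hprim
  apply hinj
  show ψ.mulShift a = ψ.mulShift b
  ext s
  exact h s

theorem corb5_kappa [CharP F 2] (ψ : AddChar F ℂ) (hψ : ψ ≠ 1) :
    ∃ κ : F, κ ≠ 0 ∧ ∀ s, ψ (s ^ 2) = ψ (κ * s) := by
  let χ : AddChar F ℂ := ⟨fun s => ψ (s ^ 2), by
      show ψ ((0 : F) ^ 2) = 1
      rw [zero_pow (by norm_num), AddChar.map_zero_eq_one], fun s t => by
      show ψ ((s + t) ^ 2) = ψ (s ^ 2) * ψ (t ^ 2)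
      rw [CharTwo.add_sq, AddChar.map_add_eq_mul]⟩
  obtain ⟨κ, hκ⟩ := corb5_char_repr ψ hψ χ
  refine ⟨κ, ?_, fun s => hκ s⟩
  rintro rfl
  apply hψ
  ext s
  obtain ⟨r, hr⟩ := corb5_sqrt s
  have := hκ r
  rw [zero_mul, AddChar.map_zero_eq_one] at this
  rw [← hr]
  exact this

theorem corb5_psi_self [CharP F 2] (ψ : AddChar F ℂ) (b : F) : ψ b * ψ b = 1 := by
  rw [← AddChar.map_add_eq_mul, CharTwo.add_self_eq_zero, AddChar.map_zero_eq_one]

/-! ### the abstract (field + form) part -/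

theorem corb5_abstract [CharP F 2] (k : ℕ) (M : Vec F k → F → ℂ) (M1 : M 0 0 = 1)
    (M2 : ∀ (w w' : Vec F k) (c c' : F),
      M (w + w') (c + c' + Cfsg.sympForm k F w' w) = M w c * M w' c')
    (hnt : ∃ c, M 0 c ≠ 1)
    (HG : ∀ Θ : Vec F k → F, (∀ x y, Θ (x + y) = Θ x + Θ y + Cfsg.sympForm k F x y) →
      (∀ (t : F) (x : Vec F k), Θ (t • x) = t ^ 2 * Θ x) →
      Fintype.card F ^ (2 * k) ≤
        2 * Nat.card {x : Vec F k // ∃ u : F, u ^ 2 + u = Θ x} + Fintype.card F ^ k) :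
    ∃ cc : Fin (Fintype.card F ^ k * (Fintype.card F ^ k - 1) / 2) → Vec F k,
      ∀ i j, i ≠ j → ∃ w : Vec F k,
        M (w + Cfsg.sympForm k F w (cc i) • cc i) 0 ≠
          M (w + Cfsg.sympForm k F w (cc j) • cc j) 0 := by
  classical
  -- the central character
  let ψ : AddChar F ℂ := ⟨fun c => M 0 c, M1, fun c c' => by
    have h := M2 0 0 c c'
    rw [add_zero, sympForm_zero_left, add_zero] at h
    exact h⟩
  have hψ_apply : ∀ c, ψ c = M 0 c := fun _ => rfl
  have hψ : ψ ≠ 1 := by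
    obtain ⟨c, hc⟩ := hnt
    intro h
    apply hc
    rw [← hψ_apply, h]
    rfl
  have hMc : ∀ w c, M w c = M w 0 * ψ c := by
    intro w c
    have h := M2 w 0 0 c
    rw [add_zero, zero_add, sympForm_zero_left, add_zero] at h
    exact h
  -- the characters on the lines
  have hσ : ∀ x : Vec F k, ∃ a : F, ∀ s, M (s • x) 0 = ψ (a * s) := by
    intro x
    let σ : AddChar F ℂ := ⟨fun s => M (s • x) 0, by
        show M ((0 : F) • x) 0 = 1
        rw [zero_smul]; exact M1, fun s t => by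
        show M ((s + t) • x) 0 = M (s • x) 0 * M (t • x) 0
        have h := M2 (s • x) (t • x) 0 0
        rw [sympForm_smul_left, sympForm_smul_right, sympForm_self, mul_zero, mul_zero, add_zero,
          add_zero, ← add_smul] at h
        exact h⟩
    exact corb5_char_repr ψ hψ σ
  choose th hth using hσ
  obtain ⟨κ, hκ0, hκ⟩ := corb5_kappa ψ hψ
  have hth_smul : ∀ (t : F) (x : Vec F k), th (t • x) = t * th x := by
    intro t x
    apply corb5_shift_inj ψ hψ
    intro s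
    rw [← hth, smul_smul, hth]
    congr 1; ring
  have hth_add : ∀ (x y : Vec F k) (r : F), r ^ 2 = Cfsg.sympForm k F y x →
      th (x + y) = th x + th y + κ * r := by
    intro x y r hr
    apply corb5_shift_inj ψ hψ
    intro s
    have h := M2 (s • x) (s • y) 0 0
    rw [sympForm_smul_left, sympForm_smul_right, ← smul_add, add_zero, zero_add,
      hMc (s • (x + y)), hth, hth, hth] at h
    have h2 : ψ (s * (s * Cfsg.sympForm k F y x)) = ψ (κ * r * s) := by
      calc ψ (s * (s * Cfsg.sympForm k F y x)) = ψ ((r * s) ^ 2) := by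
            congr 1; rw [← hr]; ring
        _ = ψ (κ * (r * s)) := hκ _
        _ = ψ (κ * r * s) := by congr 1; ring
    rw [h2] at h
    calc ψ (th (x + y) * s)
        = ψ (th (x + y) * s) * (ψ (κ * r * s) * ψ (κ * r * s)) := by
          rw [corb5_psi_self, mul_one]
      _ = ψ (th x * s) * ψ (th y * s) * ψ (κ * r * s) := by rw [← mul_assoc, h]
      _ = ψ ((th x + th y + κ * r) * s) := by
          rw [← AddChar.map_add_eq_mul, ← AddChar.map_add_eq_mul]; congr 1; ring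
  -- the quadratic form
  let Θ : Vec F k → F := fun x => (th x * κ⁻¹) ^ 2
  have hΘadd : ∀ x y, Θ (x + y) = Θ x + Θ y + Cfsg.sympForm k F x y := by
    intro x y
    obtain ⟨r, hr⟩ := corb5_sqrt (Cfsg.sympForm k F y x)
    show (th (x + y) * κ⁻¹) ^ 2 = (th x * κ⁻¹) ^ 2 + (th y * κ⁻¹) ^ 2 + Cfsg.sympForm k F x y
    rw [hth_add x y r hr]
    have e1 : (th x + th y + κ * r) * κ⁻¹ = th x * κ⁻¹ + th y * κ⁻¹ + r := by
      field_simp
    rw [e1, CharTwo.add_sq, CharTwo.add_sq, hr, sympForm_swap k y x, CharTwo.neg_eq]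
  have hΘsm : ∀ (t : F) (x : Vec F k), Θ (t • x) = t ^ 2 * Θ x := by
    intro t x
    show (th (t • x) * κ⁻¹) ^ 2 = t ^ 2 * (th x * κ⁻¹) ^ 2
    rw [hth_smul]; ring
  have hG := HG Θ hΘadd hΘsm
  -- the choice of the transvection for `x` in `D`
  have hD : ∀ x : Vec F k, (∃ u : F, u ^ 2 + u = Θ x) → ∃ c' : Vec F k, ∀ w : Vec F k,
      M (w + Cfsg.sympForm k F w c' • c') 0 = M w 0 * ψ (κ * Cfsg.sympForm k F w x) := by
    intro x hx
    obtain ⟨u, hu0, hu⟩ : ∃ u : F, u ≠ 0 ∧ u ^ 2 + u = Θ x := by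
      obtain ⟨u, hu⟩ := hx
      by_cases h0 : u = 0
      · refine ⟨1, one_ne_zero, ?_⟩
        rw [← hu, h0, one_pow, CharTwo.add_self_eq_zero]
        simp
      · exact ⟨u, h0, hu⟩
    obtain ⟨r, hr⟩ := corb5_sqrt u
    have hr0 : r ≠ 0 := by
      rintro rfl
      apply hu0; rw [← hr]; simp
    have ha : th x * κ⁻¹ = r ^ 2 + r := by
      apply corb5_sq_inj
      rw [CharTwo.add_sq, hr]
      exact hu.symm
    have hthx : th x = κ * (r ^ 2 + r) := by
      rw [← ha]; field_simp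
    refine ⟨r⁻¹ • x, fun w => ?_⟩
    have hs' : Cfsg.sympForm k F w (r⁻¹ • x) = r⁻¹ * Cfsg.sympForm k F w x := by
      rw [sympForm_smul_right]
    generalize hs : Cfsg.sympForm k F w (r⁻¹ • x) = s at hs' ⊢
    have hf : Cfsg.sympForm k F (s • (r⁻¹ • x)) w = s ^ 2 := by
      rw [sympForm_smul_left, sympForm_swap k (r⁻¹ • x) w, hs, CharTwo.neg_eq]; ring
    have h := M2 w (s • (r⁻¹ • x)) 0 (s ^ 2)
    rw [hf, zero_add, CharTwo.add_self_eq_zero, hMc (s • (r⁻¹ • x)) (s ^ 2), hth, hκ, hth_smul,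
      hthx] at h
    rw [h, ← AddChar.map_add_eq_mul]
    congr 2
    have e2 : r⁻¹ * (κ * (r ^ 2 + r)) * s + κ * s = κ * r * s + (κ * s + κ * s) := by
      field_simp
      ring
    rw [e2, CharTwo.add_self_eq_zero, add_zero, hs']
    field_simp
  -- distinct `x` give distinct characters
  have hdist : ∀ x x' : Vec F k, x ≠ x' → ∃ w : Vec F k,
      M w 0 * ψ (κ * Cfsg.sympForm k F w x) ≠ M w 0 * ψ (κ * Cfsg.sympForm k F w x') := by
    intro x x' hxx'
    have hv : x - x' ≠ 0 := sub_ne_zero.mpr hxx'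
    obtain ⟨a, ha⟩ := exists_sympForm_ne_zero k (x - x') hv
    have ha' : Cfsg.sympForm k F a (x - x') ≠ 0 := by
      rw [sympForm_swap]; exact neg_ne_zero.mpr ha
    obtain ⟨b, hb⟩ : ∃ b, ψ b ≠ 1 := by
      by_contra hcon
      push Not at hcon
      apply hψ
      ext s
      rw [hcon s]; rfl
    have hwv : κ * Cfsg.sympForm k F ((b * (κ * Cfsg.sympForm k F a (x - x'))⁻¹) • a) (x - x')
        = b := by
      rw [sympForm_smul_left]
      field_simp
    generalize (b * (κ * Cfsg.sympForm k F a (x - x'))⁻¹) • a = w at hwv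
    refine ⟨w, ?_⟩
    have hMw : M w 0 ≠ 0 := by
      intro h0
      have h := M2 w w 0 0
      have hww : w + w = 0 := by
        ext i; simp [CharTwo.add_self_eq_zero]
      rw [sympForm_self, h0, hww, add_zero, add_zero, M1] at h
      simp at h
    intro heq
    have h2 := mul_left_cancel₀ hMw heq
    apply hb
    have h3 : Cfsg.sympForm k F w x
        = Cfsg.sympForm k F w x' + Cfsg.sympForm k F w (x - x') := by
      rw [← sympForm_add_right]; congr 1; abel
    rw [h3, mul_add, AddChar.map_add_eq_mul, hwv] at h2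
    have hne : ψ (κ * Cfsg.sympForm k F w x') ≠ 0 := by
      intro h0
      have := corb5_psi_self ψ (κ * Cfsg.sympForm k F w x')
      rw [h0] at this; simp at this
    exact mul_left_cancel₀ hne (by rw [h2, mul_one])
  -- counting
  have hcard : Fintype.card F ^ k * (Fintype.card F ^ k - 1) / 2
      ≤ Fintype.card {x : Vec F k // ∃ u : F, u ^ 2 + u = Θ x} := by
    rw [Nat.card_eq_fintype_card] at hG
    apply Nat.div_le_of_le_mul
    have e3 : Fintype.card F ^ (2 * k) = Fintype.card F ^ k * Fintype.card F ^ k := by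
      rw [two_mul, pow_add]
    rw [e3] at hG
    rw [Nat.mul_sub, mul_one]
    generalize Fintype.card F ^ k * Fintype.card F ^ k = A at hG ⊢
    omega
  obtain ⟨emb⟩ : Nonempty (Fin (Fintype.card F ^ k * (Fintype.card F ^ k - 1) / 2) ↪
      {x : Vec F k // ∃ u : F, u ^ 2 + u = Θ x}) :=
    Function.Embedding.nonempty_of_card_le (by rw [Fintype.card_fin]; exact hcard)
  choose c' hc' using fun d : {x : Vec F k // ∃ u : F, u ^ 2 + u = Θ x} => hD d.1 d.2
  refine ⟨fun i => c' (emb i), fun i j hij => ?_⟩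
  have hne : (emb i).1 ≠ (emb j).1 := fun h => hij (emb.injective (Subtype.ext h))
  obtain ⟨w, hw⟩ := hdist _ _ hne
  exact ⟨w, by rw [hc', hc']; exact hw⟩

/-! ### padding -/

omit [Fintype F] in
theorem corb5_pad_add {k : ℕ} (v w : Vec F k) : pad (v + w) = pad v + pad w := by
  ext x
  rcases x with i | i
  · refine Fin.lastCases ?_ (fun j => ?_) i
    · simp [pad]
    · simp [pad]
  · refine Fin.lastCases ?_ (fun j => ?_) i
    · simp [pad]
    · simp [pad]

omit [Fintype F] in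
theorem corb5_pad_smul {k : ℕ} (t : F) (v : Vec F k) : pad (t • v) = t • pad v := by
  ext x
  rcases x with i | i
  · refine Fin.lastCases ?_ (fun j => ?_) i
    · simp [pad]
    · simp [pad]
  · refine Fin.lastCases ?_ (fun j => ?_) i
    · simp [pad]
    · simp [pad]

omit [Fintype F] in
theorem corb5_pad_zero {k : ℕ} : pad (0 : Vec F k) = 0 := by
  ext x
  rcases x with i | i
  · refine Fin.lastCases ?_ (fun j => ?_) i
    · simp [pad]
    · simp [pad]
  · refine Fin.lastCases ?_ (fun j => ?_) i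
    · simp [pad]
    · simp [pad]

omit [Fintype F] in
theorem corb5_form_pad {k : ℕ} (v w : Vec F k) :
    Cfsg.sympForm (k + 1) F (pad v) (pad w) = Cfsg.sympForm k F v w := by
  rw [sympForm_expand, sympForm_expand, Fin.sum_univ_castSucc]
  simp [pad]

omit [Fintype F] in
theorem corb5_form_pad_e0 {k : ℕ} (v : Vec F k) :
    Cfsg.sympForm (k + 1) F (pad v) (e0 F k) = 0 := by
  rw [sympForm_expand, Fin.sum_univ_castSucc]
  simp [pad, e0]

omit [Fintype F] in
theorem corb5_form_e0_pad {k : ℕ} (v : Vec F k) :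
    Cfsg.sympForm (k + 1) F (e0 F k) (pad v) = 0 := by
  rw [sympForm_swap, corb5_form_pad_e0, neg_zero]

/-! ### the transvections `y_{c'}` -/

/-- the transvection `x ↦ x + f(x, pad c') pad c'`. -/
noncomputable def corb5_Y {k : ℕ} (c' : Vec F k) : Spg F (k + 1) := sympTransvElt (k + 1) (pad c') 1

omit [Fintype F] in
theorem corb5_Y_mul_self [CharP F 2] {k : ℕ} (c' : Vec F k) : corb5_Y c' * corb5_Y c' = 1 := by
  apply Subtype.ext
  show Cfsg.sympTransvection (k + 1) (pad c') 1 * Cfsg.sympTransvection (k + 1) (pad c') 1 = 1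
  rw [sympTransvection_mul, CharTwo.add_self_eq_zero, sympTransvection_zero]

omit [Fintype F] in
theorem corb5_Y_inv [CharP F 2] {k : ℕ} (c' : Vec F k) : (corb5_Y c')⁻¹ = corb5_Y c' :=
  inv_eq_of_mul_eq_one_right (corb5_Y_mul_self c')

omit [Fintype F] in
theorem corb5_Y_mulVec {k : ℕ} (c' : Vec F k) (x : Vec F (k + 1)) :
    Matrix.mulVec ((corb5_Y c' : Spg F (k + 1)) : Matrix (Fin (k + 1) ⊕ Fin (k + 1))
      (Fin (k + 1) ⊕ Fin (k + 1)) F) x = x + Cfsg.sympForm (k + 1) F x (pad c') • pad c' := by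
  show Matrix.mulVec (Cfsg.sympTransvection (k + 1) (pad c') 1) x = _
  rw [sympTransvection_mulVec, one_mul]

/-! ### the core: `exists_orb_data` from the statements of the leaves C-EMAT and F-GAUSS -/

theorem corb5_core [CharP F 2] (k : ℕ)
    (HM : ∀ (w w' : Vec F (k + 1)), Cfsg.sympForm (k + 1) F w (e0 F k) = 0 →
      Cfsg.sympForm (k + 1) F w' (e0 F k) = 0 → ∀ c c' : F,
      Eelt (e0 F k) w c * Eelt (e0 F k) w' c' =
        Eelt (e0 F k) (w + w') (c + c' + Cfsg.sympForm (k + 1) F w' w))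
    (HZ : ∀ c : F, Eelt (e0 F k) 0 c = sympTransvElt (k + 1) (e0 F k) c)
    (HC : ∀ (w : Vec F (k + 1)), Cfsg.sympForm (k + 1) F w (e0 F k) = 0 → ∀ (c : F)
      (g : Spg F (k + 1)) (a : F),
      Matrix.mulVec (g : Matrix (Fin (k + 1) ⊕ Fin (k + 1)) (Fin (k + 1) ⊕ Fin (k + 1)) F)
        (e0 F k) = a • e0 F k →
      g * Eelt (e0 F k) w c * g⁻¹ =
        Eelt (e0 F k)
          (a • Matrix.mulVec (g : Matrix (Fin (k + 1) ⊕ Fin (k + 1)) (Fin (k + 1) ⊕ Fin (k + 1)) F)
            w) (a ^ 2 * c))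
    (HG : ∀ Θ : Vec F k → F, (∀ x y, Θ (x + y) = Θ x + Θ y + Cfsg.sympForm k F x y) →
      (∀ (t : F) (x : Vec F k), Θ (t • x) = t ^ 2 * Θ x) →
      Fintype.card F ^ (2 * k) ≤
        2 * Nat.card {x : Vec F k // ∃ u : F, u ^ 2 + u = Θ x} + Fintype.card F ^ k)
    (μ : Spg F (k + 1) → ℂ) (h1 : μ 1 = 1)
    (hmul : ∀ a ∈ Qgrp F k, ∀ b ∈ Qgrp F k, μ (a * b) = μ a * μ b)
    (hnt : ∃ z ∈ Zgrp (e0 F k), μ z ≠ 1) :
    ∃ (ι : Type) (_ : Fintype ι) (y : ι → Spg F (k + 1)),
      Fintype.card ι = Fintype.card F ^ k * (Fintype.card F ^ k - 1) / 2 ∧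
      (∀ i, ∀ a ∈ Qgrp F k, (y i)⁻¹ * a * y i ∈ Qgrp F k) ∧
      (∀ i, ∀ z ∈ Zgrp (e0 F k), (y i)⁻¹ * z * y i = z) ∧
      (∀ i j, i ≠ j → ∃ a ∈ Qgrp F k, μ ((y i)⁻¹ * a * y i) ≠ μ ((y j)⁻¹ * a * y j)) := by
  classical
  have hEQ : ∀ (w : Vec F k) (c : F), Eelt (e0 F k) (pad w) c ∈ Qgrp F k :=
    fun w c => Subgroup.subset_closure ⟨w, c, rfl⟩
  have hEmul : ∀ (w w' : Vec F k) (c c' : F),
      Eelt (e0 F k) (pad w) c * Eelt (e0 F k) (pad w') c' =
        Eelt (e0 F k) (pad (w + w')) (c + c' + Cfsg.sympForm k F w' w) := by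
    intro w w' c c'
    rw [HM _ _ (corb5_form_pad_e0 w) (corb5_form_pad_e0 w'), corb5_pad_add, corb5_form_pad]
  have hgen : ∀ c : F,
      sympTransvElt (k + 1) (e0 F k) c = Eelt (e0 F k) (pad (0 : Vec F k)) c := by
    intro c; rw [corb5_pad_zero, HZ]
  have hE00 : Eelt (e0 F k) (pad (0 : Vec F k)) 0 = 1 := by
    rw [← hgen]
    apply Subtype.ext
    show Cfsg.sympTransvection (k + 1) (e0 F k) 0 = 1
    exact sympTransvection_zero _ _
  have hconj : ∀ (c' w : Vec F k) (c : F),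
      (corb5_Y c')⁻¹ * Eelt (e0 F k) (pad w) c * corb5_Y c' =
        Eelt (e0 F k) (pad (w + Cfsg.sympForm k F w c' • c')) c := by
    intro c' w c
    have hge : Matrix.mulVec ((corb5_Y c' : Spg F (k + 1)) :
        Matrix (Fin (k + 1) ⊕ Fin (k + 1)) (Fin (k + 1) ⊕ Fin (k + 1)) F) (e0 F k)
        = (1 : F) • e0 F k := by
      rw [corb5_Y_mulVec, corb5_form_e0_pad, zero_smul, add_zero, one_smul]
    have h := HC (pad w) (corb5_form_pad_e0 w) c (corb5_Y c') 1 hge
    rw [one_smul, one_pow, one_mul, corb5_Y_mulVec, corb5_form_pad, ← corb5_pad_smul,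
      ← corb5_pad_add] at h
    rw [← h, corb5_Y_inv]
  have hM2 : ∀ (w w' : Vec F k) (c c' : F),
      μ (Eelt (e0 F k) (pad (w + w')) (c + c' + Cfsg.sympForm k F w' w)) =
        μ (Eelt (e0 F k) (pad w) c) * μ (Eelt (e0 F k) (pad w') c') := by
    intro w w' c c'
    rw [← hEmul]
    exact hmul _ (hEQ w c) _ (hEQ w' c')
  have hM1 : μ (Eelt (e0 F k) (pad (0 : Vec F k)) 0) = 1 := by rw [hE00, h1]
  have hZQ : Zgrp (e0 F k) ≤ Qgrp F k := by
    refine (Subgroup.closure_le _).mpr ?_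
    rintro g ⟨c, rfl⟩
    rw [hgen]; exact hEQ 0 c
  have hnt' : ∃ c : F, μ (Eelt (e0 F k) (pad (0 : Vec F k)) c) ≠ 1 := by
    by_contra hcon
    push Not at hcon
    obtain ⟨z, hz, hμz⟩ := hnt
    apply hμz
    let K : Subgroup (Spg F (k + 1)) :=
      { carrier := {z | z ∈ Qgrp F k ∧ μ z = 1}
        mul_mem' := by
          rintro a b ⟨ha, ha1⟩ ⟨hb, hb1⟩
          exact ⟨mul_mem ha hb, by rw [hmul a ha b hb, ha1, hb1, one_mul]⟩
        one_mem' := ⟨one_mem _, h1⟩
        inv_mem' := by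
          rintro a ⟨ha, ha1⟩
          refine ⟨inv_mem ha, ?_⟩
          have h2 := hmul a⁻¹ (inv_mem ha) a ha
          rw [inv_mul_cancel, h1, ha1, mul_one] at h2
          exact h2.symm }
    have hZK : Zgrp (e0 F k) ≤ K := by
      refine (Subgroup.closure_le _).mpr ?_
      rintro g ⟨c, rfl⟩
      exact ⟨hZQ (Subgroup.subset_closure ⟨c, rfl⟩), by rw [hgen]; exact hcon c⟩
    exact (hZK hz).2
  obtain ⟨cc, hcc⟩ :=
    corb5_abstract k (fun w c => μ (Eelt (e0 F k) (pad w) c)) hM1 hM2 hnt' HG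
  refine ⟨Fin (Fintype.card F ^ k * (Fintype.card F ^ k - 1) / 2), inferInstance,
    fun i => corb5_Y (cc i), Fintype.card_fin _, ?_, ?_, ?_⟩
  · intro i a ha
    have hle : Qgrp F k ≤
        (Qgrp F k).comap (MulAut.conj (corb5_Y (cc i))⁻¹).toMonoidHom := by
      refine (Subgroup.closure_le _).mpr ?_
      rintro g ⟨w, c, rfl⟩
      show (corb5_Y (cc i))⁻¹ * Eelt (e0 F k) (pad w) c * ((corb5_Y (cc i))⁻¹)⁻¹ ∈ Qgrp F k
      rw [inv_inv, hconj]
      exact hEQ _ _
    have h3 : (corb5_Y (cc i))⁻¹ * a * ((corb5_Y (cc i))⁻¹)⁻¹ ∈ Qgrp F k := hle ha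
    rwa [inv_inv] at h3
  · intro i z hz
    have hle : Zgrp (e0 F k) ≤ Subgroup.centralizer {corb5_Y (cc i)} := by
      refine (Subgroup.closure_le _).mpr ?_
      rintro g ⟨c, rfl⟩
      rw [SetLike.mem_coe, Subgroup.mem_centralizer_iff]
      intro h hh
      rw [Set.mem_singleton_iff] at hh
      subst hh
      have h4 := hconj (cc i) 0 c
      rw [sympForm_zero_left, zero_smul, add_zero, ← hgen] at h4
      calc corb5_Y (cc i) * sympTransvElt (k + 1) (e0 F k) c
          = corb5_Y (cc i) * ((corb5_Y (cc i))⁻¹ * sympTransvElt (k + 1) (e0 F k) c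
              * corb5_Y (cc i)) := by rw [h4]
        _ = sympTransvElt (k + 1) (e0 F k) c * corb5_Y (cc i) := by group
    have h5 := (Subgroup.mem_centralizer_iff.mp (hle hz)) (corb5_Y (cc i)) rfl
    calc (corb5_Y (cc i))⁻¹ * z * corb5_Y (cc i)
        = (corb5_Y (cc i))⁻¹ * (z * corb5_Y (cc i)) := by group
      _ = (corb5_Y (cc i))⁻¹ * (corb5_Y (cc i) * z) := by rw [h5]
      _ = z := by group
  · intro i j hij
    obtain ⟨w, hw⟩ := hcc i j hij
    refine ⟨Eelt (e0 F k) (pad w) 0, hEQ w 0, ?_⟩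
    rw [hconj, hconj]
    exact hw

end concrete

end Cfsg.Agent.Lib.Helper21.Lq
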