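import Cfsg.Agent.Lib.Helper21.Lo.Defs
import Cfsg.Agent.Lib.Helper5.LqCORBcore

set_option autoImplicit false

/-! # Lo sub-hive (S2347, helper21), leaf LO-DUAL (helper5): the characters of `(Sym_n(F), +)` are `S ↦ ψ(tr(M S))`. -/

namespace Cfsg.Agent.Lib.Helper21.Lo

open Module Cfsg.Agent.Lib.Helper6.Ls Cfsg.Agent.Lib.Helper13 Cfsg.Agent.Lib.Helper21.Lq

section pure

variable {F : Type*} [Field F] [Fintype F] [DecidableEq F]

omit [Fintype F] [DecidableEq F] in
/-- an additive function on symmetric matrices is multiplicative on finite sums. -/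
theorem dual_sum {n : ℕ} (χ : Matrix (Fin n) (Fin n) F → ℂ) (hχ0 : χ 0 = 1)
    (hχadd : ∀ S S', S.transpose = S → S'.transpose = S' → χ (S + S') = χ S * χ S')
    {ι : Type*} (s : Finset ι) (T : ι → Matrix (Fin n) (Fin n) F)
    (hT : ∀ k, (T k).transpose = T k) :
    χ (∑ k ∈ s, T k) = ∏ k ∈ s, χ (T k) ∧ (∑ k ∈ s, T k).transpose = ∑ k ∈ s, T k := by
  classical
  induction s using Finset.induction_on with
  | empty => exact ⟨by simpa using hχ0, by simp⟩
  | insert a s ha ih =>
    rw [Finset.sum_insert ha, Finset.prod_insert ha]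
    refine ⟨?_, ?_⟩
    · rw [hχadd _ _ (hT a) ih.2, ih.1]
    · rw [Matrix.transpose_add, hT a, ih.2]

omit [Fintype F] [DecidableEq F] in
theorem dual_psi_sum (ψ : AddChar F ℂ) {ι : Type*} (s : Finset ι) (f : ι → F) :
    ψ (∑ k ∈ s, f k) = ∏ k ∈ s, ψ (f k) := by
  classical
  induction s using Finset.induction_on with
  | empty => simp
  | insert a s ha ih =>
    rw [Finset.sum_insert ha, Finset.prod_insert ha, AddChar.map_add_eq_mul, ih]

omit [DecidableEq F] in
theorem dual_two_ne_zero (hodd : Odd (Fintype.card F)) : (2 : F) ≠ 0 := by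
  intro h2
  have : CharP F 2 := CharTwo.of_one_ne_zero_of_two_eq_zero one_ne_zero h2
  obtain ⟨k, _, hk⟩ := FiniteField.card F 2
  rw [hk] at hodd
  have : Even (2 ^ (k : ℕ)) := (Nat.even_pow' (PNat.ne_zero k)).mpr even_two
  exact (Nat.not_odd_iff_even.mpr this) hodd

/-- LO-DUAL -/
theorem exists_dual (hodd : Odd (Fintype.card F)) (n : ℕ) :
    ∃ ψ : AddChar F ℂ, ψ ≠ 1 ∧
      ∀ χ : Matrix (Fin n) (Fin n) F → ℂ, χ 0 = 1 →
        (∀ S S', S.transpose = S → S'.transpose = S' → χ (S + S') = χ S * χ S') →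
        ∃ M : Matrix (Fin n) (Fin n) F, M.transpose = M ∧
          ∀ S, S.transpose = S → χ S = ψ (Matrix.trace (M * S)) := by
  classical
  have h2 := dual_two_ne_zero hodd
  obtain ⟨ψ, hψ1⟩ := (AddChar.exists_apply_ne_zero (α := F) (a := 1)).mpr one_ne_zero
  have hψ : ψ ≠ 1 := fun h => hψ1 (by rw [h]; rfl)
  refine ⟨ψ, hψ, fun χ hχ0 hχadd => ?_⟩
  -- the symmetric "elementary" matrices
  have hsym : ∀ (i j : Fin n) (c : F),
      (Matrix.single i j c + Matrix.single j i c).transpose
        = Matrix.single i j c + Matrix.single j i c := by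
    intro i j c
    rw [Matrix.transpose_add, Matrix.transpose_single, Matrix.transpose_single, add_comm]
  let β : Fin n → Fin n → AddChar F ℂ := fun i j =>
    ⟨fun c => χ (Matrix.single i j c + Matrix.single j i c), by
      show χ (Matrix.single i j (0 : F) + Matrix.single j i 0) = 1
      rw [Matrix.single_zero, Matrix.single_zero, add_zero, hχ0], fun c c' => by
      show χ (Matrix.single i j (c + c') + Matrix.single j i (c + c'))
        = χ (Matrix.single i j c + Matrix.single j i c) * χ (Matrix.single i j c' + Matrix.single j i c')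
      rw [← hχadd _ _ (hsym i j c) (hsym i j c'), Matrix.single_add, Matrix.single_add]
      congr 1
      abel⟩
  have hβ : ∀ i j c, β i j c = χ (Matrix.single i j c + Matrix.single j i c) := fun _ _ _ => rfl
  have hrepr : ∀ i j, ∃ a : F, ∀ c, β i j c = ψ (a * c) := fun i j => corb5_char_repr ψ hψ (β i j)
  choose m hm using hrepr
  have hmsymm : ∀ i j, m i j = m j i := by
    intro i j
    apply corb5_shift_inj ψ hψ
    intro c
    rw [← hm, ← hm, hβ, hβ, add_comm]
  refine ⟨Matrix.of (fun i j => m i j / 2), ?_, ?_⟩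
  · ext i j
    rw [Matrix.transpose_apply, Matrix.of_apply, Matrix.of_apply, hmsymm]
  · intro S hS
    have hSij : ∀ i j, S j i = S i j := fun i j => by
      conv_lhs => rw [← hS]
      rfl
    let T : Fin n × Fin n → Matrix (Fin n) (Fin n) F := fun p =>
      Matrix.single p.1 p.2 (S p.1 p.2 / 2) + Matrix.single p.2 p.1 (S p.1 p.2 / 2)
    have hTsum : ∑ p : Fin n × Fin n, T p = S := by
      let S2 : Matrix (Fin n) (Fin n) F := Matrix.of (fun i j => S i j / 2)
      have hS2 : ∑ i, ∑ j, Matrix.single i j (S i j / 2) = S2 :=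
        (Matrix.matrix_eq_sum_single S2).symm
      have hS2' : ∑ i, ∑ j, Matrix.single j i (S i j / 2) = S2 := by
        rw [Finset.sum_comm]
        simp_rw [hSij]
        exact hS2
      show ∑ p : Fin n × Fin n, (Matrix.single p.1 p.2 (S p.1 p.2 / 2)
        + Matrix.single p.2 p.1 (S p.1 p.2 / 2)) = S
      rw [Finset.sum_add_distrib, Fintype.sum_prod_type, Fintype.sum_prod_type, hS2, hS2']
      ext a b
      rw [Matrix.add_apply]
      show S a b / 2 + S a b / 2 = S a b
      field_simp
      ring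
    have hprod := (dual_sum χ hχ0 hχadd Finset.univ T (fun p => hsym p.1 p.2 _)).1
    rw [hTsum] at hprod
    rw [hprod]
    have e3 : ∀ p : Fin n × Fin n, χ (T p) = ψ (m p.1 p.2 * (S p.1 p.2 / 2)) := by
      intro p
      rw [← hm, hβ]
    simp_rw [e3]
    rw [← dual_psi_sum]
    congr 1
    rw [Matrix.trace, Fintype.sum_prod_type]
    apply Finset.sum_congr rfl
    intro a _
    rw [Matrix.diag_apply, Matrix.mul_apply]
    apply Finset.sum_congr rfl
    intro b _
    rw [Matrix.of_apply, hSij a b]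
    ring

end pure

end Cfsg.Agent.Lib.Helper21.Lo
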