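import Cfsg.Agent.Lib.Helper5.LqCORBcore
import Cfsg.Agent.Lib.Helper43.LqCEMAT
import Cfsg.Agent.Lib.Helper74.LqFGAUSS

/-! # Lq hive (S2333, helper21), leaf C-ORB: `exists_orb_data` (helper5)

The exact-name wrapper of `corb5_core` (file `LqCORBcore.lean`) on the landed leaves C-EMAT (helper43) and
F-GAUSS (helper74). -/

set_option autoImplicit false

namespace Cfsg.Agent.Lib.Helper21.Lq

open Module Cfsg.Agent.Lib.Helper6.Ls Cfsg.Agent.Lib.Helper13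

section concrete

variable {F : Type*} [Field F] [Fintype F]

/-- C-ORB: every character of `Q` non-trivial on `Z` has at least `q^k (q^k - 1)/2` conjugates under transvections
of `Sp(⟨e0,f0⟩^⊥)`. -/
theorem exists_orb_data [CharP F 2] (k : ℕ) (μ : Spg F (k + 1) → ℂ) (h1 : μ 1 = 1)
    (hmul : ∀ a ∈ Qgrp F k, ∀ b ∈ Qgrp F k, μ (a * b) = μ a * μ b)
    (hnt : ∃ z ∈ Zgrp (e0 F k), μ z ≠ 1) :
    ∃ (ι : Type) (_ : Fintype ι) (y : ι → Spg F (k + 1)),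
      Fintype.card ι = Fintype.card F ^ k * (Fintype.card F ^ k - 1) / 2 ∧
      (∀ i, ∀ a ∈ Qgrp F k, (y i)⁻¹ * a * y i ∈ Qgrp F k) ∧
      (∀ i, ∀ z ∈ Zgrp (e0 F k), (y i)⁻¹ * z * y i = z) ∧
      (∀ i j, i ≠ j → ∃ a ∈ Qgrp F k, μ ((y i)⁻¹ * a * y i) ≠ μ ((y j)⁻¹ * a * y j)) :=
  corb5_core k
    (fun w w' hw hw' c c' => Eelt_mul (e0 F k) w w' hw hw' c c')
    (fun c => Eelt_zero_eq (e0 F k) c)
    (fun w hw c g a hge => conj_Eelt (e0 F k) w hw c g a hge)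
    (fun Θ hadd hsm => gauss_count k Θ hadd hsm)
    μ h1 hmul hnt

end concrete

end Cfsg.Agent.Lib.Helper21.Lq
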