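import Cfsg.Agent.Lib.Helper5.SlK1core
import Cfsg.Agent.Lib.Helper25.SlK1Q00
import Cfsg.Agent.Lib.Helper25.SlK1CARD
import Cfsg.Agent.Lib.Helper42.SlK1NCL
import Cfsg.Agent.Lib.Helper44.SlK1CONJ

set_option autoImplicit false

/-! # Sl hive (S2332, helper76), leaf K1 `resq` (helper5): exact-name wrapper of `resq_core` on the landed sub-leaves
K1-NCL (helper42), K1-Q00 + K1-CARD (helper25), K1-CONJ (helper44). -/

namespace Cfsg.Agent.Lib.Helper76.Sl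

open Matrix Cfsg

variable {F : Type*} [Field F] [Fintype F] [DecidableEq F]

/-- K1 RESQ -/
theorem resq (m : ℕ) (hm : 1 ≤ m) (χ : Gm F m → ℂ) (hχ : IsIrrCharacter (Gm F m) χ) (hnl : χ 1 ≠ 1) :
    ∃ m0 mm : ℕ, 1 ≤ mm ∧ χ 1 = (m0 : ℂ) + mm * ((Fintype.card F : ℂ) ^ (m + 1) - 1) ∧
      χ (tv F m) = (m0 : ℂ) - mm ∧ avgQ F m χ 1 = m0 :=
  resq_core m (fun N hN h => @k1_normal_closure F _ _ _ m hm N hN h) (k1_entry00 m)
    (fun x hx hx1 => k1_conj m hm x hx hx1) (k1_card m) χ hχ hnl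

end Cfsg.Agent.Lib.Helper76.Sl
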