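import Mathlib
import Cfsg.Agent.Lib.Helper5.Symp

set_option autoImplicit false
set_option linter.unusedSimpArgs false
set_option linter.unusedVariables false
set_option linter.unnecessarySeqFocus false

namespace Cfsg.Agent.Lib.Helper5

open Matrix

variable {l F : Type*} [DecidableEq l] [Fintype l] [Field F]

/-- A matrix commuting with all symplectic transvections maps every vector to a multiple. -/
lemma exists_smul_eq_of_commute_sympTransv {A : Matrix (l ⊕ l) (l ⊕ l) F}
    (hA : ∀ u : l ⊕ l → F, A * sympTransvMat u 1 = sympTransvMat u 1 * A)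
    (u : l ⊕ l → F) (hu : u ≠ 0) : ∃ c : F, c • u = A *ᵥ u := by
  obtain ⟨x, hx⟩ := exists_sympForm_ne_zero_right hu
  have h := congrArg (fun M : Matrix (l ⊕ l) (l ⊕ l) F ↦ M *ᵥ x) (hA u)
  simp only [← Matrix.mulVec_mulVec, sympTransvMat_mulVec, one_mul, Matrix.mulVec_add,
    Matrix.mulVec_smul] at h
  -- h : A x + β(u,x) • A u = A x + β(u, A x) • u
  have h' : sympForm u x • (A *ᵥ u) = sympForm u (A *ᵥ x) • u := add_left_cancel h
  refine ⟨(sympForm u x)⁻¹ * sympForm u (A *ᵥ x), ?_⟩
  rw [mul_smul, ← h', smul_smul, inv_mul_cancel₀ hx, one_smul]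

lemma eq_scalar_of_commute_sympTransv {A : Matrix (l ⊕ l) (l ⊕ l) F}
    (hA : ∀ u : l ⊕ l → F, A * sympTransvMat u 1 = sympTransvMat u 1 * A) :
    ∃ a : F, A = Matrix.scalar (l ⊕ l) a := by
  set f : ((l ⊕ l) → F) →ₗ[F] ((l ⊕ l) → F) := Matrix.toLin' A with hf
  obtain ⟨a, ha⟩ := f.exists_eq_smul_id_of_forall_notLinearIndependent fun v ↦ by
    by_cases hv : v = 0
    · simp [hv, linearIndependent_fin2]
    · obtain ⟨c, hc⟩ := exists_smul_eq_of_commute_sympTransv hA v hv
      rw [LinearIndependent.pair_iff' hv]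
      push Not
      exact ⟨c, by rw [hc, hf, Matrix.toLin'_apply]⟩
  refine ⟨a, ?_⟩
  calc A = LinearMap.toMatrix' f := by rw [hf, LinearMap.toMatrix'_toLin']
    _ = (algebraMap F (Module.End F ((l ⊕ l) → F)) a).toMatrix' := by
        rw [ha]; rfl
    _ = Matrix.scalar (l ⊕ l) a := LinearMap.toMatrix'_algebraMap a

lemma scalar_mem_symplecticGroup_iff [Nonempty l] (a : F) :
    Matrix.scalar (l ⊕ l) a ∈ symplecticGroup l F ↔ a * a = 1 := by
  rw [SymplecticGroup.mem_iff]
  have h1 : Matrix.scalar (l ⊕ l) a * J l F * (Matrix.scalar (l ⊕ l) a)ᵀ = (a * a) • J l F := by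
    rw [Matrix.scalar_apply, Matrix.diagonal_transpose, ← Matrix.scalar_apply,
      ← Matrix.scalar_comm _ (fun _ ↦ Commute.all _ _), ← Matrix.mul_assoc, ← map_mul,
      Matrix.scalar_apply, ← Matrix.smul_eq_diagonal_mul]
  rw [h1]
  constructor
  · intro h
    obtain ⟨i⟩ := ‹Nonempty l›
    have := congrFun (congrFun h (Sum.inr i)) (Sum.inl i)
    simpa [J] using this
  · intro h
    rw [h, one_smul]

lemma mem_center_symplecticGroup_iff [Nonempty l] (g : symplecticGroup l F) :
    g ∈ Subgroup.center (symplecticGroup l F) ↔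
      (g : Matrix (l ⊕ l) (l ⊕ l) F) = 1 ∨ (g : Matrix (l ⊕ l) (l ⊕ l) F) = -1 := by
  constructor
  · intro hg
    rw [Subgroup.mem_center_iff] at hg
    have hcomm : ∀ u : l ⊕ l → F, (g : Matrix (l ⊕ l) (l ⊕ l) F) * sympTransvMat u 1 =
        sympTransvMat u 1 * (g : Matrix (l ⊕ l) (l ⊕ l) F) := by
      intro u
      have := hg ⟨sympTransvMat u 1, sympTransvMat_mem u 1⟩
      have := congrArg (fun x : symplecticGroup l F ↦ (x : Matrix (l ⊕ l) (l ⊕ l) F)) this
      simpa using this.symm
    obtain ⟨a, ha⟩ := eq_scalar_of_commute_sympTransv hcomm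
    have hmem : Matrix.scalar (l ⊕ l) a ∈ symplecticGroup l F := ha ▸ g.2
    rw [scalar_mem_symplecticGroup_iff] at hmem
    have : (a - 1) * (a + 1) = 0 := by linear_combination hmem
    rcases mul_eq_zero.1 this with h | h
    · left
      rw [ha, sub_eq_zero.1 h, map_one]
    · right
      rw [ha, eq_neg_of_add_eq_zero_left h, map_neg, map_one]
  · intro hg
    rw [Subgroup.mem_center_iff]
    intro h
    apply Subtype.ext
    rcases hg with hg | hg
    · simp [hg]
    · simp [hg]

/-- The centre of `Sp_{2m}(q)`, `m ≥ 1`, has order `gcd(2, q-1)`. -/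
theorem card_center_symplecticGroup [Nonempty l] [Fintype F] :
    Nat.card (Subgroup.center (symplecticGroup l F)) = Nat.gcd 2 (Fintype.card F - 1) := by
  classical
  have hone : (1 : Matrix (l ⊕ l) (l ⊕ l) F) ∈ symplecticGroup l F := Submonoid.one_mem _
  have hneg : (-1 : Matrix (l ⊕ l) (l ⊕ l) F) ∈ symplecticGroup l F :=
    SymplecticGroup.neg_mem hone
  by_cases hchar : ringChar F = 2
  · -- char 2: center is trivial
    have h11 : (-1 : F) = 1 := neg_one_eq_one_iff.2 hchar
    have hsub : Subsingleton (Subgroup.center (symplecticGroup l F)) := by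
      constructor
      rintro ⟨a, ha⟩ ⟨b, hb⟩
      apply Subtype.ext
      apply Subtype.ext
      rw [mem_center_symplecticGroup_iff] at ha hb
      have hm : (-1 : Matrix (l ⊕ l) (l ⊕ l) F) = 1 := by
        ext i j
        by_cases hij : i = j <;> simp [Matrix.one_apply, hij, h11]
      rcases ha with ha | ha <;> rcases hb with hb | hb <;> simp [ha, hb, hm]
    rw [Nat.card_unique]
    have heven := FiniteField.even_card_of_char_two hchar
    have hq : 2 ≤ Fintype.card F := Fintype.one_lt_card
    have hodd : (Fintype.card F - 1) % 2 = 1 := by omega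
    have : Nat.Coprime 2 (Fintype.card F - 1) := by
      rw [Nat.Prime.coprime_iff_not_dvd Nat.prime_two]
      omega
    exact (Nat.Coprime.gcd_eq_one this).symm
  · have h11 : (-1 : F) ≠ 1 := fun h ↦ hchar (neg_one_eq_one_iff.1 h)
    have hm : (-1 : Matrix (l ⊕ l) (l ⊕ l) F) ≠ 1 := by
      intro h
      obtain ⟨i⟩ := ‹Nonempty l›
      have := congrFun (congrFun h (Sum.inl i)) (Sum.inl i)
      simp at this
      exact h11 this
    have e : Subgroup.center (symplecticGroup l F) ≃ Bool :=
      { toFun := fun g ↦ decide ((g.1 : Matrix (l ⊕ l) (l ⊕ l) F) = 1)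
        invFun := fun b ↦ if b then ⟨⟨1, hone⟩, (mem_center_symplecticGroup_iff _).2 (Or.inl rfl)⟩
          else ⟨⟨-1, hneg⟩, (mem_center_symplecticGroup_iff _).2 (Or.inr rfl)⟩
        left_inv := by
          rintro ⟨⟨a, ha'⟩, ha⟩
          rcases (mem_center_symplecticGroup_iff _).1 ha with h | h
          · simp only at h; subst h; simp
          · simp only at h; subst h; simp [hm]
        right_inv := by
          intro b
          cases b <;> simp [hm] }
    rw [Nat.card_congr e, Nat.card_eq_fintype_card, Fintype.card_bool]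
    have hodd := FiniteField.odd_card_of_char_ne_two hchar
    have hq : 2 ≤ Fintype.card F := Fintype.one_lt_card
    have : 2 ∣ Fintype.card F - 1 := by omega
    exact (Nat.gcd_eq_left this).symm

end Cfsg.Agent.Lib.Helper5
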