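import Mathlib

set_option autoImplicit false
set_option linter.unusedSimpArgs false
set_option linter.unusedVariables false
set_option linter.unnecessarySeqFocus false
set_option linter.unusedSectionVars false

namespace Cfsg.Agent.Lib.Helper5

open Module

section TwoSub

variable {F : Type*} [Field F] [Fintype F] {V : Type*} [AddCommGroup V] [Module F V] [Finite V]

lemma natCard_submodule (W : Submodule F V) : Nat.card W = Fintype.card F ^ finrank F W := by
  have : Module.Finite F V := Module.Finite.of_finite
  rw [Module.natCard_eq_pow_finrank (K := F), Nat.card_eq_fintype_card]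

lemma natCard_span_singleton (u : V) (hu : u ≠ 0) :
    Nat.card (Submodule.span F {u}) = Fintype.card F := by
  rw [← Nat.card_eq_fintype_card]
  exact (Nat.card_congr (LinearEquiv.toSpanNonzeroSingleton F V u hu).toEquiv).symm

/-- removing a subspace from a set containing it -/
lemma card_not_mem_add (S : Submodule F V) (T : V → Prop) (hT : ∀ w ∈ S, T w) :
    Nat.card {w : V // w ∉ S ∧ T w} + Nat.card S = Nat.card {w : V // T w} := by
  classical
  have e : {w : V // T w} ≃ {w : V // w ∉ S ∧ T w} ⊕ S :=
    { toFun := fun w => if h : w.1 ∈ S then Sum.inr ⟨w.1, h⟩ else Sum.inl ⟨w.1, h, w.2⟩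
      invFun := fun x => Sum.elim (fun w => ⟨w.1, w.2.2⟩) (fun w => ⟨w.1, hT _ w.2⟩) x
      left_inv := by
        intro w
        by_cases h : w.1 ∈ S
        · simp [h]
        · simp [h]
      right_inv := by
        rintro (w | w)
        · simp [w.2.1]
        · simp [w.2] }
  rw [Nat.card_congr e, Nat.card_sum]

lemma card_not_mem_span_add (u : V) (hu : u ≠ 0) (T : V → Prop) (hT : ∀ a : F, T (a • u)) :
    Nat.card {w : V // w ∉ Submodule.span F {u} ∧ T w} + Fintype.card F =
      Nat.card {w : V // T w} := by
  rw [← natCard_span_singleton u hu]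
  apply card_not_mem_add
  intro w hw
  obtain ⟨a, rfl⟩ := Submodule.mem_span_singleton.1 hw
  exact hT a

/-- total isotropy can be checked on generators -/
lemma ti_span {B : V → V → F} (h0l : ∀ v, B 0 v = 0) (h0r : ∀ v, B v 0 = 0)
    (hal : ∀ u u' v, B (u + u') v = B u v + B u' v)
    (har : ∀ u v v', B u (v + v') = B u v + B u v')
    (hsl : ∀ (a : F) u v, B u v = 0 → B (a • u) v = 0)
    (hsr : ∀ (a : F) u v, B u v = 0 → B u (a • v) = 0)
    (S : Set V) (hS : ∀ u ∈ S, ∀ v ∈ S, B u v = 0) :
    ∀ u ∈ Submodule.span F S, ∀ v ∈ Submodule.span F S, B u v = 0 := by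
  have h1 : ∀ u ∈ S, ∀ v ∈ Submodule.span F S, B u v = 0 := by
    intro u hu v hv
    induction hv using Submodule.span_induction with
    | mem x hx => exact hS u hu x hx
    | zero => exact h0r u
    | add x y _ _ hx hy => rw [har, hx, hy, add_zero]
    | smul a x _ hx => exact hsr a u x hx
  intro u hu v hv
  induction hu using Submodule.span_induction with
  | mem x hx => exact h1 x hx v hv
  | zero => exact h0l v
  | add x y _ _ hx hy => rw [hal, hx, hy, add_zero]
  | smul a x _ hx => exact hsl a x v hx

/-- the fibre of `s ↦ span (range s)` over a 2-dimensional subspace -/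
noncomputable def fiberEquiv (W : Submodule F V) (hW : finrank F W = 2) :
    {s : Fin 2 → V // LinearIndependent F s ∧ Submodule.span F (Set.range s) = W} ≃
      {t : Fin 2 → W // LinearIndependent F t} where
  toFun s := ⟨fun i => ⟨s.1 i, by
      have h := s.2.2
      have h2 : s.1 i ∈ Submodule.span F (Set.range s.1) :=
        Submodule.subset_span (Set.mem_range_self i)
      rw [h] at h2
      exact h2⟩, by
      apply LinearIndependent.of_comp W.subtype
      exact s.2.1⟩
  invFun t := ⟨fun i => (t.1 i : V), by
      have hli : LinearIndependent F (fun i => (t.1 i : V)) :=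
        t.2.map' W.subtype (Submodule.ker_subtype W)
      refine ⟨hli, ?_⟩
      apply Submodule.eq_of_le_of_finrank_eq
      · rw [Submodule.span_le]
        rintro _ ⟨i, rfl⟩
        exact (t.1 i).2
      · rw [finrank_span_eq_card hli, hW, Fintype.card_fin]⟩
  left_inv s := by
    apply Subtype.ext
    rfl
  right_inv t := by
    apply Subtype.ext
    rfl

lemma card_fiber (W : Submodule F V) (hW : finrank F W = 2) :
    Nat.card {s : Fin 2 → V // LinearIndependent F s ∧ Submodule.span F (Set.range s) = W} =
      (Fintype.card F ^ 2 - 1) * (Fintype.card F ^ 2 - Fintype.card F) := by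
  rw [Nat.card_congr (fiberEquiv W hW), card_linearIndependent (by rw [hW]), hW,
    Fin.prod_univ_two]
  simp

/-- Counting 2-dimensional subspaces with a property via ordered bases. -/
theorem card_two_subspaces (P : Submodule F V → Prop) :
    Nat.card {s : Fin 2 → V // LinearIndependent F s ∧ P (Submodule.span F (Set.range s))} =
      Nat.card {W : Submodule F V // finrank F W = 2 ∧ P W} *
        ((Fintype.card F ^ 2 - 1) * (Fintype.card F ^ 2 - Fintype.card F)) := by
  classical
  have : Finite (Submodule F V) := Finite.of_injective (fun W => (W : Set V)) SetLike.coe_injective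
  let f : {s : Fin 2 → V // LinearIndependent F s ∧ P (Submodule.span F (Set.range s))} →
      {W : Submodule F V // finrank F W = 2 ∧ P W} := fun s =>
    ⟨Submodule.span F (Set.range s.1), by
      rw [finrank_span_eq_card s.2.1, Fintype.card_fin], s.2.2⟩
  have e := Equiv.sigmaFiberEquiv f
  rw [← Nat.card_congr e]
  have : Fintype {W : Submodule F V // finrank F W = 2 ∧ P W} := Fintype.ofFinite _
  rw [Nat.card_sigma]
  have hfib : ∀ W : {W : Submodule F V // finrank F W = 2 ∧ P W},
      Nat.card {s // f s = W} =
        (Fintype.card F ^ 2 - 1) * (Fintype.card F ^ 2 - Fintype.card F) := by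
    intro W
    rw [← card_fiber W.1 W.2.1]
    apply Nat.card_congr
    refine
      { toFun := fun s => ⟨s.1.1, s.1.2.1, congrArg Subtype.val s.2⟩
        invFun := fun s => ⟨⟨s.1, s.2.1, by rw [s.2.2]; exact W.2.2⟩, Subtype.ext s.2.2⟩
        left_inv := fun s => rfl
        right_inv := fun s => rfl }
  simp only [hfib, Finset.sum_const, Finset.card_univ, smul_eq_mul, Nat.card_eq_fintype_card]

lemma finrank_span_pair {u w : V} (hu : u ≠ 0) (hw : w ∉ Submodule.span F {u}) :
    finrank F (Submodule.span F {u, w}) = 2 := by
  have hli : LinearIndependent F ![u, w] := by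
    rw [LinearIndependent.pair_iff' hu]
    intro a h
    exact hw (Submodule.mem_span_singleton.2 ⟨a, h⟩)
  have := finrank_span_eq_card hli
  rw [Matrix.range_cons_cons_empty, Fintype.card_fin] at this
  exact this

/-- Counting 2-dimensional subspaces through a given vector with a property. -/
theorem card_two_subspaces_through (v : V) (hv : v ≠ 0) (P : Submodule F V → Prop) :
    Nat.card {w : V // w ∉ Submodule.span F {v} ∧ P (Submodule.span F {v, w})} =
      Nat.card {W : Submodule F V // finrank F W = 2 ∧ v ∈ W ∧ P W} *
        (Fintype.card F ^ 2 - Fintype.card F) := by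
  classical
  have : Finite (Submodule F V) := Finite.of_injective (fun W => (W : Set V)) SetLike.coe_injective
  let f : {w : V // w ∉ Submodule.span F {v} ∧ P (Submodule.span F {v, w})} →
      {W : Submodule F V // finrank F W = 2 ∧ v ∈ W ∧ P W} := fun w =>
    ⟨Submodule.span F {v, w.1}, finrank_span_pair hv w.2.1,
      Submodule.subset_span (Set.mem_insert _ _), w.2.2⟩
  have e := Equiv.sigmaFiberEquiv f
  rw [← Nat.card_congr e]
  have : Fintype {W : Submodule F V // finrank F W = 2 ∧ v ∈ W ∧ P W} := Fintype.ofFinite _
  rw [Nat.card_sigma]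
  have hfib : ∀ W : {W : Submodule F V // finrank F W = 2 ∧ v ∈ W ∧ P W},
      Nat.card {s // f s = W} = Fintype.card F ^ 2 - Fintype.card F := by
    intro W
    have h1 : Nat.card {w : V // w ∉ Submodule.span F {v} ∧ w ∈ W.1} + Fintype.card F =
        Nat.card {w : V // w ∈ W.1} := by
      apply card_not_mem_span_add v hv
      intro a
      exact W.1.smul_mem a W.2.2.1
    have h2 : Nat.card {w : V // w ∈ W.1} = Fintype.card F ^ 2 := by
      have := natCard_submodule W.1
      rw [W.2.1] at this
      exact this
    have h3 : Nat.card {s // f s = W} =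
        Nat.card {w : V // w ∉ Submodule.span F {v} ∧ w ∈ W.1} := by
      apply Nat.card_congr
      refine
        { toFun := fun s => ⟨s.1.1, s.1.2.1, ?_⟩
          invFun := fun s => ⟨⟨s.1, s.2.1, ?_⟩, ?_⟩
          left_inv := fun s => rfl
          right_inv := fun s => rfl }
      · have := congrArg Subtype.val s.2
        rw [← this]
        exact Submodule.subset_span (Set.mem_insert_of_mem _ rfl)
      · have hle : Submodule.span F {v, s.1} ≤ W.1 := by
          rw [Submodule.span_le]
          rintro x (rfl | rfl)
          · exact W.2.2.1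
          · exact s.2.2
        have := Submodule.eq_of_le_of_finrank_eq hle
          (by rw [finrank_span_pair hv s.2.1, W.2.1])
        rw [this]
        exact W.2.2.2
      · apply Subtype.ext
        have hle : Submodule.span F {v, s.1} ≤ W.1 := by
          rw [Submodule.span_le]
          rintro x (rfl | rfl)
          · exact W.2.2.1
          · exact s.2.2
        exact Submodule.eq_of_le_of_finrank_eq hle
          (by rw [finrank_span_pair hv s.2.1, W.2.1])
    omega
  simp only [hfib, Finset.sum_const, Finset.card_univ, smul_eq_mul, Nat.card_eq_fintype_card]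

/-- Counting ordered independent pairs `(u, w)` with `R u w`. -/
theorem card_pairs (R : V → V → Prop) (Zp : V → Prop) (c : ℕ)
    (hR : ∀ u w, R u w → Zp u)
    (hc : ∀ u, u ≠ 0 → Zp u →
      Nat.card {w : V // w ∉ Submodule.span F {u} ∧ R u w} = c) :
    Nat.card {s : Fin 2 → V // LinearIndependent F s ∧ R (s 0) (s 1)} =
      Nat.card {u : V // u ≠ 0 ∧ Zp u} * c := by
  classical
  have e : {s : Fin 2 → V // LinearIndependent F s ∧ R (s 0) (s 1)} ≃
      Σ u : {u : V // u ≠ 0 ∧ Zp u}, {w : V // w ∉ Submodule.span F {u.1} ∧ R u.1 w} :=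
    { toFun := fun s => ⟨⟨s.1 0, s.2.1.ne_zero 0, hR _ _ s.2.2⟩, ⟨s.1 1, by
          intro h
          obtain ⟨a, ha⟩ := Submodule.mem_span_singleton.1 h
          have h2 := (LinearIndependent.pair_iff' (s.2.1.ne_zero 0)).1 (by
            have : s.1 = ![s.1 0, s.1 1] := by
              funext i; fin_cases i <;> rfl
            rw [← this]; exact s.2.1) a
          exact h2 ha, s.2.2⟩⟩
      invFun := fun x => ⟨![x.1.1, x.2.1], by
          rw [LinearIndependent.pair_iff' x.1.2.1]
          intro a h
          exact x.2.2.1 (Submodule.mem_span_singleton.2 ⟨a, h⟩), x.2.2.2⟩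
      left_inv := by
        intro s
        apply Subtype.ext
        funext i
        fin_cases i <;> rfl
      right_inv := fun x => rfl }
  rw [Nat.card_congr e]
  have : Fintype {u : V // u ≠ 0 ∧ Zp u} := Fintype.ofFinite _
  rw [Nat.card_sigma]
  have : ∀ u : {u : V // u ≠ 0 ∧ Zp u},
      Nat.card {w : V // w ∉ Submodule.span F {u.1} ∧ R u.1 w} = c :=
    fun u => hc u.1 u.2.1 u.2.2
  simp only [this, Finset.sum_const, Finset.card_univ, smul_eq_mul, Nat.card_eq_fintype_card]

end TwoSub

end Cfsg.Agent.Lib.Helper5
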