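import Cfsg.Agent.Lib.Helper37.G2zDefs

/-! # G2z mini-hive (S4279, helper37): leaf G2Z-SUB `good_sub` -/

set_option autoImplicit false

namespace Cfsg.Agent.Lib.Helper37.G2z

open Cfsg Cfsg.Lie Cfsg.Agent.Lib.Helper36 Cfsg.Agent.Lib.Helper20.G2c Cfsg.Agent.Lib.Helper18

/-- G2Z-SUB -/
theorem good_sub {A : Type*} [Group A] {S : Type*} [Group S] (N : ℕ) (G : Subgroup A) (t0 : A) (ht0 : t0 ∈ G)
    (L1 L2 : Subgroup A) (h1 : L1 ≤ G) (h2 : L2 ≤ G)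
    (hcard : Nat.card ↥(G ⊓ Subgroup.centralizer {t0}) = N)
    (e1 : Nonempty (L1 ≃* S)) (e2 : Nonempty (L2 ≃* S))
    (hcomm : ∀ x ∈ L1, ∀ y ∈ L2, x * y = y * x)
    (hinf : L1 ⊓ L2 = Subgroup.zpowers t0)
    (hle : L1 ⊔ L2 ≤ G ⊓ Subgroup.centralizer {t0})
    (hidx : (L1 ⊔ L2).relIndex (G ⊓ Subgroup.centralizer {t0}) = 2) :
    Good ↥G S N ⟨t0, ht0⟩ := by
  have hC : Subgroup.centralizer ({(⟨t0, ht0⟩ : ↥G)} : Set ↥G) =
      (G ⊓ Subgroup.centralizer {t0}).subgroupOf G := by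
    ext x
    rw [Subgroup.mem_centralizer_singleton_iff, Subgroup.mem_subgroupOf, Subgroup.mem_inf,
      Subgroup.mem_centralizer_singleton_iff, Subtype.ext_iff]
    constructor
    · intro h
      exact ⟨x.2, h⟩
    · intro h
      exact h.2
  have hsup : L1.subgroupOf G ⊔ L2.subgroupOf G = (L1 ⊔ L2).subgroupOf G :=
    (Subgroup.subgroupOf_sup h1 h2).symm
  refine ⟨?_, L1.subgroupOf G, L2.subgroupOf G, ?_, ?_, ?_, ?_, ?_, ?_⟩
  · rw [hC, Nat.card_congr (Subgroup.subgroupOfEquivOfLe (inf_le_left :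
      G ⊓ Subgroup.centralizer {t0} ≤ G)).toEquiv]
    exact hcard
  · obtain ⟨e⟩ := e1
    exact ⟨(Subgroup.subgroupOfEquivOfLe h1).trans e⟩
  · obtain ⟨e⟩ := e2
    exact ⟨(Subgroup.subgroupOfEquivOfLe h2).trans e⟩
  · intro x hx y hy
    apply Subtype.ext
    exact hcomm x.1 (Subgroup.mem_subgroupOf.mp hx) y.1 (Subgroup.mem_subgroupOf.mp hy)
  · ext x
    rw [Subgroup.mem_inf, Subgroup.mem_subgroupOf, Subgroup.mem_subgroupOf, ← Subgroup.mem_inf, hinf,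
      Subgroup.mem_zpowers_iff, Subgroup.mem_zpowers_iff]
    constructor
    · rintro ⟨k, hk⟩
      exact ⟨k, Subtype.ext (by rw [Subgroup.coe_zpow]; exact hk)⟩
    · rintro ⟨k, hk⟩
      refine ⟨k, ?_⟩
      rw [← hk, Subgroup.coe_zpow]
  · rw [hsup, hC]
    intro x hx
    rw [Subgroup.mem_subgroupOf] at hx ⊢
    exact hle hx
  · rw [hsup, hC, Subgroup.relIndex_subgroupOf inf_le_left]
    exact hidx

end Cfsg.Agent.Lib.Helper37.G2z
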