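import Mathlib
import Cfsg.Prelude.Def_Classical
import Cfsg.Agent.Lib.Helper5.PSL2Center
import Cfsg.Agent.Lib.Helper5.PSLSimple
import Cfsg.Agent.Lib.Helper37.OmegaIndex
import Cfsg.Agent.Lib.Helper43.Gram

set_option autoImplicit false
set_option linter.unusedSimpArgs false
set_option linter.unusedVariables false
set_option linter.unnecessarySeqFocus false
set_option linter.unusedSectionVars false

namespace Cfsg.Agent.Lib.Helper5.Om6

open Matrix
open scoped commutatorElement

abbrev I6 := Fin 3 ⊕ Fin 3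

variable {F : Type*} [Field F]

/-- the Pfaffian of a `4 × 4` matrix (meaningful for alternating ones) -/
def pf (X : Matrix (Fin 4) (Fin 4) F) : F := X 0 1 * X 2 3 - X 0 2 * X 1 3 + X 0 3 * X 1 2

/-- the alternating matrix with given Plücker coordinates -/
def altM (p12 p13 p14 p23 p24 p34 : F) : Matrix (Fin 4) (Fin 4) F :=
  !![0, p12, p13, p14; -p12, 0, p23, p24; -p13, -p23, 0, p34; -p14, -p24, -p34, 0]

lemma det4 (A : Matrix (Fin 4) (Fin 4) F) : A.det =
    A 0 0 * (A 1 1 * (A 2 2 * A 3 3 - A 2 3 * A 3 2) - A 1 2 * (A 2 1 * A 3 3 - A 2 3 * A 3 1) + A 1 3 * (A 2 1 * A 3 2 - A 2 2 * A 3 1))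
    - A 0 1 * (A 1 0 * (A 2 2 * A 3 3 - A 2 3 * A 3 2) - A 1 2 * (A 2 0 * A 3 3 - A 2 3 * A 3 0) + A 1 3 * (A 2 0 * A 3 2 - A 2 2 * A 3 0))
    + A 0 2 * (A 1 0 * (A 2 1 * A 3 3 - A 2 3 * A 3 1) - A 1 1 * (A 2 0 * A 3 3 - A 2 3 * A 3 0) + A 1 3 * (A 2 0 * A 3 1 - A 2 1 * A 3 0))
    - A 0 3 * (A 1 0 * (A 2 1 * A 3 2 - A 2 2 * A 3 1) - A 1 1 * (A 2 0 * A 3 2 - A 2 2 * A 3 0) + A 1 2 * (A 2 0 * A 3 1 - A 2 1 * A 3 0)) := by
  rw [Matrix.det_succ_row_zero]
  simp [Fin.sum_univ_four, Matrix.det_fin_three, Fin.succAbove, Matrix.submatrix_apply]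
  ring

set_option maxHeartbeats 1000000 in
lemma pf_conj (A : Matrix (Fin 4) (Fin 4) F) (p12 p13 p14 p23 p24 p34 : F) :
    pf (A * altM p12 p13 p14 p23 p24 p34 * Aᵀ) = A.det * pf (altM p12 p13 p14 p23 p24 p34) := by
  rw [det4]
  simp only [pf, altM, Matrix.mul_apply, Fin.sum_univ_four, Matrix.transpose_apply]
  simp
  ring

/-- alternating matrices -/
def IsAlt (X : Matrix (Fin 4) (Fin 4) F) : Prop := Xᵀ = -X ∧ ∀ i, X i i = 0

/-- the alternating matrix of a vector -/
def toA (v : I6 → F) : Matrix (Fin 4) (Fin 4) F :=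
  altM (v (.inl 0)) (v (.inl 1)) (v (.inl 2)) (v (.inr 2)) (- v (.inr 1)) (v (.inr 0))

/-- the vector of a matrix -/
def ofA (X : Matrix (Fin 4) (Fin 4) F) : I6 → F :=
  Sum.elim ![X 0 1, X 0 2, X 0 3] ![X 2 3, - X 1 3, X 1 2]

lemma ofA_toA (v : I6 → F) : ofA (toA v) = v := by
  funext i
  rcases i with i | i <;> fin_cases i <;> simp [ofA, toA, altM]

lemma isAlt_toA (v : I6 → F) : IsAlt (toA v) := by
  constructor
  · ext i j
    fin_cases i <;> fin_cases j <;> simp [toA, altM]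
  · intro i
    fin_cases i <;> simp [toA, altM]

lemma toA_ofA {X : Matrix (Fin 4) (Fin 4) F} (h : IsAlt X) : toA (ofA X) = X := by
  obtain ⟨h1, h2⟩ := h
  have h1' : ∀ i j, X j i = - X i j := fun i j => by
    have := congrFun (congrFun h1 i) j
    simpa using this
  ext i j
  fin_cases i <;> fin_cases j <;> simp [toA, ofA, altM, h2]
  · exact (h1' 0 1).symm
  · exact (h1' 0 2).symm
  · exact (h1' 1 2).symm
  · exact (h1' 0 3).symm
  · exact (h1' 1 3).symm
  · exact (h1' 2 3).symm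

lemma isAlt_conj (A : Matrix (Fin 4) (Fin 4) F) {X : Matrix (Fin 4) (Fin 4) F} (h : IsAlt X) :
    IsAlt (A * X * Aᵀ) := by
  obtain ⟨h1, h2⟩ := h
  constructor
  · rw [Matrix.transpose_mul, Matrix.transpose_mul, Matrix.transpose_transpose, h1]
    simp [Matrix.mul_assoc]
  · intro i
    have h1' : ∀ i j, X j i = - X i j := fun i j => by
      have := congrFun (congrFun h1 i) j
      simpa using this
    simp only [Matrix.mul_apply, Fin.sum_univ_four, Matrix.transpose_apply]
    rw [h2 0, h2 1, h2 2, h2 3, h1' 0 1, h1' 0 2, h1' 0 3, h1' 1 2, h1' 1 3, h1' 2 3]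
    ring

lemma pf_toA (v : I6 → F) : pf (toA v) = Cfsg.quadFormPlus 3 F v := by
  simp [pf, toA, altM, Cfsg.quadFormPlus, Fin.sum_univ_three]

lemma toA_add (u v : I6 → F) : toA (u + v) = toA u + toA v := by
  ext i j
  fin_cases i <;> fin_cases j <;> simp [toA, altM] <;> ring

lemma toA_smul (a : F) (v : I6 → F) : toA (a • v) = a • toA v := by
  ext i j
  fin_cases i <;> fin_cases j <;> simp [toA, altM]

lemma ofA_add (M N : Matrix (Fin 4) (Fin 4) F) : ofA (M + N) = ofA M + ofA N := by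
  funext i
  rcases i with i | i <;> fin_cases i <;> simp [ofA] <;> ring

lemma ofA_smul (a : F) (M : Matrix (Fin 4) (Fin 4) F) : ofA (a • M) = a • ofA M := by
  funext i
  rcases i with i | i <;> fin_cases i <;> simp [ofA]

/-- the exterior square action as a linear map -/
noncomputable def wLin (g : GL (Fin 4) F) : (I6 → F) →ₗ[F] (I6 → F) where
  toFun v := ofA ((g : Matrix (Fin 4) (Fin 4) F) * toA v * (g : Matrix (Fin 4) (Fin 4) F)ᵀ)
  map_add' u v := by
    rw [toA_add, mul_add, add_mul, ofA_add]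
  map_smul' a v := by
    rw [toA_smul, Matrix.mul_smul, Matrix.smul_mul, ofA_smul]
    rfl

lemma wLin_apply (g : GL (Fin 4) F) (v : I6 → F) :
    wLin g v = ofA ((g : Matrix (Fin 4) (Fin 4) F) * toA v * (g : Matrix (Fin 4) (Fin 4) F)ᵀ) := rfl

lemma toA_wLin (g : GL (Fin 4) F) (v : I6 → F) :
    toA (wLin g v) = (g : Matrix (Fin 4) (Fin 4) F) * toA v * (g : Matrix (Fin 4) (Fin 4) F)ᵀ := by
  rw [wLin_apply, toA_ofA (isAlt_conj _ (isAlt_toA v))]

lemma wLin_one : wLin (1 : GL (Fin 4) F) = 1 := by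
  apply LinearMap.ext
  intro v
  rw [wLin_apply]
  simp [ofA_toA]

lemma wLin_mul (g h : GL (Fin 4) F) : wLin (g * h) = wLin g * wLin h := by
  apply LinearMap.ext
  intro v
  rw [Module.End.mul_apply, wLin_apply g, toA_wLin, wLin_apply]
  congr 1
  rw [Units.val_mul, Matrix.transpose_mul]
  simp only [Matrix.mul_assoc]

/-- the exterior square action as a monoid hom to endomorphisms -/
noncomputable def wEnd : GL (Fin 4) F →* Module.End F (I6 → F) where
  toFun := wLin
  map_one' := wLin_one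
  map_mul' := wLin_mul

/-- the exterior square action as a monoid hom to `GL₆` -/
noncomputable def wGL : GL (Fin 4) F →* GL I6 F :=
  (((LinearMap.toMatrixAlgEquiv' (R := F) (n := I6)).toMulEquiv.toMonoidHom).comp wEnd).toHomUnits

lemma wGL_mulVec (g : GL (Fin 4) F) (v : I6 → F) :
    ((wGL g : GL I6 F) : Matrix I6 I6 F) *ᵥ v = wLin g v := by
  unfold wGL
  rw [MonoidHom.coe_toHomUnits]
  simp only [MonoidHom.coe_comp, Function.comp_apply]
  change (LinearMap.toMatrix' (wLin g)) *ᵥ v = _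
  rw [LinearMap.toMatrix'_mulVec]

lemma quadFormPlus_wLin (g : GL (Fin 4) F) (v : I6 → F) :
    Cfsg.quadFormPlus 3 F (wLin g v) =
      (g : Matrix (Fin 4) (Fin 4) F).det * Cfsg.quadFormPlus 3 F v := by
  rw [← pf_toA, toA_wLin, ← pf_toA]
  unfold toA
  rw [pf_conj]

lemma wGL_mem (g : GL (Fin 4) F) (hg : (g : Matrix (Fin 4) (Fin 4) F).det = 1) :
    wGL g ∈ Cfsg.isometryGroup F (Cfsg.quadFormPlus 3 F) := by
  intro u v
  change Cfsg.quadFormPlus 3 F (((wGL g : GL I6 F) : Matrix I6 I6 F) *ᵥ u) = _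
  rw [wGL_mulVec, quadFormPlus_wLin, hg, one_mul]

/-- the exterior square action as a hom `SL₄ → O⁺₆` -/
noncomputable def wO : Matrix.SpecialLinearGroup (Fin 4) F →*
    Cfsg.isometryGroup F (Cfsg.quadFormPlus 3 F) :=
  (wGL.comp Matrix.SpecialLinearGroup.toGL).codRestrict _ (fun g => wGL_mem _ g.2)

lemma wO_mem_Omega (s : Matrix.SpecialLinearGroup (Fin 4) F) :
    wO s ∈ Cfsg.Omega F (Cfsg.quadFormPlus 3 F) := by
  have h1 : s ∈ commutator (Matrix.SpecialLinearGroup (Fin 4) F) := by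
    rw [commutator_SL_eq_top (by simp)]
    exact Subgroup.mem_top _
  have h2 : (commutator (Matrix.SpecialLinearGroup (Fin 4) F)).map (wO (F := F)) ≤
      commutator (Cfsg.isometryGroup F (Cfsg.quadFormPlus 3 F)) := by
    rw [commutator_def, Subgroup.map_commutator, commutator_def]
    exact Subgroup.commutator_mono le_top le_top
  exact h2 (Subgroup.mem_map_of_mem _ h1)

/-- the exterior square action `SL₄ → Ω⁺₆` -/
noncomputable def wOmega : Matrix.SpecialLinearGroup (Fin 4) F →*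
    Cfsg.Omega F (Cfsg.quadFormPlus 3 F) :=
  wO.codRestrict _ wO_mem_Omega

lemma wOmega_eq_one_iff (g : Matrix.SpecialLinearGroup (Fin 4) F) :
    wOmega g = 1 ↔ ∀ v, wLin (Matrix.SpecialLinearGroup.toGL g) v = v := by
  constructor
  · intro h v
    have h1 : wGL (Matrix.SpecialLinearGroup.toGL g) = 1 := by
      have := congrArg (fun x => ((x : Cfsg.Omega F (Cfsg.quadFormPlus 3 F)) :
        Cfsg.isometryGroup F (Cfsg.quadFormPlus 3 F)).1) h
      exact this
    rw [← wGL_mulVec, h1, Units.val_one, Matrix.one_mulVec]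
  · intro h
    apply Subtype.ext
    apply Subtype.ext
    apply Units.ext
    change ((wGL (Matrix.SpecialLinearGroup.toGL g) : GL I6 F) : Matrix I6 I6 F) = 1
    apply Matrix.toLin'.injective
    apply LinearMap.ext
    intro v
    rw [Matrix.toLin'_apply, wGL_mulVec, h, Matrix.toLin'_one, LinearMap.id_apply]

/-- a proper normal subgroup of `SL₄` is central -/
lemma normal_le_center_or_top (N : Subgroup (Matrix.SpecialLinearGroup (Fin 4) F)) [hN : N.Normal] :
    N ≤ Subgroup.center (Matrix.SpecialLinearGroup (Fin 4) F) ∨ N = ⊤ := by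
  have hsimple : IsSimpleGroup (Matrix.ProjectiveSpecialLinearGroup (Fin 4) F) :=
    PSL_isSimpleGroup_of_three_le (by simp)
  let π := QuotientGroup.mk' (Subgroup.center (Matrix.SpecialLinearGroup (Fin 4) F))
  have hπ : Function.Surjective π := QuotientGroup.mk'_surjective _
  have hn : (N.map π).Normal := hN.map π hπ
  rcases hn.eq_bot_or_eq_top with h | h
  · left
    rw [Subgroup.map_eq_bot_iff, QuotientGroup.ker_mk'] at h
    exact h
  · right
    rw [eq_top_iff, ← commutator_SL_eq_top (F := F) (ι := Fin 4) (by simp), commutator_eq_closure,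
      Subgroup.closure_le]
    rintro _ ⟨g, g', rfl⟩
    have hg : π g ∈ N.map π := by rw [h]; exact Subgroup.mem_top _
    obtain ⟨n, hnN, hng⟩ := hg
    have hz : n⁻¹ * g ∈ Subgroup.center (Matrix.SpecialLinearGroup (Fin 4) F) := by
      rw [← QuotientGroup.eq]
      exact hng
    set z := n⁻¹ * g with hzdef
    have hgz : g = n * z := by rw [hzdef]; group
    have hzc := Subgroup.mem_center_iff.1 hz
    have : ⁅g, g'⁆ = n * (g' * n⁻¹ * g'⁻¹) := by
      rw [hgz, commutatorElement_def]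
      have h1 : n * z * g' * (n * z)⁻¹ = n * g' * n⁻¹ := by
        rw [_root_.mul_inv_rev, mul_assoc n z g', ← hzc g']
        group
      rw [h1]; group
    rw [SetLike.mem_coe, this]
    exact N.mul_mem hnN (hN.conj_mem _ (N.inv_mem hnN) g')

lemma wLin_scalar (g : GL (Fin 4) F) (ε : F) (hg : (g : Matrix (Fin 4) (Fin 4) F) = Matrix.scalar (Fin 4) ε)
    (v : I6 → F) : wLin g v = (ε ^ 2) • v := by
  rw [wLin_apply, hg]
  have : (Matrix.scalar (Fin 4) ε) * toA v * (Matrix.scalar (Fin 4) ε)ᵀ = (ε ^ 2) • toA v := by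
    have e : Matrix.scalar (Fin 4) ε = ε • (1 : Matrix (Fin 4) (Fin 4) F) := by
      rw [Matrix.smul_one_eq_diagonal]; rfl
    rw [e, Matrix.smul_mul, Matrix.one_mul, Matrix.transpose_smul, Matrix.transpose_one,
      Matrix.mul_smul, Matrix.mul_one, smul_smul, pow_two]
  rw [this, ofA_smul, ofA_toA]

lemma ker_wOmega_ne_top : (wOmega (F := F)).ker ≠ ⊤ := by
  intro h
  have hT : Matrix.SpecialLinearGroup.transvection (F := F) (show (0 : Fin 4) ≠ 1 by decide) 1 ∈
      (wOmega (F := F)).ker := by rw [h]; exact Subgroup.mem_top _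
  rw [MonoidHom.mem_ker, wOmega_eq_one_iff] at hT
  have h1 := congrFun (hT (Pi.single (.inr 2) 1)) (.inl 1)
  rw [wLin_apply] at h1
  simp [ofA, toA, altM, Matrix.mul_apply, Fin.sum_univ_four, Matrix.SpecialLinearGroup.transvection_coe,
    Matrix.transvection, Matrix.single_apply, Matrix.one_apply] at h1

lemma mem_ker_wOmega (s : Matrix.SpecialLinearGroup (Fin 4) F) :
    s ∈ (wOmega (F := F)).ker ↔ ∃ ε : F, ε ^ 2 = 1 ∧ s.1 = Matrix.scalar (Fin 4) ε := by
  constructor
  · intro hs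
    have hle : (wOmega (F := F)).ker ≤ Subgroup.center (Matrix.SpecialLinearGroup (Fin 4) F) := by
      rcases normal_le_center_or_top (wOmega (F := F)).ker with h | h
      · exact h
      · exact absurd h ker_wOmega_ne_top
    obtain ⟨ε, hε, hε2⟩ := Matrix.SpecialLinearGroup.mem_center_iff.1 (hle hs)
    refine ⟨ε, ?_, hε2.symm⟩
    rw [MonoidHom.mem_ker, wOmega_eq_one_iff] at hs
    have h1 := hs (Pi.single (.inl 0) 1)
    rw [wLin_scalar _ ε hε2.symm] at h1
    have h2 := congrFun h1 (.inl 0)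
    simpa using h2
  · rintro ⟨ε, hε, hs⟩
    rw [MonoidHom.mem_ker, wOmega_eq_one_iff]
    intro v
    rw [wLin_scalar _ ε hs, hε, one_smul]

/-- the kernel of the exterior square action, in terms of square roots of one -/
noncomputable def kerEquiv : (wOmega (F := F)).ker ≃ {ε : F // ε ^ 2 = 1} where
  toFun s := ⟨s.1.1 0 0, by
    obtain ⟨ε, hε, hs⟩ := (mem_ker_wOmega s.1).1 s.2
    rw [hs]; simpa using hε⟩
  invFun ε := ⟨⟨Matrix.scalar (Fin 4) ε.1, by
      simp only [Matrix.scalar_apply, Matrix.det_diagonal, Finset.prod_const, Finset.card_univ,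
        Fintype.card_fin]
      have : ε.1 ^ 4 = (ε.1 ^ 2) ^ 2 := by ring
      rw [this, ε.2, one_pow]⟩, (mem_ker_wOmega _).2 ⟨ε.1, ε.2, rfl⟩⟩
  left_inv s := by
    apply Subtype.ext
    apply Subtype.ext
    obtain ⟨ε, hε, hs⟩ := (mem_ker_wOmega s.1).1 s.2
    change Matrix.scalar (Fin 4) (s.1.1 0 0) = s.1.1
    rw [hs]; simp
  right_inv ε := by
    apply Subtype.ext
    change (Matrix.scalar (Fin 4) ε.1) 0 0 = ε.1
    simp

lemma card_sq_eq_one_even (h2 : (2 : F) = 0) : Nat.card {ε : F // ε ^ 2 = 1} = 1 := by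
  rw [Nat.card_eq_one_iff_unique]
  refine ⟨⟨?_⟩, ⟨⟨1, one_pow 2⟩⟩⟩
  intro a b
  apply Subtype.ext
  have ha : (a.1 - 1) ^ 2 = 0 := by
    have := a.2
    linear_combination this + (1 - a.1) * h2
  have hb : (b.1 - 1) ^ 2 = 0 := by
    have := b.2
    linear_combination this + (1 - b.1) * h2
  have ha' := pow_eq_zero_iff (n := 2) (by norm_num) |>.1 ha
  have hb' := pow_eq_zero_iff (n := 2) (by norm_num) |>.1 hb
  linear_combination ha' - hb'

lemma card_sq_eq_one_odd (h2 : (2 : F) ≠ 0) : Nat.card {ε : F // ε ^ 2 = 1} = 2 := by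
  rw [Nat.card_eq_two_iff]
  refine ⟨⟨1, one_pow 2⟩, ⟨-1, by ring⟩, ?_, ?_⟩
  · intro h
    have := congrArg Subtype.val h
    apply h2
    linear_combination this
  · ext a
    simp only [Set.mem_insert_iff, Set.mem_singleton_iff, Set.mem_univ, iff_true]
    have : (a.1 - 1) * (a.1 + 1) = 0 := by
      have := a.2
      linear_combination this
    rcases mul_eq_zero.1 this with h | h
    · left; apply Subtype.ext; linear_combination h
    · right; apply Subtype.ext; linear_combination h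

/-- the Gram matrix of `quadFormPlus m` -/
def gramPlus (m : ℕ) (F : Type*) [Field F] : Matrix (Fin m ⊕ Fin m) (Fin m ⊕ Fin m) F :=
  Matrix.fromBlocks (0 : Matrix (Fin m) (Fin m) F) 1 1 0

lemma gramPlus_isGram (m : ℕ) (h2 : (2 : F) ≠ 0) :
    Cfsg.Agent.Lib.Helper37.IsGram (Cfsg.quadFormPlus m F) (gramPlus m F) where
  two_ne := h2
  symm := by
    unfold gramPlus
    rw [Matrix.IsSymm, Matrix.fromBlocks_transpose]
    simp
  self := by
    intro u
    rw [Matrix.toBilin'_apply']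
    unfold gramPlus Cfsg.quadFormPlus
    simp only [dotProduct, Matrix.mulVec, Fintype.sum_sum_type, Matrix.fromBlocks_apply₁₁,
      Matrix.fromBlocks_apply₁₂, Matrix.fromBlocks_apply₂₁, Matrix.fromBlocks_apply₂₂,
      Matrix.zero_apply, zero_mul, Finset.sum_const_zero, zero_add, add_zero, Matrix.one_apply,
      ite_mul, one_mul, Finset.sum_ite_eq, Finset.mem_univ, if_true]
    rw [two_mul]
    congr 1
    apply Finset.sum_congr rfl
    intro i _
    ring

lemma index_omega6_odd [Fintype F] (h2 : (2 : F) ≠ 0) :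
    (Cfsg.Omega F (Cfsg.quadFormPlus 3 F)).index = 4 :=
  Cfsg.Agent.Lib.Helper37.index_omega_eq_four (gramPlus_isGram 3 h2)
    (by
      unfold gramPlus
      rw [Cfsg.Agent.Lib.Helper43.det_fromBlocks_zero_one_one_zero]
      norm_num) (by simp)

end Cfsg.Agent.Lib.Helper5.Om6
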