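import Mathlib
import Cfsg.Prelude.Def_Classical
import Cfsg.Agent.Lib.Helper5.Omega6Base
import Cfsg.Agent.Lib.Helper5.SympCenter
import Cfsg.Agent.S0270
import Cfsg.Agent.S0269
import Cfsg.Agent.S0245
import Cfsg.Agent.S0286
import Cfsg.Agent.S0246

set_option autoImplicit false
set_option linter.unusedSimpArgs false
set_option linter.unusedVariables false
set_option linter.unnecessarySeqFocus false
set_option linter.unusedSectionVars false

namespace Cfsg.Agent.Lib.Helper5.Om5

open Matrix Om6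
open scoped commutatorElement

abbrev I5 := Unit ⊕ (Fin 2 ⊕ Fin 2)
abbrev S4 := Fin 2 ⊕ Fin 2

variable {F : Type*} [Field F]

/-- the reindexing `Fin 2 ⊕ Fin 2 ≃ Fin 4` -/
def e4 : S4 ≃ Fin 4 where
  toFun := Sum.elim ![0, 1] ![2, 3]
  invFun := ![.inl 0, .inl 1, .inr 0, .inr 1]
  left_inv := by decide
  right_inv := by decide

/-- reindexing a matrix -/
def reMat (A : Matrix S4 S4 F) : Matrix (Fin 4) (Fin 4) F := A.submatrix e4.symm e4.symm

lemma reMat_mul (A B : Matrix S4 S4 F) : reMat (A * B) = reMat A * reMat B := by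
  unfold reMat
  rw [Matrix.submatrix_mul_equiv]

lemma reMat_one : reMat (1 : Matrix S4 S4 F) = 1 := by
  unfold reMat
  rw [Matrix.submatrix_one_equiv]

lemma reMat_transpose (A : Matrix S4 S4 F) : reMat Aᵀ = (reMat A)ᵀ := by
  unfold reMat
  rw [Matrix.transpose_submatrix]

lemma reMat_det (A : Matrix S4 S4 F) : (reMat A).det = A.det := by
  unfold reMat
  rw [Matrix.det_submatrix_equiv_self]

/-- the reindexed symplectic form -/
lemma reMat_J : reMat (Matrix.J (Fin 2) F) = altM 0 (-1) 0 0 (-1) 0 := by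
  ext i j
  fin_cases i <;> fin_cases j <;>
    simp [reMat, e4, Matrix.J, altM, Matrix.fromBlocks, Matrix.one_apply]

/-- `Sp₄ → M₄` -/
def spMat : Matrix.symplecticGroup (Fin 2) F →* Matrix (Fin 4) (Fin 4) F where
  toFun g := reMat g.1
  map_one' := reMat_one
  map_mul' g h := reMat_mul g.1 h.1

/-- `Sp₄ → GL₄` -/
noncomputable def spGL : Matrix.symplecticGroup (Fin 2) F →* GL (Fin 4) F := spMat.toHomUnits

lemma spGL_val (g : Matrix.symplecticGroup (Fin 2) F) :
    ((spGL g : GL (Fin 4) F) : Matrix (Fin 4) (Fin 4) F) = reMat g.1 := rfl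

lemma spGL_det (g : Matrix.symplecticGroup (Fin 2) F) :
    ((spGL g : GL (Fin 4) F) : Matrix (Fin 4) (Fin 4) F).det = 1 := by
  rw [spGL_val, reMat_det]
  exact SymplecticGroup.det_eq_one g.2

lemma spGL_J (g : Matrix.symplecticGroup (Fin 2) F) :
    ((spGL g : GL (Fin 4) F) : Matrix (Fin 4) (Fin 4) F) * altM 0 (-1) 0 0 (-1) 0 *
      ((spGL g : GL (Fin 4) F) : Matrix (Fin 4) (Fin 4) F)ᵀ = altM 0 (-1) 0 0 (-1) 0 := by
  rw [spGL_val, ← reMat_J, ← reMat_transpose, ← reMat_mul, ← reMat_mul]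
  congr 1
  exact (SymplecticGroup.mem_iff.1 g.2)

/-- the polar form of the Pfaffian -/
def bpf (X Y : Matrix (Fin 4) (Fin 4) F) : F :=
  X 0 1 * Y 2 3 + Y 0 1 * X 2 3 - X 0 2 * Y 1 3 - Y 0 2 * X 1 3 + X 0 3 * Y 1 2 + Y 0 3 * X 1 2

lemma pf_add (X Y : Matrix (Fin 4) (Fin 4) F) : pf (X + Y) = pf X + pf Y + bpf X Y := by
  simp only [pf, bpf, Matrix.add_apply]
  ring

lemma altM_add (p12 p13 p14 p23 p24 p34 q12 q13 q14 q23 q24 q34 : F) :
    altM p12 p13 p14 p23 p24 p34 + altM q12 q13 q14 q23 q24 q34 =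
      altM (p12 + q12) (p13 + q13) (p14 + q14) (p23 + q23) (p24 + q24) (p34 + q34) := by
  ext i j
  fin_cases i <;> fin_cases j <;> simp [altM] <;> ring

lemma bpf_conj (A : Matrix (Fin 4) (Fin 4) F) (p12 p13 p14 p23 p24 p34 q12 q13 q14 q23 q24 q34 : F) :
    bpf (A * altM p12 p13 p14 p23 p24 p34 * Aᵀ) (A * altM q12 q13 q14 q23 q24 q34 * Aᵀ) =
      A.det * bpf (altM p12 p13 p14 p23 p24 p34) (altM q12 q13 q14 q23 q24 q34) := by
  have h1 := pf_conj A (p12 + q12) (p13 + q13) (p14 + q14) (p23 + q23) (p24 + q24) (p34 + q34)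
  rw [← altM_add, Matrix.mul_add, Matrix.add_mul, pf_add, pf_add, pf_conj, pf_conj] at h1
  linear_combination h1

/-- the linear form cutting out `J^⊥` -/
def lam (v : I6 → F) : F := v (.inl 1) - v (.inr 1)

lemma bpf_toA_J (v : I6 → F) : bpf (toA v) (altM 0 (-1) 0 0 (-1) 0) = lam v := by
  simp [bpf, toA, altM, lam]

lemma lam_wLin (g : Matrix.symplecticGroup (Fin 2) F) (v : I6 → F) :
    lam (wLin (spGL g) v) = lam v := by
  rw [← bpf_toA_J, toA_wLin, ← bpf_toA_J v]
  conv_lhs => rw [← spGL_J g]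
  unfold toA
  rw [bpf_conj, spGL_det, one_mul]

/-- the embedding of the 5-space into the 6-space -/
def iota (v : I5 → F) : I6 → F :=
  Sum.elim ![v (.inr (.inl 0)), v (.inl ()), v (.inr (.inl 1))]
    ![v (.inr (.inr 0)), v (.inl ()), v (.inr (.inr 1))]

/-- the projection of the 6-space onto the 5-space -/
def proj (w : I6 → F) : I5 → F :=
  Sum.elim (fun _ => w (.inl 1)) (Sum.elim ![w (.inl 0), w (.inl 2)] ![w (.inr 0), w (.inr 2)])

lemma proj_iota (v : I5 → F) : proj (iota v) = v := by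
  funext i
  rcases i with ⟨⟩ | i | i
  · simp [proj, iota]
  · fin_cases i <;> simp [proj, iota]
  · fin_cases i <;> simp [proj, iota]

lemma iota_proj (w : I6 → F) (h : lam w = 0) : iota (proj w) = w := by
  have h' : w (.inr 1) = w (.inl 1) := by
    unfold lam at h
    linear_combination -h
  funext i
  rcases i with i | i <;> fin_cases i <;> simp [proj, iota, h']

lemma lam_iota (v : I5 → F) : lam (iota v) = 0 := by
  simp [lam, iota]

lemma iota_add (u v : I5 → F) : iota (u + v) = iota u + iota v := by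
  funext i
  rcases i with i | i <;> fin_cases i <;> simp [iota]

lemma iota_smul (a : F) (v : I5 → F) : iota (a • v) = a • iota v := by
  funext i
  rcases i with i | i <;> fin_cases i <;> simp [iota]

lemma proj_add (u v : I6 → F) : proj (u + v) = proj u + proj v := by
  funext i
  rcases i with ⟨⟩ | i | i
  · simp [proj]
  · fin_cases i <;> simp [proj]
  · fin_cases i <;> simp [proj]

lemma proj_smul (a : F) (v : I6 → F) : proj (a • v) = a • proj v := by
  funext i
  rcases i with ⟨⟩ | i | i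
  · simp [proj]
  · fin_cases i <;> simp [proj]
  · fin_cases i <;> simp [proj]

lemma quadFormOdd_eq (v : I5 → F) :
    Cfsg.quadFormOdd 2 F v = Cfsg.quadFormPlus 3 F (iota v) := by
  simp [Cfsg.quadFormOdd, Cfsg.quadFormPlus, iota, Fin.sum_univ_two, Fin.sum_univ_three]
  ring

/-- the action of `Sp₄` on the 5-space -/
noncomputable def aLin (g : Matrix.symplecticGroup (Fin 2) F) : (I5 → F) →ₗ[F] (I5 → F) where
  toFun v := proj (wLin (spGL g) (iota v))
  map_add' u v := by rw [iota_add, map_add, proj_add]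
  map_smul' a v := by rw [iota_smul, map_smul, proj_smul]; rfl

lemma aLin_apply (g : Matrix.symplecticGroup (Fin 2) F) (v : I5 → F) :
    aLin g v = proj (wLin (spGL g) (iota v)) := rfl

lemma iota_aLin (g : Matrix.symplecticGroup (Fin 2) F) (v : I5 → F) :
    iota (aLin g v) = wLin (spGL g) (iota v) := by
  rw [aLin_apply, iota_proj]
  rw [lam_wLin, lam_iota]

lemma aLin_one : aLin (1 : Matrix.symplecticGroup (Fin 2) F) = 1 := by
  apply LinearMap.ext
  intro v
  rw [aLin_apply, map_one, wLin_one]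
  simp [proj_iota]

lemma aLin_mul (g h : Matrix.symplecticGroup (Fin 2) F) : aLin (g * h) = aLin g * aLin h := by
  apply LinearMap.ext
  intro v
  rw [Module.End.mul_apply, aLin_apply g, iota_aLin, aLin_apply, map_mul, wLin_mul,
    Module.End.mul_apply]

/-- the action as a monoid hom to endomorphisms -/
noncomputable def aEnd : Matrix.symplecticGroup (Fin 2) F →* Module.End F (I5 → F) where
  toFun := aLin
  map_one' := aLin_one
  map_mul' := aLin_mul

/-- the action as a monoid hom to `GL₅` -/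
noncomputable def aGL : Matrix.symplecticGroup (Fin 2) F →* GL I5 F :=
  (((LinearMap.toMatrixAlgEquiv' (R := F) (n := I5)).toMulEquiv.toMonoidHom).comp aEnd).toHomUnits

lemma aGL_mulVec (g : Matrix.symplecticGroup (Fin 2) F) (v : I5 → F) :
    ((aGL g : GL I5 F) : Matrix I5 I5 F) *ᵥ v = aLin g v := by
  unfold aGL
  rw [MonoidHom.coe_toHomUnits]
  simp only [MonoidHom.coe_comp, Function.comp_apply]
  change (LinearMap.toMatrix' (aLin g)) *ᵥ v = _
  rw [LinearMap.toMatrix'_mulVec]

lemma quadFormOdd_aLin (g : Matrix.symplecticGroup (Fin 2) F) (v : I5 → F) :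
    Cfsg.quadFormOdd 2 F (aLin g v) = Cfsg.quadFormOdd 2 F v := by
  rw [quadFormOdd_eq, iota_aLin, quadFormPlus_wLin, spGL_det, one_mul, ← quadFormOdd_eq]

lemma aGL_mem (g : Matrix.symplecticGroup (Fin 2) F) :
    aGL g ∈ Cfsg.isometryGroup F (Cfsg.quadFormOdd 2 F) := by
  intro u v
  change Cfsg.quadFormOdd 2 F (((aGL g : GL I5 F) : Matrix I5 I5 F) *ᵥ u) = _
  rw [aGL_mulVec, quadFormOdd_aLin]

/-- the action as a hom `Sp₄ → O₅` -/
noncomputable def aO : Matrix.symplecticGroup (Fin 2) F →*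
    Cfsg.isometryGroup F (Cfsg.quadFormOdd 2 F) :=
  aGL.codRestrict _ aGL_mem

section Fin

variable [Fintype F]

lemma aO_mem_Omega (hq : 3 ≤ Fintype.card F) (s : Matrix.symplecticGroup (Fin 2) F) :
    aO s ∈ Cfsg.Omega F (Cfsg.quadFormOdd 2 F) := by
  have h1 : s ∈ commutator (Matrix.symplecticGroup (Fin 2) F) := by
    rw [Cfsg.Agent.S0269.result 2 (Or.inr (Or.inl ⟨rfl, hq⟩))]
    exact Subgroup.mem_top _
  have h2 : (commutator (Matrix.symplecticGroup (Fin 2) F)).map (aO (F := F)) ≤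
      commutator (Cfsg.isometryGroup F (Cfsg.quadFormOdd 2 F)) := by
    rw [commutator_def, Subgroup.map_commutator, commutator_def]
    exact Subgroup.commutator_mono le_top le_top
  exact h2 (Subgroup.mem_map_of_mem _ h1)

/-- the action `Sp₄ → Ω₅` -/
noncomputable def aOmega (hq : 3 ≤ Fintype.card F) : Matrix.symplecticGroup (Fin 2) F →*
    Cfsg.Omega F (Cfsg.quadFormOdd 2 F) :=
  aO.codRestrict _ (aO_mem_Omega hq)

lemma aOmega_eq_one_iff (hq : 3 ≤ Fintype.card F) (g : Matrix.symplecticGroup (Fin 2) F) :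
    aOmega hq g = 1 ↔ ∀ v, aLin g v = v := by
  constructor
  · intro h v
    have h1 : aGL g = 1 := by
      have := congrArg (fun x => ((x : Cfsg.Omega F (Cfsg.quadFormOdd 2 F)) :
        Cfsg.isometryGroup F (Cfsg.quadFormOdd 2 F)).1) h
      exact this
    rw [← aGL_mulVec, h1, Units.val_one, Matrix.one_mulVec]
  · intro h
    apply Subtype.ext
    apply Subtype.ext
    apply Units.ext
    change ((aGL g : GL I5 F) : Matrix I5 I5 F) = 1
    apply Matrix.toLin'.injective
    apply LinearMap.ext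
    intro v
    rw [Matrix.toLin'_apply, aGL_mulVec, h, Matrix.toLin'_one, LinearMap.id_apply]

/-- in a perfect group with simple central quotient, proper normal subgroups are central -/
lemma normal_le_center_or_top_of_simple {G : Type*} [Group G]
    (hs : IsSimpleGroup (G ⧸ Subgroup.center G)) (hp : commutator G = ⊤)
    (N : Subgroup G) [hN : N.Normal] : N ≤ Subgroup.center G ∨ N = ⊤ := by
  let π := QuotientGroup.mk' (Subgroup.center G)
  have hπ : Function.Surjective π := QuotientGroup.mk'_surjective _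
  have hn : (N.map π).Normal := hN.map π hπ
  rcases hn.eq_bot_or_eq_top with h | h
  · left
    rw [Subgroup.map_eq_bot_iff, QuotientGroup.ker_mk'] at h
    exact h
  · right
    rw [eq_top_iff, ← hp, commutator_eq_closure, Subgroup.closure_le]
    rintro _ ⟨g, g', rfl⟩
    have hg : π g ∈ N.map π := by rw [h]; exact Subgroup.mem_top _
    obtain ⟨n, hnN, hng⟩ := hg
    have hz : n⁻¹ * g ∈ Subgroup.center G := by
      rw [← QuotientGroup.eq]
      exact hng
    set z := n⁻¹ * g with hzdef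
    have hgz : g = n * z := by rw [hzdef]; group
    have hzc := Subgroup.mem_center_iff.1 hz
    have : ⁅g, g'⁆ = n * (g' * n⁻¹ * g'⁻¹) := by
      rw [hgz, commutatorElement_def]
      have h1 : n * z * g' * (n * z)⁻¹ = n * g' * n⁻¹ := by
        rw [_root_.mul_inv_rev, mul_assoc n z g', ← hzc g']
        group
      rw [h1]; group
    rw [SetLike.mem_coe, this]
    exact N.mul_mem hnN (hN.conj_mem _ (N.inv_mem hnN) g')

lemma ker_aOmega_ne_top (hq : 3 ≤ Fintype.card F) : (aOmega (F := F) hq).ker ≠ ⊤ := by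
  intro h
  have hT : (⟨Matrix.J (Fin 2) F, SymplecticGroup.J_mem _ _⟩ : Matrix.symplecticGroup (Fin 2) F) ∈
      (aOmega (F := F) hq).ker := by rw [h]; exact Subgroup.mem_top _
  rw [MonoidHom.mem_ker, aOmega_eq_one_iff] at hT
  have h1 := congrFun (hT (Pi.single (.inr (.inl 0)) 1)) (.inr (.inl 0))
  rw [aLin_apply, wLin_apply, spGL_val, reMat_J] at h1
  simp [proj, ofA, toA, altM, iota, Matrix.mul_apply, Fin.sum_univ_four] at h1

lemma ker_aOmega (hq : 3 ≤ Fintype.card F) :
    (aOmega (F := F) hq).ker = Subgroup.center (Matrix.symplecticGroup (Fin 2) F) := by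
  apply le_antisymm
  · have hs : IsSimpleGroup (Matrix.symplecticGroup (Fin 2) F ⧸
        Subgroup.center (Matrix.symplecticGroup (Fin 2) F)) :=
      Cfsg.Agent.S0270.result 2 le_rfl (fun _ => hq)
    rcases normal_le_center_or_top_of_simple hs
      (Cfsg.Agent.S0269.result 2 (Or.inr (Or.inl ⟨rfl, hq⟩))) (aOmega (F := F) hq).ker with h | h
    · exact h
    · exact absurd h (ker_aOmega_ne_top hq)
  · intro z hz
    rw [MonoidHom.mem_ker, aOmega_eq_one_iff]
    intro v
    rcases (mem_center_symplecticGroup_iff z).1 hz with h | h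
    · rw [aLin_apply, wLin_apply, spGL_val, h, reMat_one]
      simp [ofA_toA, proj_iota]
    · rw [aLin_apply, wLin_apply, spGL_val, h]
      have : reMat (-1 : Matrix S4 S4 F) = -1 := by
        unfold reMat
        rw [Matrix.submatrix_neg, Pi.neg_apply, Pi.neg_apply, Matrix.submatrix_one_equiv]
      rw [this]
      simp [ofA_toA, proj_iota]

end Fin

/-- in a perfect group, an element whose commutators are all central is central -/
lemma mem_center_of_commutators_central {G : Type*} [Group G] (hp : commutator G = ⊤) (s : G)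
    (h : ∀ x : G, ⁅s, x⁆ ∈ Subgroup.center G) : s ∈ Subgroup.center G := by
  have hcomm : ∀ x y : G, ⁅x, y⁆ * s = s * ⁅x, y⁆ := by
    intro x y
    have hx := Subgroup.mem_center_iff.1 (h x)
    have hy := Subgroup.mem_center_iff.1 (h y)
    have e1 : s * x * s⁻¹ = ⁅s, x⁆ * x := by rw [commutatorElement_def]; group
    have e2 : s * y * s⁻¹ = ⁅s, y⁆ * y := by rw [commutatorElement_def]; group
    have e3 : s * ⁅x, y⁆ * s⁻¹ = ⁅s * x * s⁻¹, s * y * s⁻¹⁆ := by
      simp only [commutatorElement_def]; group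
    have e4 : ⁅⁅s, x⁆ * x, ⁅s, y⁆ * y⁆ = ⁅x, y⁆ := by
      set a := ⁅s, x⁆ with ha
      set b := ⁅s, y⁆ with hb
      rw [commutatorElement_def, commutatorElement_def]
      have ha' : ∀ g, g * a⁻¹ = a⁻¹ * g := by
        intro g
        calc g * a⁻¹ = a * (a⁻¹ * g * a⁻¹) := by group
          _ = (a⁻¹ * g * a⁻¹) * a := (hx _).symm
          _ = a⁻¹ * g := by group
      have hb' : ∀ g, g * b⁻¹ = b⁻¹ * g := by
        intro g
        calc g * b⁻¹ = b * (b⁻¹ * g * b⁻¹) := by group
          _ = (b⁻¹ * g * b⁻¹) * b := (hy _).symm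
          _ = b⁻¹ * g := by group
      calc a * x * (b * y) * (a * x)⁻¹ * (b * y)⁻¹
          = a * x * (b * y) * (x⁻¹ * a⁻¹) * (y⁻¹ * b⁻¹) := by group
        _ = a * x * (b * y) * (a⁻¹ * x⁻¹) * (b⁻¹ * y⁻¹) := by rw [ha' x⁻¹, hb' y⁻¹]
        _ = x * a * (y * b) * (a⁻¹ * x⁻¹) * (b⁻¹ * y⁻¹) := by rw [hx x, hy y]
        _ = x * (a * y * (b * a⁻¹) * x⁻¹ * b⁻¹) * y⁻¹ := by group
        _ = x * (y * a * (a⁻¹ * b) * x⁻¹ * b⁻¹) * y⁻¹ := by rw [hx y, ha' b]
        _ = x * y * (b * x⁻¹) * b⁻¹ * y⁻¹ := by group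
        _ = x * y * (x⁻¹ * b) * b⁻¹ * y⁻¹ := by rw [hy x⁻¹]
        _ = x * y * x⁻¹ * y⁻¹ := by group
    rw [e1, e2, e4] at e3
    calc ⁅x, y⁆ * s = (s * ⁅x, y⁆ * s⁻¹) * s := by rw [e3]
      _ = s * ⁅x, y⁆ := by group
  have hcent : (⊤ : Subgroup G) ≤ Subgroup.centralizer {s} := by
    rw [← hp, commutator_eq_closure, Subgroup.closure_le]
    rintro _ ⟨x, y, rfl⟩
    rw [SetLike.mem_coe, Subgroup.mem_centralizer_iff]
    intro t ht
    rw [Set.mem_singleton_iff] at ht
    subst ht
    exact (hcomm x y).symm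
  rw [Subgroup.mem_center_iff]
  intro g
  have := hcent (Subgroup.mem_top g)
  rw [Subgroup.mem_centralizer_iff] at this
  exact (this s rfl).symm

lemma map_mem_center_iff' {G H : Type*} [Group G] [Group H] (f : G →* H)
    (hf : Function.Surjective f) (g : G) :
    f g ∈ Subgroup.center H ↔ ∀ x : G, ⁅g, x⁆ ∈ f.ker := by
  rw [Subgroup.mem_center_iff]
  constructor
  · intro h x
    rw [MonoidHom.mem_ker, map_commutatorElement, commutatorElement_eq_one_iff_mul_comm]
    exact (h (f x)).symm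
  · intro h y
    obtain ⟨x, rfl⟩ := hf y
    have := h x
    rw [MonoidHom.mem_ker, map_commutatorElement, commutatorElement_eq_one_iff_mul_comm] at this
    exact this.symm

/-- the Gram matrix of `quadFormOdd m` -/
def gramOdd (m : ℕ) (F : Type*) [Field F] :
    Matrix (Unit ⊕ (Fin m ⊕ Fin m)) (Unit ⊕ (Fin m ⊕ Fin m)) F :=
  Matrix.fromBlocks ((2 : F) • (1 : Matrix Unit Unit F)) 0 0
    (Matrix.fromBlocks (0 : Matrix (Fin m) (Fin m) F) 1 1 0)

lemma gramOdd_det (m : ℕ) : (gramOdd m F).det = 2 * (-1) ^ m := by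
  unfold gramOdd
  rw [Matrix.det_fromBlocks_zero₂₁, Cfsg.Agent.Lib.Helper43.det_fromBlocks_zero_one_one_zero]
  simp

lemma gramOdd_isGram (m : ℕ) (h2 : (2 : F) ≠ 0) :
    Cfsg.Agent.Lib.Helper37.IsGram (Cfsg.quadFormOdd m F) (gramOdd m F) where
  two_ne := h2
  symm := by
    unfold gramOdd
    rw [Matrix.IsSymm, Matrix.fromBlocks_transpose]
    simp [Matrix.fromBlocks_transpose]
  self := by
    intro u
    rw [Matrix.toBilin'_apply']
    unfold gramOdd Cfsg.quadFormOdd
    simp only [dotProduct, Matrix.mulVec, Fintype.sum_sum_type, Matrix.fromBlocks_apply₁₁,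
      Matrix.fromBlocks_apply₁₂, Matrix.fromBlocks_apply₂₁, Matrix.fromBlocks_apply₂₂,
      Matrix.zero_apply, zero_mul, Finset.sum_const_zero, zero_add, add_zero, Matrix.one_apply,
      ite_mul, one_mul, Finset.sum_ite_eq, Finset.mem_univ, if_true, Matrix.smul_apply,
      Finset.univ_unique, Finset.sum_singleton, smul_eq_mul, mul_one]
    rw [mul_add, two_mul (∑ i : Fin m, _)]
    congr 1
    · ring
    · congr 1
      apply Finset.sum_congr rfl
      intro i _
      ring

section Final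

variable [Fintype F]

lemma aOmega_surjective (hodd : Odd (Fintype.card F)) (hq : 3 ≤ Fintype.card F) :
    Function.Surjective (aOmega (F := F) hq) := by
  classical
  have h2 : (2 : F) ≠ 0 :=
    Cfsg.Agent.Lib.Helper43.two_ne_zero_iff_odd_card.mpr (Nat.odd_iff.mp hodd)
  obtain ⟨q, hF⟩ : ∃ q, Fintype.card F = q := ⟨_, rfl⟩
  rw [hF] at hodd
  have hS := Cfsg.Agent.S0245.result (F := F) (q := q) hF 2
  have hO := Cfsg.Agent.S0286.result (F := F) (q := q) hF hodd 2
  have hidx := Subgroup.card_mul_index (Cfsg.Omega F (Cfsg.quadFormOdd 2 F))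
  rw [Cfsg.Agent.Lib.Helper37.index_omega_eq_four (gramOdd_isGram 2 h2)
    (by rw [gramOdd_det]; simpa using h2) (by simp)] at hidx
  have hZ := Cfsg.Agent.S0246.result (F := F) (q := q) hF 2 (by omega)
  have hgcd : Nat.gcd 2 (q - 1) = 2 := by
    apply Nat.gcd_eq_left
    obtain ⟨k, hk⟩ := hodd
    omega
  rw [hgcd] at hZ
  have hrange := Subgroup.card_mul_index (aOmega (F := F) hq).ker
  rw [Subgroup.index_ker, ker_aOmega hq, hZ] at hrange
  have hRW : Nat.card (aOmega (F := F) hq).range = Nat.card (Cfsg.Omega F (Cfsg.quadFormOdd 2 F)) := by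
    have : Nat.card (Cfsg.isometryGroup F (Cfsg.quadFormOdd 2 F)) =
        2 * Nat.card (Matrix.symplecticGroup (Fin 2) F) := by
      rw [hO, hS]; ring
    rw [this, ← hrange] at hidx
    omega
  have htop : (aOmega (F := F) hq).range = ⊤ := Subgroup.eq_top_of_card_eq _ hRW
  exact MonoidHom.range_eq_top.1 htop

/-- the map to `PΩ₅` -/
noncomputable def toPOmega (hq : 3 ≤ Fintype.card F) : Matrix.symplecticGroup (Fin 2) F →*
    Cfsg.POmega F (Cfsg.quadFormOdd 2 F) :=
  (QuotientGroup.mk' _).comp (aOmega hq)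

lemma ker_toPOmega (hodd : Odd (Fintype.card F)) (hq : 3 ≤ Fintype.card F) :
    (toPOmega (F := F) hq).ker = Subgroup.center (Matrix.symplecticGroup (Fin 2) F) := by
  ext s
  rw [MonoidHom.mem_ker]
  unfold toPOmega
  rw [MonoidHom.coe_comp, Function.comp_apply, QuotientGroup.mk'_apply, QuotientGroup.eq_one_iff,
    map_mem_center_iff' _ (aOmega_surjective hodd hq), ker_aOmega hq]
  constructor
  · intro h
    exact mem_center_of_commutators_central
      (Cfsg.Agent.S0269.result 2 (Or.inr (Or.inl ⟨rfl, hq⟩))) s h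
  · intro h x
    have : ⁅s, x⁆ = 1 := by
      rw [commutatorElement_eq_one_iff_mul_comm]
      exact ((Subgroup.mem_center_iff.1 h) x).symm
    rw [this]
    exact Subgroup.one_mem _

/-- `PΩ₅(q) ≅ PSp₄(q)` for `q` odd. -/
theorem pomega5_equiv (hodd : Odd (Fintype.card F)) :
    Nonempty (Cfsg.POmega F (Cfsg.quadFormOdd 2 F) ≃* Cfsg.PSp 2 F) := by
  have hq : 3 ≤ Fintype.card F := by
    have h1 : 2 ≤ Fintype.card F := Fintype.one_lt_card
    obtain ⟨k, hk⟩ := hodd
    omega
  have hs1 : Function.Surjective (toPOmega (F := F) hq) := by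
    unfold toPOmega
    rw [MonoidHom.coe_comp]
    exact (QuotientGroup.mk'_surjective _).comp (aOmega_surjective hodd hq)
  exact ⟨(QuotientGroup.quotientKerEquivOfSurjective _ hs1).symm.trans
    (QuotientGroup.quotientMulEquivOfEq (ker_toPOmega hodd hq))⟩

end Final

end Cfsg.Agent.Lib.Helper5.Om5
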