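import Mathlib
import Cfsg.Agent.Lib.Helper43.FwDefs
import Cfsg.Agent.Lib.Helper53.SLPair

/-! # Fw hive (S3211, helper43): leaf FW-ZIN `zin` -/

set_option autoImplicit false

namespace Cfsg.Agent.Lib.Helper43.Fw

variable {G : Type*} [Group G] {L₁ L₂ : Subgroup G} {j n : G}

/-- one side of the computation: two square roots of `x c`, `x c'` in the abelian centraliser of `x` -/
theorem fwzin_side {G : Type*} [Group G] (L : Subgroup G) (j x : G)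
    (hjc : ∀ a ∈ L, a * j = j * a) (hjj : j * j = 1)
    (sq : ∀ z ∈ L, z * z = 1 → z = 1 ∨ z = j) (hx : x ∈ L) (hxx : x * x = j)
    (ab : ∀ a ∈ L, ∀ b ∈ L, a * x = x * a → b * x = x * b → a * b = b * a)
    (a a' c c' : G) (ha : a ∈ L) (ha' : a' ∈ L) (hc : c = 1 ∨ c = j) (hc' : c' = 1 ∨ c' = j)
    (haa : a * a = x * c) (haa' : a' * a' = x * c') :
    (c = c' → (a⁻¹ * a' = 1 ∨ a⁻¹ * a' = j)) ∧ (c ≠ c' → (a⁻¹ * a' = x ∨ a⁻¹ * a' = j * x)) := by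
  have hjinv : j⁻¹ = j := inv_eq_of_mul_eq_one_right hjj
  have comm_of : ∀ a c : G, a ∈ L → (c = 1 ∨ c = j) → a * a = x * c → a * x = x * a := by
    intro a c ha hc haa
    rcases hc with h1 | h1
    · rw [h1, mul_one] at haa
      rw [← haa, mul_assoc]
    · rw [h1] at haa
      have hx' : x = a * a * j := by rw [haa, mul_assoc, hjj, mul_one]
      have haj := hjc a ha
      calc a * x = a * (a * a * j) := by rw [← hx']
        _ = a * a * (a * j) := by simp only [mul_assoc]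
        _ = a * a * (j * a) := by rw [haj]
        _ = (a * a * j) * a := by simp only [mul_assoc]
        _ = x * a := by rw [← hx']
  have hax := comm_of a c ha hc haa
  have hax' := comm_of a' c' ha' hc' haa'
  have haa'c : a * a' = a' * a := ab a ha a' ha' hax hax'
  have hαL : a⁻¹ * a' ∈ L := L.mul_mem (L.inv_mem ha) ha'
  have hαx : (a⁻¹ * a') * x = x * (a⁻¹ * a') := by
    have h1 : a⁻¹ * x = x * a⁻¹ := by
      calc a⁻¹ * x = a⁻¹ * (x * a) * a⁻¹ := by group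
        _ = a⁻¹ * (a * x) * a⁻¹ := by rw [hax]
        _ = x * a⁻¹ := by group
    calc (a⁻¹ * a') * x = a⁻¹ * (a' * x) := by rw [mul_assoc]
      _ = a⁻¹ * (x * a') := by rw [hax']
      _ = (a⁻¹ * x) * a' := by rw [mul_assoc]
      _ = x * a⁻¹ * a' := by rw [h1]
      _ = x * (a⁻¹ * a') := by rw [mul_assoc]
  have hCa : Commute a a' := haa'c
  have hαα : (a⁻¹ * a') * (a⁻¹ * a') = (x * c)⁻¹ * (x * c') := by
    have h2 : a⁻¹ * a' * (a⁻¹ * a') = a⁻¹ * a⁻¹ * (a' * a') :=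
      Commute.mul_mul_mul_comm (hCa.symm.inv_right) a⁻¹ a'
    rw [h2, ← mul_inv_rev, haa, haa']
  constructor
  · intro hcc
    rw [← hcc, inv_mul_cancel] at hαα
    exact sq _ hαL hαα
  · intro hcc
    have hd : (x * c)⁻¹ * (x * c') = j := by
      rcases hc with h1 | h1 <;> rcases hc' with h2 | h2
      · exact absurd (h1.trans h2.symm) hcc
      · rw [h1, h2]; group
      · rw [h1, h2]
        have : (x * j)⁻¹ * (x * 1) = j⁻¹ := by group
        rw [this, hjinv]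
      · exact absurd (h1.trans h2.symm) hcc
    rw [hd] at hαα
    have hxinvL : x⁻¹ ∈ L := L.inv_mem hx
    have hw : ((a⁻¹ * a') * x⁻¹) * ((a⁻¹ * a') * x⁻¹) = 1 := by
      have hαxinv : x⁻¹ * (a⁻¹ * a') = (a⁻¹ * a') * x⁻¹ := by
        calc x⁻¹ * (a⁻¹ * a') = x⁻¹ * ((a⁻¹ * a') * x) * x⁻¹ := by group
          _ = x⁻¹ * (x * (a⁻¹ * a')) * x⁻¹ := by rw [hαx]
          _ = (a⁻¹ * a') * x⁻¹ := by group
      calc ((a⁻¹ * a') * x⁻¹) * ((a⁻¹ * a') * x⁻¹)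
          = (a⁻¹ * a') * (x⁻¹ * (a⁻¹ * a')) * x⁻¹ := by simp only [mul_assoc]
        _ = (a⁻¹ * a') * ((a⁻¹ * a') * x⁻¹) * x⁻¹ := by rw [hαxinv]
        _ = ((a⁻¹ * a') * (a⁻¹ * a')) * (x * x)⁻¹ := by rw [mul_inv_rev]; simp only [mul_assoc]
        _ = 1 := by rw [hαα, hxx, mul_inv_cancel]
    rcases sq _ (L.mul_mem hαL hxinvL) hw with h1 | h1
    · left
      exact mul_inv_eq_one.mp h1
    · right
      exact mul_inv_eq_iff_eq_mul.mp h1

/-- FW-ZIN (paper proof (4) [ZIN]). -/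
theorem zin (h : Setup L₁ L₂ j n) (x₁ : G) (hx : x₁ ∈ L₁) (hxx : x₁ * x₁ = j)
    (y y' : G) (hy : y ∈ L₁ ⊔ L₂) (hy' : y' ∈ L₁ ⊔ L₂) (hyy : y * y = t0 n x₁) (hyy' : y' * y' = t0 n x₁) :
    y' = y ∨ y' = y * j ∨ y' = y * t0 n x₁ ∨ y' = y * (j * t0 n x₁) := by
  have hj12 : j ∈ L₁ ⊓ L₂ := by rw [h.inter]; exact Subgroup.mem_zpowers j
  have hj1 : j ∈ L₁ := hj12.1
  have hj2 : j ∈ L₂ := hj12.2
  have hjc1 : ∀ a ∈ L₁, a * j = j * a := fun a ha => h.comm a ha j hj2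
  have hjc2 : ∀ b ∈ L₂, b * j = j * b := fun b hb => (h.comm j hj1 b hb).symm
  have hjinv : j⁻¹ = j := inv_eq_of_mul_eq_one_right h.jsq
  have hinter : ∀ c ∈ L₁, c ∈ L₂ → c = 1 ∨ c = j := by
    intro c hc1 hc2
    have hcz : c ∈ Subgroup.zpowers j := by rw [← h.inter]; exact ⟨hc1, hc2⟩
    obtain ⟨k, rfl⟩ := Subgroup.mem_zpowers_iff.mp hcz
    apply h.sq1 _ hc1
    rw [← (Commute.refl j).mul_zpow, h.jsq, one_zpow]
  obtain ⟨x₂, hx₂⟩ : ∃ x₂, x₂ = n * x₁ * n⁻¹ := ⟨_, rfl⟩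
  have hx₂L : x₂ ∈ L₂ := by rw [hx₂]; exact (h.swap x₁).mp hx
  have hnj : n * j = j * n := Subgroup.mem_centralizer_singleton_iff.mp h.nmem
  have hxx₂ : x₂ * x₂ = j := by
    calc x₂ * x₂ = n * (x₁ * x₁) * n⁻¹ := by rw [hx₂]; group
      _ = n * j * n⁻¹ := by rw [hxx]
      _ = j := by rw [hnj]; group
  have ht0 : t0 n x₁ = x₁ * x₂ := by rw [hx₂]; rfl
  rw [ht0] at hyy hyy' ⊢
  obtain ⟨a, ha, b, hb, rfl⟩ := Cfsg.Agent.Lib.Helper53.mem_sup_of_commute' L₁ L₂ h.comm hy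
  obtain ⟨a', ha', b', hb', rfl⟩ := Cfsg.Agent.Lib.Helper53.mem_sup_of_commute' L₁ L₂ h.comm hy'
  have key : ∀ a ∈ L₁, ∀ b ∈ L₂, (a * b) * (a * b) = x₁ * x₂ →
      ∃ c, (c = 1 ∨ c = j) ∧ a * a = x₁ * c ∧ b * b = x₂ * c := by
    intro a ha b hb hab
    have h1 : (a * a) * (b * b) = x₁ * x₂ := by
      rw [← hab]
      have hcm := h.comm a ha b hb
      calc a * a * (b * b) = a * (a * b) * b := by simp only [mul_assoc]
        _ = a * (b * a) * b := by rw [hcm]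
        _ = a * b * (a * b) := by simp only [mul_assoc]
    have h2 : x₁⁻¹ * (a * a) = x₂ * (b * b)⁻¹ := by
      calc x₁⁻¹ * (a * a) = x₁⁻¹ * (a * a * (b * b)) * (b * b)⁻¹ := by group
        _ = x₁⁻¹ * (x₁ * x₂) * (b * b)⁻¹ := by rw [h1]
        _ = x₂ * (b * b)⁻¹ := by group
    have hc1 : x₁⁻¹ * (a * a) ∈ L₁ := L₁.mul_mem (L₁.inv_mem hx) (L₁.mul_mem ha ha)
    have hc2 : x₁⁻¹ * (a * a) ∈ L₂ := by
      rw [h2]; exact L₂.mul_mem hx₂L (L₂.inv_mem (L₂.mul_mem hb hb))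
    have hcc : x₁⁻¹ * (a * a) = 1 ∨ x₁⁻¹ * (a * a) = j := hinter _ hc1 hc2
    have hcinv : (x₁⁻¹ * (a * a))⁻¹ = x₁⁻¹ * (a * a) := by
      rcases hcc with e | e
      · rw [e, inv_one]
      · rw [e, hjinv]
    refine ⟨x₁⁻¹ * (a * a), hcc, by group, ?_⟩
    have h3 : b * b = (x₁⁻¹ * (a * a))⁻¹ * x₂ := by
      rw [h2, mul_inv_rev, inv_inv, mul_assoc, inv_mul_cancel, mul_one]
    rw [h3, hcinv]
    exact h.comm _ hc1 x₂ hx₂L
  obtain ⟨c, hc, haa, hbb⟩ := key a ha b hb hyy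
  obtain ⟨c', hc', haa', hbb'⟩ := key a' ha' b' hb' hyy'
  have hA := fwzin_side L₁ j x₁ hjc1 h.jsq h.sq1 hx hxx (h.ab1 x₁ hx hxx) a a' c c' ha ha' hc hc'
    haa haa'
  have hB := fwzin_side L₂ j x₂ hjc2 h.jsq h.sq2 hx₂L hxx₂ (h.ab2 x₂ hx₂L hxx₂) b b' c c' hb hb' hc hc'
    hbb hbb'
  have hyz : a' * b' = (a * b) * ((a⁻¹ * a') * (b⁻¹ * b')) := by
    have hcm : b * (a⁻¹ * a') = (a⁻¹ * a') * b :=
      (h.comm _ (L₁.mul_mem (L₁.inv_mem ha) ha') b hb).symm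
    calc a' * b' = a * (a⁻¹ * a' * b) * (b⁻¹ * b') := by group
      _ = a * (b * (a⁻¹ * a')) * (b⁻¹ * b') := by rw [hcm]
      _ = (a * b) * ((a⁻¹ * a') * (b⁻¹ * b')) := by simp only [mul_assoc]
  have hjx₁ : x₁ * j = j * x₁ := hjc1 x₁ hx
  by_cases hcc : c = c'
  · rcases hA.1 hcc with e1 | e1 <;> rcases hB.1 hcc with e2 | e2
    · left; rw [hyz, e1, e2, mul_one, mul_one]
    · right; left; rw [hyz, e1, e2, one_mul]
    · right; left; rw [hyz, e1, e2, mul_one]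
    · left; rw [hyz, e1, e2, h.jsq, mul_one]
  · rcases hA.2 hcc with e1 | e1 <;> rcases hB.2 hcc with e2 | e2
    · right; right; left; rw [hyz, e1, e2]
    · right; right; right
      rw [hyz, e1, e2]
      congr 1
      calc x₁ * (j * x₂) = (x₁ * j) * x₂ := by rw [mul_assoc]
        _ = (j * x₁) * x₂ := by rw [hjx₁]
        _ = j * (x₁ * x₂) := by rw [mul_assoc]
    · right; right; right
      rw [hyz, e1, e2]
      congr 1
      rw [mul_assoc]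
    · right; right; left
      rw [hyz, e1, e2]
      congr 1
      calc j * x₁ * (j * x₂) = j * (x₁ * j) * x₂ := by simp only [mul_assoc]
        _ = j * (j * x₁) * x₂ := by rw [hjx₁]
        _ = (j * j) * (x₁ * x₂) := by simp only [mul_assoc]
        _ = x₁ * x₂ := by rw [h.jsq, one_mul]

end Cfsg.Agent.Lib.Helper43.Fw
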