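import Mathlib
import Cfsg.Agent.Lib.Helper37.OmegaFrames
import Cfsg.Agent.Lib.Helper37.Eichler3
import Cfsg.Agent.Lib.Helper37.OmegaMaximal

set_option autoImplicit false
set_option linter.unusedSimpArgs false
set_option linter.unusedVariables false
set_option linter.unnecessarySeqFocus false
set_option linter.unusedSectionVars false
set_option linter.style.haveILetI false

/-!
# Automorphisms of `PΩ(Q)`: basic set-up

General frame: `Q` a quadratic form on `ι → F` over a finite field, with nondegenerate polar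
form and at least three mutually orthogonal hyperbolic pairs.
-/

namespace Cfsg.Agent.Lib.Helper5.AutOrth

open Matrix Module QuadraticMap
open Cfsg.Agent.Lib.Helper37 Cfsg.Agent.Lib.Helper8 Cfsg.Agent.Lib.Helper13
open scoped Classical

variable {ι : Type} [Fintype ι] [DecidableEq ι] {F : Type*} [Field F] [Fintype F]

/-- the standing hypotheses -/
structure Ctx (Q : QuadraticForm F (ι → F)) (k : ℕ) (e f : Fin k → ι → F) : Prop where
  nd : (QuadraticMap.polarBilin Q).Nondegenerate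
  fam : HypFam Q k e f
  hk : 3 ≤ k
  hcard : Fintype.card F ≠ 2 ∨ finrank F (ι → F) ≠ 4

variable (Q : QuadraticForm F (ι → F))

/-- the projection `Ω → PΩ` -/
def pr : ↥(Cfsg.Omega F ⇑Q) →* Cfsg.POmega F ⇑Q :=
  QuotientGroup.mk' (Subgroup.center ↥(Cfsg.Omega F ⇑Q))

lemma pr_surjective : Function.Surjective (pr Q) := QuotientGroup.mk'_surjective _

lemma pr_eq_one_iff (g : ↥(Cfsg.Omega F ⇑Q)) :
    pr Q g = 1 ↔ g ∈ Subgroup.center ↥(Cfsg.Omega F ⇑Q) := by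
  unfold pr
  rw [QuotientGroup.mk'_apply, QuotientGroup.eq_one_iff]

lemma pr_eq_iff (g h : ↥(Cfsg.Omega F ⇑Q)) :
    pr Q g = pr Q h ↔ g⁻¹ * h ∈ Subgroup.center ↥(Cfsg.Omega F ⇑Q) := by
  unfold pr
  rw [QuotientGroup.mk'_apply, QuotientGroup.mk'_apply, QuotientGroup.eq]

/-- total version of the Eichler transformation, in the isometry group -/
noncomputable def Eo (u v : ι → F) : ↥(Cfsg.isometryGroup F ⇑Q) :=
  if h : Q u = 0 ∧ polar ⇑Q u v = 0 then eichler Q u v h.1 h.2 else 1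

/-- retraction of the isometry group onto `Ω` -/
noncomputable def toG (x : ↥(Cfsg.isometryGroup F ⇑Q)) : ↥(Cfsg.Omega F ⇑Q) :=
  if h : x ∈ Cfsg.Omega F ⇑Q then ⟨x, h⟩ else 1

/-- the Eichler transformation as an element of `Ω` -/
noncomputable def Eg (u v : ι → F) : ↥(Cfsg.Omega F ⇑Q) := toG Q (Eo Q u v)

/-- action of `Ω` on vectors -/
def ga (g : ↥(Cfsg.Omega F ⇑Q)) (x : ι → F) : ι → F := act Q g.1 x

variable {Q}

lemma ga_mul (g h : ↥(Cfsg.Omega F ⇑Q)) (x : ι → F) : ga Q (g * h) x = ga Q g (ga Q h x) := by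
  unfold ga
  rw [Subgroup.coe_mul, act_mul]

lemma ga_one (x : ι → F) : ga Q 1 x = x := by
  unfold ga
  rw [Subgroup.coe_one, act_one]

lemma ga_add (g : ↥(Cfsg.Omega F ⇑Q)) (x y : ι → F) : ga Q g (x + y) = ga Q g x + ga Q g y :=
  act_add Q _ _ _

lemma ga_sub (g : ↥(Cfsg.Omega F ⇑Q)) (x y : ι → F) : ga Q g (x - y) = ga Q g x - ga Q g y :=
  act_sub Q _ _ _

lemma ga_neg (g : ↥(Cfsg.Omega F ⇑Q)) (x : ι → F) : ga Q g (-x) = - ga Q g x :=
  act_neg Q _ _

lemma ga_smul (g : ↥(Cfsg.Omega F ⇑Q)) (t : F) (x : ι → F) : ga Q g (t • x) = t • ga Q g x :=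
  act_smul Q _ _ _

lemma ga_zero (g : ↥(Cfsg.Omega F ⇑Q)) : ga Q g 0 = 0 := act_zero Q _

lemma Q_ga (g : ↥(Cfsg.Omega F ⇑Q)) (x : ι → F) : Q (ga Q g x) = Q x := Q_act Q _ _

lemma polar_ga (g : ↥(Cfsg.Omega F ⇑Q)) (x y : ι → F) :
    polar ⇑Q (ga Q g x) (ga Q g y) = polar ⇑Q x y := polar_act Q _ _ _

lemma ga_inv_ga (g : ↥(Cfsg.Omega F ⇑Q)) (x : ι → F) : ga Q g⁻¹ (ga Q g x) = x := by
  rw [← ga_mul, inv_mul_cancel, ga_one]

lemma ga_ga_inv (g : ↥(Cfsg.Omega F ⇑Q)) (x : ι → F) : ga Q g (ga Q g⁻¹ x) = x := by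
  rw [← ga_mul, mul_inv_cancel, ga_one]

lemma polar_ga_left (g : ↥(Cfsg.Omega F ⇑Q)) (x y : ι → F) :
    polar ⇑Q (ga Q g x) y = polar ⇑Q x (ga Q g⁻¹ y) := by
  rw [← polar_ga g x (ga Q g⁻¹ y), ga_ga_inv]

lemma polar_ga_right (g : ↥(Cfsg.Omega F ⇑Q)) (x y : ι → F) :
    polar ⇑Q x (ga Q g y) = polar ⇑Q (ga Q g⁻¹ x) y := by
  rw [← polar_ga g (ga Q g⁻¹ x) y, ga_ga_inv]

lemma ga_injective (g : ↥(Cfsg.Omega F ⇑Q)) {x y : ι → F} (h : ga Q g x = ga Q g y) : x = y := by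
  rw [← ga_inv_ga g x, h, ga_inv_ga]

lemma ga_eq_zero (g : ↥(Cfsg.Omega F ⇑Q)) {x : ι → F} (h : ga Q g x = 0) : x = 0 := by
  apply ga_injective g
  rw [h, ga_zero]

lemma ga_ne_zero (g : ↥(Cfsg.Omega F ⇑Q)) {x : ι → F} (h : x ≠ 0) : ga Q g x ≠ 0 :=
  fun h' => h (ga_eq_zero g h')

lemma G_ext {g h : ↥(Cfsg.Omega F ⇑Q)} (H : ∀ x, ga Q g x = ga Q h x) : g = h :=
  Subtype.ext (reflElt_ext Q _ _ H)

section ctx

variable {k : ℕ} {e f : Fin k → ι → F} (C : Ctx Q k e f)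
include C

lemma Eo_mem (u v : ι → F) : Eo Q u v ∈ Cfsg.Omega F ⇑Q := by
  unfold Eo
  split_ifs with h
  · exact eichler_mem_omega Q C.nd C.fam C.hk C.hcard u v h.1 h.2
  · exact Subgroup.one_mem _

lemma Eg_val (u v : ι → F) : (Eg Q u v).1 = Eo Q u v := by
  unfold Eg toG
  rw [dif_pos (Eo_mem C u v)]

lemma ga_Eg {u v : ι → F} (hu : Q u = 0) (huv : polar ⇑Q u v = 0) (x : ι → F) :
    ga Q (Eg Q u v) x = x + polar ⇑Q x v • u - polar ⇑Q x u • v - (Q v * polar ⇑Q x u) • u := by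
  unfold ga
  rw [Eg_val C, Eo, dif_pos ⟨hu, huv⟩, act_eichler, eichlerLin_apply]

lemma Eg_add {u v v' : ι → F} (hu : Q u = 0) (huv : polar ⇑Q u v = 0)
    (huv' : polar ⇑Q u v' = 0) : Eg Q u v * Eg Q u v' = Eg Q u (v + v') := by
  apply Subtype.ext
  rw [Subgroup.coe_mul, Eg_val C, Eg_val C, Eg_val C, Eo, Eo, Eo, dif_pos ⟨hu, huv⟩,
    dif_pos ⟨hu, huv'⟩, dif_pos ⟨hu, by rw [polar_add_right, huv, huv', add_zero]⟩, eichler_mul]

lemma Eg_zero {u : ι → F} (hu : Q u = 0) : Eg Q u 0 = 1 := by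
  apply Subtype.ext
  rw [Eg_val C, Eo, dif_pos ⟨hu, by simp [polar]⟩, eichler_zero_eq_one, Subgroup.coe_one]

lemma Eg_inv {u v : ι → F} (hu : Q u = 0) (huv : polar ⇑Q u v = 0) :
    (Eg Q u v)⁻¹ = Eg Q u (-v) := by
  rw [inv_eq_iff_mul_eq_one, Eg_add C hu huv (by rw [polar_neg_right, huv, neg_zero]),
    add_neg_cancel, Eg_zero C hu]

lemma Eg_conj (g : ↥(Cfsg.Omega F ⇑Q)) {u v : ι → F} (hu : Q u = 0) (huv : polar ⇑Q u v = 0) :
    g * Eg Q u v * g⁻¹ = Eg Q (ga Q g u) (ga Q g v) := by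
  apply Subtype.ext
  rw [Subgroup.coe_mul, Subgroup.coe_mul, Subgroup.coe_inv, Eg_val C, Eg_val C, Eo, Eo,
    dif_pos ⟨hu, huv⟩, dif_pos ⟨by rw [Q_ga]; exact hu, by rw [polar_ga]; exact huv⟩,
    eichler_conj]
  rfl

lemma Eg_smul_left {u v : ι → F} (c : F) (hu : Q u = 0) (huv : polar ⇑Q u v = 0) :
    Eg Q (c • u) v = Eg Q u (c • v) := by
  apply Subtype.ext
  rw [Eg_val C, Eg_val C, Eo, Eo,
    dif_pos ⟨by rw [QuadraticMap.map_smul, hu, smul_zero], by rw [polar_smul_left, huv, smul_zero]⟩,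
    dif_pos ⟨hu, by rw [polar_smul_right, huv, smul_zero]⟩]
  exact eichler_smul_left Q u v c hu huv

lemma Eg_smul_self {u : ι → F} (t : F) (hu : Q u = 0) : Eg Q u (t • u) = 1 := by
  apply Subtype.ext
  rw [Eg_val C, Eo, dif_pos ⟨hu, by rw [polar_smul_right, polar_self, hu]; simp⟩,
    eichler_smul_self, Subgroup.coe_one]

lemma Eg_pow {u v : ι → F} (hu : Q u = 0) (huv : polar ⇑Q u v = 0) (n : ℕ) :
    (Eg Q u v) ^ n = Eg Q u ((n : F) • v) := by
  induction n with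
  | zero => rw [pow_zero, Nat.cast_zero, zero_smul, Eg_zero C hu]
  | succ n ih =>
    rw [pow_succ, ih, Eg_add C hu (by rw [polar_smul_right, huv, smul_zero]) huv, Nat.cast_succ,
      add_smul, one_smul]

lemma Eg_pow_char (p : ℕ) [CharP F p] {u v : ι → F} (hu : Q u = 0) (huv : polar ⇑Q u v = 0) :
    (Eg Q u v) ^ p = 1 := by
  rw [Eg_pow C hu huv, CharP.cast_eq_zero F p, zero_smul, Eg_zero C hu]

/-- the centre of `Ω` consists of `±1` -/
lemma center_ga {z : ↥(Cfsg.Omega F ⇑Q)} (hz : z ∈ Subgroup.center ↥(Cfsg.Omega F ⇑Q)) :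
    (∀ x, ga Q z x = x) ∨ (∀ x, ga Q z x = -x) := by
  rcases center_omega_matrix Q C.nd C.fam C.hk z hz with h | h
  · left
    intro x
    unfold ga act
    rw [h, Matrix.one_mulVec]
  · right
    intro x
    unfold ga act
    rw [h, Matrix.neg_mulVec, Matrix.one_mulVec]

lemma center_sq {z : ↥(Cfsg.Omega F ⇑Q)} (hz : z ∈ Subgroup.center ↥(Cfsg.Omega F ⇑Q)) :
    z * z = 1 := by
  apply G_ext
  intro x
  rw [ga_mul, ga_one]
  rcases center_ga C hz with h | h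
  · rw [h, h]
  · rw [h, h, neg_neg]

/-- **(U)** an element of `p`-power-one order commuting with `g` modulo the centre commutes
with `g` -/
lemma comm_of_pr_comm (p : ℕ) [Fact p.Prime] [CharP F p] {g x : ↥(Cfsg.Omega F ⇑Q)}
    (hx : x ^ p = 1) (h : pr Q g * pr Q x = pr Q x * pr Q g) : g * x = x * g := by
  set z := (x * g)⁻¹ * (g * x) with hzdef
  have hz : z ∈ Subgroup.center ↥(Cfsg.Omega F ⇑Q) := by
    rw [← pr_eq_iff, map_mul, map_mul, h]
  have hgx : g * x = x * g * z := by rw [hzdef]; group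
  have hconj : g * x * g⁻¹ = z * x := by
    rw [hgx]
    have := Subgroup.mem_center_iff.1 hz (x * g)
    rw [this]
    group
  have hp1 : (z * x) ^ p = 1 := by
    rw [← hconj, conj_pow, hx]
    group
  have hzx : Commute z x := (Subgroup.mem_center_iff.1 hz x).symm
  rw [hzx.mul_pow, hx, mul_one] at hp1
  have hz1 : z = 1 := by
    rcases (Fact.out : p.Prime).eq_two_or_odd' with h2 | hodd
    · subst h2
      have h20 : (2 : F) = 0 := by
        have := CharP.cast_eq_zero F 2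
        exact_mod_cast this
      apply G_ext
      intro y
      rw [ga_one]
      rcases center_ga C hz with h' | h'
      · exact h' y
      · rw [h' y]
        have : y + y = 0 := by
          funext i
          simp only [Pi.add_apply, Pi.zero_apply]
          rw [← two_mul, h20, zero_mul]
        exact (eq_neg_of_add_eq_zero_left this).symm
    · obtain ⟨m, hm⟩ := hodd
      have h3 : z ^ (2 * m) = 1 := by rw [pow_mul, pow_two, center_sq C hz, one_pow]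
      rw [hm, pow_succ, h3, one_mul] at hp1
      exact hp1
  rw [hgx, hz1, mul_one]

end ctx

end Cfsg.Agent.Lib.Helper5.AutOrth
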