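import Mathlib
import Cfsg.Agent.Lib.Helper5.AutOrthBasic

set_option autoImplicit false
set_option linter.unusedSimpArgs false
set_option linter.unusedVariables false
set_option linter.unnecessarySeqFocus false
set_option linter.unusedSectionVars false
set_option linter.style.haveILetI false

/-!
# Long root elements of `Ω(Q)`
-/

namespace Cfsg.Agent.Lib.Helper5.AutOrth

open Matrix Module QuadraticMap
open Cfsg.Agent.Lib.Helper37 Cfsg.Agent.Lib.Helper8 Cfsg.Agent.Lib.Helper13
open scoped Classical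

variable {ι : Type} [Fintype ι] [DecidableEq ι] {F : Type*} [Field F] [Fintype F]
variable {Q : QuadraticForm F (ι → F)}

/-- a vector orthogonal to the common orthogonal of a finite family lies in its span -/
theorem mem_span_of_orth (hQ : (QuadraticMap.polarBilin Q).Nondegenerate) {n : ℕ}
    (a : Fin n → ι → F) (b : ι → F)
    (h : ∀ x, (∀ i, polar ⇑Q (a i) x = 0) → polar ⇑Q b x = 0) :
    b ∈ Submodule.span F (Set.range a) := by
  have h1 : ⨅ i : Fin n, LinearMap.ker ((fun i => QuadraticMap.polarBilin Q (a i)) i) ≤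
      LinearMap.ker (QuadraticMap.polarBilin Q b) := by
    intro x hx
    rw [Submodule.mem_iInf] at hx
    rw [LinearMap.mem_ker]
    apply h x
    intro i
    have := hx i
    rw [LinearMap.mem_ker] at this
    exact this
  obtain ⟨c, hc⟩ := (Submodule.mem_span_range_iff_exists_fun F).1 (mem_span_of_iInf_ker_le_ker h1)
  have h2 : b = ∑ i, c i • a i := by
    have h3 : b - ∑ i, c i • a i = 0 := by
      apply hQ.1
      intro y
      have := LinearMap.congr_fun hc y
      simp only [LinearMap.sum_apply, LinearMap.smul_apply, smul_eq_mul] at this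
      rw [map_sub, LinearMap.sub_apply, map_sum, LinearMap.sum_apply, ← this, sub_eq_zero]
      apply Finset.sum_congr rfl
      intro i _
      rw [map_smul, LinearMap.smul_apply, smul_eq_mul]
    exact sub_eq_zero.mp h3
  rw [h2]
  exact Submodule.sum_mem _ (fun i _ => Submodule.smul_mem _ _ (Submodule.subset_span ⟨i, rfl⟩))

/-- a vector outside the span of a finite family is separated from it by the polar form -/
theorem exists_dual (hQ : (QuadraticMap.polarBilin Q).Nondegenerate) {n : ℕ}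
    (a : Fin n → ι → F) (b : ι → F) (hb : b ∉ Submodule.span F (Set.range a)) :
    ∃ x, (∀ i, polar ⇑Q (a i) x = 0) ∧ polar ⇑Q b x = 1 := by
  by_contra hcon
  push Not at hcon
  apply hb
  apply mem_span_of_orth hQ
  intro x hx
  by_contra hne
  apply hcon ((polar ⇑Q b x)⁻¹ • x)
  · intro i
    rw [polar_smul_right, hx i, smul_zero]
  · rw [polar_smul_right, smul_eq_mul, inv_mul_cancel₀ hne]

/-- one-vector version -/
theorem exists_dual_one (hQ : (QuadraticMap.polarBilin Q).Nondegenerate) {a b : ι → F}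
    (h : ∀ c : F, b ≠ c • a) : ∃ y, polar ⇑Q a y = 0 ∧ polar ⇑Q b y = 1 := by
  have hnb : b ∉ Submodule.span F (Set.range ![a]) := by
    intro hm
    simp only [Matrix.range_cons, Matrix.range_empty, Set.union_empty] at hm
    obtain ⟨c, hc⟩ := Submodule.mem_span_singleton.1 hm
    exact h c hc.symm
  obtain ⟨y, hy0, hy1⟩ := exists_dual hQ ![a] b hnb
  exact ⟨y, by simpa using hy0 0, hy1⟩

/-- two-vector version -/
theorem exists_dual_two (hQ : (QuadraticMap.polarBilin Q).Nondegenerate) {a₁ a₂ b : ι → F}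
    (h : ∀ c d : F, b ≠ c • a₁ + d • a₂) :
    ∃ y, polar ⇑Q a₁ y = 0 ∧ polar ⇑Q a₂ y = 0 ∧ polar ⇑Q b y = 1 := by
  have hnb : b ∉ Submodule.span F (Set.range ![a₁, a₂]) := by
    intro hm
    simp only [Matrix.range_cons, Matrix.range_empty, Set.union_empty] at hm
    have hm' : b ∈ Submodule.span F {a₁, a₂} := by
      convert hm using 2
      ext z
      simp only [Set.mem_insert_iff, Set.mem_singleton_iff, Set.mem_union]
    obtain ⟨c, d, hc⟩ := Submodule.mem_span_pair.1 hm'
    exact h c d hc.symm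
  obtain ⟨y, hy0, hy1⟩ := exists_dual hQ ![a₁, a₂] b hnb
  exact ⟨y, by simpa using hy0 0, by simpa using hy0 1, hy1⟩

/-- the alternating map `x ↦ B(x,v) u - B(x,u) v` -/
def Tm (Q : QuadraticForm F (ι → F)) (u v x : ι → F) : ι → F :=
  polar ⇑Q x v • u - polar ⇑Q x u • v

lemma Tm_add_right (u v v' x : ι → F) : Tm Q u (v + v') x = Tm Q u v x + Tm Q u v' x := by
  unfold Tm
  rw [polar_add_right]
  module

lemma Tm_smul_right (u v x : ι → F) (t : F) : Tm Q u (t • v) x = t • Tm Q u v x := by
  unfold Tm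
  rw [polar_smul_right, smul_eq_mul]
  module

lemma Tm_smul_left (u v x : ι → F) (t : F) : Tm Q (t • u) v x = t • Tm Q u v x := by
  unfold Tm
  rw [polar_smul_right, smul_eq_mul]
  module

lemma Tm_sub_right (u v v' x : ι → F) : Tm Q u (v - v') x = Tm Q u v x - Tm Q u v' x := by
  unfold Tm
  rw [polar_sub_right]
  module

lemma Tm_zero_right (u x : ι → F) : Tm Q u 0 x = 0 := by
  unfold Tm
  simp [polar]

lemma Tm_swap (u v x : ι → F) : Tm Q v u x = - Tm Q u v x := by
  unfold Tm
  module

lemma Tm_self (u x : ι → F) : Tm Q u u x = 0 := by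
  unfold Tm
  module

lemma Tm_ga (g : ↥(Cfsg.Omega F ⇑Q)) (u v x : ι → F) :
    Tm Q (ga Q g u) (ga Q g v) x = ga Q g (Tm Q u v (ga Q g⁻¹ x)) := by
  unfold Tm
  rw [ga_sub, ga_smul, ga_smul, polar_ga_right, polar_ga_right]

/-- totally singular independent pair (a totally singular line with a basis) -/
structure TS (Q : QuadraticForm F (ι → F)) (u v : ι → F) : Prop where
  qu : Q u = 0
  qv : Q v = 0
  uv : polar ⇑Q u v = 0
  ind : ∀ a b : F, a • u + b • v = 0 → a = 0 ∧ b = 0

namespace TS

variable {u v : ι → F}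

lemma u_ne (h : TS Q u v) : u ≠ 0 := by
  rintro rfl
  have := (h.ind 1 0 (by simp)).1
  exact one_ne_zero this

lemma v_ne (h : TS Q u v) : v ≠ 0 := by
  rintro rfl
  have := (h.ind 0 1 (by simp)).2
  exact one_ne_zero this

lemma symm (h : TS Q u v) : TS Q v u :=
  ⟨h.qv, h.qu, by rw [polar_comm]; exact h.uv, fun a b hab => by
    have := h.ind b a (by rw [add_comm]; exact hab)
    exact ⟨this.2, this.1⟩⟩

lemma vu (h : TS Q u v) : polar ⇑Q v u = 0 := by rw [polar_comm]; exact h.uv

lemma uu (h : TS Q u v) : polar ⇑Q u u = 0 := by rw [polar_self, h.qu]; simp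

lemma vv (h : TS Q u v) : polar ⇑Q v v = 0 := by rw [polar_self, h.qv]; simp

lemma not_smul (h : TS Q u v) (c : F) : v ≠ c • u := by
  intro hc
  have := (h.ind (-c) 1 (by rw [hc]; module)).2
  exact one_ne_zero this

lemma u_not_mem (h : TS Q u v) : u ∉ Submodule.span F (Set.range ![v]) := by
  intro hm
  simp only [Matrix.range_cons, Matrix.range_empty, Set.union_empty] at hm
  obtain ⟨c, hc⟩ := Submodule.mem_span_singleton.1 hm
  have := (h.ind 1 (-c) (by rw [← hc]; module)).1
  exact one_ne_zero this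

lemma ga (h : TS Q u v) (g : ↥(Cfsg.Omega F ⇑Q)) : TS Q (ga Q g u) (ga Q g v) :=
  ⟨by rw [Q_ga]; exact h.qu, by rw [Q_ga]; exact h.qv, by rw [polar_ga]; exact h.uv,
    fun a b hab => by
      apply h.ind a b
      apply ga_injective g
      rw [ga_add, ga_smul, ga_smul, hab, ga_zero]⟩

/-- a dual vector for `u` -/
lemma exists_dual_u (hQ : (QuadraticMap.polarBilin Q).Nondegenerate) (h : TS Q u v) :
    ∃ x, polar ⇑Q v x = 0 ∧ polar ⇑Q u x = 1 := by
  obtain ⟨x, hx, hx1⟩ := exists_dual hQ ![v] u h.u_not_mem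
  exact ⟨x, by simpa using hx 0, hx1⟩

lemma exists_dual_v (hQ : (QuadraticMap.polarBilin Q).Nondegenerate) (h : TS Q u v) :
    ∃ x, polar ⇑Q u x = 0 ∧ polar ⇑Q v x = 1 := h.symm.exists_dual_u hQ

end TS

/-- `Tm u v` determines the span of an independent pair -/
lemma Tm_eq_span (hQ : (QuadraticMap.polarBilin Q).Nondegenerate) {u v a b : ι → F}
    (hab : ∀ s t : F, s • a + t • b = 0 → s = 0 ∧ t = 0)
    (h : ∀ x, Tm Q a b x = Tm Q u v x) :
    a ∈ Submodule.span F {u, v} ∧ b ∈ Submodule.span F {u, v} := by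
  have hna : ∀ c : F, a ≠ c • b := by
    intro c hc
    have := (hab 1 (-c) (by rw [hc]; module)).1
    exact one_ne_zero this
  have hnb : ∀ c : F, b ≠ c • a := by
    intro c hc
    have := (hab (-c) 1 (by rw [hc]; module)).2
    exact one_ne_zero this
  obtain ⟨x, hx0, hx1⟩ := exists_dual_one hQ hna
  obtain ⟨y, hy0, hy1⟩ := exists_dual_one hQ hnb
  have hmem : ∀ z, Tm Q u v z ∈ Submodule.span F {u, v} := by
    intro z
    unfold Tm
    exact Submodule.sub_mem _ (Submodule.smul_mem _ _ (Submodule.subset_span (by simp)))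
      (Submodule.smul_mem _ _ (Submodule.subset_span (by simp)))
  constructor
  · have h1 := h y
    have h2 : Tm Q a b y = a := by
      unfold Tm
      rw [polar_comm ⇑Q y b, polar_comm ⇑Q y a, hy1, hy0]
      simp
    rw [← h2, h1]
    exact hmem y
  · have h1 := h x
    have h2 : Tm Q a b x = -b := by
      unfold Tm
      rw [polar_comm ⇑Q x b, polar_comm ⇑Q x a, hx1, hx0]
      simp
    have h3 : b = -(Tm Q u v x) := by rw [← h1, h2, neg_neg]
    rw [h3]
    exact Submodule.neg_mem _ (hmem x)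

/-- `Tm a b = 0` with `a ≠ 0` forces `b ∈ ⟨a⟩` -/
lemma Tm_eq_zero (hQ : (QuadraticMap.polarBilin Q).Nondegenerate) {a b : ι → F} (ha : a ≠ 0)
    (h : ∀ x, Tm Q a b x = 0) : ∃ c : F, b = c • a := by
  by_contra hcon
  push Not at hcon
  obtain ⟨y, hy0, hy1⟩ := exists_dual_one hQ hcon
  have h1 := h y
  unfold Tm at h1
  rw [polar_comm ⇑Q y b, polar_comm ⇑Q y a, hy1, hy0] at h1
  simp at h1
  exact ha h1

section ctx

variable {k : ℕ} {e f : Fin k → ι → F} (C : Ctx Q k e f)
include C

/-- action of a long root element -/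
lemma ga_root {u v : ι → F} (h : TS Q u v) (t : F) (x : ι → F) :
    ga Q (Eg Q u (t • v)) x = x + t • Tm Q u v x := by
  rw [ga_Eg C h.qu (by rw [polar_smul_right, h.uv, smul_zero]), QuadraticMap.map_smul, h.qv,
    polar_smul_right]
  unfold Tm
  simp only [smul_eq_mul, mul_zero, zero_mul, zero_smul, sub_zero]
  module

lemma root_eq_one_iff {u v : ι → F} (h : TS Q u v) (t : F) : Eg Q u (t • v) = 1 ↔ t = 0 := by
  constructor
  · intro h1
    obtain ⟨x, hx0, hx1⟩ := h.exists_dual_u C.nd
    have h2 := ga_root C h t x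
    rw [h1, ga_one] at h2
    unfold Tm at h2
    rw [polar_comm ⇑Q x v, polar_comm ⇑Q x u, hx0, hx1] at h2
    simp only [zero_smul, one_smul, zero_sub, smul_neg] at h2
    have h3 : t • v = 0 := by
      have := congrArg (fun z => z - x) h2
      simp only [sub_self, add_sub_cancel_left] at this
      exact neg_eq_zero.1 this.symm
    rcases smul_eq_zero.1 h3 with h4 | h4
    · exact h4
    · exact absurd h4 h.v_ne
  · rintro rfl
    rw [zero_smul, Eg_zero C h.qu]

/-- **(R1)** commuting with one nontrivial root element -/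
lemma Tm_of_comm {u v : ι → F} (h : TS Q u v) {t : F} (ht : t ≠ 0) {g : ↥(Cfsg.Omega F ⇑Q)}
    (hg : g * Eg Q u (t • v) = Eg Q u (t • v) * g) (x : ι → F) :
    Tm Q (ga Q g u) (ga Q g v) x = Tm Q u v x := by
  have h1 : g * Eg Q u (t • v) * g⁻¹ = Eg Q u (t • v) := by rw [hg]; group
  rw [Eg_conj C g h.qu (by rw [polar_smul_right, h.uv, smul_zero]), ga_smul] at h1
  have h2 : ga Q (Eg Q (ga Q g u) (t • ga Q g v)) x = ga Q (Eg Q u (t • v)) x := by rw [h1]
  rw [ga_root C (h.ga g), ga_root C h] at h2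
  have h3 : t • Tm Q (ga Q g u) (ga Q g v) x = t • Tm Q u v x := add_left_cancel h2
  exact smul_right_injective _ ht h3

lemma comm_of_Tm {u v : ι → F} (h : TS Q u v) {g : ↥(Cfsg.Omega F ⇑Q)}
    (hg : ∀ x, Tm Q (ga Q g u) (ga Q g v) x = Tm Q u v x) (s : F) :
    g * Eg Q u (s • v) = Eg Q u (s • v) * g := by
  have h1 : g * Eg Q u (s • v) * g⁻¹ = Eg Q u (s • v) := by
    rw [Eg_conj C g h.qu (by rw [polar_smul_right, h.uv, smul_zero]), ga_smul]
    apply G_ext
    intro x
    rw [ga_root C (h.ga g), ga_root C h, hg]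
  calc g * Eg Q u (s • v) = (g * Eg Q u (s • v) * g⁻¹) * g := by group
    _ = Eg Q u (s • v) * g := by rw [h1]

end ctx

end Cfsg.Agent.Lib.Helper5.AutOrth
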