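import Mathlib
import Cfsg.Agent.Lib.Helper5.AutOrthRoot

set_option autoImplicit false
set_option linter.unusedSimpArgs false
set_option linter.unusedVariables false
set_option linter.unnecessarySeqFocus false
set_option linter.unusedSectionVars false
set_option linter.style.haveILetI false

/-!
# Standard vectors and Witt moves
-/

namespace Cfsg.Agent.Lib.Helper5.AutOrth

open Matrix Module QuadraticMap
open Cfsg.Agent.Lib.Helper37 Cfsg.Agent.Lib.Helper8 Cfsg.Agent.Lib.Helper13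
open scoped Classical

variable {ι : Type} [Fintype ι] [DecidableEq ι] {F : Type*} [Field F] [Fintype F]
variable {Q : QuadraticForm F (ι → F)} {k : ℕ} {e f : Fin k → ι → F}

namespace Ctx

/-- the first three `e`-vectors -/
def ev (C : Ctx Q k e f) (j : Fin 3) : ι → F := e (Fin.castLE C.hk j)

/-- the first three `f`-vectors -/
def fv (C : Ctx Q k e f) (j : Fin 3) : ι → F := f (Fin.castLE C.hk j)

variable (C : Ctx Q k e f)

lemma q_ev (j : Fin 3) : Q (C.ev j) = 0 := C.fam.qe _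
lemma q_fv (j : Fin 3) : Q (C.fv j) = 0 := C.fam.qf _
lemma ee (i j : Fin 3) : polar ⇑Q (C.ev i) (C.ev j) = 0 := C.fam.ee _ _
lemma ff (i j : Fin 3) : polar ⇑Q (C.fv i) (C.fv j) = 0 := C.fam.ff _ _

lemma ef (i j : Fin 3) : polar ⇑Q (C.ev i) (C.fv j) = if i = j then 1 else 0 := by
  unfold ev fv
  rw [C.fam.ef]
  by_cases h : i = j
  · rw [if_pos h, if_pos (by rw [h])]
  · rw [if_neg h, if_neg (fun h' => h (Fin.castLE_injective C.hk h'))]

lemma fe (i j : Fin 3) : polar ⇑Q (C.fv i) (C.ev j) = if i = j then 1 else 0 := by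
  rw [polar_comm, C.ef]
  by_cases h : i = j
  · rw [if_pos h, if_pos h.symm]
  · rw [if_neg h, if_neg (Ne.symm h)]

lemma ef_same (i : Fin 3) : polar ⇑Q (C.ev i) (C.fv i) = 1 := by rw [C.ef, if_pos rfl]
lemma fe_same (i : Fin 3) : polar ⇑Q (C.fv i) (C.ev i) = 1 := by rw [C.fe, if_pos rfl]
lemma ef_ne {i j : Fin 3} (h : i ≠ j) : polar ⇑Q (C.ev i) (C.fv j) = 0 := by rw [C.ef, if_neg h]
lemma fe_ne {i j : Fin 3} (h : i ≠ j) : polar ⇑Q (C.fv i) (C.ev j) = 0 := by rw [C.fe, if_neg h]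

lemma ev_ne (j : Fin 3) : C.ev j ≠ 0 := C.fam.e_ne_zero _
lemma fv_ne (j : Fin 3) : C.fv j ≠ 0 := C.fam.f_ne_zero _

lemma ev0_eq : C.ev 0 = e ⟨0, by have := C.hk; omega⟩ := rfl
lemma ev1_eq : C.ev 1 = e ⟨1, by have := C.hk; omega⟩ := rfl
lemma ev2_eq : C.ev 2 = e ⟨2, by have := C.hk; omega⟩ := rfl
lemma fv0_eq : C.fv 0 = f ⟨0, by have := C.hk; omega⟩ := rfl
lemma fv1_eq : C.fv 1 = f ⟨1, by have := C.hk; omega⟩ := rfl
lemma fv2_eq : C.fv 2 = f ⟨2, by have := C.hk; omega⟩ := rfl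

/-- the standard totally singular pair -/
lemma ts01 : TS Q (C.ev 0) (C.ev 1) :=
  ⟨C.q_ev 0, C.q_ev 1, C.ee 0 1, fun a b hab => by
    have h0 := congrArg (fun x => polar ⇑Q x (C.fv 0)) hab
    have h1 := congrArg (fun x => polar ⇑Q x (C.fv 1)) hab
    simp only [polar_add_left, polar_smul_left, C.ef, smul_eq_mul] at h0 h1
    simp [polar] at h0 h1
    exact ⟨h0, h1⟩⟩

lemma ts_ee {i j : Fin 3} (h : i ≠ j) : TS Q (C.ev i) (C.ev j) :=
  ⟨C.q_ev i, C.q_ev j, C.ee i j, fun a b hab => by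
    have h0 := congrArg (fun x => polar ⇑Q x (C.fv i)) hab
    have h1 := congrArg (fun x => polar ⇑Q x (C.fv j)) hab
    simp only [polar_add_left, polar_smul_left, C.ef, smul_eq_mul, if_pos, if_neg h,
      if_neg (Ne.symm h)] at h0 h1
    simp [polar] at h0 h1
    exact ⟨h0, h1⟩⟩

lemma ts_ef {i j : Fin 3} (h : i ≠ j) : TS Q (C.ev i) (C.fv j) :=
  ⟨C.q_ev i, C.q_fv j, C.ef_ne h, fun a b hab => by
    have h0 := congrArg (fun x => polar ⇑Q x (C.fv i)) hab
    have h1 := congrArg (fun x => polar ⇑Q x (C.ev j)) hab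
    simp only [polar_add_left, polar_smul_left, C.ef, C.ff, C.ee, C.fe, smul_eq_mul, if_pos,
      if_neg h, if_neg (Ne.symm h)] at h0 h1
    simp [polar] at h0 h1
    exact ⟨h0, h1⟩⟩

lemma ts_ff {i j : Fin 3} (h : i ≠ j) : TS Q (C.fv i) (C.fv j) :=
  ⟨C.q_fv i, C.q_fv j, C.ff i j, fun a b hab => by
    have h0 := congrArg (fun x => polar ⇑Q x (C.ev i)) hab
    have h1 := congrArg (fun x => polar ⇑Q x (C.ev j)) hab
    simp only [polar_add_left, polar_smul_left, C.fe, smul_eq_mul, if_pos, if_neg h,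
      if_neg (Ne.symm h)] at h0 h1
    simp [polar] at h0 h1
    exact ⟨h0, h1⟩⟩

/-- splitting off the `j`-th hyperbolic pair -/
lemma split (j : Fin 3) (x : ι → F) :
    ∃ x', x = x' + (polar ⇑Q x (C.fv j) • C.ev j + polar ⇑Q x (C.ev j) • C.fv j) ∧
      polar ⇑Q x' (C.ev j) = 0 ∧ polar ⇑Q x' (C.fv j) = 0 ∧
      (∀ y, polar ⇑Q (C.ev j) y = 0 → polar ⇑Q (C.fv j) y = 0 → polar ⇑Q x' y = polar ⇑Q x y) := by
  refine ⟨x - (polar ⇑Q x (C.fv j) • C.ev j + polar ⇑Q x (C.ev j) • C.fv j), by abel, ?_, ?_, ?_⟩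
  · rw [polar_sub_left, polar_add_left, polar_smul_left, polar_smul_left, C.ee, C.fe_same]
    simp
  · rw [polar_sub_left, polar_add_left, polar_smul_left, polar_smul_left, C.ff, C.ef_same]
    simp
  · intro y h1 h2
    rw [polar_sub_left, polar_add_left, polar_smul_left, polar_smul_left, h1, h2]
    simp

/-- a vector orthogonal to a set `A` is a sum of singular vectors orthogonal to `A`, as soon as
some standard hyperbolic pair is orthogonal to `A` -/
lemma span_sing (j : Fin 3) (A : Set (ι → F))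
    (hA : ∀ a ∈ A, polar ⇑Q (C.ev j) a = 0 ∧ polar ⇑Q (C.fv j) a = 0) (w : ι → F)
    (hw : ∀ a ∈ A, polar ⇑Q w a = 0) :
    w ∈ Submodule.span F {z : ι → F | Q z = 0 ∧ ∀ a ∈ A, polar ⇑Q z a = 0} := by
  obtain ⟨w', hw', h1, h2, h3⟩ := C.split j w
  have hev : C.ev j ∈ Submodule.span F {z : ι → F | Q z = 0 ∧ ∀ a ∈ A, polar ⇑Q z a = 0} :=
    Submodule.subset_span ⟨C.q_ev j, fun a ha => (hA a ha).1⟩
  have hfv : C.fv j ∈ Submodule.span F {z : ι → F | Q z = 0 ∧ ∀ a ∈ A, polar ⇑Q z a = 0} :=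
    Submodule.subset_span ⟨C.q_fv j, fun a ha => (hA a ha).2⟩
  have hw'A : ∀ a ∈ A, polar ⇑Q w' a = 0 := by
    intro a ha
    rw [h3 a (hA a ha).1 (hA a ha).2]
    exact hw a ha
  have hz : w' + (-(Q w') • C.ev j + C.fv j) ∈
      Submodule.span F {z : ι → F | Q z = 0 ∧ ∀ a ∈ A, polar ⇑Q z a = 0} := by
    apply Submodule.subset_span
    refine ⟨?_, ?_⟩
    · rw [QuadraticMap.map_add Q, QuadraticMap.map_add Q, QuadraticMap.map_smul, C.q_ev, C.q_fv,
        polar_add_right, polar_smul_right, h1, h2, polar_smul_left, C.ef_same]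
      simp
    · intro a ha
      rw [polar_add_left, polar_add_left, polar_smul_left, hw'A a ha, (hA a ha).1, (hA a ha).2]
      simp
  have hw'mem : w' ∈ Submodule.span F {z : ι → F | Q z = 0 ∧ ∀ a ∈ A, polar ⇑Q z a = 0} := by
    have : w' = (w' + (-(Q w') • C.ev j + C.fv j)) + (Q w' • C.ev j - C.fv j) := by module
    rw [this]
    exact Submodule.add_mem _ hz (Submodule.sub_mem _ (Submodule.smul_mem _ _ hev) hfv)
  rw [hw']
  exact Submodule.add_mem _ hw'mem
    (Submodule.add_mem _ (Submodule.smul_mem _ _ hev) (Submodule.smul_mem _ _ hfv))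

end Ctx

section witt

variable (C : Ctx Q k e f)
include C

/-- moving a totally singular pair to the standard one -/
theorem to_e0e1 {u v : ι → F} (h : TS Q u v) :
    ∃ g : ↥(Cfsg.Omega F ⇑Q), ga Q g u = C.ev 0 ∧ ga Q g v = C.ev 1 := by
  obtain ⟨g, hg, h1, h2⟩ := omega_to_e0e1 Q C.nd C.fam C.hk C.hcard u v h.u_ne h.qu h.qv h.uv
    h.not_smul
  exact ⟨⟨g, hg⟩, h1, h2⟩

/-- moving a hyperbolic pair to the standard one -/
theorem to_e0f0 {u v : ι → F} (hu : Q u = 0) (hv : Q v = 0) (huv : polar ⇑Q u v = 1) :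
    ∃ g : ↥(Cfsg.Omega F ⇑Q), ga Q g u = C.ev 0 ∧ ga Q g v = C.fv 0 := by
  obtain ⟨g, hg, h1, h2⟩ := omega_to_e0f0 Q C.nd C.fam C.hk C.hcard u v hu hv huv
  exact ⟨⟨g, hg⟩, h1, h2⟩

/-- moving a singular vector to the standard one -/
theorem to_e0 {u : ι → F} (hu0 : u ≠ 0) (hu : Q u = 0) :
    ∃ g : ↥(Cfsg.Omega F ⇑Q), ga Q g u = C.ev 0 := by
  obtain ⟨g, hg, h1⟩ := omega_to_e0 Q C.nd C.fam C.hk C.hcard u hu0 hu
  exact ⟨⟨g, hg⟩, h1⟩

/-- moving two concurrent non-perpendicular totally singular lines to standard position -/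
theorem to_e0e1f1 {a x y : ι → F} (hax : TS Q a x) (hay : TS Q a y) (hxy : polar ⇑Q x y = 1) :
    ∃ g : ↥(Cfsg.Omega F ⇑Q), ga Q g a = C.ev 0 ∧ ga Q g x = C.ev 1 ∧ ga Q g y = C.fv 1 := by
  have hyx : polar ⇑Q y x = 1 := by rw [polar_comm]; exact hxy
  have hxx : polar ⇑Q x x = 0 := hax.vv
  have hyy : polar ⇑Q y y = 0 := hay.vv
  have haa : polar ⇑Q a a = 0 := hax.uu
  have hli : LinearIndependent F ![a, x, y] := by
    rw [Fintype.linearIndependent_iff]
    intro c hc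
    rw [Fin.sum_univ_three] at hc
    simp only [Matrix.cons_val_zero, Matrix.cons_val_one, Matrix.cons_val_two,
      Matrix.tail_cons, Matrix.head_cons] at hc
    have h1 := congrArg (fun z => polar ⇑Q z y) hc
    have h2 := congrArg (fun z => polar ⇑Q z x) hc
    simp only [polar_add_left, polar_smul_left, smul_eq_mul, hay.uv, hxy, hyy, hax.uv, hxx,
      hyx] at h1 h2
    simp [polar] at h1 h2
    have h3 : c 0 • a = 0 := by
      rw [h1, h2] at hc
      simpa using hc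
    have h4 : c 0 = 0 := by
      rcases smul_eq_zero.1 h3 with h | h
      · exact h
      · exact absurd h hax.u_ne
    intro i
    fin_cases i
    · exact h4
    · exact h1
    · exact h2
  have hli' : LinearIndependent F ![C.ev 0, C.ev 1, C.fv 1] := by
    rw [Fintype.linearIndependent_iff]
    intro c hc
    rw [Fin.sum_univ_three] at hc
    simp only [Matrix.cons_val_zero, Matrix.cons_val_one, Matrix.cons_val_two,
      Matrix.tail_cons, Matrix.head_cons] at hc
    have h0 := congrArg (fun z => polar ⇑Q z (C.fv 0)) hc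
    have h1 := congrArg (fun z => polar ⇑Q z (C.fv 1)) hc
    have h2 := congrArg (fun z => polar ⇑Q z (C.ev 1)) hc
    simp only [polar_add_left, polar_smul_left, smul_eq_mul, C.ef, C.ff, C.ee, C.fe] at h0 h1 h2
    simp [polar] at h0 h1 h2
    intro i
    fin_cases i
    · exact h0
    · exact h1
    · exact h2
  obtain ⟨g, hg, hgx⟩ := omega_witt_frame Q C.nd C.hcard 3 ![a, x, y]
    ![C.ev 0, C.ev 1, C.fv 1] hli hli'
    (by
      intro i; fin_cases i
      · simp [hax.qu, C.q_ev]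
      · simp [hax.qv, C.q_ev]
      · simp [hay.qv, C.q_fv])
    (by
      intro i j; fin_cases i <;> fin_cases j <;>
        simp [haa, hxx, hyy, hax.uv, hax.vu, hay.uv, hay.vu, hxy, hyx, C.ee, C.ff, C.ef, C.fe])
    (by
      intro c hc
      refine ⟨C.ev 2 + c • C.fv 2, ?_, ?_⟩
      · rw [QuadraticMap.map_add Q, C.q_ev, QuadraticMap.map_smul, C.q_fv, polar_smul_right,
          C.ef_same]
        simp
      · intro i; fin_cases i <;>
          simp [polar_add_left, polar_smul_left, C.ee, C.ff, C.ef, C.fe])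
  exact ⟨⟨g, hg⟩, hgx 0, hgx 1, hgx 2⟩

end witt

end Cfsg.Agent.Lib.Helper5.AutOrth
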