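import Mathlib
import Cfsg.Agent.Lib.Helper5.AutOrthStd

set_option autoImplicit false
set_option linter.unusedSimpArgs false
set_option linter.unusedVariables false
set_option linter.unnecessarySeqFocus false
set_option linter.unusedSectionVars false
set_option linter.style.haveILetI false

/-!
# The centre of a Sylow `p`-subgroup of `PΩ(Q)` is a long root subgroup
-/

namespace Cfsg.Agent.Lib.Helper5.AutOrth

open Matrix Module QuadraticMap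
open Cfsg.Agent.Lib.Helper37 Cfsg.Agent.Lib.Helper8 Cfsg.Agent.Lib.Helper13
open scoped Classical

variable {ι : Type} [Fintype ι] [DecidableEq ι] {F : Type*} [Field F] [Fintype F]
variable {Q : QuadraticForm F (ι → F)} {k : ℕ} {e f : Fin k → ι → F}

/-- the unipotent radical of the stabiliser of the standard totally singular line -/
def S0 (C : Ctx Q k e f) : Subgroup ↥(Cfsg.Omega F ⇑Q) where
  carrier := {g | ga Q g (C.ev 0) = C.ev 0 ∧ ga Q g (C.ev 1) = C.ev 1 ∧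
    ∀ w, polar ⇑Q w (C.ev 0) = 0 → polar ⇑Q w (C.ev 1) = 0 →
      ∃ a b : F, ga Q g w = w + a • C.ev 0 + b • C.ev 1}
  one_mem' := ⟨ga_one _, ga_one _, fun w _ _ => ⟨0, 0, by rw [ga_one]; simp⟩⟩
  mul_mem' := by
    rintro g h ⟨hg0, hg1, hg⟩ ⟨hh0, hh1, hh⟩
    refine ⟨by rw [ga_mul, hh0, hg0], by rw [ga_mul, hh1, hg1], ?_⟩
    intro w hw0 hw1
    obtain ⟨a, b, hab⟩ := hh w hw0 hw1
    obtain ⟨a', b', hab'⟩ := hg w hw0 hw1
    refine ⟨a' + a, b' + b, ?_⟩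
    rw [ga_mul, hab, ga_add, ga_add, ga_smul, ga_smul, hg0, hg1, hab']
    module
  inv_mem' := by
    rintro g ⟨hg0, hg1, hg⟩
    have h0 : ga Q g⁻¹ (C.ev 0) = C.ev 0 := by
      conv_lhs => rw [← hg0]
      exact ga_inv_ga g _
    have h1 : ga Q g⁻¹ (C.ev 1) = C.ev 1 := by
      conv_lhs => rw [← hg1]
      exact ga_inv_ga g _
    refine ⟨h0, h1, ?_⟩
    intro w hw0 hw1
    obtain ⟨a, b, hab⟩ := hg w hw0 hw1
    refine ⟨-a, -b, ?_⟩
    have h2 : w = ga Q g⁻¹ w + a • C.ev 0 + b • C.ev 1 := by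
      have := congrArg (ga Q g⁻¹) hab
      rw [ga_inv_ga, ga_add, ga_add, ga_smul, ga_smul, h0, h1] at this
      exact this
    have h3 : ga Q g⁻¹ w = w - a • C.ev 0 - b • C.ev 1 := by
      conv_rhs => rw [h2]
      module
    rw [h3]
    module

lemma mem_S0 (C : Ctx Q k e f) (g : ↥(Cfsg.Omega F ⇑Q)) :
    g ∈ S0 C ↔ ga Q g (C.ev 0) = C.ev 0 ∧ ga Q g (C.ev 1) = C.ev 1 ∧
    ∀ w, polar ⇑Q w (C.ev 0) = 0 → polar ⇑Q w (C.ev 1) = 0 →
      ∃ a b : F, ga Q g w = w + a • C.ev 0 + b • C.ev 1 := Iff.rfl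

/-- the matrix of an element of `Ω` -/
def mtx (g : ↥(Cfsg.Omega F ⇑Q)) : Matrix ι ι F :=
  (((g : ↥(Cfsg.isometryGroup F ⇑Q)) : GL ι F) : Matrix ι ι F)

lemma mtx_mulVec (g : ↥(Cfsg.Omega F ⇑Q)) (x : ι → F) : mtx g *ᵥ x = ga Q g x := rfl

lemma mtx_pow (g : ↥(Cfsg.Omega F ⇑Q)) (n : ℕ) : mtx (g ^ n) = (mtx g) ^ n := by
  unfold mtx
  rw [Subgroup.coe_pow, Subgroup.coe_pow, Units.val_pow_eq_pow_val]

lemma eq_one_of_mtx {g : ↥(Cfsg.Omega F ⇑Q)} (h : mtx g = 1) : g = 1 := by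
  apply G_ext
  intro x
  rw [← mtx_mulVec, h, Matrix.one_mulVec, ga_one]

section ctx

variable (C : Ctx Q k e f)
include C

lemma nonempty_idx : Nonempty ι := by
  by_contra h
  rw [not_nonempty_iff] at h
  apply C.ev_ne 0
  funext i
  exact h.elim i

/-- elements of `S0` have order dividing `p ^ 2` -/
lemma S0_pow (p : ℕ) [Fact p.Prime] [CharP F p] {g : ↥(Cfsg.Omega F ⇑Q)} (hg : g ∈ S0 C) :
    g ^ (p ^ 2) = 1 := by
  haveI := nonempty_idx C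
  obtain ⟨hg0, hg1, hgw⟩ := hg
  have hN : ∀ x, (mtx g - 1) *ᵥ x = ga Q g x - x := by
    intro x
    rw [Matrix.sub_mulVec, Matrix.one_mulVec, mtx_mulVec]
  have hN0 : ∀ x, polar ⇑Q (ga Q g x - x) (C.ev 0) = 0 := by
    intro x
    rw [polar_sub_left]
    conv_lhs => rw [← hg0, polar_ga, hg0]
    exact sub_self _
  have hN1 : ∀ x, polar ⇑Q (ga Q g x - x) (C.ev 1) = 0 := by
    intro x
    rw [polar_sub_left]
    conv_lhs => rw [← hg1, polar_ga, hg1]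
    exact sub_self _
  have h3 : (mtx g - 1) ^ 3 = 0 := by
    apply Matrix.mulVec_injective
    funext x
    show ((mtx g - 1) ^ 3) *ᵥ x = (0 : Matrix ι ι F) *ᵥ x
    rw [Matrix.zero_mulVec, pow_succ, pow_two, ← Matrix.mulVec_mulVec, ← Matrix.mulVec_mulVec,
      hN x]
    obtain ⟨a, b, hab⟩ := hgw _ (hN0 x) (hN1 x)
    rw [hN (ga Q g x - x), hab]
    have : ga Q g x - x + a • C.ev 0 + b • C.ev 1 - (ga Q g x - x) = a • C.ev 0 + b • C.ev 1 := by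
      abel
    rw [this, hN, ga_add, ga_smul, ga_smul, hg0, hg1, sub_self]
  have h4 : (mtx g - 1) ^ (p ^ 2) = 0 := by
    have hp : 3 ≤ p ^ 2 := by
      have := (Fact.out : p.Prime).two_le
      nlinarith
    obtain ⟨m, hm⟩ := Nat.exists_eq_add_of_le hp
    rw [hm, pow_add, h3, zero_mul]
  rw [sub_pow_char_pow_of_commute p 2 (Commute.one_right _), one_pow, sub_eq_zero] at h4
  apply eq_one_of_mtx
  rw [mtx_pow, h4]

lemma S0_isPGroup (p : ℕ) [Fact p.Prime] [CharP F p] : IsPGroup p ((S0 C).map (pr Q)) := by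
  rintro ⟨y, hy⟩
  obtain ⟨g, hg, rfl⟩ := hy
  refine ⟨2, ?_⟩
  apply Subtype.ext
  show (pr Q g) ^ (p ^ 2) = 1
  rw [← map_pow, S0_pow C p hg, map_one]

/-- Eichler elements in `S0` -/
lemma Eg0_mem_S0 {w : ι → F} (hw0 : polar ⇑Q w (C.ev 0) = 0) (hw1 : polar ⇑Q w (C.ev 1) = 0) :
    Eg Q (C.ev 0) w ∈ S0 C := by
  have h0w : polar ⇑Q (C.ev 0) w = 0 := by rw [polar_comm]; exact hw0
  have h1w : polar ⇑Q (C.ev 1) w = 0 := by rw [polar_comm]; exact hw1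
  refine ⟨?_, ?_, ?_⟩
  · rw [ga_Eg C (C.q_ev 0) h0w, h0w, C.ee]
    simp
  · rw [ga_Eg C (C.q_ev 0) h0w, h1w, C.ee]
    simp
  · intro x hx0 hx1
    refine ⟨polar ⇑Q x w, 0, ?_⟩
    rw [ga_Eg C (C.q_ev 0) h0w, hx0]
    simp

lemma Eg1_mem_S0 {w : ι → F} (hw0 : polar ⇑Q w (C.ev 0) = 0) (hw1 : polar ⇑Q w (C.ev 1) = 0) :
    Eg Q (C.ev 1) w ∈ S0 C := by
  have h0w : polar ⇑Q (C.ev 0) w = 0 := by rw [polar_comm]; exact hw0
  have h1w : polar ⇑Q (C.ev 1) w = 0 := by rw [polar_comm]; exact hw1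
  refine ⟨?_, ?_, ?_⟩
  · rw [ga_Eg C (C.q_ev 1) h1w, h0w, C.ee]
    simp
  · rw [ga_Eg C (C.q_ev 1) h1w, h1w, C.ee]
    simp
  · intro x hx0 hx1
    refine ⟨0, polar ⇑Q x w, ?_⟩
    rw [ga_Eg C (C.q_ev 1) h1w, hx1]
    simp

end ctx

end Cfsg.Agent.Lib.Helper5.AutOrth
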