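import Mathlib
import Cfsg.Agent.Lib.Helper5.AutOrthSylow

set_option autoImplicit false
set_option linter.unusedSimpArgs false
set_option linter.unusedVariables false
set_option linter.unnecessarySeqFocus false
set_option linter.unusedSectionVars false
set_option linter.style.haveILetI false

/-!
# The centraliser of the unipotent radical of a line stabiliser
-/

namespace Cfsg.Agent.Lib.Helper5.AutOrth

open Matrix Module QuadraticMap
open Cfsg.Agent.Lib.Helper37 Cfsg.Agent.Lib.Helper8 Cfsg.Agent.Lib.Helper13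
open scoped Classical

variable {ι : Type} [Fintype ι] [DecidableEq ι] {F : Type*} [Field F] [Fintype F]
variable {Q : QuadraticForm F (ι → F)} {k : ℕ} {e f : Fin k → ι → F}

lemma TS.mk' {u v : ι → F} (hu : Q u = 0) (hv : Q v = 0) (huv : polar ⇑Q u v = 0) (hu0 : u ≠ 0)
    (hind : ∀ c : F, v ≠ c • u) : TS Q u v := by
  refine ⟨hu, hv, huv, ?_⟩
  intro a b hab
  have hb : b = 0 := by
    by_contra hb
    apply hind (-(b⁻¹ * a))
    have h1 : b • v = -(a • u) := eq_neg_of_add_eq_zero_right hab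
    have h2 : v = b⁻¹ • (b • v) := by rw [smul_smul, inv_mul_cancel₀ hb, one_smul]
    rw [h2, h1]
    module
  refine ⟨?_, hb⟩
  rw [hb, zero_smul, add_zero] at hab
  rcases smul_eq_zero.1 hab with h | h
  · exact h
  · exact absurd h hu0

section ctx

variable (C : Ctx Q k e f)
include C

/-- commuting with the root elements `E(a,w)`, `w` singular in `⟨e₀,e₁⟩^⊥`, gives the
`Tm`-identity for all `w` in `⟨e₀,e₁⟩^⊥` -/
lemma Tm_of_comm_all {a : ι → F} (ha0 : a ≠ 0) (ha : Q a = 0)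
    (haw : ∀ w, polar ⇑Q w (C.ev 0) = 0 → polar ⇑Q w (C.ev 1) = 0 → polar ⇑Q a w = 0)
    {g : ↥(Cfsg.Omega F ⇑Q)}
    (hc : ∀ w, Q w = 0 → polar ⇑Q w (C.ev 0) = 0 → polar ⇑Q w (C.ev 1) = 0 →
      g * Eg Q a w = Eg Q a w * g)
    (w : ι → F) (hw0 : polar ⇑Q w (C.ev 0) = 0) (hw1 : polar ⇑Q w (C.ev 1) = 0) (x : ι → F) :
    Tm Q (ga Q g a) (ga Q g w) x = Tm Q a w x := by
  have hsing : ∀ z, Q z = 0 → polar ⇑Q z (C.ev 0) = 0 → polar ⇑Q z (C.ev 1) = 0 →
      ∀ x, Tm Q (ga Q g a) (ga Q g z) x = Tm Q a z x := by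
    intro z hz hz0 hz1 x
    by_cases hdep : ∃ c : F, z = c • a
    · obtain ⟨c, rfl⟩ := hdep
      rw [ga_smul, Tm_smul_right, Tm_smul_right, Tm_self, Tm_self]
    · push Not at hdep
      have hts : TS Q a z := TS.mk' ha hz (haw z hz0 hz1) ha0 hdep
      have h1 := hc z hz hz0 hz1
      have h2 : g * Eg Q a ((1 : F) • z) = Eg Q a ((1 : F) • z) * g := by rw [one_smul]; exact h1
      exact Tm_of_comm C hts one_ne_zero h2 x
  have hmem := C.span_sing 2 {C.ev 0, C.ev 1} (by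
    intro b hb
    rcases hb with rfl | rfl
    · exact ⟨C.ee _ _, C.fe_ne (by decide)⟩
    · exact ⟨C.ee _ _, C.fe_ne (by decide)⟩) w (by
    intro b hb
    rcases hb with rfl | rfl
    · exact hw0
    · exact hw1)
  revert x
  refine Submodule.span_induction (p := fun w _ => ∀ x, Tm Q (ga Q g a) (ga Q g w) x = Tm Q a w x)
    ?_ ?_ ?_ ?_ hmem
  · rintro z ⟨hz, hzA⟩ x
    exact hsing z hz (hzA _ (by simp)) (hzA _ (by simp)) x
  · intro x
    rw [ga_zero, Tm_zero_right, Tm_zero_right]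
  · intro y z _ _ hy hz x
    rw [ga_add, Tm_add_right, Tm_add_right, hy, hz]
  · intro c y _ hy x
    rw [ga_smul, Tm_smul_right, Tm_smul_right, hy]

/-- **(C1)** the centraliser of the root elements of `S0` -/
theorem centralizer_std {g : ↥(Cfsg.Omega F ⇑Q)}
    (h0 : ∀ w, Q w = 0 → polar ⇑Q w (C.ev 0) = 0 → polar ⇑Q w (C.ev 1) = 0 →
      g * Eg Q (C.ev 0) w = Eg Q (C.ev 0) w * g)
    (h1 : ∀ w, Q w = 0 → polar ⇑Q w (C.ev 0) = 0 → polar ⇑Q w (C.ev 1) = 0 →
      g * Eg Q (C.ev 1) w = Eg Q (C.ev 1) w * g) :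
    ∃ s t : F, s * s = 1 ∧ ∀ x, ga Q g x = s • (x + t • Tm Q (C.ev 0) (C.ev 1) x) := by
  have T0 := Tm_of_comm_all C (C.ev_ne 0) (C.q_ev 0)
    (fun w hw0 _ => by rw [polar_comm]; exact hw0) h0
  have T1 := Tm_of_comm_all C (C.ev_ne 1) (C.q_ev 1)
    (fun w _ hw1 => by rw [polar_comm]; exact hw1) h1
  -- `g e₀` and `g e₁` lie on the line
  have hc01 := Tm_eq_span C.nd (C.ts01.ga g).ind (T0 (C.ev 1) (C.ee 1 0) (C.ee 1 1))
  obtain ⟨a, b, hab⟩ := Submodule.mem_span_pair.1 hc01.1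
  obtain ⟨a', b', hab'⟩ := Submodule.mem_span_pair.1 hc01.2
  have hd0 := Tm_eq_span C.nd ((C.ts_ee (i := 0) (j := 2) (by decide)).ga g).ind
    (T0 (C.ev 2) (C.ee 2 0) (C.ee 2 1))
  obtain ⟨c, d, hcd⟩ := Submodule.mem_span_pair.1 hd0.1
  have hd1 := Tm_eq_span C.nd ((C.ts_ee (i := 1) (j := 2) (by decide)).ga g).ind
    (T1 (C.ev 2) (C.ee 2 0) (C.ee 2 1))
  obtain ⟨c', d', hcd'⟩ := Submodule.mem_span_pair.1 hd1.1
  have hb : b = 0 := by
    have := congrArg (fun z => polar ⇑Q z (C.fv 1)) (hab.trans hcd.symm)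
    simp only [polar_add_left, polar_smul_left, C.ef, smul_eq_mul] at this
    simpa using this
  have ha' : a' = 0 := by
    have := congrArg (fun z => polar ⇑Q z (C.fv 0)) (hab'.trans hcd'.symm)
    simp only [polar_add_left, polar_smul_left, C.ef, smul_eq_mul] at this
    simpa using this
  have hg0 : ga Q g (C.ev 0) = a • C.ev 0 := by rw [← hab, hb]; simp
  have hg1 : ga Q g (C.ev 1) = b' • C.ev 1 := by rw [← hab', ha']; simp
  have ha0 : a ≠ 0 := by
    rintro rfl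
    rw [zero_smul] at hg0
    exact C.ev_ne 0 (ga_eq_zero g hg0)
  have hb0 : b' ≠ 0 := by
    rintro rfl
    rw [zero_smul] at hg1
    exact C.ev_ne 1 (ga_eq_zero g hg1)
  -- the action on `⟨e₀,e₁⟩^⊥`
  have hw0 : ∀ w, polar ⇑Q w (C.ev 0) = 0 → polar ⇑Q w (C.ev 1) = 0 →
      ∃ c : F, a • ga Q g w - w = c • C.ev 0 := by
    intro w hw0 hw1
    apply Tm_eq_zero C.nd (C.ev_ne 0)
    intro x
    have := T0 w hw0 hw1 x
    rw [hg0, Tm_smul_left] at this
    rw [Tm_sub_right, Tm_smul_right, this, sub_self]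
  have hw1 : ∀ w, polar ⇑Q w (C.ev 0) = 0 → polar ⇑Q w (C.ev 1) = 0 →
      ∃ c : F, b' • ga Q g w - w = c • C.ev 1 := by
    intro w hw0 hw1
    apply Tm_eq_zero C.nd (C.ev_ne 1)
    intro x
    have := T1 w hw0 hw1 x
    rw [hg1, Tm_smul_left] at this
    rw [Tm_sub_right, Tm_smul_right, this, sub_self]
  -- the two scalars agree
  have hab1 : b' = a := by
    obtain ⟨c0, hc0⟩ := hw0 (C.ev 2) (C.ee 2 0) (C.ee 2 1)
    obtain ⟨c1, hc1⟩ := hw1 (C.ev 2) (C.ee 2 0) (C.ee 2 1)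
    have e1 : a • ga Q g (C.ev 2) = C.ev 2 + c0 • C.ev 0 := by rw [← hc0]; abel
    have e2 : b' • ga Q g (C.ev 2) = C.ev 2 + c1 • C.ev 1 := by rw [← hc1]; abel
    have e3 : b' • (C.ev 2 + c0 • C.ev 0) = a • (C.ev 2 + c1 • C.ev 1) := by
      rw [← e1, ← e2, smul_smul, smul_smul, mul_comm]
    have := congrArg (fun z => polar ⇑Q z (C.fv 2)) e3
    simp only [polar_add_left, polar_smul_left, C.ef, smul_eq_mul] at this
    simpa using this
  subst hab1
  have hgw : ∀ w, polar ⇑Q w (C.ev 0) = 0 → polar ⇑Q w (C.ev 1) = 0 →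
      b' • ga Q g w = w := by
    intro w h0' h1'
    obtain ⟨c0, hc0⟩ := hw0 w h0' h1'
    obtain ⟨c1, hc1⟩ := hw1 w h0' h1'
    have e3 : c0 • C.ev 0 = c1 • C.ev 1 := by rw [← hc0, ← hc1]
    have hc00 : c0 = 0 := by
      have := congrArg (fun z => polar ⇑Q z (C.fv 0)) e3
      simp only [polar_smul_left, C.ef, smul_eq_mul] at this
      simpa using this
    rw [hc00, zero_smul, sub_eq_zero] at hc0
    exact hc0
  have hss : b' * b' = 1 := by
    have h2 := hgw (C.ev 2) (C.ee 2 0) (C.ee 2 1)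
    have h3 := hgw (C.fv 2) (C.fe_ne (by decide)) (C.fe_ne (by decide))
    have h4 : polar ⇑Q (b' • ga Q g (C.ev 2)) (b' • ga Q g (C.fv 2)) = 1 := by
      rw [h2, h3, C.ef_same]
    rw [polar_smul_left, polar_smul_right, polar_ga, C.ef_same] at h4
    simpa using h4
  have hgw' : ∀ w, polar ⇑Q w (C.ev 0) = 0 → polar ⇑Q w (C.ev 1) = 0 →
      ga Q g w = b' • w := by
    intro w h0' h1'
    have := hgw w h0' h1'
    calc ga Q g w = (b' * b') • ga Q g w := by rw [hss, one_smul]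
      _ = b' • (b' • ga Q g w) := by rw [smul_smul]
      _ = b' • w := by rw [this]
  -- the images of `f₀`, `f₁`
  have hperp : ∀ y : ι → F, ∀ w, polar ⇑Q w (C.ev 0) = 0 → polar ⇑Q w (C.ev 1) = 0 →
      polar ⇑Q (b' • ga Q g y - y) w = 0 := by
    intro y w h0' h1'
    have h2 : polar ⇑Q (ga Q g y) (ga Q g w) = polar ⇑Q y w := polar_ga g y w
    rw [hgw' w h0' h1', polar_smul_right, smul_eq_mul] at h2
    rw [polar_sub_left, polar_smul_left, smul_eq_mul, h2, sub_self]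
  have hspan : ∀ y : ι → F, ∃ a0 b0 : F, b' • ga Q g y = y + a0 • C.ev 0 + b0 • C.ev 1 := by
    intro y
    have hm : b' • ga Q g y - y ∈ Submodule.span F {C.ev 0, C.ev 1} := by
      apply mem_span_pair_of_orth Q C.nd
      intro x hx0 hx1
      exact hperp y x (by rw [polar_comm]; exact hx0) (by rw [polar_comm]; exact hx1)
    obtain ⟨a0, b0, h⟩ := Submodule.mem_span_pair.1 hm
    refine ⟨a0, b0, ?_⟩
    rw [add_assoc, h]
    abel
  obtain ⟨a0, b0, hf0⟩ := hspan (C.fv 0)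
  obtain ⟨a1, b1, hf1⟩ := hspan (C.fv 1)
  have hQs : ∀ y, Q (b' • ga Q g y) = Q y := by
    intro y
    rw [QuadraticMap.map_smul, Q_ga, smul_eq_mul, hss, one_mul]
  have hBs : ∀ y z, polar ⇑Q (b' • ga Q g y) (b' • ga Q g z) = polar ⇑Q y z := by
    intro y z
    rw [polar_smul_left, polar_smul_right, polar_ga, smul_eq_mul, smul_eq_mul, ← mul_assoc, hss,
      one_mul]
  have ha00 : a0 = 0 := by
    have h2 := hQs (C.fv 0)
    rw [hf0, C.q_fv, add_assoc, QuadraticMap.map_add Q, C.q_fv, QuadraticMap.map_add Q,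
      QuadraticMap.map_smul, QuadraticMap.map_smul, C.q_ev, C.q_ev, polar_add_right,
      polar_smul_right, polar_smul_right, polar_smul_left, polar_smul_right, C.ee, C.fe, C.fe] at h2
    simpa using h2
  have hb10 : b1 = 0 := by
    have h2 := hQs (C.fv 1)
    rw [hf1, C.q_fv, add_assoc, QuadraticMap.map_add Q, C.q_fv, QuadraticMap.map_add Q,
      QuadraticMap.map_smul, QuadraticMap.map_smul, C.q_ev, C.q_ev, polar_add_right,
      polar_smul_right, polar_smul_right, polar_smul_left, polar_smul_right, C.ee, C.fe, C.fe] at h2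
    simpa using h2
  have hab01 : a1 + b0 = 0 := by
    have h2 := hBs (C.fv 0) (C.fv 1)
    rw [hf0, hf1, ha00, hb10, C.ff] at h2
    simp only [zero_smul, add_zero, polar_add_left, polar_add_right, polar_smul_left,
      polar_smul_right, C.ff, C.fe, C.ef, C.ee, smul_eq_mul] at h2
    rw [add_comm]
    simpa using h2
  refine ⟨b', a1, hss, ?_⟩
  intro x
  -- decompose `x`
  obtain ⟨p0, hp0⟩ : ∃ p0, p0 = polar ⇑Q x (C.ev 0) := ⟨_, rfl⟩
  obtain ⟨p1, hp1⟩ : ∃ p1, p1 = polar ⇑Q x (C.ev 1) := ⟨_, rfl⟩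
  obtain ⟨w, hw⟩ : ∃ w, w = x - polar ⇑Q x (C.ev 0) • C.fv 0 - polar ⇑Q x (C.ev 1) • C.fv 1 :=
    ⟨_, rfl⟩
  have hwe0 : polar ⇑Q w (C.ev 0) = 0 := by
    rw [hw, polar_sub_left, polar_sub_left, polar_smul_left, polar_smul_left, C.fe, C.fe]
    simp
  have hwe1 : polar ⇑Q w (C.ev 1) = 0 := by
    rw [hw, polar_sub_left, polar_sub_left, polar_smul_left, polar_smul_left, C.fe, C.fe]
    simp
  have hx : x = w + p0 • C.fv 0 + p1 • C.fv 1 := by
    rw [hw, hp0, hp1]; abel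
  have hgx : b' • ga Q g x = x + a1 • Tm Q (C.ev 0) (C.ev 1) x := by
    unfold Tm
    rw [← hp0, ← hp1]
    rw [hx, ga_add, ga_add, ga_smul, ga_smul, smul_add, smul_add, hgw w hwe0 hwe1,
      smul_comm b' p0, smul_comm b' p1, hf0, hf1, ha00, hb10]
    have hb0' : b0 = -a1 := by linear_combination hab01
    rw [hb0']
    module
  calc ga Q g x = (b' * b') • ga Q g x := by rw [hss, one_smul]
    _ = b' • (b' • ga Q g x) := by rw [smul_smul]
    _ = b' • (x + a1 • Tm Q (C.ev 0) (C.ev 1) x) := by rw [hgx]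

end ctx

end Cfsg.Agent.Lib.Helper5.AutOrth
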