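import Mathlib
import Cfsg.Agent.Lib.Helper5.AutOrthCent

set_option autoImplicit false
set_option linter.unusedSimpArgs false
set_option linter.unusedVariables false
set_option linter.unnecessarySeqFocus false
set_option linter.unusedSectionVars false
set_option linter.style.haveILetI false

/-!
# Automorphisms of `PΩ(Q)` permute the long root subgroups
-/

namespace Cfsg.Agent.Lib.Helper5.AutOrth

open Matrix Module QuadraticMap
open Cfsg.Agent.Lib.Helper37 Cfsg.Agent.Lib.Helper8 Cfsg.Agent.Lib.Helper13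
open scoped Classical Pointwise

variable {ι : Type} [Fintype ι] [DecidableEq ι] {F : Type*} [Field F] [Fintype F]

/-- the long root subgroup of a totally singular pair, as a set in `Ω` -/
def Xs (Q : QuadraticForm F (ι → F)) (u v : ι → F) : Set ↥(Cfsg.Omega F ⇑Q) :=
  {x | ∃ t : F, x = Eg Q u (t • v)}

/-- the long root subgroup, as a set in `PΩ` -/
def Xb (Q : QuadraticForm F (ι → F)) (u v : ι → F) : Set (Cfsg.POmega F ⇑Q) :=
  pr Q '' Xs Q u v

variable {Q : QuadraticForm F (ι → F)} {k : ℕ} {e f : Fin k → ι → F}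

lemma mem_Xb (u v : ι → F) (y : Cfsg.POmega F ⇑Q) :
    y ∈ Xb Q u v ↔ ∃ t : F, y = pr Q (Eg Q u (t • v)) := by
  unfold Xb Xs
  constructor
  · rintro ⟨x, ⟨t, rfl⟩, rfl⟩
    exact ⟨t, rfl⟩
  · rintro ⟨t, rfl⟩
    exact ⟨_, ⟨t, rfl⟩, rfl⟩

lemma neg_eq_self_of_two (h20 : (2 : F) = 0) (y : ι → F) : -y = y := by
  funext i
  simp only [Pi.neg_apply]
  have : y i + y i = 0 := by rw [← two_mul, h20, zero_mul]
  exact (eq_neg_of_add_eq_zero_left this).symm

section ctx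

variable (C : Ctx Q k e f)
include C

/-- an element acting as a scalar is central -/
lemma central_of_scalar {z : ↥(Cfsg.Omega F ⇑Q)} {s : F} (hz : ∀ x, ga Q z x = s • x) :
    z ∈ Subgroup.center ↥(Cfsg.Omega F ⇑Q) := by
  rw [Subgroup.mem_center_iff]
  intro h
  apply G_ext
  intro x
  rw [ga_mul, ga_mul, hz, hz, ga_smul]

/-- a root element is trivial in `PΩ` only if it is trivial -/
lemma pr_root_eq_one_iff {u v : ι → F} (h : TS Q u v) (t : F) :
    pr Q (Eg Q u (t • v)) = 1 ↔ t = 0 := by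
  constructor
  · intro h1
    rw [pr_eq_one_iff] at h1
    rw [← root_eq_one_iff C h]
    apply G_ext
    intro x
    rw [ga_one]
    rcases center_ga C h1 with h2 | h2
    · exact h2 x
    · have h3 := h2 u
      rw [ga_root C h, Tm, h.uu, h.uv] at h3
      simp only [zero_smul, sub_zero, smul_zero, add_zero] at h3
      by_cases h20 : (2 : F) = 0
      · rw [h2 x]
        exact neg_eq_self_of_two h20 x
      · exfalso
        have h6 : (2 : F) • u = 0 := by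
          rw [two_smul]
          nth_rewrite 1 [h3]
          exact neg_add_cancel u
        rcases smul_eq_zero.1 h6 with h7 | h7
        · exact h20 h7
        · exact h.u_ne h7
  · rintro rfl
    rw [zero_smul, Eg_zero C h.qu, map_one]

/-- conjugating a root subgroup -/
lemma Xb_conj_mem {u v : ι → F} (h : TS Q u v) (g : ↥(Cfsg.Omega F ⇑Q))
    {y : Cfsg.POmega F ⇑Q} (hy : y ∈ Xb Q u v) :
    pr Q g * y * (pr Q g)⁻¹ ∈ Xb Q (ga Q g u) (ga Q g v) := by
  obtain ⟨t, rfl⟩ := (mem_Xb u v y).1 hy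
  rw [mem_Xb]
  refine ⟨t, ?_⟩
  rw [← map_inv, ← map_mul, ← map_mul,
    Eg_conj C g h.qu (by rw [polar_smul_right, h.uv, smul_zero]), ga_smul]

lemma Xb_conj_iff {u v : ι → F} (h : TS Q u v) (g : ↥(Cfsg.Omega F ⇑Q))
    (y : Cfsg.POmega F ⇑Q) :
    pr Q g * y * (pr Q g)⁻¹ ∈ Xb Q (ga Q g u) (ga Q g v) ↔ y ∈ Xb Q u v := by
  constructor
  · intro h1
    have h2 := Xb_conj_mem C (h.ga g) g⁻¹ h1
    rw [ga_inv_ga, ga_inv_ga, map_inv] at h2
    have h3 : (pr Q g)⁻¹ * (pr Q g * y * (pr Q g)⁻¹) * (pr Q g)⁻¹⁻¹ = y := by group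
    rw [h3] at h2
    exact h2
  · exact Xb_conj_mem C h g

/-- **The centre of a Sylow `p`-subgroup containing the image of `S0` is the standard root
subgroup.** -/
theorem sylow_center_std (p : ℕ) [Fact p.Prime] [CharP F p]
    (P : Sylow p (Cfsg.POmega F ⇑Q)) (hP : (S0 C).map (pr Q) ≤ P.toSubgroup)
    (y : Cfsg.POmega F ⇑Q) :
    (y ∈ P.toSubgroup ∧ ∀ w ∈ P.toSubgroup, w * y = y * w) ↔ y ∈ Xb Q (C.ev 0) (C.ev 1) := by
  have hfwd : ∀ y : Cfsg.POmega F ⇑Q, (y ∈ P.toSubgroup ∧ ∀ w ∈ P.toSubgroup, w * y = y * w) →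
      y ∈ Xb Q (C.ev 0) (C.ev 1) := by
    rintro y ⟨hyP, hyc⟩
    obtain ⟨g, rfl⟩ := pr_surjective Q y
    have hc0 : ∀ w, Q w = 0 → polar ⇑Q w (C.ev 0) = 0 → polar ⇑Q w (C.ev 1) = 0 →
        g * Eg Q (C.ev 0) w = Eg Q (C.ev 0) w * g := by
      intro w hw hw0 hw1
      apply comm_of_pr_comm C p (Eg_pow_char C p (C.q_ev 0) (by rw [polar_comm]; exact hw0))
      exact (hyc _ (hP ⟨_, Eg0_mem_S0 C hw0 hw1, rfl⟩)).symm
    have hc1 : ∀ w, Q w = 0 → polar ⇑Q w (C.ev 0) = 0 → polar ⇑Q w (C.ev 1) = 0 →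
        g * Eg Q (C.ev 1) w = Eg Q (C.ev 1) w * g := by
      intro w hw hw0 hw1
      apply comm_of_pr_comm C p (Eg_pow_char C p (C.q_ev 1) (by rw [polar_comm]; exact hw1))
      exact (hyc _ (hP ⟨_, Eg1_mem_S0 C hw0 hw1, rfl⟩)).symm
    obtain ⟨s, t, hss, hg⟩ := centralizer_std C hc0 hc1
    rw [mem_Xb]
    refine ⟨t, ?_⟩
    have hz : g * (Eg Q (C.ev 0) (t • C.ev 1))⁻¹ ∈ Subgroup.center ↥(Cfsg.Omega F ⇑Q) := by
      apply central_of_scalar C (s := s)
      intro x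
      rw [ga_mul, hg, ← ga_root C C.ts01, ga_ga_inv]
    have h1 : pr Q (g * (Eg Q (C.ev 0) (t • C.ev 1))⁻¹) = 1 := (pr_eq_one_iff Q _).2 hz
    rw [map_mul, map_inv, mul_inv_eq_one] at h1
    exact h1
  constructor
  · exact hfwd y
  · intro hy
    obtain ⟨t, rfl⟩ := (mem_Xb _ _ y).1 hy
    have hmem : ∀ t : F, pr Q (Eg Q (C.ev 0) (t • C.ev 1)) ∈ P.toSubgroup := by
      intro t
      apply hP
      refine ⟨_, Eg0_mem_S0 C ?_ ?_, rfl⟩
      · rw [polar_smul_left, C.ee, smul_zero]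
      · rw [polar_smul_left, C.ee, smul_zero]
    refine ⟨hmem t, ?_⟩
    -- a nontrivial central element
    have hne : pr Q (Eg Q (C.ev 0) ((1 : F) • C.ev 1)) ≠ 1 := by
      intro h
      exact one_ne_zero ((pr_root_eq_one_iff C C.ts01 1).1 h)
    haveI : Nontrivial ↥P.toSubgroup :=
      ⟨⟨⟨_, hmem 1⟩, 1, fun h => hne (congrArg Subtype.val h)⟩⟩
    haveI : Finite ↥P.toSubgroup := Subtype.finite
    haveI : Nontrivial (Subgroup.center ↥P.toSubgroup) := P.2.center_nontrivial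
    obtain ⟨⟨⟨z, hzP⟩, hzc⟩, hzne⟩ := exists_ne (1 : Subgroup.center ↥P.toSubgroup)
    have hzcomm : ∀ w ∈ P.toSubgroup, w * z = z * w := by
      intro w hw
      have := Subgroup.mem_center_iff.1 hzc ⟨w, hw⟩
      exact congrArg Subtype.val this
    have hz1 : z ≠ 1 := by
      intro h
      apply hzne
      apply Subtype.ext
      apply Subtype.ext
      exact h
    obtain ⟨t0, rfl⟩ := (mem_Xb _ _ z).1 (hfwd z ⟨hzP, hzcomm⟩)
    have ht0 : t0 ≠ 0 := by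
      rintro rfl
      apply hz1
      rw [zero_smul, Eg_zero C (C.q_ev 0), map_one]
    intro w hw
    obtain ⟨h, rfl⟩ := pr_surjective Q w
    have h1 : h * Eg Q (C.ev 0) (t0 • C.ev 1) = Eg Q (C.ev 0) (t0 • C.ev 1) * h := by
      apply comm_of_pr_comm C p (Eg_pow_char C p (C.q_ev 0)
        (by rw [polar_smul_right, C.ee, smul_zero]))
      exact hzcomm _ hw
    have h2 := comm_of_Tm C C.ts01 (Tm_of_comm C C.ts01 ht0 h1) t
    rw [← map_mul, ← map_mul, h2]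

/-- an automorphism maps the standard root subgroup onto a root subgroup -/
theorem exists_root_map_std (p : ℕ) [Fact p.Prime] [CharP F p]
    (α : MulAut (Cfsg.POmega F ⇑Q)) :
    ∃ u' v' : ι → F, TS Q u' v' ∧ ∀ y, y ∈ Xb Q (C.ev 0) (C.ev 1) ↔ α y ∈ Xb Q u' v' := by
  haveI : Finite (Cfsg.POmega F ⇑Q) := by
    haveI : Finite ↥(Cfsg.Omega F ⇑Q) := Subtype.finite
    exact Quotient.finite _
  obtain ⟨P, hP⟩ := (S0_isPGroup C p).exists_le_sylow
  obtain ⟨c, hc⟩ := MulAction.exists_smul_eq (Cfsg.POmega F ⇑Q) (α • P) P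
  obtain ⟨c', rfl⟩ := pr_surjective Q c
  obtain ⟨α1, hα1def⟩ : ∃ α1, α1 = MulAut.conj (pr Q c') * α := ⟨_, rfl⟩
  have hα1P : α1 • P.toSubgroup = P.toSubgroup := by
    have h := congrArg (fun R : Sylow p (Cfsg.POmega F ⇑Q) => R.toSubgroup) hc
    simp only [Sylow.smul_def, Sylow.pointwise_smul_def] at h
    rw [hα1def, mul_smul]
    exact h
  have hα1 : ∀ x, α1 x ∈ P.toSubgroup ↔ x ∈ P.toSubgroup := by
    intro x
    constructor
    · intro hx
      rw [← hα1P] at hx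
      obtain ⟨y, hy, hyx⟩ := hx
      have : y = x := α1.injective hyx
      exact this ▸ hy
    · intro hx
      rw [← hα1P]
      exact ⟨x, hx, rfl⟩
  have hcen := sylow_center_std C p P hP
  have hα1X : ∀ y, y ∈ Xb Q (C.ev 0) (C.ev 1) ↔ α1 y ∈ Xb Q (C.ev 0) (C.ev 1) := by
    intro y
    rw [← hcen, ← hcen, hα1]
    constructor
    · rintro ⟨h1, h2⟩
      refine ⟨h1, ?_⟩
      intro w hw
      obtain ⟨w', rfl⟩ := α1.surjective w
      rw [← map_mul, ← map_mul, h2 w' ((hα1 w').1 hw)]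
    · rintro ⟨h1, h2⟩
      refine ⟨h1, ?_⟩
      intro w hw
      apply α1.injective
      rw [map_mul, map_mul, h2 _ ((hα1 w).2 hw)]
  refine ⟨ga Q c'⁻¹ (C.ev 0), ga Q c'⁻¹ (C.ev 1), C.ts01.ga _, ?_⟩
  intro y
  rw [hα1X y, hα1def, MulAut.mul_apply, MulAut.conj_apply]
  rw [← Xb_conj_iff C C.ts01 c'⁻¹ (pr Q c' * α y * (pr Q c')⁻¹)]
  have : pr Q c'⁻¹ * (pr Q c' * α y * (pr Q c')⁻¹) * (pr Q c'⁻¹)⁻¹ = α y := by
    rw [map_inv]
    group
  rw [this]

/-- **Every automorphism of `PΩ(Q)` permutes the long root subgroups.** -/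
theorem exists_root_map (p : ℕ) [Fact p.Prime] [CharP F p]
    (α : MulAut (Cfsg.POmega F ⇑Q)) {u v : ι → F} (h : TS Q u v) :
    ∃ u' v' : ι → F, TS Q u' v' ∧ ∀ y, y ∈ Xb Q u v ↔ α y ∈ Xb Q u' v' := by
  obtain ⟨a, b, hab, hα⟩ := exists_root_map_std C p α
  obtain ⟨g, hgu, hgv⟩ := to_e0e1 C h
  obtain ⟨g', hg'⟩ := pr_surjective Q (α (pr Q g))
  refine ⟨ga Q g'⁻¹ a, ga Q g'⁻¹ b, hab.ga _, ?_⟩
  intro y
  have h1 := Xb_conj_iff C h g y
  rw [hgu, hgv] at h1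
  rw [← h1, hα, map_mul, map_mul, map_inv, ← hg']
  rw [← Xb_conj_iff C hab g'⁻¹ (pr Q g' * α y * (pr Q g')⁻¹)]
  have : pr Q g'⁻¹ * (pr Q g' * α y * (pr Q g')⁻¹) * (pr Q g'⁻¹)⁻¹ = α y := by
    rw [map_inv]
    group
  rw [this]

end ctx

end Cfsg.Agent.Lib.Helper5.AutOrth
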