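import Mathlib
import Cfsg.Agent.Lib.Helper5.AutOrthPerm

set_option autoImplicit false
set_option linter.unusedSimpArgs false
set_option linter.unusedVariables false
set_option linter.unnecessarySeqFocus false
set_option linter.unusedSectionVars false
set_option linter.style.haveILetI false

/-!
# Totally singular lines and their root subgroups
-/

namespace Cfsg.Agent.Lib.Helper5.AutOrth

open Matrix Module QuadraticMap
open Cfsg.Agent.Lib.Helper37 Cfsg.Agent.Lib.Helper8 Cfsg.Agent.Lib.Helper13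
open scoped Classical Pointwise

variable {ι : Type} [Fintype ι] [DecidableEq ι] {F : Type*} [Field F] [Fintype F]
variable {Q : QuadraticForm F (ι → F)} {k : ℕ} {e f : Fin k → ι → F}

/-- change of basis in `Tm` -/
lemma Tm_rebase (u v : ι → F) (α β γ δ : F) (z : ι → F) :
    Tm Q (α • u + β • v) (γ • u + δ • v) z = (α * δ - β * γ) • Tm Q u v z := by
  unfold Tm
  rw [polar_add_right, polar_add_right, polar_smul_right, polar_smul_right, polar_smul_right,
    polar_smul_right]
  simp only [smul_eq_mul]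
  module

/-- singular vectors on a totally singular line -/
lemma TS.Q_comb {u v : ι → F} (h : TS Q u v) (α β : F) : Q (α • u + β • v) = 0 := by
  rw [QuadraticMap.map_add Q, QuadraticMap.map_smul, QuadraticMap.map_smul, h.qu, h.qv,
    polar_smul_left, polar_smul_right, h.uv]
  simp

lemma TS.polar_comb {u v : ι → F} (h : TS Q u v) (α β γ δ : F) :
    polar ⇑Q (α • u + β • v) (γ • u + δ • v) = 0 := by
  simp only [polar_add_left, polar_add_right, polar_smul_left, polar_smul_right, h.uu, h.vv,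
    h.uv, h.vu]
  simp

/-- a pair on the line of `(u,v)` -/
lemma TS.of_comb {u v : ι → F} (h : TS Q u v) {α β γ δ : F} (hdet : α * δ - β * γ ≠ 0) :
    TS Q (α • u + β • v) (γ • u + δ • v) := by
  refine ⟨h.Q_comb α β, h.Q_comb γ δ, h.polar_comb α β γ δ, ?_⟩
  intro a b hab
  have h1 : (a * α + b * γ) • u + (a * β + b * δ) • v = 0 := by
    rw [← hab]; module
  obtain ⟨h2, h3⟩ := h.ind _ _ h1
  constructor
  · have : a * (α * δ - β * γ) = 0 := by linear_combination δ * h2 - γ * h3
    rcases mul_eq_zero.1 this with h4 | h4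
    · exact h4
    · exact absurd h4 hdet
  · have : b * (α * δ - β * γ) = 0 := by linear_combination α * h3 - β * h2
    rcases mul_eq_zero.1 this with h4 | h4
    · exact h4
    · exact absurd h4 hdet

/-- the determinant of an independent pair on a line is nonzero -/
lemma TS.det_ne {u v : ι → F} (h : TS Q u v) {α β γ δ : F}
    (hind : ∀ a b : F, a • (α • u + β • v) + b • (γ • u + δ • v) = 0 → a = 0 ∧ b = 0) :
    α * δ - β * γ ≠ 0 := by
  intro hdet
  by_cases hγδ : γ = 0 ∧ δ = 0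
  · have := (hind 0 1 (by rw [hγδ.1, hγδ.2]; simp)).2
    exact one_ne_zero this
  · have h1 : δ • (α • u + β • v) + (-β) • (γ • u + δ • v) = (α * δ - β * γ) • u := by module
    have h2 : (-γ) • (α • u + β • v) + α • (γ • u + δ • v) = (α * δ - β * γ) • v := by module
    rw [hdet, zero_smul] at h1 h2
    obtain ⟨h3, h4⟩ := hind _ _ h1
    obtain ⟨h5, h6⟩ := hind _ _ h2
    apply hγδ
    exact ⟨by simpa using h5, h3⟩

section ctx

variable (C : Ctx Q k e f)
include C

/-- root subgroups only depend on the line -/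
lemma Xb_comb_le {u v : ι → F} (h : TS Q u v) {α β γ δ : F} (hdet : α * δ - β * γ ≠ 0) :
    Xb Q (α • u + β • v) (γ • u + δ • v) ⊆ Xb Q u v := by
  intro y hy
  obtain ⟨t, rfl⟩ := (mem_Xb _ _ y).1 hy
  rw [mem_Xb]
  refine ⟨t * (α * δ - β * γ), ?_⟩
  congr 1
  apply G_ext
  intro z
  rw [ga_root C (h.of_comb hdet), ga_root C h, Tm_rebase, smul_smul]

lemma Xb_comb {u v : ι → F} (h : TS Q u v) {α β γ δ : F} (hdet : α * δ - β * γ ≠ 0) :
    Xb Q (α • u + β • v) (γ • u + δ • v) = Xb Q u v := by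
  apply Set.Subset.antisymm (Xb_comb_le C h hdet)
  intro y hy
  obtain ⟨t, rfl⟩ := (mem_Xb _ _ y).1 hy
  rw [mem_Xb]
  refine ⟨t * (α * δ - β * γ)⁻¹, ?_⟩
  congr 1
  apply G_ext
  intro z
  rw [ga_root C (h.of_comb hdet), ga_root C h, Tm_rebase, smul_smul, mul_assoc,
    inv_mul_cancel₀ hdet, mul_one]

/-- root subgroups of pairs spanning the same line coincide -/
lemma Xb_eq_of_mem_span {u v a x : ι → F} (h : TS Q u v) (hax : TS Q a x)
    (ha : a ∈ Submodule.span F {u, v}) (hx : x ∈ Submodule.span F {u, v}) :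
    Xb Q a x = Xb Q u v := by
  obtain ⟨α, β, rfl⟩ := Submodule.mem_span_pair.1 ha
  obtain ⟨γ, δ, rfl⟩ := Submodule.mem_span_pair.1 hx
  exact Xb_comb C h (h.det_ne hax.ind)

end ctx

/-- re-basing a line at one of its nonzero vectors -/
lemma TS.exists_rebase {u v a : ι → F} (h : TS Q u v) (ha : a ∈ Submodule.span F {u, v})
    (ha0 : a ≠ 0) : ∃ x, TS Q a x ∧ x ∈ Submodule.span F {u, v} ∧
      u ∈ Submodule.span F {a, x} ∧ v ∈ Submodule.span F {a, x} := by
  obtain ⟨α, β, rfl⟩ := Submodule.mem_span_pair.1 ha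
  by_cases hα : α = 0
  · subst hα
    have hβ : β ≠ 0 := by
      rintro rfl
      apply ha0
      simp
    refine ⟨u, ?_, Submodule.subset_span (by simp), ?_, ?_⟩
    · have := h.of_comb (α := 0) (β := β) (γ := 1) (δ := 0) (by simpa using hβ)
      simpa using this
    · exact Submodule.subset_span (by simp)
    · rw [Submodule.mem_span_pair]
      refine ⟨β⁻¹, 0, ?_⟩
      rw [zero_smul, zero_add, smul_smul, inv_mul_cancel₀ hβ]
      simp
  · refine ⟨v, ?_, Submodule.subset_span (by simp), ?_, Submodule.subset_span (by simp)⟩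
    · have := h.of_comb (α := α) (β := β) (γ := 0) (δ := 1) (by simpa using hα)
      simpa using this
    · rw [Submodule.mem_span_pair]
      refine ⟨α⁻¹, -(α⁻¹ * β), ?_⟩
      rw [smul_add, smul_smul, smul_smul, inv_mul_cancel₀ hα]
      module

/-- inverting membership in the span of an independent pair -/
lemma span_pair_swap {u v m₁ m₂ : ι → F}
    (hind : ∀ a b : F, a • u + b • v = 0 → a = 0 ∧ b = 0)
    (hu : u ∈ Submodule.span F {m₁, m₂}) (hv : v ∈ Submodule.span F {m₁, m₂}) :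
    m₁ ∈ Submodule.span F {u, v} ∧ m₂ ∈ Submodule.span F {u, v} := by
  obtain ⟨α, β, rfl⟩ := Submodule.mem_span_pair.1 hu
  obtain ⟨γ, δ, rfl⟩ := Submodule.mem_span_pair.1 hv
  have hdet : α * δ - β * γ ≠ 0 := by
    intro hdet
    by_cases hγδ : γ = 0 ∧ δ = 0
    · have := (hind 0 1 (by rw [hγδ.1, hγδ.2]; simp)).2
      exact one_ne_zero this
    · have h1 : δ • (α • m₁ + β • m₂) + (-β) • (γ • m₁ + δ • m₂) = (α * δ - β * γ) • m₁ := by
        module
      have h2 : (-γ) • (α • m₁ + β • m₂) + α • (γ • m₁ + δ • m₂) = (α * δ - β * γ) • m₂ := by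
        module
      rw [hdet, zero_smul] at h1 h2
      obtain ⟨h3, h4⟩ := hind _ _ h1
      obtain ⟨h5, h6⟩ := hind _ _ h2
      apply hγδ
      exact ⟨by simpa using h5, h3⟩
  constructor
  · rw [Submodule.mem_span_pair]
    refine ⟨(α * δ - β * γ)⁻¹ * δ, -((α * δ - β * γ)⁻¹ * β), ?_⟩
    have : ((α * δ - β * γ)⁻¹ * δ) • (α • m₁ + β • m₂) +
        (-((α * δ - β * γ)⁻¹ * β)) • (γ • m₁ + δ • m₂) =
        ((α * δ - β * γ)⁻¹ * (α * δ - β * γ)) • m₁ := by module
    rw [this, inv_mul_cancel₀ hdet, one_smul]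
  · rw [Submodule.mem_span_pair]
    refine ⟨-((α * δ - β * γ)⁻¹ * γ), (α * δ - β * γ)⁻¹ * α, ?_⟩
    have : (-((α * δ - β * γ)⁻¹ * γ)) • (α • m₁ + β • m₂) +
        ((α * δ - β * γ)⁻¹ * α) • (γ • m₁ + δ • m₂) =
        ((α * δ - β * γ)⁻¹ * (α * δ - β * γ)) • m₂ := by module
    rw [this, inv_mul_cancel₀ hdet, one_smul]

section ctx2

variable (C : Ctx Q k e f)
include C

/-- a central element of `p`-power-one order is trivial -/
lemma center_eq_one_of_pow (p : ℕ) [Fact p.Prime] [CharP F p] {z : ↥(Cfsg.Omega F ⇑Q)}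
    (hz : z ∈ Subgroup.center ↥(Cfsg.Omega F ⇑Q)) (hzp : z ^ p = 1) : z = 1 := by
  rcases (Fact.out : p.Prime).eq_two_or_odd' with h2 | hodd
  · subst h2
    have h20 : (2 : F) = 0 := by
      have := CharP.cast_eq_zero F 2
      exact_mod_cast this
    apply G_ext
    intro y
    rw [ga_one]
    rcases center_ga C hz with h' | h'
    · exact h' y
    · rw [h' y]
      exact neg_eq_self_of_two h20 y
  · obtain ⟨m, hm⟩ := hodd
    have h3 : z ^ (2 * m) = 1 := by rw [pow_mul, pow_two, center_sq C hz, one_pow]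
    rw [hm, pow_succ, h3, one_mul] at hzp
    exact hzp

/-- elements of order dividing `p` with the same image in `PΩ` coincide -/
lemma eq_of_pr_eq (p : ℕ) [Fact p.Prime] [CharP F p] {x y : ↥(Cfsg.Omega F ⇑Q)}
    (hx : x ^ p = 1) (hy : y ^ p = 1) (h : pr Q x = pr Q y) : x = y := by
  have hz : x⁻¹ * y ∈ Subgroup.center ↥(Cfsg.Omega F ⇑Q) := (pr_eq_iff Q x y).1 h
  have hcomm : Commute x (x⁻¹ * y) := Subgroup.mem_center_iff.1 hz x
  have h1 : y = x * (x⁻¹ * y) := by group
  have h2 : (x⁻¹ * y) ^ p = 1 := by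
    have := hy
    rw [h1, hcomm.mul_pow, hx, one_mul] at this
    exact this
  have h3 := center_eq_one_of_pow C p hz h2
  rw [h1, h3, mul_one]

/-- a nontrivial root element of one line lying in the root subgroup of another line forces
the first line into the second -/
lemma span_of_root_mem (p : ℕ) [Fact p.Prime] [CharP F p] {u v u' v' : ι → F} (h : TS Q u v)
    (h' : TS Q u' v') {t : F} (ht : t ≠ 0) (hm : pr Q (Eg Q u' (t • v')) ∈ Xb Q u v) :
    u' ∈ Submodule.span F {u, v} ∧ v' ∈ Submodule.span F {u, v} := by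
  obtain ⟨s, hs⟩ := (mem_Xb _ _ _).1 hm
  have h1 := eq_of_pr_eq C p
    (Eg_pow_char C p h'.qu (by rw [polar_smul_right, h'.uv, smul_zero]))
    (Eg_pow_char C p h.qu (by rw [polar_smul_right, h.uv, smul_zero])) hs
  have h2 : ∀ z, Tm Q (t • u') v' z = Tm Q (s • u) v z := by
    intro z
    have h3 : ga Q (Eg Q u' (t • v')) z = ga Q (Eg Q u (s • v)) z := by rw [h1]
    rw [ga_root C h', ga_root C h] at h3
    rw [Tm_smul_left, Tm_smul_left]
    exact add_left_cancel h3
  have hind : ∀ a b : F, a • (t • u') + b • v' = 0 → a = 0 ∧ b = 0 := by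
    intro a b hab
    rw [smul_smul] at hab
    obtain ⟨h3, h4⟩ := h'.ind _ _ hab
    refine ⟨?_, h4⟩
    rcases mul_eq_zero.1 h3 with h5 | h5
    · exact h5
    · exact absurd h5 ht
  obtain ⟨h3, h4⟩ := Tm_eq_span C.nd hind h2
  have hsub : Submodule.span F {s • u, v} ≤ Submodule.span F {u, v} := by
    rw [Submodule.span_le]
    rintro z (rfl | rfl)
    · exact Submodule.smul_mem _ _ (Submodule.subset_span (by simp))
    · exact Submodule.subset_span (by simp)
  refine ⟨?_, hsub h4⟩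
  have h5 := Submodule.smul_mem _ t⁻¹ (hsub h3)
  rw [smul_smul, inv_mul_cancel₀ ht, one_smul] at h5
  exact h5

/-- an Eichler element with nonsingular parameter is not a root element -/
lemma not_root_of_nonsing (p : ℕ) [Fact p.Prime] [CharP F p] {a w u v : ι → F} (ha : Q a = 0)
    (haw : polar ⇑Q a w = 0) (ha0 : a ≠ 0) (hw : Q w ≠ 0) (h : TS Q u v) :
    pr Q (Eg Q a w) ∉ Xb Q u v := by
  intro hm
  obtain ⟨s, hs⟩ := (mem_Xb _ _ _).1 hm
  have h1 := eq_of_pr_eq C p (Eg_pow_char C p ha haw)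
    (Eg_pow_char C p h.qu (by rw [polar_smul_right, h.uv, smul_zero])) hs
  have h2 : ∀ z, polar ⇑Q z w • a - polar ⇑Q z a • w - (Q w * polar ⇑Q z a) • a =
      s • Tm Q u v z := by
    intro z
    have h3 : ga Q (Eg Q a w) z = ga Q (Eg Q u (s • v)) z := by rw [h1]
    rw [ga_Eg C ha haw, ga_root C h] at h3
    have h4 : z + (polar ⇑Q z w • a - polar ⇑Q z a • w - (Q w * polar ⇑Q z a) • a) =
        z + s • Tm Q u v z := by
      rw [← h3]; abel
    exact add_left_cancel h4
  have hmem : ∀ z, s • Tm Q u v z ∈ Submodule.span F {u, v} := by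
    intro z
    apply Submodule.smul_mem
    unfold Tm
    exact Submodule.sub_mem _ (Submodule.smul_mem _ _ (Submodule.subset_span (by simp)))
      (Submodule.smul_mem _ _ (Submodule.subset_span (by simp)))
  -- `w ∉ ⟨a⟩`
  have hwa : ∀ c : F, w ≠ c • a := by
    intro c hc
    apply hw
    rw [hc, QuadraticMap.map_smul, ha, smul_zero]
  have haw' : ∀ c : F, a ≠ c • w := by
    intro c hc
    by_cases hc0 : c = 0
    · rw [hc0, zero_smul] at hc
      exact ha0 hc
    · apply hwa c⁻¹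
      rw [hc, smul_smul, inv_mul_cancel₀ hc0, one_smul]
  obtain ⟨z1, hz1a, hz1w⟩ := exists_dual_one C.nd hwa
  obtain ⟨z2, hz2w, hz2a⟩ := exists_dual_one C.nd haw'
  have ha_mem : a ∈ Submodule.span F {u, v} := by
    have := h2 z1
    rw [polar_comm ⇑Q z1 w, polar_comm ⇑Q z1 a, hz1w, hz1a] at this
    simp only [one_smul, zero_smul, sub_zero, mul_zero] at this
    rw [this]
    exact hmem z1
  have hw_mem : w ∈ Submodule.span F {u, v} := by
    have := h2 z2
    rw [polar_comm ⇑Q z2 w, polar_comm ⇑Q z2 a, hz2w, hz2a] at this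
    simp only [one_smul, zero_smul, zero_sub, mul_one] at this
    have h5 : w = -(s • Tm Q u v z2) - Q w • a := by
      rw [← this]; abel
    rw [h5]
    exact Submodule.sub_mem _ (Submodule.neg_mem _ (hmem z2)) (Submodule.smul_mem _ _ ha_mem)
  obtain ⟨α, β, hαβ⟩ := Submodule.mem_span_pair.1 hw_mem
  apply hw
  rw [← hαβ]
  exact h.Q_comb α β

/-- **classification of commuting root subgroups** -/
lemma comm_classify (p : ℕ) [Fact p.Prime] [CharP F p] {u v u' v' : ι → F} (h : TS Q u v)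
    (h' : TS Q u' v') (hc : ∀ x ∈ Xb Q u v, ∀ y ∈ Xb Q u' v', x * y = y * x) :
    (∃ a, a ≠ 0 ∧ a ∈ Submodule.span F {u, v} ∧ a ∈ Submodule.span F {u', v'}) ∨
    (polar ⇑Q u u' = 0 ∧ polar ⇑Q u v' = 0 ∧ polar ⇑Q v u' = 0 ∧ polar ⇑Q v v' = 0) := by
  have h1 : Eg Q u' ((1 : F) • v') * Eg Q u ((1 : F) • v) =
      Eg Q u ((1 : F) • v) * Eg Q u' ((1 : F) • v') := by
    apply comm_of_pr_comm C p
      (Eg_pow_char C p h.qu (by rw [polar_smul_right, h.uv, smul_zero]))
    exact (hc _ ((mem_Xb _ _ _).2 ⟨1, rfl⟩) _ ((mem_Xb _ _ _).2 ⟨1, rfl⟩)).symm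
  have h2 := Tm_of_comm C h one_ne_zero h1
  obtain ⟨h3, h4⟩ := Tm_eq_span C.nd (h.ga _).ind h2
  rw [ga_root C h', one_smul] at h3 h4
  have hdu : Tm Q u' v' u ∈ Submodule.span F {u, v} := by
    have := Submodule.sub_mem _ h3 (Submodule.subset_span (s := {u, v}) (by simp : u ∈ _))
    simpa using this
  have hdv : Tm Q u' v' v ∈ Submodule.span F {u, v} := by
    have := Submodule.sub_mem _ h4 (Submodule.subset_span (s := {u, v}) (by simp : v ∈ _))
    simpa using this
  have hmem' : ∀ z, Tm Q u' v' z ∈ Submodule.span F {u', v'} := by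
    intro z
    unfold Tm
    exact Submodule.sub_mem _ (Submodule.smul_mem _ _ (Submodule.subset_span (by simp)))
      (Submodule.smul_mem _ _ (Submodule.subset_span (by simp)))
  by_cases hu0 : Tm Q u' v' u = 0
  · by_cases hv0 : Tm Q u' v' v = 0
    · right
      unfold Tm at hu0 hv0
      have e1 := h'.ind _ _ (by rw [← hu0]; module :
        polar ⇑Q u v' • u' + (-polar ⇑Q u u') • v' = 0)
      have e2 := h'.ind _ _ (by rw [← hv0]; module :
        polar ⇑Q v v' • u' + (-polar ⇑Q v u') • v' = 0)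
      exact ⟨neg_eq_zero.1 e1.2, e1.1, neg_eq_zero.1 e2.2, e2.1⟩
    · left
      exact ⟨_, hv0, hdv, hmem' v⟩
  · left
    exact ⟨_, hu0, hdu, hmem' u⟩

end ctx2

end Cfsg.Agent.Lib.Helper5.AutOrth
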