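import Mathlib
import Cfsg.Agent.Lib.Helper5.AutOrthLines

set_option autoImplicit false
set_option linter.unusedSimpArgs false
set_option linter.unusedVariables false
set_option linter.unnecessarySeqFocus false
set_option linter.unusedSectionVars false
set_option linter.style.haveILetI false

/-!
# Group-theoretic relations between long root subgroups, invariant under automorphisms
-/

namespace Cfsg.Agent.Lib.Helper5.AutOrth

open Matrix Module QuadraticMap
open Cfsg.Agent.Lib.Helper37 Cfsg.Agent.Lib.Helper8 Cfsg.Agent.Lib.Helper13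
open scoped Classical Pointwise

variable {ι : Type} [Fintype ι] [DecidableEq ι] {F : Type*} [Field F] [Fintype F]

/-- the set of long root subgroups of `PΩ` -/
def Roots (Q : QuadraticForm F (ι → F)) : Set (Set (Cfsg.POmega F ⇑Q)) :=
  {X | ∃ u v, TS Q u v ∧ X = Xb Q u v}

/-- nontrivial long root elements -/
def IsRootElt (Q : QuadraticForm F (ι → F)) (y : Cfsg.POmega F ⇑Q) : Prop :=
  y ≠ 1 ∧ ∃ X ∈ Roots Q, y ∈ X

/-- two distinct commuting root subgroups some of whose products are root elements -/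
def Rel60 (Q : QuadraticForm F (ι → F)) (X Y : Set (Cfsg.POmega F ⇑Q)) : Prop :=
  X ≠ Y ∧ (∀ x ∈ X, ∀ y ∈ Y, x * y = y * x) ∧
    ∃ x ∈ X, ∃ y ∈ Y, x ≠ 1 ∧ y ≠ 1 ∧ IsRootElt Q (x * y)

/-- the candidate point group attached to two root subgroups -/
def QQ (Q : QuadraticForm F (ι → F)) (X Y : Set (Cfsg.POmega F ⇑Q)) :
    Subgroup (Cfsg.POmega F ⇑Q) :=
  Subgroup.closure (X ∪ Y ∪ {z | ∃ Z ∈ Roots Q, Rel60 Q X Z ∧ Rel60 Q Y Z ∧ z ∈ Z})

/-- pairs of root subgroups whose candidate point group has abelian centraliser -/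
def Good (Q : QuadraticForm F (ι → F)) (X Y : Set (Cfsg.POmega F ⇑Q)) : Prop :=
  X ∈ Roots Q ∧ Y ∈ Roots Q ∧ X ≠ Y ∧ (∀ x ∈ X, ∀ y ∈ Y, x * y = y * x) ∧ ¬ Rel60 Q X Y ∧
    ∀ a b : Cfsg.POmega F ⇑Q, (∀ q ∈ QQ Q X Y, a * q = q * a) → (∀ q ∈ QQ Q X Y, b * q = q * b) →
      a * b = b * a

/-- image of a set under an automorphism -/
def img {Q : QuadraticForm F (ι → F)} (α : MulAut (Cfsg.POmega F ⇑Q))
    (X : Set (Cfsg.POmega F ⇑Q)) : Set (Cfsg.POmega F ⇑Q) := (fun y => α y) '' X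

/-- `α` maps root subgroups to root subgroups -/
def RootPerm (Q : QuadraticForm F (ι → F)) (α : MulAut (Cfsg.POmega F ⇑Q)) : Prop :=
  ∀ X ∈ Roots Q, img α X ∈ Roots Q

variable {Q : QuadraticForm F (ι → F)}

lemma mem_img (α : MulAut (Cfsg.POmega F ⇑Q)) (X : Set (Cfsg.POmega F ⇑Q))
    (z : Cfsg.POmega F ⇑Q) : z ∈ img α X ↔ ∃ y ∈ X, α y = z := Iff.rfl

lemma map_mem_img (α : MulAut (Cfsg.POmega F ⇑Q)) (X : Set (Cfsg.POmega F ⇑Q))
    (y : Cfsg.POmega F ⇑Q) : α y ∈ img α X ↔ y ∈ X := by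
  constructor
  · rintro ⟨y', hy', h⟩
    have : y' = y := α.injective h
    exact this ▸ hy'
  · intro h
    exact ⟨y, h, rfl⟩

lemma image_symm_image (α : MulAut (Cfsg.POmega F ⇑Q)) (X : Set (Cfsg.POmega F ⇑Q)) :
    img α⁻¹ (img α X) = X := by
  ext y
  constructor
  · rintro ⟨_, ⟨x, hx, rfl⟩, rfl⟩
    show α⁻¹ (α x) ∈ X
    rw [MulAut.inv_apply_self]
    exact hx
  · intro hy
    exact ⟨α y, ⟨y, hy, rfl⟩, MulAut.inv_apply_self _ _ _⟩

lemma image_image_symm (α : MulAut (Cfsg.POmega F ⇑Q)) (X : Set (Cfsg.POmega F ⇑Q)) :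
    img α (img α⁻¹ X) = X := by
  have := image_symm_image α⁻¹ X
  rwa [inv_inv] at this

section perm

variable {α : MulAut (Cfsg.POmega F ⇑Q)} (hα : RootPerm Q α) (hα' : RootPerm Q α⁻¹)
include hα hα'

lemma roots_iff (X : Set (Cfsg.POmega F ⇑Q)) : img α X ∈ Roots Q ↔ X ∈ Roots Q := by
  constructor
  · intro h
    have := hα' _ h
    rwa [image_symm_image] at this
  · exact hα X

omit hα' in
lemma isRootElt_map {y : Cfsg.POmega F ⇑Q} (h : IsRootElt Q y) : IsRootElt Q (α y) := by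
  obtain ⟨h1, X, hX, hy⟩ := h
  refine ⟨?_, img α X, hα X hX, ⟨y, hy, rfl⟩⟩
  intro h2
  apply h1
  apply α.injective
  rw [h2, map_one]

lemma isRootElt_iff (y : Cfsg.POmega F ⇑Q) : IsRootElt Q (α y) ↔ IsRootElt Q y := by
  constructor
  · intro h
    have := isRootElt_map hα' h
    rwa [MulAut.inv_apply_self] at this
  · exact isRootElt_map hα

omit hα' in
lemma rel60_map {X Y : Set (Cfsg.POmega F ⇑Q)} (h : Rel60 Q X Y) :
    Rel60 Q (img α X) (img α Y) := by
  obtain ⟨h1, h2, x, hx, y, hy, hx1, hy1, hxy⟩ := h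
  refine ⟨?_, ?_, α x, ⟨x, hx, rfl⟩, α y, ⟨y, hy, rfl⟩, ?_, ?_, ?_⟩
  · intro h3
    apply h1
    have := congrArg (fun Z => img α⁻¹ Z) h3
    simp only [image_symm_image] at this
    exact this
  · rintro _ ⟨x', hx', rfl⟩ _ ⟨y', hy', rfl⟩
    rw [← map_mul, ← map_mul, h2 x' hx' y' hy']
  · intro h3
    apply hx1
    apply α.injective
    rw [h3, map_one]
  · intro h3
    apply hy1
    apply α.injective
    rw [h3, map_one]
  · rw [← map_mul]
    exact isRootElt_map hα hxy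

lemma rel60_iff (X Y : Set (Cfsg.POmega F ⇑Q)) :
    Rel60 Q (img α X) (img α Y) ↔ Rel60 Q X Y := by
  constructor
  · intro h
    have := rel60_map hα' h
    rwa [image_symm_image, image_symm_image] at this
  · exact rel60_map hα

lemma QQ_map (X Y : Set (Cfsg.POmega F ⇑Q)) :
    (QQ Q X Y).map α.toMonoidHom = QQ Q (img α X) (img α Y) := by
  unfold QQ
  rw [MonoidHom.map_closure]
  congr 1
  ext z
  constructor
  · rintro ⟨y, hy, rfl⟩
    rcases hy with (hy | hy) | ⟨Z, hZ, h1, h2, hy⟩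
    · left; left; exact ⟨y, hy, rfl⟩
    · left; right; exact ⟨y, hy, rfl⟩
    · right
      exact ⟨img α Z, hα Z hZ, rel60_map hα h1, rel60_map hα h2, ⟨y, hy, rfl⟩⟩
  · rintro ((⟨y, hy, rfl⟩ | ⟨y, hy, rfl⟩) | ⟨Z, hZ, h1, h2, hz⟩)
    · exact ⟨y, Or.inl (Or.inl hy), rfl⟩
    · exact ⟨y, Or.inl (Or.inr hy), rfl⟩
    · refine ⟨α⁻¹ z, Or.inr ⟨img α⁻¹ Z, hα' Z hZ, ?_, ?_, ⟨z, hz, rfl⟩⟩, ?_⟩
      · have := rel60_map hα' h1
        rwa [image_symm_image] at this
      · have := rel60_map hα' h2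
        rwa [image_symm_image] at this
      · show α (α⁻¹ z) = z
        exact MulAut.apply_inv_self _ _ _

lemma mem_QQ_map (X Y : Set (Cfsg.POmega F ⇑Q)) (q : Cfsg.POmega F ⇑Q) :
    α q ∈ QQ Q (img α X) (img α Y) ↔ q ∈ QQ Q X Y := by
  rw [← QQ_map hα hα']
  constructor
  · rintro ⟨q', hq', h⟩
    have : q' = q := α.injective h
    exact this ▸ hq'
  · intro h
    exact ⟨q, h, rfl⟩

lemma good_map {X Y : Set (Cfsg.POmega F ⇑Q)} (h : Good Q X Y) : Good Q (img α X) (img α Y) := by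
  obtain ⟨h1, h2, h3, h4, h5, h6⟩ := h
  refine ⟨hα X h1, hα Y h2, ?_, ?_, ?_, ?_⟩
  · intro h7
    apply h3
    have := congrArg (fun Z => img α⁻¹ Z) h7
    simp only [image_symm_image] at this
    exact this
  · rintro _ ⟨x', hx', rfl⟩ _ ⟨y', hy', rfl⟩
    rw [← map_mul, ← map_mul, h4 x' hx' y' hy']
  · intro h7
    exact h5 ((rel60_iff hα hα' X Y).1 h7)
  · intro a b ha hb
    obtain ⟨a', rfl⟩ := α.surjective a
    obtain ⟨b', rfl⟩ := α.surjective b
    rw [← map_mul, ← map_mul]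
    congr 1
    apply h6
    · intro q hq
      apply α.injective
      rw [map_mul, map_mul]
      exact ha _ ((mem_QQ_map hα hα' X Y q).2 hq)
    · intro q hq
      apply α.injective
      rw [map_mul, map_mul]
      exact hb _ ((mem_QQ_map hα hα' X Y q).2 hq)

end perm

end Cfsg.Agent.Lib.Helper5.AutOrth
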