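import Mathlib
import Cfsg.Agent.Lib.Helper5.AutOrthRel

set_option autoImplicit false
set_option linter.unusedSimpArgs false
set_option linter.unusedVariables false
set_option linter.unnecessarySeqFocus false
set_option linter.unusedSectionVars false
set_option linter.style.haveILetI false

/-!
# Coplanar totally singular lines and the relation `Rel60`
-/

namespace Cfsg.Agent.Lib.Helper5.AutOrth

open Matrix Module QuadraticMap
open Cfsg.Agent.Lib.Helper37 Cfsg.Agent.Lib.Helper8 Cfsg.Agent.Lib.Helper13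
open scoped Classical Pointwise

variable {ι : Type} [Fintype ι] [DecidableEq ι] {F : Type*} [Field F] [Fintype F]
variable {Q : QuadraticForm F (ι → F)} {k : ℕ} {e f : Fin k → ι → F}

lemma root_mem_Xb (u v : ι → F) (t : F) : pr Q (Eg Q u (t • v)) ∈ Xb Q u v :=
  (mem_Xb u v _).2 ⟨t, rfl⟩

lemma Xb_mem_roots {u v : ι → F} (h : TS Q u v) : Xb Q u v ∈ Roots Q := ⟨u, v, h, rfl⟩

/-- a vector dual to the first of four independent vectors -/
lemma exists_dual4 (hQ : (QuadraticMap.polarBilin Q).Nondegenerate) {x1 x2 x3 x4 : ι → F}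
    (hind : ∀ a b c d : F, a • x1 + b • x2 + c • x3 + d • x4 = 0 →
      a = 0 ∧ b = 0 ∧ c = 0 ∧ d = 0) :
    ∃ z, polar ⇑Q x1 z = 1 ∧ polar ⇑Q x2 z = 0 ∧ polar ⇑Q x3 z = 0 ∧ polar ⇑Q x4 z = 0 := by
  have hnb : x1 ∉ Submodule.span F (Set.range ![x2, x3, x4]) := by
    intro hm
    obtain ⟨c, hc⟩ := (Submodule.mem_span_range_iff_exists_fun F).1 hm
    rw [Fin.sum_univ_three] at hc
    simp only [Matrix.cons_val_zero, Matrix.cons_val_one, Matrix.cons_val_two,
      Matrix.tail_cons, Matrix.head_cons] at hc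
    have := (hind (-1) (c 0) (c 1) (c 2) (by rw [← hc]; module)).1
    have h1 : (1 : F) = 0 := by linear_combination -this
    exact one_ne_zero h1
  obtain ⟨z, hz, hz1⟩ := exists_dual hQ ![x2, x3, x4] x1 hnb
  exact ⟨z, hz1, by simpa using hz 0, by simpa using hz 1, by simpa using hz 2⟩

section ctx

variable (C : Ctx Q k e f)
include C

/-- elements of a point group commute -/
lemma Eg_comm_same {a x y : ι → F} (ha : Q a = 0) (hx : polar ⇑Q a x = 0)
    (hy : polar ⇑Q a y = 0) : Eg Q a x * Eg Q a y = Eg Q a y * Eg Q a x := by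
  rw [Eg_add C ha hx hy, Eg_add C ha hy hx, add_comm]

/-- **coplanar lines are `Rel60`-related** -/
lemma rel60_of_coplanar (p : ℕ) [Fact p.Prime] [CharP F p] {a x y : ι → F} (hax : TS Q a x)
    (hay : TS Q a y) (hxy : polar ⇑Q x y = 0) (hind : ∀ c d : F, y ≠ c • a + d • x) :
    Rel60 Q (Xb Q a x) (Xb Q a y) := by
  have hts : TS Q a (x + y) := by
    refine ⟨hax.qu, ?_, ?_, ?_⟩
    · rw [QuadraticMap.map_add Q, hax.qv, hay.qv, hxy]; simp
    · rw [polar_add_right, hax.uv, hay.uv, add_zero]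
    · intro s t hst
      have ht : t = 0 := by
        by_contra ht
        apply hind (-(t⁻¹ * s)) (-1)
        have e0 : t • y = -(s • a) - t • x := by
          rw [eq_sub_iff_add_eq, eq_neg_iff_add_eq_zero, ← hst]; module
        have e1 : t⁻¹ • (t • y) = y := by rw [smul_smul, inv_mul_cancel₀ ht, one_smul]
        have e2 : t⁻¹ • (t • x) = x := by rw [smul_smul, inv_mul_cancel₀ ht, one_smul]
        rw [← e1, e0, smul_sub, smul_neg, e2, smul_smul]
        module
      subst ht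
      rw [zero_smul, add_zero] at hst
      rcases smul_eq_zero.1 hst with h | h
      · exact ⟨h, rfl⟩
      · exact absurd h hax.u_ne
  refine ⟨?_, ?_, pr Q (Eg Q a ((1 : F) • x)), root_mem_Xb a x 1, pr Q (Eg Q a ((1 : F) • y)),
    root_mem_Xb a y 1, ?_, ?_, ?_⟩
  · intro hXY
    have hm : pr Q (Eg Q a ((1 : F) • y)) ∈ Xb Q a x := by rw [hXY]; exact root_mem_Xb a y 1
    obtain ⟨-, h2⟩ := span_of_root_mem C p hax hay one_ne_zero hm
    obtain ⟨c, d, hcd⟩ := Submodule.mem_span_pair.1 h2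
    exact hind c d hcd.symm
  · intro x' hx' y' hy'
    obtain ⟨s, rfl⟩ := (mem_Xb _ _ _).1 hx'
    obtain ⟨t, rfl⟩ := (mem_Xb _ _ _).1 hy'
    rw [← map_mul, ← map_mul, Eg_comm_same C hax.qu (by rw [polar_smul_right, hax.uv, smul_zero])
      (by rw [polar_smul_right, hay.uv, smul_zero])]
  · rw [Ne, pr_root_eq_one_iff C hax]; exact one_ne_zero
  · rw [Ne, pr_root_eq_one_iff C hay]; exact one_ne_zero
  · rw [← map_mul, one_smul, one_smul, Eg_add C hax.qu hax.uv hay.uv]
    refine ⟨?_, Xb Q a (x + y), Xb_mem_roots hts, ?_⟩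
    · have := (pr_root_eq_one_iff C hts 1).not.2 one_ne_zero
      rwa [one_smul] at this
    · have := root_mem_Xb (Q := Q) a (x + y) 1
      rwa [one_smul] at this

/-- a product of root elements of two disjoint perpendicular lines is not a root element -/
lemma not_root_of_disjoint (p : ℕ) [Fact p.Prime] [CharP F p] {u v u' v' u'' v'' : ι → F}
    (h : TS Q u v) (h' : TS Q u' v') (h'' : TS Q u'' v'')
    (hperp : polar ⇑Q u u' = 0 ∧ polar ⇑Q u v' = 0 ∧ polar ⇑Q v u' = 0 ∧ polar ⇑Q v v' = 0)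
    (hno : ¬ ∃ a, a ≠ 0 ∧ a ∈ Submodule.span F {u, v} ∧ a ∈ Submodule.span F {u', v'})
    {s t : F} (hs : s ≠ 0) (ht : t ≠ 0) :
    pr Q (Eg Q u (s • v)) * pr Q (Eg Q u' (t • v')) ∉ Xb Q u'' v'' := by
  obtain ⟨p1, p2, p3, p4⟩ := hperp
  intro hm
  -- independence of the four vectors
  have hind : ∀ a b c d : F, a • u + b • v + c • u' + d • v' = 0 →
      a = 0 ∧ b = 0 ∧ c = 0 ∧ d = 0 := by
    intro a b c d habcd
    have e1 : a • u + b • v = -(c • u' + d • v') := by
      rw [eq_neg_iff_add_eq_zero, ← habcd]; module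
    have hw0 : a • u + b • v = 0 := by
      by_contra hw
      apply hno
      refine ⟨a • u + b • v, hw, Submodule.mem_span_pair.2 ⟨a, b, rfl⟩, ?_⟩
      rw [e1]
      exact Submodule.neg_mem _ (Submodule.mem_span_pair.2 ⟨c, d, rfl⟩)
    have hw1 : c • u' + d • v' = 0 := by
      rw [hw0] at e1
      exact neg_eq_zero.1 e1.symm
    obtain ⟨ha, hb⟩ := h.ind _ _ hw0
    obtain ⟨hc, hd⟩ := h'.ind _ _ hw1
    exact ⟨ha, hb, hc, hd⟩
  -- the product is a root element of order dividing `p`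
  have hsv : polar ⇑Q u (s • v) = 0 := by rw [polar_smul_right, h.uv, smul_zero]
  have htv : polar ⇑Q u' (t • v') = 0 := by rw [polar_smul_right, h'.uv, smul_zero]
  have hfix_u : ga Q (Eg Q u' (t • v')) u = u := by
    rw [ga_root C h', Tm, p2, p1]; simp
  have hfix_v : ga Q (Eg Q u' (t • v')) v = v := by
    rw [ga_root C h', Tm, p4, p3]; simp
  have hcomm : Eg Q u' (t • v') * Eg Q u (s • v) = Eg Q u (s • v) * Eg Q u' (t • v') := by
    have e1 := Eg_conj C (Eg Q u' (t • v')) h.qu hsv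
    rw [hfix_u, ga_smul, hfix_v] at e1
    calc Eg Q u' (t • v') * Eg Q u (s • v)
        = (Eg Q u' (t • v') * Eg Q u (s • v) * (Eg Q u' (t • v'))⁻¹) * Eg Q u' (t • v') := by
          group
      _ = Eg Q u (s • v) * Eg Q u' (t • v') := by rw [e1]
  have hpow : (Eg Q u (s • v) * Eg Q u' (t • v')) ^ p = 1 := by
    have hc : Commute (Eg Q u (s • v)) (Eg Q u' (t • v')) := hcomm.symm
    rw [hc.mul_pow, Eg_pow_char C p h.qu hsv, Eg_pow_char C p h'.qu htv, one_mul]
  obtain ⟨r, hr⟩ := (mem_Xb _ _ _).1 hm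
  rw [← map_mul] at hr
  have hg := eq_of_pr_eq C p hpow
    (Eg_pow_char C p h''.qu (by rw [polar_smul_right, h''.uv, smul_zero])) hr
  have hact : ∀ z, s • Tm Q u v z + t • Tm Q u' v' z = r • Tm Q u'' v'' z := by
    intro z
    have e1 : ga Q (Eg Q u (s • v) * Eg Q u' (t • v')) z = ga Q (Eg Q u'' (r • v'')) z := by
      rw [hg]
    rw [ga_mul, ga_root C h', ga_root C h, ga_root C h''] at e1
    have e2 : Tm Q u v (z + t • Tm Q u' v' z) = Tm Q u v z := by
      unfold Tm
      simp only [polar_add_left, polar_smul_left, polar_sub_left, p1, p2, p3, p4,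
        polar_comm ⇑Q u' u, polar_comm ⇑Q u' v, polar_comm ⇑Q v' u, polar_comm ⇑Q v' v]
      simp
    rw [e2] at e1
    have e3 : z + (t • Tm Q u' v' z + s • Tm Q u v z) = z + r • Tm Q u'' v'' z := by
      rw [← e1]; abel
    have e4 := add_left_cancel e3
    rw [← e4]; abel
  have hmem : ∀ z, r • Tm Q u'' v'' z ∈ Submodule.span F {u'', v''} := by
    intro z
    apply Submodule.smul_mem
    unfold Tm
    exact Submodule.sub_mem _ (Submodule.smul_mem _ _ (Submodule.subset_span (by simp)))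
      (Submodule.smul_mem _ _ (Submodule.subset_span (by simp)))
  -- `u ∈ L''`
  have hu : u ∈ Submodule.span F {u'', v''} := by
    obtain ⟨z, z1, z2, z3, z4⟩ := exists_dual4 C.nd (x1 := v) (x2 := u) (x3 := u') (x4 := v')
      (fun a b c d habcd => by
        obtain ⟨e1, e2, e3, e4⟩ := hind b a c d (by rw [← habcd]; module)
        exact ⟨e2, e1, e3, e4⟩)
    have e3 : s • Tm Q u v z + t • Tm Q u' v' z = s • u := by
      unfold Tm
      rw [polar_comm ⇑Q z v, polar_comm ⇑Q z u, polar_comm ⇑Q z v', polar_comm ⇑Q z u', z1, z2,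
        z3, z4]
      module
    have e4 : u = s⁻¹ • (s • Tm Q u v z + t • Tm Q u' v' z) := by
      rw [e3, smul_smul, inv_mul_cancel₀ hs, one_smul]
    rw [e4, hact z]
    exact Submodule.smul_mem _ _ (hmem z)
  have hv : v ∈ Submodule.span F {u'', v''} := by
    obtain ⟨z, z1, z2, z3, z4⟩ := exists_dual4 C.nd (x1 := u) (x2 := v) (x3 := u') (x4 := v') hind
    have e3 : s • Tm Q u v z + t • Tm Q u' v' z = -(s • v) := by
      unfold Tm
      rw [polar_comm ⇑Q z v, polar_comm ⇑Q z u, polar_comm ⇑Q z v', polar_comm ⇑Q z u', z1, z2,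
        z3, z4]
      module
    have e4 : v = -(s⁻¹ • (s • Tm Q u v z + t • Tm Q u' v' z)) := by
      rw [e3, smul_neg, neg_neg, smul_smul, inv_mul_cancel₀ hs, one_smul]
    rw [e4, hact z]
    exact Submodule.neg_mem _ (Submodule.smul_mem _ _ (hmem z))
  have hu' : u' ∈ Submodule.span F {u'', v''} := by
    obtain ⟨z, z1, z2, z3, z4⟩ := exists_dual4 C.nd (x1 := v') (x2 := u) (x3 := v) (x4 := u')
      (fun a b c d habcd => by
        obtain ⟨e1, e2, e3, e4⟩ := hind b c d a (by rw [← habcd]; module)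
        exact ⟨e4, e1, e2, e3⟩)
    have e3 : s • Tm Q u v z + t • Tm Q u' v' z = t • u' := by
      unfold Tm
      rw [polar_comm ⇑Q z v, polar_comm ⇑Q z u, polar_comm ⇑Q z v', polar_comm ⇑Q z u', z1, z2,
        z3, z4]
      module
    have e4 : u' = t⁻¹ • (s • Tm Q u v z + t • Tm Q u' v' z) := by
      rw [e3, smul_smul, inv_mul_cancel₀ ht, one_smul]
    rw [e4, hact z]
    exact Submodule.smul_mem _ _ (hmem z)
  obtain ⟨q1, q2⟩ := span_pair_swap h.ind hu hv
  have hle : Submodule.span F {u'', v''} ≤ Submodule.span F {u, v} := by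
    rw [Submodule.span_le]
    rintro z (rfl | rfl)
    · exact q1
    · exact q2
  exact hno ⟨u', h'.u_ne, hle hu', Submodule.subset_span (by simp)⟩

/-- **`Rel60`-related lines are coplanar** -/
lemma coplanar_of_rel60 (p : ℕ) [Fact p.Prime] [CharP F p] {u v u' v' : ι → F} (h : TS Q u v)
    (h' : TS Q u' v') (hR : Rel60 Q (Xb Q u v) (Xb Q u' v')) :
    ∃ b y, b ≠ 0 ∧ b ∈ Submodule.span F {u, v} ∧ TS Q b y ∧ polar ⇑Q y u = 0 ∧
      polar ⇑Q y v = 0 ∧ Xb Q u' v' = Xb Q b y := by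
  obtain ⟨hne, hc, xb, hxb, yb, hyb, hx1, hy1, -, Z, ⟨u'', v'', h'', rfl⟩, hmem⟩ := hR
  by_cases hcommon : ∃ a, a ≠ 0 ∧ a ∈ Submodule.span F {u, v} ∧ a ∈ Submodule.span F {u', v'}
  · obtain ⟨b, hb0, hb, hb'⟩ := hcommon
    obtain ⟨x, hbx, hx, hux, hvx⟩ := h.exists_rebase hb hb0
    obtain ⟨y, hby, hy, hu'y, hv'y⟩ := h'.exists_rebase hb' hb0
    have hX : Xb Q b x = Xb Q u v := Xb_eq_of_mem_span C h hbx hb hx
    have hY : Xb Q b y = Xb Q u' v' := Xb_eq_of_mem_span C h' hby hb' hy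
    rw [← hX] at hxb
    rw [← hY] at hyb
    obtain ⟨s, rfl⟩ := (mem_Xb _ _ _).1 hxb
    obtain ⟨t, rfl⟩ := (mem_Xb _ _ _).1 hyb
    have hs : s ≠ 0 := fun hs => hx1 ((pr_root_eq_one_iff C hbx s).2 hs)
    have ht : t ≠ 0 := fun ht => hy1 ((pr_root_eq_one_iff C hby t).2 ht)
    have hxy : polar ⇑Q x y = 0 := by
      by_contra hxy
      rw [← map_mul, Eg_add C hbx.qu (by rw [polar_smul_right, hbx.uv, smul_zero])
        (by rw [polar_smul_right, hby.uv, smul_zero])] at hmem
      refine not_root_of_nonsing C p hbx.qu ?_ hb0 ?_ h'' hmem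
      · rw [polar_add_right, polar_smul_right, polar_smul_right, hbx.uv, hby.uv]; simp
      · rw [QuadraticMap.map_add Q, QuadraticMap.map_smul, QuadraticMap.map_smul, hbx.qv, hby.qv,
          polar_smul_left, polar_smul_right]
        simp only [smul_eq_mul, mul_zero, zero_add]
        exact mul_ne_zero hs (mul_ne_zero ht hxy)
    refine ⟨b, y, hb0, hb, hby, ?_, ?_, hY.symm⟩
    · obtain ⟨α, β, rfl⟩ := Submodule.mem_span_pair.1 hux
      rw [polar_add_right, polar_smul_right, polar_smul_right, polar_comm ⇑Q y b, hby.uv,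
        polar_comm ⇑Q y x, hxy]
      simp
    · obtain ⟨α, β, rfl⟩ := Submodule.mem_span_pair.1 hvx
      rw [polar_add_right, polar_smul_right, polar_smul_right, polar_comm ⇑Q y b, hby.uv,
        polar_comm ⇑Q y x, hxy]
      simp
  · exfalso
    rcases comm_classify C p h h' hc with h1 | hperp
    · exact hcommon h1
    · obtain ⟨s, rfl⟩ := (mem_Xb _ _ _).1 hxb
      obtain ⟨t, rfl⟩ := (mem_Xb _ _ _).1 hyb
      have hs : s ≠ 0 := fun hs => hx1 ((pr_root_eq_one_iff C h s).2 hs)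
      have ht : t ≠ 0 := fun ht => hy1 ((pr_root_eq_one_iff C h' t).2 ht)
      exact not_root_of_disjoint C p h h' h'' hperp hcommon hs ht hmem

end ctx

end Cfsg.Agent.Lib.Helper5.AutOrth
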