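import Mathlib
import Cfsg.Agent.Lib.Helper5.AutOrthCop

set_option autoImplicit false
set_option linter.unusedSimpArgs false
set_option linter.unusedVariables false
set_option linter.unnecessarySeqFocus false
set_option linter.unusedSectionVars false
set_option linter.style.haveILetI false

/-!
# Point groups (unipotent radicals of stabilisers of singular points)
-/

namespace Cfsg.Agent.Lib.Helper5.AutOrth

open Matrix Module QuadraticMap
open Cfsg.Agent.Lib.Helper37 Cfsg.Agent.Lib.Helper8 Cfsg.Agent.Lib.Helper13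
open scoped Classical Pointwise

variable {ι : Type} [Fintype ι] [DecidableEq ι] {F : Type*} [Field F] [Fintype F]

/-- the point group of a singular vector `a`, as a subgroup of `Ω` -/
def Qg (Q : QuadraticForm F (ι → F)) (a : ι → F) : Subgroup ↥(Cfsg.Omega F ⇑Q) where
  carrier := {g | ga Q g a = a ∧ ∀ w, polar ⇑Q w a = 0 → ∃ c : F, ga Q g w = w + c • a}
  one_mem' := ⟨ga_one _, fun w _ => ⟨0, by rw [ga_one]; simp⟩⟩
  mul_mem' := by
    rintro g h ⟨hg0, hg⟩ ⟨hh0, hh⟩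
    refine ⟨by rw [ga_mul, hh0, hg0], ?_⟩
    intro w hw
    obtain ⟨c, hc⟩ := hh w hw
    obtain ⟨c', hc'⟩ := hg w hw
    refine ⟨c' + c, ?_⟩
    rw [ga_mul, hc, ga_add, ga_smul, hg0, hc']
    module
  inv_mem' := by
    rintro g ⟨hg0, hg⟩
    have h0 : ga Q g⁻¹ a = a := by
      conv_lhs => rw [← hg0]
      exact ga_inv_ga g _
    refine ⟨h0, ?_⟩
    intro w hw
    obtain ⟨c, hc⟩ := hg w hw
    refine ⟨-c, ?_⟩
    have h2 : w = ga Q g⁻¹ w + c • a := by
      have := congrArg (ga Q g⁻¹) hc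
      rw [ga_inv_ga, ga_add, ga_smul, h0] at this
      exact this
    have h3 : ga Q g⁻¹ w = w - c • a := by
      conv_rhs => rw [h2]
      module
    rw [h3]
    module

/-- the point group in `PΩ` -/
def Qb (Q : QuadraticForm F (ι → F)) (a : ι → F) : Subgroup (Cfsg.POmega F ⇑Q) :=
  (Qg Q a).map (pr Q)

variable {Q : QuadraticForm F (ι → F)} {k : ℕ} {e f : Fin k → ι → F}

lemma mem_Qg (a : ι → F) (g : ↥(Cfsg.Omega F ⇑Q)) :
    g ∈ Qg Q a ↔ ga Q g a = a ∧ ∀ w, polar ⇑Q w a = 0 → ∃ c : F, ga Q g w = w + c • a := Iff.rfl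

section ctx

variable (C : Ctx Q k e f)
include C

lemma Eg_mem_Qg {a w : ι → F} (ha : Q a = 0) (haw : polar ⇑Q a w = 0) : Eg Q a w ∈ Qg Q a := by
  refine ⟨?_, ?_⟩
  · rw [ga_Eg C ha haw, haw, polar_self, ha]; simp
  · intro v hv
    refine ⟨polar ⇑Q v w, ?_⟩
    rw [ga_Eg C ha haw, hv]; simp

lemma pr_Eg_mem_Qb {a w : ι → F} (ha : Q a = 0) (haw : polar ⇑Q a w = 0) :
    pr Q (Eg Q a w) ∈ Qb Q a := ⟨_, Eg_mem_Qg C ha haw, rfl⟩

/-- a singular vector is part of a hyperbolic pair -/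
lemma exists_hyp {a : ι → F} (ha0 : a ≠ 0) (ha : Q a = 0) :
    ∃ f', Q f' = 0 ∧ polar ⇑Q a f' = 1 := by
  obtain ⟨g, hg⟩ := to_e0 C ha0 ha
  refine ⟨ga Q g⁻¹ (C.fv 0), by rw [Q_ga]; exact C.q_fv 0, ?_⟩
  rw [polar_ga_right, inv_inv, hg]
  exact C.ef_same 0

/-- two non-perpendicular totally singular lines through a singular point -/
lemma exists_xy {a : ι → F} (ha0 : a ≠ 0) (ha : Q a = 0) :
    ∃ x y, TS Q a x ∧ TS Q a y ∧ polar ⇑Q x y = 1 := by
  obtain ⟨g, hg⟩ := to_e0 C ha0 ha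
  have ha' : a = ga Q g⁻¹ (C.ev 0) := by rw [← hg, ga_inv_ga]
  refine ⟨ga Q g⁻¹ (C.ev 1), ga Q g⁻¹ (C.fv 1), ?_, ?_, ?_⟩
  · rw [ha']
    exact (C.ts_ee (by decide : (0 : Fin 3) ≠ 1)).ga g⁻¹
  · rw [ha']
    exact (C.ts_ef (by decide : (0 : Fin 3) ≠ 1)).ga g⁻¹
  · rw [polar_ga]
    exact C.ef_same 1

/-- an Eichler element is trivial only if its parameter is a multiple of the base point -/
lemma Eg_eq_one {a w : ι → F} (ha0 : a ≠ 0) (ha : Q a = 0) (haw : polar ⇑Q a w = 0)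
    (h : Eg Q a w = 1) : ∃ c : F, w = c • a := by
  by_contra hcon
  push Not at hcon
  obtain ⟨y, hy0, hy1⟩ := exists_dual_one C.nd hcon
  have h1 := ga_Eg C ha haw y
  rw [h, ga_one, polar_comm ⇑Q y w, hy1, polar_comm ⇑Q y a, hy0] at h1
  simp only [one_smul, zero_smul, sub_zero, mul_zero] at h1
  apply ha0
  have : y + a = y + 0 := by rw [add_zero]; exact h1.symm
  exact add_left_cancel this

lemma pr_Eg_eq_one (p : ℕ) [Fact p.Prime] [CharP F p] {a w : ι → F} (ha0 : a ≠ 0) (ha : Q a = 0)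
    (haw : polar ⇑Q a w = 0) (h : pr Q (Eg Q a w) = 1) : ∃ c : F, w = c • a := by
  apply Eg_eq_one C ha0 ha haw
  exact center_eq_one_of_pow C p ((pr_eq_one_iff Q _).1 h) (Eg_pow_char C p ha haw)

/-- an element acting on `a^⊥/a` and on `a` by the same sign is a scalar times an Eichler
element -/
lemma scaled_elt {a f' : ι → F} (ha : Q a = 0) (hf : Q f' = 0) (haf : polar ⇑Q a f' = 1)
    {g : ↥(Cfsg.Omega F ⇑Q)} {s : F} (hs : s * s = 1) (hga : ga Q g a = s • a)
    (hg : ∀ w, polar ⇑Q w a = 0 → ∃ c : F, ga Q g w = s • w + c • a) :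
    ∃ w0, polar ⇑Q a w0 = 0 ∧ ∀ v, ga Q g v = s • ga Q (Eg Q a w0) v := by
  have hfa : polar ⇑Q f' a = 1 := by rw [polar_comm]; exact haf
  have haa : polar ⇑Q a a = 0 := by rw [polar_self, ha]; simp
  have hff : polar ⇑Q f' f' = 0 := by rw [polar_self, hf]; simp
  set d : ι → F := s • ga Q g f' - f' with hd
  have hgf : ga Q g f' = s • (f' + d) := by
    rw [hd, add_sub_cancel, smul_smul, hs, one_smul]
  have hagf : polar ⇑Q a (ga Q g f') = s := by
    have h1 : a = s • ga Q g a := by rw [hga, smul_smul, hs, one_smul]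
    conv_lhs => rw [h1]
    rw [polar_smul_left, polar_ga, haf, smul_eq_mul, mul_one]
  have had : polar ⇑Q a d = 0 := by
    rw [hd, polar_sub_right, polar_smul_right, hagf, haf, smul_eq_mul, hs, sub_self]
  have hQd : Q d + polar ⇑Q f' d = 0 := by
    have h1 : Q (f' + d) = 0 := by
      rw [hd, add_sub_cancel, QuadraticMap.map_smul, Q_ga, hf, smul_zero]
    rw [QuadraticMap.map_add Q, hf, zero_add] at h1
    exact h1
  refine ⟨-d, by rw [polar_neg_right, had, neg_zero], ?_⟩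
  have haw0 : polar ⇑Q a (-d) = 0 := by rw [polar_neg_right, had, neg_zero]
  have hEa : ga Q (Eg Q a (-d)) a = a := (Eg_mem_Qg C ha haw0).1
  have hEf : ga Q g f' = s • ga Q (Eg Q a (-d)) f' := by
    rw [ga_Eg C ha haw0, hfa, polar_neg_right, QuadraticMap.map_neg, hgf]
    congr 1
    have : polar ⇑Q f' d = -Q d := by linear_combination hQd
    rw [this]
    module
  have hE0 : ∀ v0, polar ⇑Q v0 a = 0 → polar ⇑Q v0 f' = 0 →
      ga Q g v0 = s • ga Q (Eg Q a (-d)) v0 := by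
    intro v0 h1 h2
    obtain ⟨c, hc⟩ := hg v0 h1
    have h3 : polar ⇑Q (ga Q g v0) (ga Q g f') = 0 := by rw [polar_ga]; exact h2
    rw [hc, hgf, polar_smul_right, polar_add_left, polar_add_right, polar_add_right,
      polar_smul_left, polar_smul_left, polar_smul_left, polar_smul_left, h2, haf, had] at h3
    simp only [smul_eq_mul, mul_zero, zero_add, mul_one, add_zero] at h3
    have h4 : c = -(s * polar ⇑Q v0 d) := by
      have : s * (s * (s * polar ⇑Q v0 d + c)) = 0 := by rw [h3, mul_zero]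
      linear_combination this - (polar ⇑Q v0 d * s + c) * hs
    rw [hc, ga_Eg C ha haw0, h1, polar_neg_right, h4]
    module
  intro v
  have hv : v = (v - polar ⇑Q v f' • a - polar ⇑Q v a • f') + polar ⇑Q v f' • a +
      polar ⇑Q v a • f' := by abel
  have h1 : polar ⇑Q (v - polar ⇑Q v f' • a - polar ⇑Q v a • f') a = 0 := by
    rw [polar_sub_left, polar_sub_left, polar_smul_left, polar_smul_left, haa, hfa]; simp
  have h2 : polar ⇑Q (v - polar ⇑Q v f' • a - polar ⇑Q v a • f') f' = 0 := by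
    rw [polar_sub_left, polar_sub_left, polar_smul_left, polar_smul_left, haf, hff]; simp
  rw [hv, ga_add, ga_add, ga_smul, ga_smul, ga_add, ga_add, ga_smul, ga_smul, hE0 _ h1 h2, hga,
    hEf, hEa]
  module

/-- elements of the point group are Eichler elements -/
lemma Qg_eq_Eg {a : ι → F} (ha0 : a ≠ 0) (ha : Q a = 0) {g : ↥(Cfsg.Omega F ⇑Q)}
    (hg : g ∈ Qg Q a) : ∃ w, polar ⇑Q a w = 0 ∧ g = Eg Q a w := by
  obtain ⟨f', hf, haf⟩ := exists_hyp C ha0 ha
  obtain ⟨w0, hw0, h⟩ := scaled_elt C ha hf haf (g := g) (s := 1) (one_mul 1)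
    (by rw [hg.1, one_smul]) (fun w hw => by
      obtain ⟨c, hc⟩ := hg.2 w hw
      exact ⟨c, by rw [hc, one_smul]⟩)
  refine ⟨w0, hw0, ?_⟩
  apply G_ext
  intro v
  rw [h v, one_smul]

lemma mem_Qb_iff {a : ι → F} (ha0 : a ≠ 0) (ha : Q a = 0) (y : Cfsg.POmega F ⇑Q) :
    y ∈ Qb Q a ↔ ∃ w, polar ⇑Q a w = 0 ∧ y = pr Q (Eg Q a w) := by
  constructor
  · rintro ⟨g, hg, rfl⟩
    obtain ⟨w, hw, rfl⟩ := Qg_eq_Eg C ha0 ha hg
    exact ⟨w, hw, rfl⟩
  · rintro ⟨w, hw, rfl⟩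
    exact pr_Eg_mem_Qb C ha hw

/-- the point group is commutative -/
lemma Qb_comm {a : ι → F} (ha0 : a ≠ 0) (ha : Q a = 0) {y z : Cfsg.POmega F ⇑Q}
    (hy : y ∈ Qb Q a) (hz : z ∈ Qb Q a) : y * z = z * y := by
  obtain ⟨w, hw, rfl⟩ := (mem_Qb_iff C ha0 ha y).1 hy
  obtain ⟨w', hw', rfl⟩ := (mem_Qb_iff C ha0 ha z).1 hz
  rw [← map_mul, ← map_mul, Eg_comm_same C ha hw hw']

/-- **the point group is self-centralising** -/
lemma centralizer_Qb (p : ℕ) [Fact p.Prime] [CharP F p] {a : ι → F} (ha0 : a ≠ 0) (ha : Q a = 0)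
    {gb : Cfsg.POmega F ⇑Q} (hc : ∀ q ∈ Qb Q a, gb * q = q * gb) : gb ∈ Qb Q a := by
  obtain ⟨g, rfl⟩ := pr_surjective Q gb
  have hcomm : ∀ w, polar ⇑Q a w = 0 → g * Eg Q a w = Eg Q a w * g := by
    intro w hw
    exact comm_of_pr_comm C p (Eg_pow_char C p ha hw) (hc _ (pr_Eg_mem_Qb C ha hw))
  have hconj : ∀ w, polar ⇑Q a w = 0 → Eg Q (ga Q g a) (ga Q g w) = Eg Q a w := by
    intro w hw
    rw [← Eg_conj C g ha hw, hcomm w hw]
    group
  obtain ⟨x, y, hax, hay, hxy⟩ := exists_xy C ha0 ha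
  -- `g a` is a multiple of `a`
  have h1 := Tm_of_comm C hax one_ne_zero
    (hcomm _ (by rw [polar_smul_right, hax.uv, smul_zero]))
  have h2 := Tm_of_comm C hay one_ne_zero
    (hcomm _ (by rw [polar_smul_right, hay.uv, smul_zero]))
  obtain ⟨h3, -⟩ := Tm_eq_span C.nd (hax.ga g).ind h1
  obtain ⟨h4, -⟩ := Tm_eq_span C.nd (hay.ga g).ind h2
  obtain ⟨α, β, hαβ⟩ := Submodule.mem_span_pair.1 h3
  obtain ⟨γ, δ, hγδ⟩ := Submodule.mem_span_pair.1 h4
  have hβ : β = 0 := by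
    have e1 : polar ⇑Q (ga Q g a) y = β := by
      rw [← hαβ, polar_add_left, polar_smul_left, polar_smul_left, hay.uv, hxy]; simp
    have e2 : polar ⇑Q (ga Q g a) y = 0 := by
      rw [← hγδ, polar_add_left, polar_smul_left, polar_smul_left, hay.uv, hay.vv]; simp
    rw [← e1, e2]
  rw [hβ, zero_smul, add_zero] at hαβ
  have hα0 : α ≠ 0 := by
    rintro rfl
    rw [zero_smul] at hαβ
    exact ga_ne_zero g ha0 hαβ.symm
  -- action on `a^⊥`
  have hperp : ∀ w, polar ⇑Q a w = 0 → ∃ c : F, ga Q g w = α⁻¹ • w + c • a := by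
    intro w hw
    have e1 : polar ⇑Q a (ga Q g w) = 0 := by
      have : polar ⇑Q (ga Q g a) (ga Q g w) = 0 := by rw [polar_ga]; exact hw
      rw [← hαβ, polar_smul_left, smul_eq_mul] at this
      rcases mul_eq_zero.1 this with h | h
      · exact absurd h hα0
      · exact h
    have e2 := hconj w hw
    rw [← hαβ, Eg_smul_left C α ha e1] at e2
    have e3 : Eg Q a (α • ga Q g w + -w) = 1 := by
      rw [← Eg_add C ha (by rw [polar_smul_right, e1, smul_zero])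
        (by rw [polar_neg_right, hw, neg_zero]), e2, ← Eg_inv C ha hw, mul_inv_cancel]
    obtain ⟨c, hc⟩ := Eg_eq_one C ha0 ha
      (by rw [polar_add_right, polar_smul_right, e1, polar_neg_right, hw]; simp) e3
    refine ⟨α⁻¹ * c, ?_⟩
    have e4 : α • ga Q g w = w + c • a := by rw [← hc]; abel
    have e5 : ga Q g w = α⁻¹ • (α • ga Q g w) := by rw [smul_smul, inv_mul_cancel₀ hα0, one_smul]
    rw [e5, e4]
    module
  -- `α² = 1`
  have hαα : α * α = 1 := by
    have hw : polar ⇑Q a (x + y) = 0 := by rw [polar_add_right, hax.uv, hay.uv, add_zero]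
    obtain ⟨c, hc⟩ := hperp (x + y) hw
    have hQ : Q (x + y) = 1 := by
      rw [QuadraticMap.map_add Q, hax.qv, hay.qv, hxy]; simp
    have e1 : Q (ga Q g (x + y)) = 1 := by rw [Q_ga, hQ]
    rw [hc, QuadraticMap.map_add Q, QuadraticMap.map_smul, QuadraticMap.map_smul, ha, hQ,
      polar_smul_left, polar_smul_right, polar_comm ⇑Q (x + y) a, hw] at e1
    simp only [smul_eq_mul, mul_zero, add_zero, mul_one] at e1
    have e2 : α * α * (α⁻¹ * α⁻¹) = 1 := by
      rw [mul_mul_mul_comm, mul_inv_cancel₀ hα0, one_mul]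
    rw [e1, mul_one] at e2
    exact e2
  have hinv : α⁻¹ = α := by
    rw [inv_eq_iff_eq_inv, eq_comm, inv_eq_of_mul_eq_one_left hαα]
  obtain ⟨f', hf, haf⟩ := exists_hyp C ha0 ha
  obtain ⟨w0, hw0, h⟩ := scaled_elt C ha hf haf (g := g) (s := α) hαα hαβ.symm
    (fun w hw => by
      obtain ⟨c, hc⟩ := hperp w (by rw [polar_comm]; exact hw)
      exact ⟨c, by rw [hc, hinv]⟩)
  have hz : g * (Eg Q a w0)⁻¹ ∈ Subgroup.center ↥(Cfsg.Omega F ⇑Q) := by
    apply central_of_scalar C (s := α)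
    intro v
    rw [ga_mul, h, ga_ga_inv]
  have : pr Q g = pr Q (Eg Q a w0) := by
    have e1 : pr Q (g * (Eg Q a w0)⁻¹) = 1 := (pr_eq_one_iff Q _).2 hz
    rw [map_mul, map_inv, mul_inv_eq_one] at e1
    exact e1
  rw [this]
  exact pr_Eg_mem_Qb C ha hw0

end ctx

end Cfsg.Agent.Lib.Helper5.AutOrth
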