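import Mathlib
import Cfsg.Agent.Lib.Helper5.AutOrthPoint

set_option autoImplicit false
set_option linter.unusedSimpArgs false
set_option linter.unusedVariables false
set_option linter.unnecessarySeqFocus false
set_option linter.unusedSectionVars false
set_option linter.style.haveILetI false

/-!
# Automorphisms permute the point groups
-/

namespace Cfsg.Agent.Lib.Helper5.AutOrth

open Matrix Module QuadraticMap
open Cfsg.Agent.Lib.Helper37 Cfsg.Agent.Lib.Helper8 Cfsg.Agent.Lib.Helper13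
open scoped Classical Pointwise

variable {ι : Type} [Fintype ι] [DecidableEq ι] {F : Type*} [Field F] [Fintype F]

/-- hypothesis (T): the perpendicular space of a totally singular `4`-space is not totally
isotropic -/
def HypT (Q : QuadraticForm F (ι → F)) : Prop :=
  ∀ u v u' v' : ι → F, TS Q u v → TS Q u' v' → polar ⇑Q u u' = 0 → polar ⇑Q u v' = 0 →
    polar ⇑Q v u' = 0 → polar ⇑Q v v' = 0 →
    (¬ ∃ a, a ≠ 0 ∧ a ∈ Submodule.span F {u, v} ∧ a ∈ Submodule.span F {u', v'}) →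
    ∃ w w' : ι → F, polar ⇑Q w u = 0 ∧ polar ⇑Q w v = 0 ∧ polar ⇑Q w u' = 0 ∧
      polar ⇑Q w v' = 0 ∧ polar ⇑Q w' u = 0 ∧ polar ⇑Q w' v = 0 ∧ polar ⇑Q w' u' = 0 ∧
      polar ⇑Q w' v' = 0 ∧ polar ⇑Q w w' ≠ 0

variable {Q : QuadraticForm F (ι → F)} {k : ℕ} {e f : Fin k → ι → F}

section ctx

variable (C : Ctx Q k e f)
include C

/-- vectors orthogonal to two non-perpendicular concurrent lines are sums of singular such
vectors -/
lemma span_sing_gen {a x y w : ι → F} (hax : TS Q a x) (hay : TS Q a y)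
    (hxy : polar ⇑Q x y = 1) (hwa : polar ⇑Q w a = 0) (hwx : polar ⇑Q w x = 0)
    (hwy : polar ⇑Q w y = 0) :
    w ∈ Submodule.span F {z : ι → F | Q z = 0 ∧ polar ⇑Q z a = 0 ∧ polar ⇑Q z x = 0 ∧
      polar ⇑Q z y = 0} := by
  obtain ⟨g, hga, hgx, hgy⟩ := to_e0e1f1 C hax hay hxy
  have hmem := C.span_sing 2 ({C.ev 0, C.ev 1, C.fv 1} : Set (ι → F))
    (by
      intro b hb
      simp only [Set.mem_insert_iff, Set.mem_singleton_iff] at hb
      rcases hb with rfl | rfl | rfl
      · exact ⟨C.ee 2 0, C.fe_ne (by decide)⟩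
      · exact ⟨C.ee 2 1, C.fe_ne (by decide)⟩
      · exact ⟨C.ef_ne (by decide), C.ff 2 1⟩)
    (ga Q g w)
    (by
      intro b hb
      simp only [Set.mem_insert_iff, Set.mem_singleton_iff] at hb
      rcases hb with rfl | rfl | rfl
      · rw [← hga, polar_ga]; exact hwa
      · rw [← hgx, polar_ga]; exact hwx
      · rw [← hgy, polar_ga]; exact hwy)
  have key : ∀ z', z' ∈ Submodule.span F {z : ι → F | Q z = 0 ∧
      ∀ b ∈ ({C.ev 0, C.ev 1, C.fv 1} : Set (ι → F)), polar ⇑Q z b = 0} →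
      ga Q g⁻¹ z' ∈ Submodule.span F {z : ι → F | Q z = 0 ∧ polar ⇑Q z a = 0 ∧
        polar ⇑Q z x = 0 ∧ polar ⇑Q z y = 0} := by
    intro z' hz'
    refine Submodule.span_induction (p := fun z' _ => ga Q g⁻¹ z' ∈ Submodule.span F
      {z : ι → F | Q z = 0 ∧ polar ⇑Q z a = 0 ∧ polar ⇑Q z x = 0 ∧ polar ⇑Q z y = 0})
      ?_ ?_ ?_ ?_ hz'
    · rintro z ⟨hz, hzA⟩
      apply Submodule.subset_span
      refine ⟨by rw [Q_ga]; exact hz, ?_, ?_, ?_⟩
      · rw [polar_ga_left, inv_inv, hga]; exact hzA _ (by simp)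
      · rw [polar_ga_left, inv_inv, hgx]; exact hzA _ (by simp)
      · rw [polar_ga_left, inv_inv, hgy]; exact hzA _ (by simp)
    · rw [ga_zero]; exact Submodule.zero_mem _
    · intro y z _ _ hy hz
      rw [ga_add]; exact Submodule.add_mem _ hy hz
    · intro c y _ hy
      rw [ga_smul]; exact Submodule.smul_mem _ _ hy
  have := key _ hmem
  rwa [ga_inv_ga] at this

/-- the point group is contained in the candidate point group -/
lemma Qb_le_QQ (p : ℕ) [Fact p.Prime] [CharP F p] {a x y : ι → F} (hax : TS Q a x)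
    (hay : TS Q a y) (hxy : polar ⇑Q x y = 1) : Qb Q a ≤ QQ Q (Xb Q a x) (Xb Q a y) := by
  have hyx : polar ⇑Q y x = 1 := by rw [polar_comm]; exact hxy
  intro q hq
  obtain ⟨w, hw, rfl⟩ := (mem_Qb_iff C hax.u_ne hax.qu q).1 hq
  have hwa : polar ⇑Q w a = 0 := by rw [polar_comm]; exact hw
  have h0a : polar ⇑Q (w - polar ⇑Q w y • x - polar ⇑Q w x • y) a = 0 := by
    rw [polar_sub_left, polar_sub_left, polar_smul_left, polar_smul_left, hwa, hax.vu, hay.vu]
    simp
  have h0x : polar ⇑Q (w - polar ⇑Q w y • x - polar ⇑Q w x • y) x = 0 := by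
    rw [polar_sub_left, polar_sub_left, polar_smul_left, polar_smul_left, hax.vv, hyx]
    simp
  have h0y : polar ⇑Q (w - polar ⇑Q w y • x - polar ⇑Q w x • y) y = 0 := by
    rw [polar_sub_left, polar_sub_left, polar_smul_left, polar_smul_left, hay.vv, hxy]
    simp
  have hdec : w = (w - polar ⇑Q w y • x - polar ⇑Q w x • y) +
      (polar ⇑Q w y • x + polar ⇑Q w x • y) := by abel
  have key : ∀ z, z ∈ Submodule.span F {z : ι → F | Q z = 0 ∧ polar ⇑Q z a = 0 ∧
      polar ⇑Q z x = 0 ∧ polar ⇑Q z y = 0} →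
      polar ⇑Q a z = 0 ∧ ∀ c : F, pr Q (Eg Q a (c • z)) ∈ QQ Q (Xb Q a x) (Xb Q a y) := by
    intro z hz
    refine Submodule.span_induction (p := fun z _ => polar ⇑Q a z = 0 ∧
      ∀ c : F, pr Q (Eg Q a (c • z)) ∈ QQ Q (Xb Q a x) (Xb Q a y)) ?_ ?_ ?_ ?_ hz
    · rintro z ⟨hz, hza, hzx, hzy⟩
      have haz : polar ⇑Q a z = 0 := by rw [polar_comm]; exact hza
      refine ⟨haz, ?_⟩
      intro c
      by_cases hzm : ∃ d : F, z = d • a
      · obtain ⟨d, rfl⟩ := hzm
        rw [smul_smul, Eg_smul_self C _ hax.qu, map_one]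
        exact Subgroup.one_mem _
      · push Not at hzm
        have hts : TS Q a z := TS.mk' hax.qu hz haz hax.u_ne hzm
        have R1 : Rel60 Q (Xb Q a x) (Xb Q a z) := by
          apply rel60_of_coplanar C p hax hts (by rw [polar_comm]; exact hzx)
          intro c' d' hcd
          have e1 : polar ⇑Q z y = d' := by
            rw [hcd, polar_add_left, polar_smul_left, polar_smul_left, hay.uv, hxy]; simp
          rw [hzy] at e1
          rw [← e1, zero_smul, add_zero] at hcd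
          exact hzm c' hcd
        have R2 : Rel60 Q (Xb Q a y) (Xb Q a z) := by
          apply rel60_of_coplanar C p hay hts (by rw [polar_comm]; exact hzy)
          intro c' d' hcd
          have e1 : polar ⇑Q z x = d' := by
            rw [hcd, polar_add_left, polar_smul_left, polar_smul_left, hax.uv, hyx]; simp
          rw [hzx] at e1
          rw [← e1, zero_smul, add_zero] at hcd
          exact hzm c' hcd
        exact Subgroup.subset_closure
          (Or.inr ⟨Xb Q a z, Xb_mem_roots hts, R1, R2, root_mem_Xb a z c⟩)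
    · refine ⟨by simp [polar], ?_⟩
      intro c
      rw [smul_zero, Eg_zero C hax.qu, map_one]
      exact Subgroup.one_mem _
    · rintro z1 z2 _ _ ⟨h1, h1'⟩ ⟨h2, h2'⟩
      refine ⟨by rw [polar_add_right, h1, h2, add_zero], ?_⟩
      intro c
      rw [smul_add, ← Eg_add C hax.qu (by rw [polar_smul_right, h1, smul_zero])
        (by rw [polar_smul_right, h2, smul_zero]), map_mul]
      exact Subgroup.mul_mem _ (h1' c) (h2' c)
    · rintro d z _ ⟨h1, h1'⟩
      refine ⟨by rw [polar_smul_right, h1, smul_zero], ?_⟩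
      intro c
      rw [smul_smul]
      exact h1' _
  obtain ⟨k1, k2⟩ := key _ (span_sing_gen C hax hay hxy h0a h0x h0y)
  rw [hdec, ← Eg_add C hax.qu k1
    (by rw [polar_add_right, polar_smul_right, polar_smul_right, hax.uv, hay.uv]; simp),
    ← Eg_add C hax.qu (by rw [polar_smul_right, hax.uv, smul_zero])
      (by rw [polar_smul_right, hay.uv, smul_zero]), map_mul, map_mul]
  refine Subgroup.mul_mem _ ?_ (Subgroup.mul_mem _ ?_ ?_)
  · have := k2 1
    rwa [one_smul] at this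
  · exact Subgroup.subset_closure (Or.inl (Or.inl (root_mem_Xb a x _)))
  · exact Subgroup.subset_closure (Or.inl (Or.inr (root_mem_Xb a y _)))

/-- the candidate point group is contained in the point group -/
lemma QQ_le_Qb (p : ℕ) [Fact p.Prime] [CharP F p] {a x y : ι → F} (hax : TS Q a x)
    (hay : TS Q a y) (hxy : polar ⇑Q x y = 1) : QQ Q (Xb Q a x) (Xb Q a y) ≤ Qb Q a := by
  have hyx : polar ⇑Q y x = 1 := by rw [polar_comm]; exact hxy
  unfold QQ
  rw [Subgroup.closure_le]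
  rintro q ((hq | hq) | ⟨Z, ⟨u, v, huv, rfl⟩, R1, R2, hq⟩)
  · obtain ⟨t, rfl⟩ := (mem_Xb _ _ _).1 hq
    exact pr_Eg_mem_Qb C hax.qu (by rw [polar_smul_right, hax.uv, smul_zero])
  · obtain ⟨t, rfl⟩ := (mem_Xb _ _ _).1 hq
    exact pr_Eg_mem_Qb C hax.qu (by rw [polar_smul_right, hay.uv, smul_zero])
  · obtain ⟨b, z, hb0, hb, hbz, hza, hzx, hZ⟩ := coplanar_of_rel60 C p hax huv R1
    obtain ⟨c, z', hc0, hc, hcz', hz'a, hz'y, hZ'⟩ := coplanar_of_rel60 C p hay huv R2
    have hm : pr Q (Eg Q c ((1 : F) • z')) ∈ Xb Q b z := by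
      rw [← hZ, hZ']; exact root_mem_Xb c z' 1
    obtain ⟨hcM, -⟩ := span_of_root_mem C p hbz hcz' one_ne_zero hm
    have hbx : polar ⇑Q b x = 0 := by
      obtain ⟨α', β', hb'⟩ := Submodule.mem_span_pair.1 hb
      rw [← hb', polar_add_left, polar_smul_left, polar_smul_left, hax.uv, hax.vv]; simp
    have hcx : polar ⇑Q c x = 0 := by
      obtain ⟨α, β, hc'⟩ := Submodule.mem_span_pair.1 hcM
      rw [← hc', polar_add_left, polar_smul_left, polar_smul_left, hbx, hzx]; simp
    obtain ⟨γ, δ, hγδ⟩ := Submodule.mem_span_pair.1 hc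
    have hδ : δ = 0 := by
      have := hcx
      rw [← hγδ, polar_add_left, polar_smul_left, polar_smul_left, hax.uv, hyx] at this
      simpa using this
    have hc' : c = γ • a := by rw [← hγδ, hδ]; simp
    rw [hZ'] at hq
    obtain ⟨t, rfl⟩ := (mem_Xb _ _ _).1 hq
    have haz' : polar ⇑Q a (t • z') = 0 := by
      rw [polar_smul_right, polar_comm, hz'a, smul_zero]
    rw [hc', Eg_smul_left C γ hax.qu haz']
    exact pr_Eg_mem_Qb C hax.qu (by rw [polar_smul_right, haz', smul_zero])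

lemma QQ_eq_Qb (p : ℕ) [Fact p.Prime] [CharP F p] {a x y : ι → F} (hax : TS Q a x)
    (hay : TS Q a y) (hxy : polar ⇑Q x y = 1) : QQ Q (Xb Q a x) (Xb Q a y) = Qb Q a :=
  le_antisymm (QQ_le_Qb C p hax hay hxy) (Qb_le_QQ C p hax hay hxy)

/-- non-perpendicular concurrent lines are not `Rel60`-related -/
lemma not_rel60_std (p : ℕ) [Fact p.Prime] [CharP F p] {a x y : ι → F} (hax : TS Q a x)
    (hay : TS Q a y) (hxy : polar ⇑Q x y ≠ 0) : ¬ Rel60 Q (Xb Q a x) (Xb Q a y) := by
  rintro ⟨-, -, xb, hxb, yb, hyb, hx1, hy1, -, Z, ⟨u, v, huv, rfl⟩, hm⟩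
  obtain ⟨s, rfl⟩ := (mem_Xb _ _ _).1 hxb
  obtain ⟨t, rfl⟩ := (mem_Xb _ _ _).1 hyb
  have hs : s ≠ 0 := fun hs => hx1 ((pr_root_eq_one_iff C hax s).2 hs)
  have ht : t ≠ 0 := fun ht => hy1 ((pr_root_eq_one_iff C hay t).2 ht)
  rw [← map_mul, Eg_add C hax.qu (by rw [polar_smul_right, hax.uv, smul_zero])
    (by rw [polar_smul_right, hay.uv, smul_zero])] at hm
  refine not_root_of_nonsing C p hax.qu ?_ hax.u_ne ?_ huv hm
  · rw [polar_add_right, polar_smul_right, polar_smul_right, hax.uv, hay.uv]; simp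
  · rw [QuadraticMap.map_add Q, QuadraticMap.map_smul, QuadraticMap.map_smul, hax.qv, hay.qv,
      polar_smul_left, polar_smul_right]
    simp only [smul_eq_mul, mul_zero, zero_add]
    exact mul_ne_zero hs (mul_ne_zero ht hxy)

/-- two non-perpendicular concurrent lines form a good pair -/
lemma good_std (p : ℕ) [Fact p.Prime] [CharP F p] {a x y : ι → F} (hax : TS Q a x)
    (hay : TS Q a y) (hxy : polar ⇑Q x y = 1) : Good Q (Xb Q a x) (Xb Q a y) := by
  refine ⟨Xb_mem_roots hax, Xb_mem_roots hay, ?_, ?_, ?_, ?_⟩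
  · intro hXY
    have hm : pr Q (Eg Q a ((1 : F) • y)) ∈ Xb Q a x := by rw [hXY]; exact root_mem_Xb a y 1
    obtain ⟨-, h2⟩ := span_of_root_mem C p hax hay one_ne_zero hm
    obtain ⟨c, d, hcd⟩ := Submodule.mem_span_pair.1 h2
    have : polar ⇑Q x y = 0 := by
      rw [← hcd, polar_add_right, polar_smul_right, polar_smul_right, hax.vu, hax.vv]; simp
    rw [hxy] at this
    exact one_ne_zero this
  · intro x' hx' y' hy'
    obtain ⟨s, rfl⟩ := (mem_Xb _ _ _).1 hx'
    obtain ⟨t, rfl⟩ := (mem_Xb _ _ _).1 hy'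
    exact Qb_comm C hax.u_ne hax.qu
      (pr_Eg_mem_Qb C hax.qu (by rw [polar_smul_right, hax.uv, smul_zero]))
      (pr_Eg_mem_Qb C hax.qu (by rw [polar_smul_right, hay.uv, smul_zero]))
  · exact not_rel60_std C p hax hay (by rw [hxy]; exact one_ne_zero)
  · intro a' b' ha' hb'
    rw [QQ_eq_Qb C p hax hay hxy] at ha' hb'
    exact Qb_comm C hax.u_ne hax.qu (centralizer_Qb C p hax.u_ne hax.qu ha')
      (centralizer_Qb C p hax.u_ne hax.qu hb')

/-- an Eichler element commutes with elements fixing its two parameters -/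
lemma comm_of_fix {m w : ι → F} (hm : Q m = 0) (hmw : polar ⇑Q m w = 0)
    {g : ↥(Cfsg.Omega F ⇑Q)} (h1 : ga Q g m = m) (h2 : ga Q g w = w) :
    Eg Q m w * g = g * Eg Q m w := by
  have := Eg_conj C g hm hmw
  rw [h1, h2] at this
  calc Eg Q m w * g = (g * Eg Q m w * g⁻¹) * g := by rw [this]
    _ = g * Eg Q m w := by group

/-- in the perpendicular disjoint case the candidate point group is centralised by the
Eichler elements `E(m,w)` with `m` on the first line and `w` perpendicular to both lines -/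
lemma centralizes_QQ (p : ℕ) [Fact p.Prime] [CharP F p] {u v u' v' m w : ι → F} (h : TS Q u v)
    (h' : TS Q u' v')
    (hperp : polar ⇑Q u u' = 0 ∧ polar ⇑Q u v' = 0 ∧ polar ⇑Q v u' = 0 ∧ polar ⇑Q v v' = 0)
    (hno : ¬ ∃ a, a ≠ 0 ∧ a ∈ Submodule.span F {u, v} ∧ a ∈ Submodule.span F {u', v'})
    (hm : Q m = 0) (hmu : polar ⇑Q m u = 0) (hmv : polar ⇑Q m v = 0) (hmu' : polar ⇑Q m u' = 0)
    (hmv' : polar ⇑Q m v' = 0)
    (hwu : polar ⇑Q w u = 0) (hwv : polar ⇑Q w v = 0) (hwu' : polar ⇑Q w u' = 0)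
    (hwv' : polar ⇑Q w v' = 0) (hmw : polar ⇑Q m w = 0) :
    ∀ q ∈ QQ Q (Xb Q u v) (Xb Q u' v'), pr Q (Eg Q m w) * q = q * pr Q (Eg Q m w) := by
  obtain ⟨p1, p2, p3, p4⟩ := hperp
  -- root elements of lines perpendicular to `m` and `w` commute with `E(m,w)`
  have hroot : ∀ {b z : ι → F} (t : F), TS Q b z → polar ⇑Q m b = 0 → polar ⇑Q m z = 0 →
      polar ⇑Q w b = 0 → polar ⇑Q w z = 0 →
      pr Q (Eg Q m w) * pr Q (Eg Q b (t • z)) = pr Q (Eg Q b (t • z)) * pr Q (Eg Q m w) := by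
    intro b z t hbz hmb hmz hwb hwz
    rw [← map_mul, ← map_mul]
    congr 1
    apply comm_of_fix C hm hmw
    · rw [ga_root C hbz, Tm, hmb, hmz]; simp
    · rw [ga_root C hbz, Tm, hwb, hwz]; simp
  have hle : QQ Q (Xb Q u v) (Xb Q u' v') ≤
      Subgroup.centralizer {pr Q (Eg Q m w)} := by
    unfold QQ
    rw [Subgroup.closure_le]
    rintro q ((hq | hq) | ⟨Z, ⟨u'', v'', h'', rfl⟩, R1, R2, hq⟩)
    · obtain ⟨t, rfl⟩ := (mem_Xb _ _ _).1 hq
      rw [SetLike.mem_coe, Subgroup.mem_centralizer_iff]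
      rintro _ rfl
      exact hroot t h hmu hmv hwu hwv
    · obtain ⟨t, rfl⟩ := (mem_Xb _ _ _).1 hq
      rw [SetLike.mem_coe, Subgroup.mem_centralizer_iff]
      rintro _ rfl
      exact hroot t h' hmu' hmv' hwu' hwv'
    · obtain ⟨b, z, hb0, hb, hbz, hzu, hzv, hZ⟩ := coplanar_of_rel60 C p h h'' R1
      obtain ⟨c, z', hc0, hc, hcz', hz'u', hz'v', hZ'⟩ := coplanar_of_rel60 C p h' h'' R2
      have hm' : pr Q (Eg Q c ((1 : F) • z')) ∈ Xb Q b z := by
        rw [← hZ, hZ']; exact root_mem_Xb c z' 1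
      obtain ⟨hcM, -⟩ := span_of_root_mem C p hbz hcz' one_ne_zero hm'
      -- `b`, `c` are independent
      have hbc : ∀ s t : F, s • b + t • c = 0 → s = 0 ∧ t = 0 := by
        intro s t hst
        have ht : t = 0 := by
          by_contra ht
          apply hno
          refine ⟨c, hc0, ?_, hc⟩
          have e1 : t • c = -(s • b) := eq_neg_of_add_eq_zero_right hst
          have e2 : c = t⁻¹ • (t • c) := by rw [smul_smul, inv_mul_cancel₀ ht, one_smul]
          rw [e2, e1]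
          exact Submodule.smul_mem _ _ (Submodule.neg_mem _ (Submodule.smul_mem _ _ hb))
        subst ht
        rw [zero_smul, add_zero] at hst
        rcases smul_eq_zero.1 hst with h1 | h1
        · exact ⟨h1, rfl⟩
        · exact absurd h1 hb0
      obtain ⟨-, hz⟩ := span_pair_swap hbc
        (Submodule.subset_span (by simp : b ∈ ({b, z} : Set (ι → F)))) hcM
      obtain ⟨β1, β2, hzbc⟩ := Submodule.mem_span_pair.1 hz
      have hmb : polar ⇑Q m b = 0 := by
        obtain ⟨α1, α2, hb'⟩ := Submodule.mem_span_pair.1 hb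
        rw [← hb', polar_add_right, polar_smul_right, polar_smul_right, hmu, hmv]; simp
      have hmc : polar ⇑Q m c = 0 := by
        obtain ⟨α1, α2, hc'⟩ := Submodule.mem_span_pair.1 hc
        rw [← hc', polar_add_right, polar_smul_right, polar_smul_right, hmu', hmv']; simp
      have hwb : polar ⇑Q w b = 0 := by
        obtain ⟨α1, α2, hb'⟩ := Submodule.mem_span_pair.1 hb
        rw [← hb', polar_add_right, polar_smul_right, polar_smul_right, hwu, hwv]; simp
      have hwc : polar ⇑Q w c = 0 := by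
        obtain ⟨α1, α2, hc'⟩ := Submodule.mem_span_pair.1 hc
        rw [← hc', polar_add_right, polar_smul_right, polar_smul_right, hwu', hwv']; simp
      have hmz : polar ⇑Q m z = 0 := by
        rw [← hzbc, polar_add_right, polar_smul_right, polar_smul_right, hmb, hmc]; simp
      have hwz : polar ⇑Q w z = 0 := by
        rw [← hzbc, polar_add_right, polar_smul_right, polar_smul_right, hwb, hwc]; simp
      rw [hZ] at hq
      obtain ⟨t, rfl⟩ := (mem_Xb _ _ _).1 hq
      rw [SetLike.mem_coe, Subgroup.mem_centralizer_iff]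
      rintro _ rfl
      exact hroot t hbz hmb hmz hwb hwz
  intro q hq
  have := hle hq
  rw [Subgroup.mem_centralizer_iff] at this
  exact this _ rfl

/-- **classification of good pairs**, under hypothesis (T) -/
lemma good_classify (p : ℕ) [Fact p.Prime] [CharP F p] (hT : HypT Q)
    {X Y : Set (Cfsg.POmega F ⇑Q)} (hG : Good Q X Y) :
    ∃ a x y, TS Q a x ∧ TS Q a y ∧ polar ⇑Q x y = 1 ∧ X = Xb Q a x ∧ Y = Xb Q a y := by
  obtain ⟨⟨u, v, h, rfl⟩, ⟨u', v', h', rfl⟩, hne, hc, hnR, hab⟩ := hG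
  by_cases hcommon : ∃ a, a ≠ 0 ∧ a ∈ Submodule.span F {u, v} ∧ a ∈ Submodule.span F {u', v'}
  · obtain ⟨b, hb0, hb, hb'⟩ := hcommon
    obtain ⟨x, hbx, hx, hux, hvx⟩ := h.exists_rebase hb hb0
    obtain ⟨y, hby, hy, hu'y, hv'y⟩ := h'.exists_rebase hb' hb0
    have hX : Xb Q b x = Xb Q u v := Xb_eq_of_mem_span C h hbx hb hx
    have hY : Xb Q b y = Xb Q u' v' := Xb_eq_of_mem_span C h' hby hb' hy
    have hβ : polar ⇑Q x y ≠ 0 := by
      intro hxy
      apply hnR
      rw [← hX, ← hY]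
      apply rel60_of_coplanar C p hbx hby hxy
      intro c d hcd
      apply hne
      rw [← hX, ← hY]
      symm
      apply Xb_eq_of_mem_span C hbx hby (Submodule.subset_span (by simp))
      rw [hcd]
      exact Submodule.mem_span_pair.2 ⟨c, d, rfl⟩
    have hts : TS Q b ((polar ⇑Q x y)⁻¹ • y) := by
      have := hby.of_comb (α := 1) (β := 0) (γ := 0) (δ := (polar ⇑Q x y)⁻¹)
        (by simpa using hβ)
      simpa using this
    refine ⟨b, x, (polar ⇑Q x y)⁻¹ • y, hbx, hts, ?_, hX.symm, ?_⟩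
    · rw [polar_smul_right, smul_eq_mul, inv_mul_cancel₀ hβ]
    · rw [← hY]
      symm
      apply Xb_eq_of_mem_span C hby hts (Submodule.subset_span (by simp))
      exact Submodule.smul_mem _ _ (Submodule.subset_span (by simp))
  · exfalso
    rcases comm_classify C p h h' hc with h1 | hperp
    · exact hcommon h1
    · obtain ⟨p1, p2, p3, p4⟩ := hperp
      obtain ⟨w, w', hwu, hwv, hwu', hwv', hw'u, hw'v, hw'u', hw'v', hww'⟩ :=
        hT u v u' v' h h' p1 p2 p3 p4 hcommon
      have huw : polar ⇑Q u w = 0 := by rw [polar_comm]; exact hwu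
      have hvw' : polar ⇑Q v w' = 0 := by rw [polar_comm]; exact hw'v
      have c1 := centralizes_QQ C p h h' ⟨p1, p2, p3, p4⟩ hcommon h.qu h.uu h.uv p1 p2
        hwu hwv hwu' hwv' huw
      have c2 := centralizes_QQ C p h h' ⟨p1, p2, p3, p4⟩ hcommon h.qv h.vu h.vv p3 p4
        hw'u hw'v hw'u' hw'v' hvw'
      have h3 := hab _ _ c2 c1
      -- the two elements do not commute
      have h4 : Eg Q v w' * Eg Q u w = Eg Q u w * Eg Q v w' :=
        comm_of_pr_comm C p (Eg_pow_char C p h.qu huw) h3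
      have h5 := Eg_conj C (Eg Q v w') h.qu huw
      have h6 : Eg Q v w' * Eg Q u w * (Eg Q v w')⁻¹ = Eg Q u w := by rw [h4]; group
      rw [h6, ga_Eg C h.qv hvw', ga_Eg C h.qv hvw', h.uv, polar_comm ⇑Q u w', hw'u, hwv] at h5
      simp only [zero_smul, sub_zero, add_zero, mul_zero] at h5
      have h7 : Eg Q u (polar ⇑Q w w' • v) = 1 := by
        have e1 : Eg Q u (w + polar ⇑Q w w' • v) = Eg Q u w * Eg Q u (polar ⇑Q w w' • v) := by
          rw [Eg_add C h.qu huw (by rw [polar_smul_right, h.uv, smul_zero])]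
        rw [e1] at h5
        exact (mul_eq_left.1 h5.symm)
      exact hww' ((root_eq_one_iff C h _).1 h7)

/-- every automorphism permutes the root subgroups -/
lemma rootPerm_all (p : ℕ) [Fact p.Prime] [CharP F p] (α : MulAut (Cfsg.POmega F ⇑Q)) :
    RootPerm Q α := by
  rintro X ⟨u, v, h, rfl⟩
  obtain ⟨u', v', h', hα⟩ := exists_root_map C p α h
  refine ⟨u', v', h', ?_⟩
  ext z
  constructor
  · rintro ⟨y, hy, rfl⟩
    exact (hα y).1 hy
  · intro hz
    refine ⟨α⁻¹ z, (hα _).2 ?_, MulAut.apply_inv_self _ _ _⟩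
    rw [MulAut.apply_inv_self]
    exact hz

/-- **Every automorphism permutes the point groups.** -/
theorem exists_point_map (p : ℕ) [Fact p.Prime] [CharP F p] (hT : HypT Q)
    (α : MulAut (Cfsg.POmega F ⇑Q)) {a : ι → F} (ha0 : a ≠ 0) (ha : Q a = 0) :
    ∃ a', a' ≠ 0 ∧ Q a' = 0 ∧ (Qb Q a).map α.toMonoidHom = Qb Q a' := by
  have hα := rootPerm_all C p α
  have hα' := rootPerm_all C p α⁻¹
  obtain ⟨x, y, hax, hay, hxy⟩ := exists_xy C ha0 ha
  rw [← QQ_eq_Qb C p hax hay hxy, QQ_map hα hα']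
  obtain ⟨a', x', y', hax', hay', hxy', hX, hY⟩ :=
    good_classify C p hT (good_map hα hα' (good_std C p hax hay hxy))
  rw [hX, hY, QQ_eq_Qb C p hax' hay' hxy']
  exact ⟨a', hax'.u_ne, hax'.qu, rfl⟩

end ctx

end Cfsg.Agent.Lib.Helper5.AutOrth
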