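import Mathlib
import Cfsg.Agent.Lib.Helper5.AutOrthPoint2

set_option autoImplicit false
set_option linter.unusedSimpArgs false
set_option linter.unusedVariables false
set_option linter.unnecessarySeqFocus false
set_option linter.unusedSectionVars false
set_option linter.style.haveILetI false

/-!
# Opposite points; normalising an automorphism
-/

namespace Cfsg.Agent.Lib.Helper5.AutOrth

open Matrix Module QuadraticMap
open Cfsg.Agent.Lib.Helper37 Cfsg.Agent.Lib.Helper8 Cfsg.Agent.Lib.Helper13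
open scoped Classical Pointwise

variable {ι : Type} [Fintype ι] [DecidableEq ι] {F : Type*} [Field F] [Fintype F]
variable {Q : QuadraticForm F (ι → F)} {k : ℕ} {e f : Fin k → ι → F}

/-- the point group only depends on the point -/
lemma Qg_smul {a : ι → F} {d : F} (hd : d ≠ 0) : Qg Q (d • a) = Qg Q a := by
  ext g
  rw [mem_Qg, mem_Qg]
  constructor
  · rintro ⟨h1, h2⟩
    have h1' : ga Q g a = a := by
      rw [ga_smul] at h1
      have := congrArg (fun z => d⁻¹ • z) h1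
      simp only [smul_smul, inv_mul_cancel₀ hd, one_smul] at this
      exact this
    refine ⟨h1', ?_⟩
    intro w hw
    obtain ⟨c, hc⟩ := h2 w (by rw [polar_smul_right, hw, smul_zero])
    exact ⟨c * d, by rw [hc, smul_smul]⟩
  · rintro ⟨h1, h2⟩
    refine ⟨by rw [ga_smul, h1], ?_⟩
    intro w hw
    have hw' : polar ⇑Q w a = 0 := by
      rw [polar_smul_right, smul_eq_mul] at hw
      rcases mul_eq_zero.1 hw with h | h
      · exact absurd h hd
      · exact h
    obtain ⟨c, hc⟩ := h2 w hw'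
    exact ⟨c * d⁻¹, by rw [hc, smul_smul, mul_assoc, inv_mul_cancel₀ hd, mul_one]⟩

lemma Qb_smul {a : ι → F} {d : F} (hd : d ≠ 0) : Qb Q (d • a) = Qb Q a := by
  unfold Qb
  rw [Qg_smul hd]

section ctx

variable (C : Ctx Q k e f)
include C

/-- swapping the two parameters of a root element -/
lemma Eg_swap {u v : ι → F} (h : TS Q u v) : Eg Q u v = Eg Q v (-u) := by
  apply G_ext
  intro x
  have h1 := ga_root C h 1 x
  have h2 := ga_root C h.symm (-1) x
  rw [one_smul] at h1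
  rw [neg_smul, one_smul] at h2
  rw [h1, h2, Tm_swap]
  module

/-- conjugating the point group -/
lemma Qb_conj_mem {a : ι → F} (ha0 : a ≠ 0) (ha : Q a = 0) (h : ↥(Cfsg.Omega F ⇑Q))
    {y : Cfsg.POmega F ⇑Q} (hy : y ∈ Qb Q a) : pr Q h * y * (pr Q h)⁻¹ ∈ Qb Q (ga Q h a) := by
  obtain ⟨w, hw, rfl⟩ := (mem_Qb_iff C ha0 ha y).1 hy
  rw [← map_inv, ← map_mul, ← map_mul, Eg_conj C h ha hw]
  exact pr_Eg_mem_Qb C (by rw [Q_ga]; exact ha) (by rw [polar_ga]; exact hw)

lemma Qb_conj {a : ι → F} (ha0 : a ≠ 0) (ha : Q a = 0) (h : ↥(Cfsg.Omega F ⇑Q)) :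
    (Qb Q a).map (MulAut.conj (pr Q h)).toMonoidHom = Qb Q (ga Q h a) := by
  ext y
  rw [Subgroup.mem_map]
  constructor
  · rintro ⟨x, hx, rfl⟩
    exact Qb_conj_mem C ha0 ha h hx
  · intro hy
    refine ⟨(pr Q h)⁻¹ * y * pr Q h, ?_, ?_⟩
    · have := Qb_conj_mem C (ga_ne_zero h ha0) (by rw [Q_ga]; exact ha) h⁻¹ hy
      rw [ga_inv_ga, map_inv, inv_inv] at this
      exact this
    · show pr Q h * ((pr Q h)⁻¹ * y * pr Q h) * (pr Q h)⁻¹ = y
      group

/-- a point group contained in another has the same point -/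
lemma Qb_le_imp (p : ℕ) [Fact p.Prime] [CharP F p] {a b : ι → F} (ha0 : a ≠ 0) (ha : Q a = 0)
    (hb0 : b ≠ 0) (hb : Q b = 0) (hle : Qb Q a ≤ Qb Q b) : ∃ d : F, b = d • a := by
  obtain ⟨x, y, hax, hay, hxy⟩ := exists_xy C ha0 ha
  have key : ∀ {z : ι → F}, TS Q a z → b ∈ Submodule.span F {a, z} := by
    intro z haz
    have h1 : pr Q (Eg Q a z) ∈ Qb Q b := hle (pr_Eg_mem_Qb C ha haz.uv)
    obtain ⟨w, hw, h2⟩ := (mem_Qb_iff C hb0 hb _).1 h1
    have h3 : pr Q (Eg Q b w) ∈ Xb Q a z := by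
      rw [← h2]
      have := root_mem_Xb (Q := Q) a z 1
      rwa [one_smul] at this
    have hQw : Q w = 0 := by
      by_contra hQw
      exact not_root_of_nonsing C p hb hw hb0 hQw haz h3
    have hwb : ∀ c : F, w ≠ c • b := by
      rintro c rfl
      rw [Eg_smul_self C c hb, map_one] at h2
      have := (pr_root_eq_one_iff C haz 1).1 (by rw [one_smul]; exact h2)
      exact one_ne_zero this
    have hts : TS Q b w := TS.mk' hb hQw hw hb0 hwb
    have h4 : pr Q (Eg Q b ((1 : F) • w)) ∈ Xb Q a z := by rw [one_smul]; exact h3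
    exact (span_of_root_mem C p haz hts one_ne_zero h4).1
  obtain ⟨α, β, hαβ⟩ := Submodule.mem_span_pair.1 (key hax)
  obtain ⟨γ, δ, hγδ⟩ := Submodule.mem_span_pair.1 (key hay)
  have hβ : β = 0 := by
    have e1 : polar ⇑Q b y = β := by
      rw [← hαβ, polar_add_left, polar_smul_left, polar_smul_left, hay.uv, hxy]; simp
    have e2 : polar ⇑Q b y = 0 := by
      rw [← hγδ, polar_add_left, polar_smul_left, polar_smul_left, hay.uv, hay.vv]; simp
    rw [← e1, e2]
  exact ⟨α, by rw [← hαβ, hβ]; simp⟩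

/-- perpendicular points have intersecting point groups -/
lemma Qb_inter_of_perp {a b : ι → F} (ha0 : a ≠ 0) (ha : Q a = 0) (hb0 : b ≠ 0) (hb : Q b = 0)
    (hab : polar ⇑Q a b = 0) : ∃ y : Cfsg.POmega F ⇑Q, y ≠ 1 ∧ y ∈ Qb Q a ∧ y ∈ Qb Q b := by
  by_cases hba : ∃ d : F, b = d • a
  · obtain ⟨d, rfl⟩ := hba
    have hd : d ≠ 0 := by
      rintro rfl
      exact hb0 (zero_smul _ _)
    obtain ⟨x, y, hax, hay, hxy⟩ := exists_xy C ha0 ha
    refine ⟨pr Q (Eg Q a ((1 : F) • x)), ?_, ?_, ?_⟩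
    · rw [Ne, pr_root_eq_one_iff C hax]; exact one_ne_zero
    · exact pr_Eg_mem_Qb C ha (by rw [polar_smul_right, hax.uv, smul_zero])
    · rw [Qb_smul hd]
      exact pr_Eg_mem_Qb C ha (by rw [polar_smul_right, hax.uv, smul_zero])
  · push Not at hba
    have hts : TS Q a b := TS.mk' ha hb hab ha0 hba
    refine ⟨pr Q (Eg Q a ((1 : F) • b)), ?_, ?_, ?_⟩
    · rw [Ne, pr_root_eq_one_iff C hts]; exact one_ne_zero
    · exact pr_Eg_mem_Qb C ha (by rw [polar_smul_right, hab, smul_zero])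
    · rw [one_smul, Eg_swap C hts]
      exact pr_Eg_mem_Qb C hb (by rw [polar_neg_right, hts.vu, neg_zero])

/-- the point groups of a hyperbolic pair intersect trivially -/
lemma Qb_inter_hyp (p : ℕ) [Fact p.Prime] [CharP F p] {a b : ι → F} (ha0 : a ≠ 0) (ha : Q a = 0)
    (hb0 : b ≠ 0) (hb : Q b = 0) (hab : polar ⇑Q a b = 1) {y : Cfsg.POmega F ⇑Q}
    (hya : y ∈ Qb Q a) (hyb : y ∈ Qb Q b) : y = 1 := by
  obtain ⟨w, hw, rfl⟩ := (mem_Qb_iff C ha0 ha y).1 hya
  obtain ⟨w', hw', h1⟩ := (mem_Qb_iff C hb0 hb _).1 hyb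
  have h2 := eq_of_pr_eq C p (Eg_pow_char C p ha hw) (Eg_pow_char C p hb hw') h1
  have h3 : ga Q (Eg Q a w) b = ga Q (Eg Q b w') b := by rw [h2]
  have hbb : polar ⇑Q b b = 0 := by rw [polar_self, hb]; simp
  have hba : polar ⇑Q b a = 1 := by rw [polar_comm]; exact hab
  rw [ga_Eg C ha hw, ga_Eg C hb hw', hba, hbb, hw'] at h3
  simp only [one_smul, zero_smul, sub_zero, mul_one, mul_zero, add_zero] at h3
  have h4 : w = (polar ⇑Q b w - Q w) • a := by
    have : b + polar ⇑Q b w • a - w - Q w • a = b + 0 := by rw [add_zero]; exact h3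
    have h5 : b + (polar ⇑Q b w • a - w - Q w • a) = b + 0 := by rw [← this]; abel
    have h6 := add_left_cancel h5
    rw [sub_right_comm, sub_eq_zero] at h6
    rw [sub_smul]
    exact h6.symm
  rw [h4, Eg_smul_self C _ ha, map_one]

/-- **normalising an automorphism** so that it fixes the standard pair of opposite point
groups -/
theorem exists_normalise (p : ℕ) [Fact p.Prime] [CharP F p] (hT : HypT Q)
    (α : MulAut (Cfsg.POmega F ⇑Q)) :
    ∃ g0 : ↥(Cfsg.Omega F ⇑Q),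
      (Qb Q (C.ev 0)).map (MulAut.conj (pr Q g0) * α).toMonoidHom = Qb Q (C.ev 0) ∧
      (Qb Q (C.fv 0)).map (MulAut.conj (pr Q g0) * α).toMonoidHom = Qb Q (C.fv 0) := by
  obtain ⟨a', ha'0, ha', hA⟩ := exists_point_map C p hT α (C.ev_ne 0) (C.q_ev 0)
  obtain ⟨b', hb'0, hb', hB⟩ := exists_point_map C p hT α (C.fv_ne 0) (C.q_fv 0)
  have hab : polar ⇑Q a' b' ≠ 0 := by
    intro hab
    obtain ⟨y, hy1, hya, hyb⟩ := Qb_inter_of_perp C ha'0 ha' hb'0 hb' hab
    rw [← hA] at hya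
    rw [← hB] at hyb
    obtain ⟨x, hx, rfl⟩ := Subgroup.mem_map.1 hya
    obtain ⟨x', hx', hxx'⟩ := Subgroup.mem_map.1 hyb
    have : x' = x := α.injective hxx'
    subst this
    have := Qb_inter_hyp C p (C.ev_ne 0) (C.q_ev 0) (C.fv_ne 0) (C.q_fv 0) (C.ef_same 0) hx hx'
    apply hy1
    rw [this]
    exact map_one _
  have hd : (polar ⇑Q a' b')⁻¹ ≠ 0 := inv_ne_zero hab
  obtain ⟨g0, hg1, hg2⟩ := to_e0f0 C ha'
    (by rw [QuadraticMap.map_smul, hb', smul_zero] : Q ((polar ⇑Q a' b')⁻¹ • b') = 0)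
    (by rw [polar_smul_right, smul_eq_mul, inv_mul_cancel₀ hab])
  refine ⟨g0, ?_, ?_⟩
  · have : (MulAut.conj (pr Q g0) * α).toMonoidHom =
        (MulAut.conj (pr Q g0)).toMonoidHom.comp α.toMonoidHom := rfl
    rw [this, ← Subgroup.map_map, hA, Qb_conj C ha'0 ha', hg1]
  · have : (MulAut.conj (pr Q g0) * α).toMonoidHom =
        (MulAut.conj (pr Q g0)).toMonoidHom.comp α.toMonoidHom := rfl
    rw [this, ← Subgroup.map_map, hB, ← Qb_smul hd,
      Qb_conj C (smul_ne_zero hd hb'0) (by rw [QuadraticMap.map_smul, hb', smul_zero]), hg2]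

end ctx

end Cfsg.Agent.Lib.Helper5.AutOrth
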