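import Mathlib
import Cfsg.Agent.Lib.Helper5.AutOrthOpp

set_option autoImplicit false
set_option linter.unusedSimpArgs false
set_option linter.unusedVariables false
set_option linter.unnecessarySeqFocus false
set_option linter.unusedSectionVars false
set_option linter.style.haveILetI false

/-!
# The semilinear map attached to an automorphism fixing the standard point group
-/

namespace Cfsg.Agent.Lib.Helper5.AutOrth

open Matrix Module QuadraticMap
open Cfsg.Agent.Lib.Helper37 Cfsg.Agent.Lib.Helper8 Cfsg.Agent.Lib.Helper13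
open scoped Classical Pointwise

variable {ι : Type} [Fintype ι] [DecidableEq ι] {F : Type*} [Field F] [Fintype F]
variable {Q : QuadraticForm F (ι → F)} {k : ℕ} {e f : Fin k → ι → F}

/-- membership in `W = ⟨e₀, f₀⟩^⊥` -/
def InW (C : Ctx Q k e f) (w : ι → F) : Prop :=
  polar ⇑Q w (C.ev 0) = 0 ∧ polar ⇑Q w (C.fv 0) = 0

/-- the map induced on `W` by an automorphism fixing the standard point group -/
noncomputable def phi (C : Ctx Q k e f) (α : MulAut (Cfsg.POmega F ⇑Q)) (w : ι → F) : ι → F :=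
  if h : ∃ w', InW C w' ∧ α (pr Q (Eg Q (C.ev 0) w)) = pr Q (Eg Q (C.ev 0) w') then
    Classical.choose h else 0

/-- the map induced on scalars -/
noncomputable def tau (C : Ctx Q k e f) (α : MulAut (Cfsg.POmega F ⇑Q)) (t : F) : F :=
  if h : ∃ t' : F, phi C α (t • C.ev 1) = t' • phi C α (C.ev 1) then Classical.choose h else 0

section inW

variable (C : Ctx Q k e f)

lemma InW.add {C : Ctx Q k e f} {w w' : ι → F} (h : InW C w) (h' : InW C w') : InW C (w + w') :=
  ⟨by rw [polar_add_left, h.1, h'.1, add_zero], by rw [polar_add_left, h.2, h'.2, add_zero]⟩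

lemma InW.smul {C : Ctx Q k e f} {w : ι → F} (h : InW C w) (t : F) : InW C (t • w) :=
  ⟨by rw [polar_smul_left, h.1, smul_zero], by rw [polar_smul_left, h.2, smul_zero]⟩

lemma InW.neg {C : Ctx Q k e f} {w : ι → F} (h : InW C w) : InW C (-w) :=
  ⟨by rw [polar_neg_left, h.1, neg_zero], by rw [polar_neg_left, h.2, neg_zero]⟩

lemma InW.sub {C : Ctx Q k e f} {w w' : ι → F} (h : InW C w) (h' : InW C w') : InW C (w - w') := by
  rw [sub_eq_add_neg]
  exact h.add h'.neg

lemma inW_zero : InW C (0 : ι → F) := ⟨by simp [polar], by simp [polar]⟩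

lemma InW.e0 {C : Ctx Q k e f} {w : ι → F} (h : InW C w) : polar ⇑Q (C.ev 0) w = 0 := by
  rw [polar_comm]; exact h.1

lemma InW.f0 {C : Ctx Q k e f} {w : ι → F} (h : InW C w) : polar ⇑Q (C.fv 0) w = 0 := by
  rw [polar_comm]; exact h.2

lemma inW_ev {j : Fin 3} (hj : j ≠ 0) : InW C (C.ev j) := ⟨C.ee j 0, C.ef_ne hj⟩

lemma inW_fv {j : Fin 3} (hj : j ≠ 0) : InW C (C.fv j) := ⟨C.fe_ne hj, C.ff j 0⟩

/-- a nonzero singular vector of `W` spans a totally singular line with `e₀` -/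
lemma ts_e0_of_inW {w : ι → F} (hw : InW C w) (hQ : Q w = 0) (hw0 : w ≠ 0) :
    TS Q (C.ev 0) w := by
  refine TS.mk' (C.q_ev 0) hQ hw.e0 (C.ev_ne 0) ?_
  rintro c rfl
  have := hw.2
  rw [polar_smul_left, C.ef_same, smul_eq_mul, mul_one] at this
  rw [this, zero_smul] at hw0
  exact hw0 rfl

end inW

section ctx

variable (C : Ctx Q k e f) (p : ℕ) [Fact p.Prime] [CharP F p]
include C p

/-- the parametrisation of the standard point group by `W` is injective -/
lemma Eg_inW_unique {w1 w2 : ι → F} (h1 : InW C w1) (h2 : InW C w2)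
    (h : pr Q (Eg Q (C.ev 0) w1) = pr Q (Eg Q (C.ev 0) w2)) : w1 = w2 := by
  have e1 := eq_of_pr_eq C p (Eg_pow_char C p (C.q_ev 0) h1.e0) (Eg_pow_char C p (C.q_ev 0) h2.e0) h
  have e2 : Eg Q (C.ev 0) (w1 + -w2) = 1 := by
    rw [← Eg_add C (C.q_ev 0) h1.e0 (by rw [polar_neg_right, h2.e0, neg_zero]), e1,
      ← Eg_inv C (C.q_ev 0) h2.e0, mul_inv_cancel]
  obtain ⟨c, hc⟩ := Eg_eq_one C (C.ev_ne 0) (C.q_ev 0)
    (by rw [polar_add_right, polar_neg_right, h1.e0, h2.e0]; simp) e2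
  have e3 : polar ⇑Q (w1 + -w2) (C.fv 0) = c := by
    rw [hc, polar_smul_left, C.ef_same, smul_eq_mul, mul_one]
  rw [polar_add_left, polar_neg_left, h1.2, h2.2] at e3
  have hc0 : c = 0 := by rw [← e3]; simp
  rw [hc0, zero_smul, ← sub_eq_add_neg, sub_eq_zero] at hc
  exact hc

variable (α : MulAut (Cfsg.POmega F ⇑Q))
  (hE : (Qb Q (C.ev 0)).map α.toMonoidHom = Qb Q (C.ev 0))
include hE

lemma phi_exists {w : ι → F} (hw : InW C w) :
    ∃ w', InW C w' ∧ α (pr Q (Eg Q (C.ev 0) w)) = pr Q (Eg Q (C.ev 0) w') := by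
  have h1 : α (pr Q (Eg Q (C.ev 0) w)) ∈ Qb Q (C.ev 0) := by
    rw [← hE]
    exact ⟨_, pr_Eg_mem_Qb C (C.q_ev 0) hw.e0, rfl⟩
  obtain ⟨w'', hw'', h2⟩ := (mem_Qb_iff C (C.ev_ne 0) (C.q_ev 0) _).1 h1
  refine ⟨w'' + (-(polar ⇑Q w'' (C.fv 0))) • C.ev 0, ⟨?_, ?_⟩, ?_⟩
  · rw [polar_add_left, polar_smul_left, C.ee, polar_comm, hw'']; simp
  · rw [polar_add_left, polar_smul_left, C.ef_same]; simp
  · rw [h2, ← Eg_add C (C.q_ev 0) hw'' (by rw [polar_smul_right, C.ee, smul_zero]),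
      Eg_smul_self C _ (C.q_ev 0), mul_one]

lemma phi_spec {w : ι → F} (hw : InW C w) :
    InW C (phi C α w) ∧ α (pr Q (Eg Q (C.ev 0) w)) = pr Q (Eg Q (C.ev 0) (phi C α w)) := by
  unfold phi
  rw [dif_pos (phi_exists C p α hE hw)]
  exact Classical.choose_spec (phi_exists C p α hE hw)

lemma phi_unique {w w' : ι → F} (hw : InW C w) (hw' : InW C w')
    (h : α (pr Q (Eg Q (C.ev 0) w)) = pr Q (Eg Q (C.ev 0) w')) : phi C α w = w' := by
  obtain ⟨h1, h2⟩ := phi_spec C p α hE hw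
  exact Eg_inW_unique C p h1 hw' (by rw [← h2, h])

lemma phi_add {w w' : ι → F} (hw : InW C w) (hw' : InW C w') :
    phi C α (w + w') = phi C α w + phi C α w' := by
  obtain ⟨h1, h2⟩ := phi_spec C p α hE hw
  obtain ⟨h1', h2'⟩ := phi_spec C p α hE hw'
  apply phi_unique C p α hE (hw.add hw') (h1.add h1')
  rw [← Eg_add C (C.q_ev 0) hw.e0 hw'.e0, map_mul, map_mul, h2, h2', ← map_mul,
    Eg_add C (C.q_ev 0) h1.e0 h1'.e0]

lemma phi_zero : phi C α 0 = 0 := by
  apply phi_unique C p α hE (inW_zero C) (inW_zero C)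
  rw [Eg_zero C (C.q_ev 0), map_one, map_one]

lemma phi_injective {w w' : ι → F} (hw : InW C w) (hw' : InW C w')
    (h : phi C α w = phi C α w') : w = w' := by
  obtain ⟨h1, h2⟩ := phi_spec C p α hE hw
  obtain ⟨h1', h2'⟩ := phi_spec C p α hE hw'
  apply Eg_inW_unique C p hw hw'
  apply α.injective
  rw [h2, h2', h]

lemma phi_ne_zero {w : ι → F} (hw : InW C w) (hw0 : w ≠ 0) : phi C α w ≠ 0 := by
  intro h
  apply hw0
  apply phi_injective C p α hE hw (inW_zero C)
  rw [h, phi_zero C p α hE]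

/-- `φ` maps singular lines of `W` to singular lines -/
lemma phi_root {w : ι → F} (hw : InW C w) (hQ : Q w = 0) (hw0 : w ≠ 0) :
    TS Q (C.ev 0) (phi C α w) ∧
      img α (Xb Q (C.ev 0) w) = Xb Q (C.ev 0) (phi C α w) := by
  have hts : TS Q (C.ev 0) w := ts_e0_of_inW C hw hQ hw0
  obtain ⟨hφW, hφ⟩ := phi_spec C p α hE hw
  obtain ⟨u', v', h', himg⟩ := rootPerm_all C p α _ (Xb_mem_roots hts)
  have hm : pr Q (Eg Q (C.ev 0) (phi C α w)) ∈ Xb Q u' v' := by
    rw [← himg, ← hφ]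
    refine ⟨_, ?_, rfl⟩
    have := root_mem_Xb (Q := Q) (C.ev 0) w 1
    rwa [one_smul] at this
  have hQφ : Q (phi C α w) = 0 := by
    by_contra h
    exact not_root_of_nonsing C p (C.q_ev 0) hφW.e0 (C.ev_ne 0) h h' hm
  have hφ0 : phi C α w ≠ 0 := phi_ne_zero C p α hE hw hw0
  have hts' : TS Q (C.ev 0) (phi C α w) := ts_e0_of_inW C hφW hQφ hφ0
  have hm' : pr Q (Eg Q (C.ev 0) ((1 : F) • phi C α w)) ∈ Xb Q u' v' := by rwa [one_smul]
  obtain ⟨h1, h2⟩ := span_of_root_mem C p h' hts' one_ne_zero hm'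
  refine ⟨hts', ?_⟩
  rw [himg]
  exact (Xb_eq_of_mem_span C h' hts' h1 h2).symm

lemma phi_sing {w : ι → F} (hw : InW C w) (hQ : Q w = 0) : Q (phi C α w) = 0 := by
  by_cases hw0 : w = 0
  · rw [hw0, phi_zero C p α hE]
    exact QuadraticMap.map_zero Q
  · exact (phi_root C p α hE hw hQ hw0).1.qv

lemma phi_smul_exists {w : ι → F} (hw : InW C w) (hQ : Q w = 0) (hw0 : w ≠ 0) (t : F) :
    ∃ t' : F, phi C α (t • w) = t' • phi C α w := by
  obtain ⟨hts', himg⟩ := phi_root C p α hE hw hQ hw0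
  have h1 : α (pr Q (Eg Q (C.ev 0) (t • w))) ∈ Xb Q (C.ev 0) (phi C α w) := by
    rw [← himg]
    exact ⟨_, root_mem_Xb (C.ev 0) w t, rfl⟩
  obtain ⟨t', ht'⟩ := (mem_Xb _ _ _).1 h1
  exact ⟨t', phi_unique C p α hE (hw.smul t) ((phi_spec C p α hE hw).1.smul t') ht'⟩

/-- independent perpendicular singular vectors have independent images -/
lemma phi_indep {w1 w2 : ι → F} (hw1 : InW C w1) (hw2 : InW C w2) (hts : TS Q w1 w2)
    (s1 s2 : F) (h : s1 • phi C α w1 + s2 • phi C α w2 = 0) : s1 = 0 ∧ s2 = 0 := by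
  obtain ⟨T1, I1⟩ := phi_root C p α hE hw1 hts.qu hts.u_ne
  obtain ⟨T2, I2⟩ := phi_root C p α hE hw2 hts.qv hts.v_ne
  have hs2 : s2 = 0 := by
    by_contra hs2
    have e1 : phi C α w2 = (-(s2⁻¹ * s1)) • phi C α w1 := by
      have e2 : s2 • phi C α w2 = -(s1 • phi C α w1) := eq_neg_of_add_eq_zero_right h
      have e3 : phi C α w2 = s2⁻¹ • (s2 • phi C α w2) := by
        rw [smul_smul, inv_mul_cancel₀ hs2, one_smul]
      rw [e3, e2]
      module
    have e4 : Xb Q (C.ev 0) (phi C α w2) = Xb Q (C.ev 0) (phi C α w1) := by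
      apply Xb_eq_of_mem_span C T1 T2 (Submodule.subset_span (by simp))
      rw [e1]
      exact Submodule.smul_mem _ _ (Submodule.subset_span (by simp))
    rw [← I1, ← I2] at e4
    have e5 := congrArg (fun Z => img α⁻¹ Z) e4
    simp only [image_symm_image] at e5
    have hm : pr Q (Eg Q (C.ev 0) ((1 : F) • w2)) ∈ Xb Q (C.ev 0) w1 := by
      rw [← e5]; exact root_mem_Xb _ _ 1
    obtain ⟨-, h2⟩ := span_of_root_mem C p (ts_e0_of_inW C hw1 hts.qu hts.u_ne)
      (ts_e0_of_inW C hw2 hts.qv hts.v_ne) one_ne_zero hm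
    obtain ⟨a, b, hab⟩ := Submodule.mem_span_pair.1 h2
    have ha : a = 0 := by
      have := hw2.2
      rw [← hab, polar_add_left, polar_smul_left, polar_smul_left, C.ef_same, hw1.2] at this
      simpa using this
    rw [ha, zero_smul, zero_add] at hab
    have := (hts.ind b (-1) (by rw [hab]; module)).2
    have h10 : (1 : F) = 0 := by linear_combination -this
    exact one_ne_zero h10
  refine ⟨?_, hs2⟩
  rw [hs2, zero_smul, add_zero] at h
  rcases smul_eq_zero.1 h with h1 | h1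
  · exact h1
  · exact absurd h1 (phi_ne_zero C p α hE hw1 hts.u_ne)

/-- the scalar maps of two independent perpendicular singular vectors coincide -/
lemma scal_eq {w1 w2 : ι → F} (hw1 : InW C w1) (hw2 : InW C w2) (hts : TS Q w1 w2)
    {t t1 t2 : F} (h1 : phi C α (t • w1) = t1 • phi C α w1)
    (h2 : phi C α (t • w2) = t2 • phi C α w2) : t1 = t2 := by
  have hQ12 : Q (w1 + w2) = 0 := by
    rw [QuadraticMap.map_add Q, hts.qu, hts.qv, hts.uv]; simp
  have h120 : w1 + w2 ≠ 0 := by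
    intro h
    have := (hts.ind 1 1 (by rw [one_smul, one_smul]; exact h)).1
    exact one_ne_zero this
  obtain ⟨t3, h3⟩ := phi_smul_exists C p α hE (hw1.add hw2) hQ12 h120 t
  rw [smul_add, phi_add C p α hE (hw1.smul t) (hw2.smul t), h1, h2,
    phi_add C p α hE hw1 hw2] at h3
  have h4 : (t1 - t3) • phi C α w1 + (t2 - t3) • phi C α w2 = 0 := by
    have : t1 • phi C α w1 + t2 • phi C α w2 - t3 • (phi C α w1 + phi C α w2) = 0 := by
      rw [h3, sub_self]
    rw [← this]
    module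
  obtain ⟨e1, e2⟩ := phi_indep C p α hE hw1 hw2 hts _ _ h4
  rw [sub_eq_zero] at e1 e2
  rw [e1, e2]

lemma tau_spec (t : F) : phi C α (t • C.ev 1) = tau C α t • phi C α (C.ev 1) := by
  have h := phi_smul_exists C p α hE (inW_ev C (by decide : (1 : Fin 3) ≠ 0)) (C.q_ev 1)
    (C.ev_ne 1) t
  unfold tau
  rw [dif_pos h]
  exact Classical.choose_spec h

/-- the scalar map is the same for all singular vectors of `W` -/
lemma tau_gen {w : ι → F} (hw : InW C w) (hQ : Q w = 0) (hw0 : w ≠ 0) (t : F) :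
    phi C α (t • w) = tau C α t • phi C α w := by
  have h10 : (1 : Fin 3) ≠ 0 := by decide
  have h20 : (2 : Fin 3) ≠ 0 := by decide
  have h12 : (1 : Fin 3) ≠ 2 := by decide
  have h21 : (2 : Fin 3) ≠ 1 := by decide
  obtain ⟨t', ht'⟩ := phi_smul_exists C p α hE hw hQ hw0 t
  rw [ht']
  congr 1
  by_cases h1 : polar ⇑Q w (C.ev 1) = 0
  · by_cases h2 : ∃ d : F, w = d • C.ev 1
    · obtain ⟨d, rfl⟩ := h2
      have hd : d ≠ 0 := by
        rintro rfl
        exact hw0 (zero_smul _ _)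
      have hts1 : TS Q (C.ev 1) (C.ev 2) := C.ts_ee h12
      have hts2 : TS Q (d • C.ev 1) (C.ev 2) := by
        have := hts1.of_comb (α := d) (β := 0) (γ := 0) (δ := 1) (by simpa using hd)
        simpa using this
      obtain ⟨t2, ht2⟩ := phi_smul_exists C p α hE (inW_ev C h20) (C.q_ev 2) (C.ev_ne 2) t
      have e1 := scal_eq C p α hE (inW_ev C h10) (inW_ev C h20) hts1 (tau_spec C p α hE t) ht2
      have e2 := scal_eq C p α hE hw (inW_ev C h20) hts2 ht' ht2
      rw [e2, e1]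
    · push Not at h2
      have hts : TS Q (C.ev 1) w :=
        TS.mk' (C.q_ev 1) hQ (by rw [polar_comm]; exact h1) (C.ev_ne 1) h2
      exact (scal_eq C p α hE (inW_ev C h10) hw hts (tau_spec C p α hE t) ht').symm
  · have hw3 : InW C (C.ev 2 + (-(polar ⇑Q w (C.ev 2)) / polar ⇑Q w (C.ev 1)) • C.ev 1) :=
      (inW_ev C h20).add ((inW_ev C h10).smul _)
    have hQ3 : Q (C.ev 2 + (-(polar ⇑Q w (C.ev 2)) / polar ⇑Q w (C.ev 1)) • C.ev 1) = 0 := by
      have := (C.ts_ee h21).Q_comb 1 (-(polar ⇑Q w (C.ev 2)) / polar ⇑Q w (C.ev 1))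
      rwa [one_smul] at this
    have h3f : polar ⇑Q (C.ev 2 + (-(polar ⇑Q w (C.ev 2)) / polar ⇑Q w (C.ev 1)) • C.ev 1)
        (C.fv 2) = 1 := by
      rw [polar_add_left, polar_smul_left, C.ef_same, C.ef_ne h12]; simp
    have h3e : polar ⇑Q (C.ev 2 + (-(polar ⇑Q w (C.ev 2)) / polar ⇑Q w (C.ev 1)) • C.ev 1)
        (C.ev 1) = 0 := by
      rw [polar_add_left, polar_smul_left, C.ee, C.ee]; simp
    have h3w : polar ⇑Q w (C.ev 2 + (-(polar ⇑Q w (C.ev 2)) / polar ⇑Q w (C.ev 1)) • C.ev 1)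
        = 0 := by
      rw [polar_add_right, polar_smul_right, smul_eq_mul]
      field_simp
      ring
    have hts1 : TS Q (C.ev 1)
        (C.ev 2 + (-(polar ⇑Q w (C.ev 2)) / polar ⇑Q w (C.ev 1)) • C.ev 1) := by
      refine TS.mk' (C.q_ev 1) hQ3 (by rw [polar_comm]; exact h3e) (C.ev_ne 1) ?_
      intro c hc
      have := h3f
      rw [hc, polar_smul_left, C.ef_ne h12, smul_zero] at this
      exact zero_ne_one this
    have hts2 : TS Q w
        (C.ev 2 + (-(polar ⇑Q w (C.ev 2)) / polar ⇑Q w (C.ev 1)) • C.ev 1) := by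
      refine TS.mk' hQ hQ3 h3w hw0 ?_
      intro c hc
      have e1 := h3e
      rw [hc, polar_smul_left, smul_eq_mul] at e1
      rcases mul_eq_zero.1 e1 with h | h
      · have := h3f
        rw [hc, h, zero_smul] at this
        simp [polar] at this
      · exact h1 h
    obtain ⟨t3, ht3⟩ := phi_smul_exists C p α hE hw3 hQ3 hts1.v_ne t
    have e1 := scal_eq C p α hE (inW_ev C h10) hw3 hts1 (tau_spec C p α hE t) ht3
    have e2 := scal_eq C p α hE hw hw3 hts2 ht' ht3
    rw [e2, e1]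

lemma phi_e1_ne : phi C α (C.ev 1) ≠ 0 :=
  phi_ne_zero C p α hE (inW_ev C (by decide : (1 : Fin 3) ≠ 0)) (C.ev_ne 1)

lemma tau_zero : tau C α 0 = 0 := by
  have h := tau_spec C p α hE 0
  rw [zero_smul, phi_zero C p α hE] at h
  rcases smul_eq_zero.1 h.symm with h1 | h1
  · exact h1
  · exact absurd h1 (phi_e1_ne C p α hE)

lemma tau_one : tau C α 1 = 1 := by
  have h := tau_spec C p α hE 1
  rw [one_smul] at h
  have h2 : (tau C α 1 - 1) • phi C α (C.ev 1) = 0 := by
    rw [sub_smul, one_smul, ← h, sub_self]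
  rcases smul_eq_zero.1 h2 with h1 | h1
  · exact sub_eq_zero.1 h1
  · exact absurd h1 (phi_e1_ne C p α hE)

lemma tau_add (s t : F) : tau C α (s + t) = tau C α s + tau C α t := by
  have h10 : (1 : Fin 3) ≠ 0 := by decide
  have h := tau_spec C p α hE (s + t)
  rw [add_smul, phi_add C p α hE ((inW_ev C h10).smul s) ((inW_ev C h10).smul t),
    tau_spec C p α hE s, tau_spec C p α hE t] at h
  have h2 : (tau C α (s + t) - (tau C α s + tau C α t)) • phi C α (C.ev 1) = 0 := by
    rw [sub_smul, ← h]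
    module
  rcases smul_eq_zero.1 h2 with h1 | h1
  · exact sub_eq_zero.1 h1
  · exact absurd h1 (phi_e1_ne C p α hE)

lemma tau_mul (s t : F) : tau C α (s * t) = tau C α s * tau C α t := by
  have h10 : (1 : Fin 3) ≠ 0 := by decide
  by_cases ht : t = 0
  · rw [ht, mul_zero, tau_zero C p α hE, mul_zero]
  · have h := tau_spec C p α hE (s * t)
    have hts : TS Q (C.ev 1) (C.ev 2) := C.ts_ee (by decide)
    rw [← smul_smul, tau_gen C p α hE ((inW_ev C h10).smul t)
      (by rw [QuadraticMap.map_smul, C.q_ev, smul_zero]) (smul_ne_zero ht (C.ev_ne 1)) s,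
      tau_spec C p α hE t, smul_smul] at h
    have h2 : (tau C α (s * t) - tau C α s * tau C α t) • phi C α (C.ev 1) = 0 := by
      rw [sub_smul, ← h, sub_self]
    rcases smul_eq_zero.1 h2 with h1 | h1
    · exact sub_eq_zero.1 h1
    · exact absurd h1 (phi_e1_ne C p α hE)

/-- `φ` is `τ`-semilinear on `W` -/
lemma phi_smul {w : ι → F} (hw : InW C w) (t : F) :
    phi C α (t • w) = tau C α t • phi C α w := by
  have hmem := C.span_sing 1 ({C.ev 0, C.fv 0} : Set (ι → F))
    (by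
      intro b hb
      simp only [Set.mem_insert_iff, Set.mem_singleton_iff] at hb
      rcases hb with rfl | rfl
      · exact ⟨C.ee 1 0, C.fe_ne (by decide)⟩
      · exact ⟨C.ef_ne (by decide), C.ff 1 0⟩)
    w
    (by
      intro b hb
      simp only [Set.mem_insert_iff, Set.mem_singleton_iff] at hb
      rcases hb with rfl | rfl
      · exact hw.1
      · exact hw.2)
  have key : InW C w ∧ ∀ t : F, phi C α (t • w) = tau C α t • phi C α w := by
    refine Submodule.span_induction (p := fun w _ => InW C w ∧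
      ∀ t : F, phi C α (t • w) = tau C α t • phi C α w) ?_ ?_ ?_ ?_ hmem
    · rintro z ⟨hz, hzA⟩
      have hzW : InW C z := ⟨hzA _ (by simp), hzA _ (by simp)⟩
      refine ⟨hzW, ?_⟩
      intro t
      by_cases hz0 : z = 0
      · rw [hz0, smul_zero, phi_zero C p α hE, smul_zero]
      · exact tau_gen C p α hE hzW hz hz0 t
    · refine ⟨inW_zero C, ?_⟩
      intro t
      rw [smul_zero, phi_zero C p α hE, smul_zero]
    · rintro y z _ _ ⟨hy, hy'⟩ ⟨hz, hz'⟩
      refine ⟨hy.add hz, ?_⟩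
      intro t
      rw [smul_add, phi_add C p α hE (hy.smul t) (hz.smul t), hy', hz', phi_add C p α hE hy hz,
        smul_add]
    · rintro c y _ ⟨hy, hy'⟩
      refine ⟨hy.smul c, ?_⟩
      intro t
      rw [smul_smul, hy', hy', tau_mul C p α hE, smul_smul]
  exact key.2 t

lemma phi_neg {w : ι → F} (hw : InW C w) : phi C α (-w) = - phi C α w := by
  have h := phi_add C p α hE hw hw.neg
  rw [add_neg_cancel, phi_zero C p α hE] at h
  exact (neg_eq_of_add_eq_zero_right h.symm).symm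

lemma phi_sub {w w' : ι → F} (hw : InW C w) (hw' : InW C w') :
    phi C α (w - w') = phi C α w - phi C α w' := by
  rw [sub_eq_add_neg, phi_add C p α hE hw hw'.neg, phi_neg C p α hE hw', sub_eq_add_neg]

end ctx

end Cfsg.Agent.Lib.Helper5.AutOrth
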