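import Mathlib
import Cfsg.Agent.Lib.Helper5.AutOrthField

set_option autoImplicit false
set_option linter.unusedSimpArgs false
set_option linter.unusedVariables false
set_option linter.unnecessarySeqFocus false
set_option linter.unusedSectionVars false
set_option linter.style.haveILetI false

/-!
# The semilinear map is a semisimilarity
-/

namespace Cfsg.Agent.Lib.Helper5.AutOrth

open Matrix Module QuadraticMap
open Cfsg.Agent.Lib.Helper37 Cfsg.Agent.Lib.Helper8 Cfsg.Agent.Lib.Helper13
open scoped Classical Pointwise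

variable {ι : Type} [Fintype ι] [DecidableEq ι] {F : Type*} [Field F] [Fintype F]
variable {Q : QuadraticForm F (ι → F)} {k : ℕ} {e f : Fin k → ι → F}

/-- the multiplier of the semilinear map -/
noncomputable def cc (C : Ctx Q k e f) (α : MulAut (Cfsg.POmega F ⇑Q)) : F :=
  polar ⇑Q (phi C α (C.ev 1)) (phi C α (C.fv 1))

/-- projection to `W` -/
def projW (C : Ctx Q k e f) (x : ι → F) : ι → F :=
  x - polar ⇑Q x (C.fv 0) • C.ev 0 - polar ⇑Q x (C.ev 0) • C.fv 0

/-- the semilinear extension of `φ` -/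
noncomputable def ghat (C : Ctx Q k e f) (α : MulAut (Cfsg.POmega F ⇑Q)) (x : ι → F) : ι → F :=
  phi C α (projW C x) + ((cc C α * tau C α (polar ⇑Q x (C.fv 0))) • C.ev 0 +
    tau C α (polar ⇑Q x (C.ev 0)) • C.fv 0)

/-- the matrix of the semilinear extension -/
noncomputable def gmat (C : Ctx Q k e f) (α : MulAut (Cfsg.POmega F ⇑Q)) : Matrix ι ι F :=
  Matrix.of fun i j => ghat C α (Pi.single j 1) i

section proj

variable (C : Ctx Q k e f)

lemma projW_inW (x : ι → F) : InW C (projW C x) := by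
  unfold projW
  constructor
  · rw [polar_sub_left, polar_sub_left, polar_smul_left, polar_smul_left, C.ee, C.fe_same]; simp
  · rw [polar_sub_left, polar_sub_left, polar_smul_left, polar_smul_left, C.ef_same, C.ff]; simp

lemma projW_add (x y : ι → F) : projW C (x + y) = projW C x + projW C y := by
  unfold projW
  rw [polar_add_left, polar_add_left]
  module

lemma projW_smul (t : F) (x : ι → F) : projW C (t • x) = t • projW C x := by
  unfold projW
  rw [polar_smul_left, polar_smul_left, smul_eq_mul, smul_eq_mul]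
  module

lemma projW_of_inW {w : ι → F} (hw : InW C w) : projW C w = w := by
  unfold projW
  rw [hw.1, hw.2]; simp

lemma decomp (x : ι → F) :
    x = projW C x + (polar ⇑Q x (C.fv 0) • C.ev 0 + polar ⇑Q x (C.ev 0) • C.fv 0) := by
  unfold projW; abel

omit [Fintype F] in
/-- the value of `Q` on a vector plus a vector of a perpendicular plane spanned by two singular
vectors -/
lemma Q_hyp_decomp {u v w : ι → F} (hu : Q u = 0) (hv : Q v = 0) (h1 : polar ⇑Q w u = 0)
    (h2 : polar ⇑Q w v = 0) (a b : F) :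
    Q (w + (a • u + b • v)) = Q w + a * b * polar ⇑Q u v := by
  have e1 : Q (w + (a • u + b • v)) = Q w + Q (a • u + b • v) + polar ⇑Q w (a • u + b • v) :=
    QuadraticMap.map_add Q _ _
  have e2 : Q (a • u + b • v) = a * b * polar ⇑Q u v := by
    rw [QuadraticMap.map_add Q, QuadraticMap.map_smul, QuadraticMap.map_smul, hu, hv,
      polar_smul_left, polar_smul_right]
    simp only [smul_eq_mul, mul_zero, zero_add]
    ring
  have e3 : polar ⇑Q w (a • u + b • v) = 0 := by
    rw [polar_add_right, polar_smul_right, polar_smul_right, h1, h2]; simp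
  rw [e1, e2, e3, add_zero]

/-- the value of `Q` on a vector of `W` plus a vector of the hyperbolic plane -/
lemma Q_decomp {w : ι → F} (hw : InW C w) (a b : F) :
    Q (w + (a • C.ev 0 + b • C.fv 0)) = Q w + a * b := by
  rw [Q_hyp_decomp (C.q_ev 0) (C.q_fv 0) hw.1 hw.2, C.ef_same, mul_one]

end proj

section ctx

variable (C : Ctx Q k e f) (p : ℕ) [Fact p.Prime] [CharP F p]
variable (α : MulAut (Cfsg.POmega F ⇑Q))
  (hE : (Qb Q (C.ev 0)).map α.toMonoidHom = Qb Q (C.ev 0))
include C p hE

lemma tau_neg (t : F) : tau C α (-t) = - tau C α t := by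
  have h := tau_add C p α hE (-t) t
  rw [neg_add_cancel, tau_zero C p α hE] at h
  exact (neg_eq_of_add_eq_zero_left h.symm).symm

/-- perpendicular singular vectors have perpendicular images -/
lemma phi_perp_sing {z x : ι → F} (hz : InW C z) (hx : InW C x) (hQz : Q z = 0) (hQx : Q x = 0)
    (hzx : polar ⇑Q z x = 0) : polar ⇑Q (phi C α z) (phi C α x) = 0 := by
  have h1 : Q (z + x) = 0 := by rw [QuadraticMap.map_add Q, hQz, hQx, hzx]; simp
  have h2 := phi_sing C p α hE (hz.add hx) h1
  rw [phi_add C p α hE hz hx, QuadraticMap.map_add Q, phi_sing C p α hE hz hQz,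
    phi_sing C p α hE hx hQx, zero_add, zero_add] at h2
  exact h2

lemma phi_perp_std {z : ι → F} (hz : InW C z) (h1 : polar ⇑Q z (C.ev 1) = 0)
    (h2 : polar ⇑Q z (C.fv 1) = 0) :
    polar ⇑Q (phi C α z) (phi C α (C.ev 1)) = 0 ∧
      polar ⇑Q (phi C α z) (phi C α (C.fv 1)) = 0 := by
  have h10 : (1 : Fin 3) ≠ 0 := by decide
  have hmem := C.span_sing 2 ({C.ev 0, C.fv 0, C.ev 1, C.fv 1} : Set (ι → F))
    (by
      intro b hb
      simp only [Set.mem_insert_iff, Set.mem_singleton_iff] at hb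
      rcases hb with rfl | rfl | rfl | rfl
      · exact ⟨C.ee 2 0, C.fe_ne (by decide)⟩
      · exact ⟨C.ef_ne (by decide), C.ff 2 0⟩
      · exact ⟨C.ee 2 1, C.fe_ne (by decide)⟩
      · exact ⟨C.ef_ne (by decide), C.ff 2 1⟩)
    z
    (by
      intro b hb
      simp only [Set.mem_insert_iff, Set.mem_singleton_iff] at hb
      rcases hb with rfl | rfl | rfl | rfl
      · exact hz.1
      · exact hz.2
      · exact h1
      · exact h2)
  have key : InW C z ∧ polar ⇑Q (phi C α z) (phi C α (C.ev 1)) = 0 ∧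
      polar ⇑Q (phi C α z) (phi C α (C.fv 1)) = 0 := by
    refine Submodule.span_induction (p := fun z _ => InW C z ∧
      polar ⇑Q (phi C α z) (phi C α (C.ev 1)) = 0 ∧
      polar ⇑Q (phi C α z) (phi C α (C.fv 1)) = 0) ?_ ?_ ?_ ?_ hmem
    · rintro y ⟨hy, hyA⟩
      have hyW : InW C y := ⟨hyA _ (by simp), hyA _ (by simp)⟩
      exact ⟨hyW, phi_perp_sing C p α hE hyW (inW_ev C h10) hy (C.q_ev 1) (hyA _ (by simp)),
        phi_perp_sing C p α hE hyW (inW_fv C h10) hy (C.q_fv 1) (hyA _ (by simp))⟩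
    · refine ⟨inW_zero C, ?_, ?_⟩
      · rw [phi_zero C p α hE]; simp [polar]
      · rw [phi_zero C p α hE]; simp [polar]
    · rintro y y' _ _ ⟨hy, hy1, hy2⟩ ⟨hy', hy1', hy2'⟩
      refine ⟨hy.add hy', ?_, ?_⟩
      · rw [phi_add C p α hE hy hy', polar_add_left, hy1, hy1', add_zero]
      · rw [phi_add C p α hE hy hy', polar_add_left, hy2, hy2', add_zero]
    · rintro c y _ ⟨hy, hy1, hy2⟩
      refine ⟨hy.smul c, ?_, ?_⟩
      · rw [phi_smul C p α hE hy, polar_smul_left, hy1, smul_zero]
      · rw [phi_smul C p α hE hy, polar_smul_left, hy2, smul_zero]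
  exact key.2

lemma Q_phi_perp {z : ι → F} (hz : InW C z) (h1 : polar ⇑Q z (C.ev 1) = 0)
    (h2 : polar ⇑Q z (C.fv 1) = 0) : Q (phi C α z) = cc C α * tau C α (Q z) := by
  have h10 : (1 : Fin 3) ≠ 0 := by decide
  obtain ⟨p1, p2⟩ := phi_perp_std C p α hE hz h1 h2
  have hv : InW C (z + ((-Q z) • C.ev 1 + C.fv 1)) :=
    hz.add (((inW_ev C h10).smul _).add (inW_fv C h10))
  have hQv : Q (z + ((-Q z) • C.ev 1 + C.fv 1)) = 0 := by
    rw [QuadraticMap.map_add Q, QuadraticMap.map_add Q, QuadraticMap.map_smul, C.q_ev, C.q_fv,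
      polar_add_right, polar_smul_right, h1, h2, polar_smul_left, C.ef_same]
    simp
  have h3 := phi_sing C p α hE hv hQv
  rw [phi_add C p α hE hz (((inW_ev C h10).smul _).add (inW_fv C h10)),
    phi_add C p α hE ((inW_ev C h10).smul _) (inW_fv C h10), phi_smul C p α hE (inW_ev C h10),
    tau_neg C p α hE, QuadraticMap.map_add Q, QuadraticMap.map_add Q, QuadraticMap.map_smul,
    phi_sing C p α hE (inW_ev C h10) (C.q_ev 1), phi_sing C p α hE (inW_fv C h10) (C.q_fv 1),
    polar_add_right, polar_smul_right, p1, p2, polar_smul_left] at h3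
  simp only [smul_eq_mul, mul_zero, zero_add, add_zero] at h3
  unfold cc
  linear_combination h3

/-- **`φ` multiplies the quadratic form by `c` after applying `τ`** -/
lemma Q_phi {w : ι → F} (hw : InW C w) : Q (phi C α w) = cc C α * tau C α (Q w) := by
  have h10 : (1 : Fin 3) ≠ 0 := by decide
  have hz : InW C (w - polar ⇑Q w (C.fv 1) • C.ev 1 - polar ⇑Q w (C.ev 1) • C.fv 1) :=
    (hw.sub ((inW_ev C h10).smul _)).sub ((inW_fv C h10).smul _)
  have hz1 : polar ⇑Q (w - polar ⇑Q w (C.fv 1) • C.ev 1 - polar ⇑Q w (C.ev 1) • C.fv 1)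
      (C.ev 1) = 0 := by
    rw [polar_sub_left, polar_sub_left, polar_smul_left, polar_smul_left, C.ee, C.fe_same]; simp
  have hz2 : polar ⇑Q (w - polar ⇑Q w (C.fv 1) • C.ev 1 - polar ⇑Q w (C.ev 1) • C.fv 1)
      (C.fv 1) = 0 := by
    rw [polar_sub_left, polar_sub_left, polar_smul_left, polar_smul_left, C.ef_same, C.ff]; simp
  obtain ⟨p1, p2⟩ := phi_perp_std C p α hE hz hz1 hz2
  have hQz := Q_phi_perp C p α hE hz hz1 hz2
  set z := w - polar ⇑Q w (C.fv 1) • C.ev 1 - polar ⇑Q w (C.ev 1) • C.fv 1 with hzdef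
  have hdec : w = z + (polar ⇑Q w (C.fv 1) • C.ev 1 + polar ⇑Q w (C.ev 1) • C.fv 1) := by
    rw [hzdef]; abel
  have hQw : Q w = Q z + polar ⇑Q w (C.fv 1) * polar ⇑Q w (C.ev 1) := by
    conv_lhs => rw [hdec]
    rw [Q_hyp_decomp (C.q_ev 1) (C.q_fv 1) hz1 hz2, C.ef_same, mul_one]
  conv_lhs => rw [hdec]
  rw [phi_add C p α hE hz (((inW_ev C h10).smul _).add ((inW_fv C h10).smul _)),
    phi_add C p α hE ((inW_ev C h10).smul _) ((inW_fv C h10).smul _),
    phi_smul C p α hE (inW_ev C h10), phi_smul C p α hE (inW_fv C h10),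
    Q_hyp_decomp (phi_sing C p α hE (inW_ev C h10) (C.q_ev 1))
      (phi_sing C p α hE (inW_fv C h10) (C.q_fv 1)) p1 p2, hQz, hQw, tau_add C p α hE,
    tau_mul C p α hE]
  unfold cc
  ring

/-- the multiplier is nonzero -/
lemma cc_ne_zero : cc C α ≠ 0 := by
  have h10 : (1 : Fin 3) ≠ 0 := by decide
  intro hc
  have hw : InW C (C.ev 1 + C.fv 1) := (inW_ev C h10).add (inW_fv C h10)
  have hQ1 : Q (C.ev 1 + C.fv 1) = 1 := by
    rw [QuadraticMap.map_add Q, C.q_ev, C.q_fv, C.ef_same]; simp
  have hw0 : C.ev 1 + C.fv 1 ≠ 0 := by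
    intro h
    rw [h, QuadraticMap.map_zero] at hQ1
    exact zero_ne_one hQ1
  have h1 := Q_phi C p α hE hw
  rw [hc, zero_mul] at h1
  obtain ⟨hφW, hφ⟩ := phi_spec C p α hE hw
  have hφ0 := phi_ne_zero C p α hE hw hw0
  have hts := ts_e0_of_inW C hφW h1 hφ0
  have hroot : IsRootElt Q (α (pr Q (Eg Q (C.ev 0) (C.ev 1 + C.fv 1)))) := by
    rw [hφ]
    refine ⟨?_, Xb Q (C.ev 0) (phi C α (C.ev 1 + C.fv 1)), Xb_mem_roots hts, ?_⟩
    · have := (pr_root_eq_one_iff C hts 1).not.2 one_ne_zero
      rwa [one_smul] at this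
    · have := root_mem_Xb (Q := Q) (C.ev 0) (phi C α (C.ev 1 + C.fv 1)) 1
      rwa [one_smul] at this
  rw [isRootElt_iff (rootPerm_all C p α) (rootPerm_all C p α⁻¹)] at hroot
  obtain ⟨-, X, ⟨u, v, huv, rfl⟩, hm⟩ := hroot
  exact not_root_of_nonsing C p (C.q_ev 0) hw.e0 (C.ev_ne 0)
    (by rw [hQ1]; exact one_ne_zero) huv hm

/-- the field automorphism -/
noncomputable def tauEquiv : F ≃+* F :=
  RingEquiv.ofBijective
    ({ toFun := tau C α
       map_one' := tau_one C p α hE
       map_mul' := tau_mul C p α hE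
       map_zero' := tau_zero C p α hE
       map_add' := tau_add C p α hE } : F →+* F)
    ((Finite.injective_iff_bijective).1 (RingHom.injective _))

lemma tauEquiv_apply (t : F) : tauEquiv C p α hE t = tau C α t := rfl

lemma ghat_add (x y : ι → F) : ghat C α (x + y) = ghat C α x + ghat C α y := by
  unfold ghat
  rw [projW_add, phi_add C p α hE (projW_inW C x) (projW_inW C y), polar_add_left,
    polar_add_left, tau_add C p α hE, tau_add C p α hE]
  module

lemma ghat_smul (t : F) (x : ι → F) : ghat C α (t • x) = tau C α t • ghat C α x := by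
  unfold ghat
  rw [projW_smul, phi_smul C p α hE (projW_inW C x), polar_smul_left, polar_smul_left,
    smul_eq_mul, smul_eq_mul, tau_mul C p α hE, tau_mul C p α hE]
  module

lemma ghat_zero : ghat C α 0 = 0 := by
  have := ghat_smul C p α hE 0 0
  rw [smul_zero, tau_zero C p α hE, zero_smul] at this
  exact this

lemma ghat_sum {κ : Type*} (s : Finset κ) (v : κ → (ι → F)) :
    ghat C α (∑ j ∈ s, v j) = ∑ j ∈ s, ghat C α (v j) := by
  induction s using Finset.induction_on with
  | empty => simp [ghat_zero C p α hE]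
  | insert a s ha ih => rw [Finset.sum_insert ha, Finset.sum_insert ha, ghat_add C p α hE, ih]

lemma ghat_inW {w : ι → F} (hw : InW C w) : ghat C α w = phi C α w := by
  unfold ghat
  rw [projW_of_inW C hw, hw.1, hw.2, tau_zero C p α hE]
  simp

lemma ghat_e0 : ghat C α (C.ev 0) = cc C α • C.ev 0 := by
  unfold ghat projW
  rw [C.ee, C.ef_same, tau_zero C p α hE, tau_one C p α hE]
  simp [phi_zero C p α hE]

lemma ghat_f0 : ghat C α (C.fv 0) = C.fv 0 := by
  unfold ghat projW
  rw [C.ff, C.fe_same, tau_zero C p α hE, tau_one C p α hE]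
  simp [phi_zero C p α hE]

/-- **the semilinear extension is a semisimilarity** -/
lemma Q_ghat (x : ι → F) : Q (ghat C α x) = cc C α * tau C α (Q x) := by
  have h1 : Q x = Q (projW C x) + polar ⇑Q x (C.fv 0) * polar ⇑Q x (C.ev 0) := by
    conv_lhs => rw [decomp C x]
    exact Q_decomp C (projW_inW C x) _ _
  unfold ghat
  rw [Q_decomp C (phi_spec C p α hE (projW_inW C x)).1, Q_phi C p α hE (projW_inW C x), h1,
    tau_add C p α hE, tau_mul C p α hE]
  ring

lemma polar_ghat (x y : ι → F) :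
    polar ⇑Q (ghat C α x) (ghat C α y) = cc C α * tau C α (polar ⇑Q x y) := by
  unfold polar
  rw [← ghat_add C p α hE, Q_ghat C p α hE, Q_ghat C p α hE, Q_ghat C p α hE]
  have : tau C α (Q (x + y) - Q x - Q y) = tau C α (Q (x + y)) - tau C α (Q x) - tau C α (Q y) := by
    rw [sub_eq_add_neg, sub_eq_add_neg, tau_add C p α hE, tau_add C p α hE, tau_neg C p α hE,
      tau_neg C p α hE]
    ring
  rw [this]
  ring

lemma gmat_mulVec (x : ι → F) :
    gmat C α *ᵥ (fun i => tau C α (x i)) = ghat C α x := by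
  have hx : x = ∑ j, x j • (Pi.single j (1 : F) : ι → F) := by
    funext i
    simp [Finset.sum_apply, Pi.single_apply]
  conv_rhs => rw [hx, ghat_sum C p α hE]
  funext i
  rw [Finset.sum_apply]
  simp only [Matrix.mulVec, dotProduct, gmat, Matrix.of_apply]
  apply Finset.sum_congr rfl
  intro j _
  rw [ghat_smul C p α hE, Pi.smul_apply, smul_eq_mul, mul_comm]

lemma ghat_injective {x y : ι → F} (h : ghat C α x = ghat C α y) : x = y := by
  have h1 : ∀ z, polar ⇑Q (x - y) z = 0 := by
    intro z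
    have h2 := polar_ghat C p α hE (x - y) z
    have h3 : ghat C α (x - y) = 0 := by
      have := ghat_add C p α hE (x - y) y
      rw [sub_add_cancel, h] at this
      exact right_eq_add.1 this
    rw [h3] at h2
    have h4 : tau C α (polar ⇑Q (x - y) z) = 0 := by
      have : cc C α * tau C α (polar ⇑Q (x - y) z) = 0 := by
        rw [← h2]; simp [polar]
      rcases mul_eq_zero.1 this with h5 | h5
      · exact absurd h5 (cc_ne_zero C p α hE)
      · exact h5
    have h5 : tauEquiv C p α hE (polar ⇑Q (x - y) z) = tauEquiv C p α hE 0 := by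
      rw [tauEquiv_apply, tauEquiv_apply, h4, tau_zero C p α hE]
    exact (tauEquiv C p α hE).injective h5
  have h6 : x - y = 0 := by
    apply C.nd.1
    intro z
    exact h1 z
  exact sub_eq_zero.1 h6

lemma gmat_isUnit : IsUnit (gmat C α) := by
  rw [← Matrix.mulVec_injective_iff_isUnit]
  intro y y' h
  have hy : y = fun i => tau C α ((tauEquiv C p α hE).symm (y i)) := by
    funext i
    rw [← tauEquiv_apply C p α hE, RingEquiv.apply_symm_apply]
  have hy' : y' = fun i => tau C α ((tauEquiv C p α hE).symm (y' i)) := by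
    funext i
    rw [← tauEquiv_apply C p α hE, RingEquiv.apply_symm_apply]
  rw [hy, hy', gmat_mulVec C p α hE, gmat_mulVec C p α hE] at h
  have := ghat_injective C p α hE h
  rw [hy, hy']
  funext i
  rw [congrFun this i]

end ctx

end Cfsg.Agent.Lib.Helper5.AutOrth
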