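import Mathlib
import Cfsg.Agent.Lib.Helper37.AutPOmega
import Cfsg.Agent.Lib.Helper5.AutOrthForm

set_option autoImplicit false
set_option linter.unusedSimpArgs false
set_option linter.unusedVariables false
set_option linter.unnecessarySeqFocus false
set_option linter.unusedSectionVars false
set_option linter.style.haveILetI false

/-!
# Automorphisms of `PΩ(Q)` induced by semisimilarities
-/

namespace Cfsg.Agent.Lib.Helper5.AutOrth

open Matrix Module QuadraticMap
open Cfsg.Agent.Lib.Helper37 Cfsg.Agent.Lib.Helper8 Cfsg.Agent.Lib.Helper13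
open scoped Classical Pointwise

universe u

variable {ι : Type} [Fintype ι] [DecidableEq ι] {F : Type u} [Field F] [Fintype F]

/-- the semilinear map `x ↦ g σ(x)` -/
def semiMap (g : GL ι F) (σ : F ≃+* F) (x : ι → F) : ι → F :=
  (g : Matrix ι ι F) *ᵥ (fun i => σ (x i))

/-- the twisted conjugation `s ↦ g σ(s) g⁻¹` of `GL` -/
def twGL (g : GL ι F) (σ : F ≃+* F) : GL ι F →* GL ι F :=
  (MulAut.conj g).toMonoidHom.comp (Matrix.GeneralLinearGroup.map (σ : F →+* F))

lemma twGL_val (g : GL ι F) (σ : F ≃+* F) (s : GL ι F) :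
    ((twGL g σ s : GL ι F) : Matrix ι ι F) =
      (g : Matrix ι ι F) * ((s : Matrix ι ι F).map σ) * ((g⁻¹ : GL ι F) : Matrix ι ι F) := rfl

lemma map_mulVec_sigma (σ : F ≃+* F) (M : Matrix ι ι F) (x : ι → F) :
    (M.map σ) *ᵥ (fun i => σ (x i)) = fun i => σ ((M *ᵥ x) i) := by
  funext i
  exact (RingHom.map_mulVec (σ : F →+* F) M x i).symm

lemma semiMap_add (g : GL ι F) (σ : F ≃+* F) (x y : ι → F) :
    semiMap g σ (x + y) = semiMap g σ x + semiMap g σ y := by
  unfold semiMap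
  rw [← Matrix.mulVec_add]
  congr 1
  funext i
  simp

lemma semiMap_smul (g : GL ι F) (σ : F ≃+* F) (t : F) (x : ι → F) :
    semiMap g σ (t • x) = σ t • semiMap g σ x := by
  unfold semiMap
  rw [← Matrix.mulVec_smul]
  congr 1
  funext i
  simp

lemma semiMap_neg (g : GL ι F) (σ : F ≃+* F) (x : ι → F) :
    semiMap g σ (-x) = - semiMap g σ x := by
  have := semiMap_smul g σ (-1) x
  rw [neg_smul, one_smul, map_neg, map_one, neg_smul, one_smul] at this
  exact this

lemma semiMap_sub (g : GL ι F) (σ : F ≃+* F) (x y : ι → F) :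
    semiMap g σ (x - y) = semiMap g σ x - semiMap g σ y := by
  rw [sub_eq_add_neg, semiMap_add, semiMap_neg, sub_eq_add_neg]

lemma semiMap_surj (g : GL ι F) (σ : F ≃+* F) (v : ι → F) : ∃ x, semiMap g σ x = v := by
  refine ⟨fun i => σ.symm ((((g⁻¹ : GL ι F) : Matrix ι ι F) *ᵥ v) i), ?_⟩
  unfold semiMap
  simp only [RingEquiv.apply_symm_apply]
  exact Cfsg.Agent.Lib.Helper94.mulVec_inv_mulVec g v

lemma twGL_mulVec (g : GL ι F) (σ : F ≃+* F) (s : GL ι F) (x : ι → F) :
    ((twGL g σ s : GL ι F) : Matrix ι ι F) *ᵥ semiMap g σ x =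
      semiMap g σ ((s : Matrix ι ι F) *ᵥ x) := by
  rw [twGL_val]
  unfold semiMap
  rw [← Matrix.mulVec_mulVec, ← Matrix.mulVec_mulVec]
  congr 1
  have h1 : ((g⁻¹ : GL ι F) : Matrix ι ι F) *ᵥ ((g : Matrix ι ι F) *ᵥ fun i => σ (x i)) =
      fun i => σ (x i) := by
    have := Cfsg.Agent.Lib.Helper94.mulVec_inv_mulVec g⁻¹ (fun i => σ (x i))
    rwa [inv_inv] at this
  rw [h1, map_mulVec_sigma]

lemma twGL_injective (g : GL ι F) (σ : F ≃+* F) : Function.Injective (twGL g σ) := by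
  intro s s' h
  have h1 : Matrix.GeneralLinearGroup.map (σ : F →+* F) s =
      Matrix.GeneralLinearGroup.map (σ : F →+* F) s' := (MulAut.conj g).injective h
  apply Units.ext
  ext i j
  have h2 := congrArg (fun z : GL ι F => (z : Matrix ι ι F) i j) h1
  simp only [Matrix.GeneralLinearGroup.map_apply] at h2
  exact σ.injective h2

variable {Q : (ι → F) → F}

lemma twGL_mem_isom {g : GL ι F} {σ : F ≃+* F} (h : Cfsg.IsSemisimilarityPair Q g σ)
    {s : GL ι F} (hs : s ∈ Cfsg.isometryGroup F Q) : twGL g σ s ∈ Cfsg.isometryGroup F Q := by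
  rw [Cfsg.Agent.Lib.Helper94.mem_isom] at hs ⊢
  intro v
  obtain ⟨x, rfl⟩ := semiMap_surj g σ v
  rw [twGL_mulVec]
  obtain ⟨c, hc⟩ := h
  unfold semiMap
  rw [hc, hc, hs]

/-- the twisted conjugation on the isometry group -/
def twO {g : GL ι F} {σ : F ≃+* F} (h : Cfsg.IsSemisimilarityPair Q g σ) :
    ↥(Cfsg.isometryGroup F Q) →* ↥(Cfsg.isometryGroup F Q) where
  toFun s := ⟨twGL g σ s.1, twGL_mem_isom h s.2⟩
  map_one' := Subtype.ext (map_one _)
  map_mul' a b := Subtype.ext (map_mul _ _ _)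

lemma twO_bijective {g : GL ι F} {σ : F ≃+* F} (h : Cfsg.IsSemisimilarityPair Q g σ) :
    Function.Bijective (twO h) := by
  rw [← Finite.injective_iff_bijective]
  intro a b hab
  apply Subtype.ext
  apply twGL_injective g σ
  exact congrArg Subtype.val hab

/-- the twisted conjugation as an automorphism of the isometry group -/
noncomputable def twAutO {g : GL ι F} {σ : F ≃+* F} (h : Cfsg.IsSemisimilarityPair Q g σ) :
    MulAut ↥(Cfsg.isometryGroup F Q) :=
  MulEquiv.ofBijective (twO h) (twO_bijective h)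

/-- the twisted conjugation as an automorphism of `Ω` -/
noncomputable def twAutOmega {g : GL ι F} {σ : F ≃+* F} (h : Cfsg.IsSemisimilarityPair Q g σ) :
    MulAut ↥(Cfsg.Omega F Q) :=
  MulAut.characteristic (Cfsg.Omega F Q) (twAutO h)

lemma twAutOmega_val {g : GL ι F} {σ : F ≃+* F} (h : Cfsg.IsSemisimilarityPair Q g σ)
    (s : ↥(Cfsg.Omega F Q)) :
    (((twAutOmega h s : ↥(Cfsg.Omega F Q)) : ↥(Cfsg.isometryGroup F Q)) : GL ι F) =
      twGL g σ s.1.1 := rfl

/-- **the automorphism of `PΩ(Q)` induced by a semisimilarity** -/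
noncomputable def semiAut {g : GL ι F} {σ : F ≃+* F} (h : Cfsg.IsSemisimilarityPair Q g σ) :
    MulAut (Cfsg.POmega F Q) :=
  autQuotCenter ↥(Cfsg.Omega F Q) (twAutOmega h)

lemma semiAut_mk {g : GL ι F} {σ : F ≃+* F} (h : Cfsg.IsSemisimilarityPair Q g σ)
    (s : ↥(Cfsg.Omega F Q)) :
    semiAut h (QuotientGroup.mk s) = QuotientGroup.mk (twAutOmega h s) := rfl

lemma semiAut_induced {g : GL ι F} {σ : F ≃+* F} (h : Cfsg.IsSemisimilarityPair Q g σ) :
    Cfsg.IsInducedBySemilinearPOmega Q g σ (semiAut h) := by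
  intro s s' hs
  rw [semiAut_mk]
  congr 1
  apply Subtype.ext
  apply Subtype.ext
  apply Units.ext
  rw [twAutOmega_val, twGL_val, hs]

lemma semiAut_mem_gamma {g : GL ι F} {σ : F ≃+* F} (h : Cfsg.IsSemisimilarityPair Q g σ) :
    semiAut h ∈ Cfsg.gammaPOmega F Q := by
  unfold Cfsg.gammaPOmega Cfsg.autSubgroupOf
  exact Subgroup.subset_closure ⟨g, σ, h, semiAut_induced h⟩

/-- inner automorphisms are induced by isometries -/
lemma conj_mem_gamma (s₀ : ↥(Cfsg.Omega F Q)) :
    MulAut.conj (QuotientGroup.mk s₀ : Cfsg.POmega F Q) ∈ Cfsg.gammaPOmega F Q := by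
  unfold Cfsg.gammaPOmega Cfsg.autSubgroupOf
  apply Subgroup.subset_closure
  refine ⟨s₀.1.1, RingEquiv.refl F, ⟨1, ?_⟩, ?_⟩
  · intro v
    have := (Cfsg.Agent.Lib.Helper94.mem_isom s₀.1.1).1 s₀.1.2 v
    simp only [RingEquiv.refl_apply, Units.val_one, one_mul]
    exact this
  · intro s s' hs
    rw [MulAut.conj_apply, ← QuotientGroup.mk_inv, ← QuotientGroup.mk_mul, ← QuotientGroup.mk_mul]
    congr 1
    apply Subtype.ext
    apply Subtype.ext
    apply Units.ext
    rw [hs]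
    have hmap : ∀ M : Matrix ι ι F, M.map (RingEquiv.refl F) = M := by
      intro M; ext i j; simp
    rw [hmap]
    simp [Units.val_mul]

end Cfsg.Agent.Lib.Helper5.AutOrth
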