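import Mathlib
import Cfsg.Agent.Lib.Helper5.AutOrthSemi

set_option autoImplicit false
set_option linter.unusedSimpArgs false
set_option linter.unusedVariables false
set_option linter.unnecessarySeqFocus false
set_option linter.unusedSectionVars false
set_option linter.style.haveILetI false

/-!
# The semilinear automorphism attached to an automorphism fixing the standard point group
-/

namespace Cfsg.Agent.Lib.Helper5.AutOrth

open Matrix Module QuadraticMap
open Cfsg.Agent.Lib.Helper37 Cfsg.Agent.Lib.Helper8 Cfsg.Agent.Lib.Helper13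
open scoped Classical Pointwise

universe u

variable {ι : Type} [Fintype ι] [DecidableEq ι] {F : Type u} [Field F] [Fintype F]
variable {Q : QuadraticForm F (ι → F)} {k : ℕ} {e f : Fin k → ι → F}

section general

variable (C : Ctx Q k e f) {g : GL ι F} {σ : F ≃+* F}
  (h : Cfsg.IsSemisimilarityPair ⇑Q g σ) {c : F} (hc0 : c ≠ 0)
  (hc : ∀ v, Q (semiMap g σ v) = c * σ (Q v))

include hc in
lemma semi_polar (x y : ι → F) :
    polar ⇑Q (semiMap g σ x) (semiMap g σ y) = c * σ (polar ⇑Q x y) := by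
  unfold polar
  rw [← semiMap_add, hc, hc, hc, map_sub, map_sub]
  ring

lemma tw_ga (s : ↥(Cfsg.Omega F ⇑Q)) (x : ι → F) :
    ga Q (twAutOmega h s) (semiMap g σ x) = semiMap g σ (ga Q s x) := by
  unfold ga act
  rw [twAutOmega_val, twGL_mulVec]

include C hc0 hc in
/-- **the action of a semisimilarity on Eichler elements** -/
lemma tw_Eg {u v : ι → F} (hu : Q u = 0) (huv : polar ⇑Q u v = 0) :
    twAutOmega h (Eg Q u v) = Eg Q (semiMap g σ u) (c⁻¹ • semiMap g σ v) := by
  have hu' : Q (semiMap g σ u) = 0 := by rw [hc, hu, map_zero, mul_zero]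
  have huv' : polar ⇑Q (semiMap g σ u) (c⁻¹ • semiMap g σ v) = 0 := by
    rw [polar_smul_right, semi_polar hc, huv, map_zero, mul_zero, smul_zero]
  apply G_ext
  intro y
  obtain ⟨x, rfl⟩ := semiMap_surj g σ y
  rw [tw_ga, ga_Eg C hu huv, ga_Eg C hu' huv', semiMap_sub, semiMap_sub, semiMap_add, semiMap_smul,
    semiMap_smul, semiMap_smul, polar_smul_right, QuadraticMap.map_smul, semi_polar hc,
    semi_polar hc, hc, map_mul]
  have t1 : c⁻¹ • (c * σ (polar ⇑Q x v)) = σ (polar ⇑Q x v) := by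
    rw [smul_eq_mul, ← mul_assoc, inv_mul_cancel₀ hc0, one_mul]
  have t2 : (c * σ (polar ⇑Q x u)) • c⁻¹ • semiMap g σ v = σ (polar ⇑Q x u) • semiMap g σ v := by
    rw [smul_smul, mul_right_comm, mul_inv_cancel₀ hc0, one_mul]
  have t3 : (c⁻¹ * c⁻¹) • (c * σ (Q v)) * (c * σ (polar ⇑Q x u)) =
      σ (Q v) * σ (polar ⇑Q x u) := by
    rw [smul_eq_mul]
    field_simp
  rw [t1, t2, t3]

end general

section specific

variable (C : Ctx Q k e f) (p : ℕ) [Fact p.Prime] [CharP F p]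
variable (α : MulAut (Cfsg.POmega F ⇑Q))
  (hE : (Qb Q (C.ev 0)).map α.toMonoidHom = Qb Q (C.ev 0))
include C p hE

/-- the matrix of the semilinear extension, as an element of `GL` -/
noncomputable def gG : GL ι F := (gmat_isUnit C p α hE).unit

lemma gG_val : ((gG C p α hE : GL ι F) : Matrix ι ι F) = gmat C α := IsUnit.unit_spec _

lemma semiMap_gG (x : ι → F) :
    semiMap (gG C p α hE) (tauEquiv C p α hE) x = ghat C α x := by
  unfold semiMap
  rw [gG_val]
  exact gmat_mulVec C p α hE x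

lemma Q_semiMap_gG (v : ι → F) :
    Q (semiMap (gG C p α hE) (tauEquiv C p α hE) v) =
      cc C α * (tauEquiv C p α hE) (Q v) := by
  rw [semiMap_gG, Q_ghat C p α hE]
  rfl

lemma pair_gG : Cfsg.IsSemisimilarityPair ⇑Q (gG C p α hE) (tauEquiv C p α hE) :=
  ⟨Units.mk0 (cc C α) (cc_ne_zero C p α hE), fun v => Q_semiMap_gG C p α hE v⟩

/-- the semilinear automorphism attached to `α` -/
noncomputable def beta : MulAut (Cfsg.POmega F ⇑Q) := semiAut (pair_gG C p α hE)

lemma beta_mem : beta C p α hE ∈ Cfsg.gammaPOmega F ⇑Q := semiAut_mem_gamma _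

lemma beta_Eg {u v : ι → F} (hu : Q u = 0) (huv : polar ⇑Q u v = 0) :
    beta C p α hE (pr Q (Eg Q u v)) =
      pr Q (Eg Q (ghat C α u) ((cc C α)⁻¹ • ghat C α v)) := by
  show semiAut (pair_gG C p α hE) (QuotientGroup.mk (Eg Q u v)) = _
  rw [semiAut_mk, tw_Eg C (pair_gG C p α hE) (cc_ne_zero C p α hE) (Q_semiMap_gG C p α hE) hu huv,
    semiMap_gG, semiMap_gG]
  rfl

lemma beta_e0 {w : ι → F} (hw : InW C w) :
    beta C p α hE (pr Q (Eg Q (C.ev 0) w)) = α (pr Q (Eg Q (C.ev 0) w)) := by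
  obtain ⟨h1, h2⟩ := phi_spec C p α hE hw
  rw [beta_Eg C p α hE (C.q_ev 0) hw.e0, ghat_e0 C p α hE, ghat_inW C p α hE hw,
    Eg_smul_left C _ (C.q_ev 0) (by rw [polar_smul_right, h1.e0, smul_zero]), smul_smul,
    mul_inv_cancel₀ (cc_ne_zero C p α hE), one_smul, h2]

lemma beta_f0 {w : ι → F} (hw : polar ⇑Q (C.fv 0) w = 0) :
    beta C p α hE (pr Q (Eg Q (C.fv 0) w)) ∈ Qb Q (C.fv 0) := by
  rw [beta_Eg C p α hE (C.q_fv 0) hw, ghat_f0 C p α hE]
  apply pr_Eg_mem_Qb C (C.q_fv 0)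
  have h1 := polar_ghat C p α hE (C.fv 0) w
  rw [ghat_f0 C p α hE, hw, tau_zero C p α hE, mul_zero] at h1
  rw [polar_smul_right, h1, smul_zero]

lemma beta_map_f0 : (Qb Q (C.fv 0)).map (beta C p α hE).toMonoidHom = Qb Q (C.fv 0) := by
  have hle : (Qb Q (C.fv 0)).map (beta C p α hE).toMonoidHom ≤ Qb Q (C.fv 0) := by
    rintro y ⟨x, hx, rfl⟩
    obtain ⟨w, hw, rfl⟩ := (mem_Qb_iff C (C.fv_ne 0) (C.q_fv 0) x).1 hx
    exact beta_f0 C p α hE hw
  apply Subgroup.eq_of_le_of_card_ge hle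
  have hinj : Function.Injective (beta C p α hE).toMonoidHom := (beta C p α hE).injective
  rw [Subgroup.card_map_of_injective hinj]

end specific

end Cfsg.Agent.Lib.Helper5.AutOrth
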