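import Mathlib
import Cfsg.Agent.Lib.Helper5.AutOrthBeta

set_option autoImplicit false
set_option linter.unusedSimpArgs false
set_option linter.unusedVariables false
set_option linter.unnecessarySeqFocus false
set_option linter.unusedSectionVars false
set_option linter.style.haveILetI false

/-!
# Rigidity: an automorphism fixing the standard point group pointwise and the opposite one
setwise is trivial
-/

namespace Cfsg.Agent.Lib.Helper5.AutOrth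

open Matrix Module QuadraticMap
open Cfsg.Agent.Lib.Helper37 Cfsg.Agent.Lib.Helper8 Cfsg.Agent.Lib.Helper13
open scoped Classical Pointwise

universe u

variable {ι : Type} [Fintype ι] [DecidableEq ι] {F : Type u} [Field F] [Fintype F]
variable {Q : QuadraticForm F (ι → F)} {k : ℕ} {e f : Fin k → ι → F}

section ctx

variable (C : Ctx Q k e f) (p : ℕ) [Fact p.Prime] [CharP F p]
include C p

/-- elements of the standard point group are parametrised by `W` -/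
lemma Eg_e0_proj {w : ι → F} (hw : polar ⇑Q (C.ev 0) w = 0) :
    Eg Q (C.ev 0) w = Eg Q (C.ev 0) (projW C w) := by
  have h1 : projW C w = w + (-(polar ⇑Q w (C.fv 0))) • C.ev 0 := by
    unfold projW
    rw [polar_comm ⇑Q w (C.ev 0), hw]
    module
  rw [h1, ← Eg_add C (C.q_ev 0) hw (by rw [polar_smul_right, C.ee, smul_zero]),
    Eg_smul_self C _ (C.q_ev 0), mul_one]

/-- a conjugation relation between root elements -/
lemma conj_rel (t : F) :
    Eg Q (C.ev 0) (C.ev 2) * Eg Q (C.fv 0) (t • C.ev 1) * (Eg Q (C.ev 0) (C.ev 2))⁻¹ =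
      Eg Q (C.fv 0) (t • C.ev 1) * Eg Q (C.ev 1) (t • C.ev 2) := by
  have h01 : (0 : Fin 3) ≠ 1 := by decide
  have h02 : (0 : Fin 3) ≠ 2 := by decide
  have h12 : (1 : Fin 3) ≠ 2 := by decide
  have h10 : (1 : Fin 3) ≠ 0 := by decide
  have h20 : (2 : Fin 3) ≠ 0 := by decide
  have h21 : (2 : Fin 3) ≠ 1 := by decide
  have ts1 : TS Q (C.fv 0) (C.ev 1) := (C.ts_ef h10).symm
  have ts2 : TS Q (C.ev 1) (C.ev 2) := C.ts_ee h12
  rw [Eg_conj C _ (C.q_fv 0) (by rw [polar_smul_right, C.fe_ne h01, smul_zero])]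
  have e1 : ga Q (Eg Q (C.ev 0) (C.ev 2)) (C.fv 0) = C.fv 0 - C.ev 2 := by
    rw [ga_Eg C (C.q_ev 0) (C.ee 0 2), C.fe_ne h02, C.fe_same, C.q_ev]
    module
  have e2 : ga Q (Eg Q (C.ev 0) (C.ev 2)) (t • C.ev 1) = t • C.ev 1 := by
    rw [ga_smul, ga_Eg C (C.q_ev 0) (C.ee 0 2), C.ee, C.ee]
    module
  rw [e1, e2]
  have hq : Q (C.fv 0 - C.ev 2) = 0 := by
    have : C.fv 0 - C.ev 2 = C.fv 0 + (-1 : F) • C.ev 2 := by module
    rw [this, QuadraticMap.map_add Q, QuadraticMap.map_smul, C.q_fv, C.q_ev, polar_smul_right,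
      C.fe_ne h02]
    simp
  have hp : polar ⇑Q (C.fv 0 - C.ev 2) (t • C.ev 1) = 0 := by
    rw [polar_smul_right, polar_sub_left, C.fe_ne h01, C.ee]; simp
  apply G_ext
  intro x
  rw [ga_mul, ga_root C ts1, ga_root C ts2, ga_Eg C hq hp]
  unfold Tm
  simp only [polar_add_left, polar_smul_left, polar_sub_left, polar_sub_right, polar_smul_right,
    QuadraticMap.map_smul, C.q_ev, C.ee, C.ef_ne h10, C.ef_ne h20, C.ef_ne h12, C.ef_ne h21,
    C.fe_ne h01, C.fe_ne h02, smul_eq_mul, mul_zero, zero_mul, sub_zero, zero_smul, add_zero,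
    smul_zero]
  module

variable (γ : MulAut (Cfsg.POmega F ⇑Q))
  (h1 : ∀ w, InW C w → γ (pr Q (Eg Q (C.ev 0) w)) = pr Q (Eg Q (C.ev 0) w))
  (h2 : (Qb Q (C.fv 0)).map γ.toMonoidHom = Qb Q (C.fv 0))
include h1

lemma rigid_Qb {y : Cfsg.POmega F ⇑Q} (hy : y ∈ Qb Q (C.ev 0)) : γ y = y := by
  obtain ⟨w, hw, rfl⟩ := (mem_Qb_iff C (C.ev_ne 0) (C.q_ev 0) y).1 hy
  rw [Eg_e0_proj C p hw]
  exact h1 _ (projW_inW C w)

include h2

/-- Levi elements are fixed -/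
lemma rigid_levi {l : ↥(Cfsg.Omega F ⇑Q)} {lam mu : F} (hl0 : ga Q l (C.ev 0) = lam • C.ev 0)
    (hl1 : ga Q l (C.fv 0) = mu • C.fv 0) : γ (pr Q l) = pr Q l := by
  have hlam : lam ≠ 0 := by
    rintro rfl
    rw [zero_smul] at hl0
    exact ga_ne_zero l (C.ev_ne 0) hl0
  have hmu : mu ≠ 0 := by
    rintro rfl
    rw [zero_smul] at hl1
    exact ga_ne_zero l (C.fv_ne 0) hl1
  have hli0 : ga Q l⁻¹ (C.fv 0) = mu⁻¹ • C.fv 0 := by
    have : ga Q l⁻¹ (ga Q l (C.fv 0)) = C.fv 0 := ga_inv_ga l _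
    rw [hl1, ga_smul] at this
    calc ga Q l⁻¹ (C.fv 0) = mu⁻¹ • (mu • ga Q l⁻¹ (C.fv 0)) := by
          rw [smul_smul, inv_mul_cancel₀ hmu, one_smul]
      _ = mu⁻¹ • C.fv 0 := by rw [this]
  -- `q = (pr l)⁻¹ γ(pr l)` centralises the standard point group
  have hcent : ∀ y ∈ Qb Q (C.ev 0),
      ((pr Q l)⁻¹ * γ (pr Q l)) * y = y * ((pr Q l)⁻¹ * γ (pr Q l)) := by
    intro y hy
    have e1 : pr Q l * y * (pr Q l)⁻¹ ∈ Qb Q (C.ev 0) := by
      have := Qb_conj_mem C (C.ev_ne 0) (C.q_ev 0) l hy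
      rwa [hl0, Qb_smul hlam] at this
    have e2 := rigid_Qb C p γ h1 e1
    rw [map_mul, map_mul, map_inv, rigid_Qb C p γ h1 hy] at e2
    have e3 : γ (pr Q l) * y = pr Q l * y * (pr Q l)⁻¹ * γ (pr Q l) := by
      rw [← e2]; group
    calc (pr Q l)⁻¹ * γ (pr Q l) * y = (pr Q l)⁻¹ * (γ (pr Q l) * y) := by group
      _ = (pr Q l)⁻¹ * (pr Q l * y * (pr Q l)⁻¹ * γ (pr Q l)) := by rw [e3]
      _ = y * ((pr Q l)⁻¹ * γ (pr Q l)) := by group
  have hq := centralizer_Qb C p (C.ev_ne 0) (C.q_ev 0) hcent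
  obtain ⟨w', hw', hqw'⟩ := (mem_Qb_iff C (C.ev_ne 0) (C.q_ev 0) _).1 hq
  rw [Eg_e0_proj C p hw'] at hqw'
  have hw := projW_inW C w'
  obtain ⟨w, hwdef⟩ : ∃ w, w = projW C w' := ⟨_, rfl⟩
  rw [← hwdef] at hw hqw'
  -- `q` normalises the opposite point group
  have hnorm : ∀ y ∈ Qb Q (C.fv 0),
      ((pr Q l)⁻¹ * γ (pr Q l)) * y * ((pr Q l)⁻¹ * γ (pr Q l))⁻¹ ∈ Qb Q (C.fv 0) := by
    intro y hy
    rw [← h2] at hy
    obtain ⟨y0, hy0, rfl⟩ := hy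
    have e1 : pr Q l * y0 * (pr Q l)⁻¹ ∈ Qb Q (C.fv 0) := by
      have := Qb_conj_mem C (C.fv_ne 0) (C.q_fv 0) l hy0
      rwa [hl1, Qb_smul hmu] at this
    have e2 : γ (pr Q l * y0 * (pr Q l)⁻¹) ∈ Qb Q (C.fv 0) := by
      rw [← h2]; exact ⟨_, e1, rfl⟩
    have e3 := Qb_conj_mem C (C.fv_ne 0) (C.q_fv 0) l⁻¹ e2
    rw [hli0, Qb_smul (inv_ne_zero hmu), map_inv, map_mul, map_mul, map_inv] at e3
    have e4 : (pr Q l)⁻¹ * γ (pr Q l) * γ.toMonoidHom y0 * ((pr Q l)⁻¹ * γ (pr Q l))⁻¹ =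
        (pr Q l)⁻¹ * (γ (pr Q l) * γ y0 * (γ (pr Q l))⁻¹) * (pr Q l)⁻¹⁻¹ := by
      show (pr Q l)⁻¹ * γ (pr Q l) * γ y0 * ((pr Q l)⁻¹ * γ (pr Q l))⁻¹ = _
      group
    rw [e4]
    exact e3
  -- hence the point of `h f₀` is that of `f₀`
  have hle : Qb Q (ga Q (Eg Q (C.ev 0) w) (C.fv 0)) ≤ Qb Q (C.fv 0) := by
    intro y' hy'
    have e1 := Qb_conj_mem C (ga_ne_zero _ (C.fv_ne 0)) (by rw [Q_ga]; exact C.q_fv 0)
      (Eg Q (C.ev 0) w)⁻¹ hy'
    rw [ga_inv_ga] at e1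
    have e2 := hnorm _ e1
    rw [hqw', map_inv] at e2
    have e3 : pr Q (Eg Q (C.ev 0) w) * ((pr Q (Eg Q (C.ev 0) w))⁻¹ * y' *
        (pr Q (Eg Q (C.ev 0) w))⁻¹⁻¹) * (pr Q (Eg Q (C.ev 0) w))⁻¹ = y' := by group
    rw [e3] at e2
    exact e2
  obtain ⟨d, hd⟩ := Qb_le_imp C p (ga_ne_zero _ (C.fv_ne 0)) (by rw [Q_ga]; exact C.q_fv 0)
    (C.fv_ne 0) (C.q_fv 0) hle
  have hact : ga Q (Eg Q (C.ev 0) w) (C.fv 0) = C.fv 0 - w - Q w • C.ev 0 := by
    rw [ga_Eg C (C.q_ev 0) hw.e0, hw.f0, C.fe_same]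
    module
  rw [hact] at hd
  have hd1 : d = 1 := by
    have := congrArg (fun z => polar ⇑Q z (C.ev 0)) hd
    simp only [polar_smul_left, polar_sub_left, C.fe_same, hw.1, C.ee, smul_eq_mul, mul_zero,
      sub_zero, mul_one] at this
    exact this.symm
  rw [hd1, one_smul] at hd
  have hQw : Q w = 0 := by
    have := congrArg (fun z => polar ⇑Q z (C.fv 0)) hd
    simp only [polar_smul_left, polar_sub_left, C.ff, hw.2, C.ef_same, smul_eq_mul, mul_one,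
      sub_zero, zero_sub] at this
    have h3 : -Q w = 0 := this.symm
    exact neg_eq_zero.1 h3
  have hw0 : w = 0 := by
    rw [hQw, zero_smul, sub_zero] at hd
    have : C.fv 0 - w = C.fv 0 - 0 := by rw [sub_zero]; exact hd.symm
    exact sub_right_injective this
  rw [hw0, Eg_zero C (C.q_ev 0), map_one] at hqw'
  have : γ (pr Q l) = pr Q l * ((pr Q l)⁻¹ * γ (pr Q l)) := by group
  rw [this, hqw', mul_one]

/-- the stabiliser of the standard point is fixed -/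
lemma rigid_stab {g : ↥(Cfsg.Omega F ⇑Q)} {lam : F} (hg : ga Q g (C.ev 0) = lam • C.ev 0) :
    γ (pr Q g) = pr Q g := by
  have hlam : lam ≠ 0 := by
    rintro rfl
    rw [zero_smul] at hg
    exact ga_ne_zero g (C.ev_ne 0) hg
  -- the image of `f₀`
  have hef : polar ⇑Q (C.ev 0) (lam • ga Q g (C.fv 0)) = 1 := by
    have e1 : polar ⇑Q (ga Q g (C.ev 0)) (ga Q g (C.fv 0)) = 1 := by
      rw [polar_ga]; exact C.ef_same 0
    rw [hg, polar_smul_left, smul_eq_mul] at e1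
    rw [polar_smul_right, smul_eq_mul]
    exact e1
  have hQf : Q (lam • ga Q g (C.fv 0)) = 0 := by
    rw [QuadraticMap.map_smul, Q_ga, C.q_fv, smul_zero]
  obtain ⟨f'', hf''⟩ : ∃ f'', f'' = lam • ga Q g (C.fv 0) := ⟨_, rfl⟩
  rw [← hf''] at hef hQf
  have hwW := projW_inW C f''
  have hdec := decomp C f''
  rw [polar_comm ⇑Q f'' (C.ev 0), hef] at hdec
  have hQ := Q_decomp C hwW (polar ⇑Q f'' (C.fv 0)) 1
  rw [← hdec, hQf, mul_one] at hQ
  -- the Eichler element moving `f₀` to `f''`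
  have hnw : polar ⇑Q (C.ev 0) (-(projW C f'')) = 0 := by
    rw [polar_neg_right, hwW.e0, neg_zero]
  have hE : ga Q (Eg Q (C.ev 0) (-(projW C f''))) (C.fv 0) = f'' := by
    rw [ga_Eg C (C.q_ev 0) hnw, polar_neg_right, hwW.f0, C.fe_same, QuadraticMap.map_neg]
    conv_rhs => rw [hdec]
    have : polar ⇑Q f'' (C.fv 0) = -Q (projW C f'') := by linear_combination -hQ
    rw [this]
    module
  obtain ⟨E, hEdef⟩ : ∃ E, E = Eg Q (C.ev 0) (-(projW C f'')) := ⟨_, rfl⟩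
  rw [← hEdef] at hE
  have hEe : ga Q E (C.ev 0) = C.ev 0 := by
    rw [hEdef]
    exact ((mem_Qg _ _).1 (Eg_mem_Qg C (C.q_ev 0) hnw)).1
  have hEie : ga Q E⁻¹ (C.ev 0) = C.ev 0 := by
    conv_lhs => rw [← hEe]
    exact ga_inv_ga _ _
  have hEif : ga Q E⁻¹ f'' = C.fv 0 := by
    have := ga_inv_ga E (C.fv 0)
    rw [hE] at this
    exact this
  have hl0 : ga Q (E⁻¹ * g) (C.ev 0) = lam • C.ev 0 := by
    rw [ga_mul, hg, ga_smul, hEie]
  have hl1 : ga Q (E⁻¹ * g) (C.fv 0) = lam⁻¹ • C.fv 0 := by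
    rw [ga_mul]
    have e1 : ga Q g (C.fv 0) = lam⁻¹ • f'' := by
      rw [hf'', smul_smul, inv_mul_cancel₀ hlam, one_smul]
    rw [e1, ga_smul, hEif]
  have hlevi := rigid_levi C p γ h1 h2 hl0 hl1
  have hgdec : g = E * (E⁻¹ * g) := (mul_inv_cancel_left _ _).symm
  have hEfix : γ (pr Q E) = pr Q E := by
    rw [hEdef]
    exact h1 _ hwW.neg
  conv_lhs => rw [hgdec]
  rw [map_mul, map_mul, hlevi, hEfix, ← map_mul, ← hgdec]

end ctx

end Cfsg.Agent.Lib.Helper5.AutOrth
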