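import Mathlib
import Cfsg.Agent.Lib.Helper5.AutOrthRigid

set_option autoImplicit false
set_option linter.unusedSimpArgs false
set_option linter.unusedVariables false
set_option linter.unnecessarySeqFocus false
set_option linter.unusedSectionVars false
set_option linter.style.haveILetI false

/-!
# Every automorphism of `PΩ(Q)` is induced by a semisimilarity
-/

namespace Cfsg.Agent.Lib.Helper5.AutOrth

open Matrix Module QuadraticMap
open Cfsg.Agent.Lib.Helper37 Cfsg.Agent.Lib.Helper8 Cfsg.Agent.Lib.Helper13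
open scoped Classical Pointwise

universe u

variable {ι : Type} [Fintype ι] [DecidableEq ι] {F : Type u} [Field F] [Fintype F]
variable {Q : QuadraticForm F (ι → F)} {k : ℕ} {e f : Fin k → ι → F}

section ctx

variable (C : Ctx Q k e f) (p : ℕ) [Fact p.Prime] [CharP F p]
variable (γ : MulAut (Cfsg.POmega F ⇑Q))
  (h1 : ∀ w, InW C w → γ (pr Q (Eg Q (C.ev 0) w)) = pr Q (Eg Q (C.ev 0) w))
  (h2 : (Qb Q (C.fv 0)).map γ.toMonoidHom = Qb Q (C.fv 0))
include C p h1 h2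

/-- a root element outside the stabiliser of the standard point is fixed -/
lemma rigid_x0 : γ (pr Q (Eg Q (C.fv 0) (C.ev 1))) = pr Q (Eg Q (C.fv 0) (C.ev 1)) := by
  have h01 : (0 : Fin 3) ≠ 1 := by decide
  have h02 : (0 : Fin 3) ≠ 2 := by decide
  have h12 : (1 : Fin 3) ≠ 2 := by decide
  have h10 : (1 : Fin 3) ≠ 0 := by decide
  have h20 : (2 : Fin 3) ≠ 0 := by decide
  have h21 : (2 : Fin 3) ≠ 1 := by decide
  have ts1 : TS Q (C.fv 0) (C.ev 1) := (C.ts_ef h10).symm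
  have ts01 : TS Q (C.ev 0) (C.ev 1) := C.ts_ee h01
  have ts12 : TS Q (C.ev 1) (C.ev 2) := C.ts_ee h12
  have hm : γ (pr Q (Eg Q (C.fv 0) (C.ev 1))) ∈ Qb Q (C.fv 0) := by
    rw [← h2]
    exact ⟨_, pr_Eg_mem_Qb C (C.q_fv 0) ts1.uv, rfl⟩
  obtain ⟨w', hw', hγ⟩ := (mem_Qb_iff C (C.fv_ne 0) (C.q_fv 0) _).1 hm
  have hroot : IsRootElt Q (γ (pr Q (Eg Q (C.fv 0) (C.ev 1)))) := by
    apply isRootElt_map (rootPerm_all C p γ)
    refine ⟨?_, Xb Q (C.fv 0) (C.ev 1), Xb_mem_roots ts1, ?_⟩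
    · have := (pr_root_eq_one_iff C ts1 1).not.2 one_ne_zero
      rwa [one_smul] at this
    · have := root_mem_Xb (Q := Q) (C.fv 0) (C.ev 1) 1
      rwa [one_smul] at this
  obtain ⟨hne, X, ⟨u, v, huv, rfl⟩, hmem⟩ := hroot
  rw [hγ] at hmem
  have hQw' : Q w' = 0 := by
    by_contra h
    exact not_root_of_nonsing C p (C.q_fv 0) hw' (C.fv_ne 0) h huv hmem
  have hcomm0 : pr Q (Eg Q (C.fv 0) (C.ev 1)) * pr Q (Eg Q (C.ev 0) (C.ev 1)) =
      pr Q (Eg Q (C.ev 0) (C.ev 1)) * pr Q (Eg Q (C.fv 0) (C.ev 1)) := by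
    rw [Eg_swap C ts1, Eg_swap C ts01, ← map_mul, ← map_mul,
      Eg_comm_same C (C.q_ev 1) (by rw [polar_neg_right, C.ef_ne h10, neg_zero])
        (by rw [polar_neg_right, C.ee, neg_zero])]
  have hcomm1 : pr Q (Eg Q (C.fv 0) w') * pr Q (Eg Q (C.ev 0) (C.ev 1)) =
      pr Q (Eg Q (C.ev 0) (C.ev 1)) * pr Q (Eg Q (C.fv 0) w') := by
    have := congrArg γ hcomm0
    rwa [map_mul, map_mul, hγ, h1 _ (inW_ev C h10)] at this
  have hcomm2 : Eg Q (C.fv 0) w' * Eg Q (C.ev 0) (C.ev 1) =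
      Eg Q (C.ev 0) (C.ev 1) * Eg Q (C.fv 0) w' :=
    comm_of_pr_comm C p (Eg_pow_char C p (C.q_ev 0) (C.ee 0 1)) hcomm1
  have hT := Tm_of_comm C ts01 one_ne_zero (g := Eg Q (C.fv 0) w')
    (by rw [one_smul]; exact hcomm2)
  obtain ⟨hge0, -⟩ := Tm_eq_span C.nd (ts01.ga _).ind hT
  obtain ⟨a, b, hab⟩ := Submodule.mem_span_pair.1 hge0
  obtain ⟨c0, hc0⟩ : ∃ c0, c0 = polar ⇑Q (C.ev 0) w' := ⟨_, rfl⟩
  have hact : ga Q (Eg Q (C.fv 0) w') (C.ev 0) = C.ev 0 + c0 • C.fv 0 - w' := by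
    rw [ga_Eg C (C.q_fv 0) hw', C.ef_same, hQw', hc0]
    module
  have hw'eq : w' = C.ev 0 + c0 • C.fv 0 - (a • C.ev 0 + b • C.ev 1) := by
    rw [hab, hact]; abel
  have ha : a = 1 := by
    have e1 : polar ⇑Q w' (C.fv 0) = 0 := by rw [polar_comm]; exact hw'
    rw [hw'eq] at e1
    simp only [polar_add_left, polar_sub_left, polar_smul_left, C.ef_same, C.ff, C.ef_ne h10,
      smul_eq_mul, mul_zero, mul_one, add_zero] at e1
    linear_combination -e1
  have hw'2 : w' = (-b) • C.ev 1 + c0 • C.fv 0 := by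
    rw [hw'eq, ha]; module
  have hE' : Eg Q (C.fv 0) w' = Eg Q (C.fv 0) ((-b) • C.ev 1) := by
    rw [hw'2, ← Eg_add C (C.q_fv 0) (by rw [polar_smul_right, C.fe_ne h01, smul_zero])
      (by rw [polar_smul_right, C.ff, smul_zero]), Eg_smul_self C _ (C.q_fv 0), mul_one]
  rw [hE'] at hγ
  -- the conjugation relations
  have R1 := congrArg (pr Q) (conj_rel C p 1)
  have Rb := congrArg (pr Q) (conj_rel C p (-b))
  rw [map_mul, map_mul, map_mul, map_inv] at R1 Rb
  simp only [one_smul] at R1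
  have hlevi : γ (pr Q (Eg Q (C.ev 1) (C.ev 2))) = pr Q (Eg Q (C.ev 1) (C.ev 2)) := by
    apply rigid_levi C p γ h1 h2 (lam := 1) (mu := 1)
    · have := ga_root C ts12 1 (C.ev 0)
      rw [one_smul] at this
      rw [this, Tm, C.ee, C.ee]; simp
    · have := ga_root C ts12 1 (C.fv 0)
      rw [one_smul] at this
      rw [this, Tm, C.fe_ne h02, C.fe_ne h01]; simp
  have R1' := congrArg γ R1
  rw [map_mul, map_mul, map_mul, map_inv, h1 _ (inW_ev C h20), hγ, hlevi, Rb] at R1'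
  have e1 : pr Q (Eg Q (C.ev 1) ((-b) • C.ev 2)) = pr Q (Eg Q (C.ev 1) (C.ev 2)) :=
    mul_left_cancel R1'
  have e2 := eq_of_pr_eq C p
    (Eg_pow_char C p (C.q_ev 1) (by rw [polar_smul_right, C.ee, smul_zero]))
    (Eg_pow_char C p (C.q_ev 1) (C.ee 1 2)) e1
  have e3 : Eg Q (C.ev 1) (((-b) - 1) • C.ev 2) = 1 := by
    have : ((-b) - 1) • C.ev 2 = (-b) • C.ev 2 + -(C.ev 2) := by module
    rw [this, ← Eg_add C (C.q_ev 1) (by rw [polar_smul_right, C.ee, smul_zero])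
      (by rw [polar_neg_right, C.ee, neg_zero]),
      ← Eg_inv C (C.q_ev 1) (C.ee 1 2), e2, mul_inv_cancel]
  have e4 := (root_eq_one_iff C ts12 _).1 e3
  have hb : -b = 1 := by linear_combination e4
  rw [hγ, hb, one_smul]

/-- **rigidity** -/
theorem rigid : γ = 1 := by
  have h01 : (0 : Fin 3) ≠ 1 := by decide
  let H : Subgroup ↥(Cfsg.Omega F ⇑Q) :=
    { carrier := {g | γ (pr Q g) = pr Q g}
      one_mem' := by simp
      mul_mem' := by
        intro a b ha hb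
        simp only [Set.mem_ofPred_eq] at ha hb ⊢
        rw [map_mul, map_mul, ha, hb]
      inv_mem' := by
        intro a ha
        simp only [Set.mem_ofPred_eq] at ha ⊢
        rw [map_inv, map_inv, ha] }
  have hstab : stabPt Q (C.ev 0) ≤ H := by
    intro g hg
    obtain ⟨c, hc⟩ := (mem_stabPt Q (C.ev 0) g).1 hg
    exact rigid_stab C p γ h1 h2 (lam := c) hc
  have hx0 : Eg Q (C.fv 0) (C.ev 1) ∈ H := rigid_x0 C p γ h1 h2
  have hx0' : Eg Q (C.fv 0) (C.ev 1) ∉ stabPt Q (C.ev 0) := by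
    intro hmem
    obtain ⟨c, hc⟩ := (mem_stabPt Q (C.ev 0) _).1 hmem
    have e1 : ga Q (Eg Q (C.fv 0) (C.ev 1)) (C.ev 0) = C.ev 0 - C.ev 1 := by
      rw [ga_Eg C (C.q_fv 0) (C.fe_ne h01), C.ee, C.ef_same, C.q_ev]
      module
    have e2 : C.ev 0 - C.ev 1 = c • C.ev 0 := by rw [← e1]; exact hc
    have e3 := congrArg (fun z => polar ⇑Q z (C.fv 1)) e2
    simp only [polar_sub_left, polar_smul_left, C.ef_ne h01, C.ef_same, smul_eq_mul, mul_zero,
      zero_sub] at e3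
    have : (1 : F) = 0 := by linear_combination -e3
    exact one_ne_zero this
  have hco := stabPt_isCoatom Q C.nd C.fam C.hk C.hcard (C.ev 0) (C.ev_ne 0) (C.q_ev 0)
  have hlt : stabPt Q (C.ev 0) < H := lt_of_le_of_ne hstab (fun h => hx0' (h ▸ hx0))
  have htop := hco.2 H hlt
  ext x
  obtain ⟨g, rfl⟩ := pr_surjective Q x
  have : g ∈ H := htop ▸ Subgroup.mem_top g
  exact this

end ctx

/-- **Every automorphism of `PΩ(Q)` is induced by a semisimilarity of `Q`.** -/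
theorem gamma_eq_top (C : Ctx Q k e f) (p : ℕ) [Fact p.Prime] [CharP F p] (hT : HypT Q) :
    Cfsg.gammaPOmega F ⇑Q = ⊤ := by
  rw [eq_top_iff]
  intro α _
  obtain ⟨g0, hE, hF⟩ := exists_normalise C p hT α
  have hβ := beta_mem C p (MulAut.conj (pr Q g0) * α) hE
  have hβF := beta_map_f0 C p (MulAut.conj (pr Q g0) * α) hE
  have hγ : (beta C p (MulAut.conj (pr Q g0) * α) hE)⁻¹ * (MulAut.conj (pr Q g0) * α) = 1 := by
    apply rigid C p
    · intro w hw
      show (beta C p (MulAut.conj (pr Q g0) * α) hE)⁻¹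
        ((MulAut.conj (pr Q g0) * α) (pr Q (Eg Q (C.ev 0) w))) = _
      rw [← beta_e0 C p (MulAut.conj (pr Q g0) * α) hE hw]
      exact MulAut.inv_apply_self (Cfsg.POmega F ⇑Q) _ _
    · have e1 : ((beta C p (MulAut.conj (pr Q g0) * α) hE)⁻¹ *
          (MulAut.conj (pr Q g0) * α)).toMonoidHom =
          ((beta C p (MulAut.conj (pr Q g0) * α) hE)⁻¹).toMonoidHom.comp
            (MulAut.conj (pr Q g0) * α).toMonoidHom := rfl
      rw [e1, ← Subgroup.map_map, hF]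
      conv_lhs => rw [← hβF]
      rw [Subgroup.map_map]
      have e2 : ((beta C p (MulAut.conj (pr Q g0) * α) hE)⁻¹).toMonoidHom.comp
          (beta C p (MulAut.conj (pr Q g0) * α) hE).toMonoidHom = MonoidHom.id _ := by
        apply MonoidHom.ext
        intro x
        show (beta C p (MulAut.conj (pr Q g0) * α) hE)⁻¹
          ((beta C p (MulAut.conj (pr Q g0) * α) hE) x) = x
        exact MulAut.inv_apply_self (Cfsg.POmega F ⇑Q) _ _
      rw [e2, Subgroup.map_id]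
  have h3 : beta C p (MulAut.conj (pr Q g0) * α) hE = MulAut.conj (pr Q g0) * α :=
    inv_mul_eq_one.1 hγ
  have h4 : α = (MulAut.conj (pr Q g0))⁻¹ * beta C p (MulAut.conj (pr Q g0) * α) hE := by
    rw [h3]; group
  rw [h4]
  exact Subgroup.mul_mem _ (Subgroup.inv_mem _ (conj_mem_gamma g0)) hβ

end Cfsg.Agent.Lib.Helper5.AutOrth
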