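import Mathlib
import Cfsg.Agent.Lib.Helper5.AutOrthMain

set_option autoImplicit false
set_option linter.unusedSimpArgs false
set_option linter.unusedVariables false
set_option linter.unnecessarySeqFocus false
set_option linter.unusedSectionVars false
set_option linter.style.haveILetI false

/-!
# Automorphisms of `PΩ(Q)` without hypothesis (T): the point-preserving automorphisms

Without hypothesis (T) (dimension `8`, Witt index `4`) an automorphism need not permute the point
groups.  Those which do are induced by semisimilarities; the others map the point groups to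
groups attached to pairs of disjoint perpendicular totally singular lines.
-/

namespace Cfsg.Agent.Lib.Helper5.AutOrth

open Matrix Module QuadraticMap
open Cfsg.Agent.Lib.Helper37 Cfsg.Agent.Lib.Helper8 Cfsg.Agent.Lib.Helper13
open scoped Classical Pointwise

universe u

/-- an abstract counting lemma: a subgroup whose cosets are separated by a `3`-valued function
has index at most `3` -/
lemma index_le_three_of_cover {A : Type*} [Group A] (P : Subgroup A) (c : A → Fin 3)
    (h : ∀ α β, c α = c β → α⁻¹ * β ∈ P) : P.index ≤ 3 ∧ P.index ≠ 0 := by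
  have hinj : Function.Injective (fun x : A ⧸ P => c x.out) := by
    intro x y hxy
    have h1 := h _ _ hxy
    rw [← QuotientGroup.eq, QuotientGroup.out_eq', QuotientGroup.out_eq'] at h1
    exact h1
  have hfin : Finite (A ⧸ P) := Finite.of_injective _ hinj
  have h1 : Nat.card (A ⧸ P) ≤ Nat.card (Fin 3) := Nat.card_le_card_of_injective _ hinj
  rw [Nat.card_fin] at h1
  have h2 : 0 < Nat.card (A ⧸ P) := Nat.card_pos
  refine ⟨h1, ?_⟩
  unfold Subgroup.index
  omega

/-- conjugation and automorphisms -/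
lemma map_conj_comm {G : Type*} [Group G] (α : MulAut G) (x : G) (H : Subgroup G) :
    (H.map (MulAut.conj x).toMonoidHom).map α.toMonoidHom =
      (H.map α.toMonoidHom).map (MulAut.conj (α x)).toMonoidHom := by
  rw [Subgroup.map_map, Subgroup.map_map]
  congr 1
  ext y
  simp [MulAut.conj_apply, map_mul, map_inv]

lemma aut_conj_eq {G : Type*} [Group G] (α : MulAut G) (x : G) :
    α⁻¹ * MulAut.conj x * α = MulAut.conj (α⁻¹ x) := by
  ext y
  simp [MulAut.conj_apply, map_mul, map_inv]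

variable {ι : Type} [Fintype ι] [DecidableEq ι] {F : Type u} [Field F] [Fintype F]
variable {Q : QuadraticForm F (ι → F)} {k : ℕ} {e f : Fin k → ι → F}

/-- `α` maps point groups to point groups -/
def PointPres (Q : QuadraticForm F (ι → F)) (α : MulAut (Cfsg.POmega F ⇑Q)) : Prop :=
  ∀ a : ι → F, a ≠ 0 → Q a = 0 →
    ∃ a', a' ≠ 0 ∧ Q a' = 0 ∧ (Qb Q a).map α.toMonoidHom = Qb Q a'

section ctx

variable (C : Ctx Q k e f)
include C

/-- **classification of good pairs**, without hypothesis (T) -/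
lemma good_classify' (p : ℕ) [Fact p.Prime] [CharP F p]
    {X Y : Set (Cfsg.POmega F ⇑Q)} (hG : Good Q X Y) :
    (∃ a x y, TS Q a x ∧ TS Q a y ∧ polar ⇑Q x y = 1 ∧ X = Xb Q a x ∧ Y = Xb Q a y) ∨
    (∃ u v u' v', TS Q u v ∧ TS Q u' v' ∧ polar ⇑Q u u' = 0 ∧ polar ⇑Q u v' = 0 ∧
      polar ⇑Q v u' = 0 ∧ polar ⇑Q v v' = 0 ∧
      (¬ ∃ a, a ≠ 0 ∧ a ∈ Submodule.span F {u, v} ∧ a ∈ Submodule.span F {u', v'}) ∧
      X = Xb Q u v ∧ Y = Xb Q u' v') := by
  obtain ⟨⟨u, v, h, rfl⟩, ⟨u', v', h', rfl⟩, hne, hc, hnR, hab⟩ := hG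
  by_cases hcommon : ∃ a, a ≠ 0 ∧ a ∈ Submodule.span F {u, v} ∧ a ∈ Submodule.span F {u', v'}
  · left
    obtain ⟨b, hb0, hb, hb'⟩ := hcommon
    obtain ⟨x, hbx, hx, hux, hvx⟩ := h.exists_rebase hb hb0
    obtain ⟨y, hby, hy, hu'y, hv'y⟩ := h'.exists_rebase hb' hb0
    have hX : Xb Q b x = Xb Q u v := Xb_eq_of_mem_span C h hbx hb hx
    have hY : Xb Q b y = Xb Q u' v' := Xb_eq_of_mem_span C h' hby hb' hy
    have hβ : polar ⇑Q x y ≠ 0 := by
      intro hxy
      apply hnR
      rw [← hX, ← hY]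
      apply rel60_of_coplanar C p hbx hby hxy
      intro c d hcd
      apply hne
      rw [← hX, ← hY]
      symm
      apply Xb_eq_of_mem_span C hbx hby (Submodule.subset_span (by simp))
      rw [hcd]
      exact Submodule.mem_span_pair.2 ⟨c, d, rfl⟩
    have hts : TS Q b ((polar ⇑Q x y)⁻¹ • y) := by
      have := hby.of_comb (α := 1) (β := 0) (γ := 0) (δ := (polar ⇑Q x y)⁻¹)
        (by simpa using hβ)
      simpa using this
    refine ⟨b, x, (polar ⇑Q x y)⁻¹ • y, hbx, hts, ?_, hX.symm, ?_⟩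
    · rw [polar_smul_right, smul_eq_mul, inv_mul_cancel₀ hβ]
    · rw [← hY]
      symm
      apply Xb_eq_of_mem_span C hby hts (Submodule.subset_span (by simp))
      exact Submodule.smul_mem _ _ (Submodule.subset_span (by simp))
  · right
    rcases comm_classify C p h h' hc with h1 | hperp
    · exact absurd h1 hcommon
    · obtain ⟨p1, p2, p3, p4⟩ := hperp
      exact ⟨u, v, u', v', h, h', p1, p2, p3, p4, hcommon, rfl, rfl⟩

/-- **normalising a point-preserving automorphism** -/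
theorem exists_normalise' (p : ℕ) [Fact p.Prime] [CharP F p]
    (α : MulAut (Cfsg.POmega F ⇑Q)) (hP : PointPres Q α) :
    ∃ g0 : ↥(Cfsg.Omega F ⇑Q),
      (Qb Q (C.ev 0)).map (MulAut.conj (pr Q g0) * α).toMonoidHom = Qb Q (C.ev 0) ∧
      (Qb Q (C.fv 0)).map (MulAut.conj (pr Q g0) * α).toMonoidHom = Qb Q (C.fv 0) := by
  obtain ⟨a', ha'0, ha', hA⟩ := hP _ (C.ev_ne 0) (C.q_ev 0)
  obtain ⟨b', hb'0, hb', hB⟩ := hP _ (C.fv_ne 0) (C.q_fv 0)
  have hab : polar ⇑Q a' b' ≠ 0 := by
    intro hab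
    obtain ⟨y, hy1, hya, hyb⟩ := Qb_inter_of_perp C ha'0 ha' hb'0 hb' hab
    rw [← hA] at hya
    rw [← hB] at hyb
    obtain ⟨x, hx, rfl⟩ := Subgroup.mem_map.1 hya
    obtain ⟨x', hx', hxx'⟩ := Subgroup.mem_map.1 hyb
    have : x' = x := α.injective hxx'
    subst this
    have := Qb_inter_hyp C p (C.ev_ne 0) (C.q_ev 0) (C.fv_ne 0) (C.q_fv 0) (C.ef_same 0) hx hx'
    apply hy1
    rw [this]
    exact map_one _
  have hd : (polar ⇑Q a' b')⁻¹ ≠ 0 := inv_ne_zero hab
  obtain ⟨g0, hg1, hg2⟩ := to_e0f0 C ha'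
    (by rw [QuadraticMap.map_smul, hb', smul_zero] : Q ((polar ⇑Q a' b')⁻¹ • b') = 0)
    (by rw [polar_smul_right, smul_eq_mul, inv_mul_cancel₀ hab])
  refine ⟨g0, ?_, ?_⟩
  · have : (MulAut.conj (pr Q g0) * α).toMonoidHom =
        (MulAut.conj (pr Q g0)).toMonoidHom.comp α.toMonoidHom := rfl
    rw [this, ← Subgroup.map_map, hA, Qb_conj C ha'0 ha', hg1]
  · have : (MulAut.conj (pr Q g0) * α).toMonoidHom =
        (MulAut.conj (pr Q g0)).toMonoidHom.comp α.toMonoidHom := rfl
    rw [this, ← Subgroup.map_map, hB, ← Qb_smul hd,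
      Qb_conj C (smul_ne_zero hd hb'0) (by rw [QuadraticMap.map_smul, hb', smul_zero]), hg2]

/-- **Point-preserving automorphisms are induced by semisimilarities.** -/
theorem mem_gamma_of_pointPres (p : ℕ) [Fact p.Prime] [CharP F p]
    (α : MulAut (Cfsg.POmega F ⇑Q)) (hP : PointPres Q α) :
    α ∈ Cfsg.gammaPOmega F ⇑Q := by
  obtain ⟨g0, hE, hF⟩ := exists_normalise' C p α hP
  have hβ := beta_mem C p (MulAut.conj (pr Q g0) * α) hE
  have hβF := beta_map_f0 C p (MulAut.conj (pr Q g0) * α) hE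
  have hγ : (beta C p (MulAut.conj (pr Q g0) * α) hE)⁻¹ * (MulAut.conj (pr Q g0) * α) = 1 := by
    apply rigid C p
    · intro w hw
      show (beta C p (MulAut.conj (pr Q g0) * α) hE)⁻¹
        ((MulAut.conj (pr Q g0) * α) (pr Q (Eg Q (C.ev 0) w))) = _
      rw [← beta_e0 C p (MulAut.conj (pr Q g0) * α) hE hw]
      exact MulAut.inv_apply_self (Cfsg.POmega F ⇑Q) _ _
    · have e1 : ((beta C p (MulAut.conj (pr Q g0) * α) hE)⁻¹ *
          (MulAut.conj (pr Q g0) * α)).toMonoidHom =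
          ((beta C p (MulAut.conj (pr Q g0) * α) hE)⁻¹).toMonoidHom.comp
            (MulAut.conj (pr Q g0) * α).toMonoidHom := rfl
      rw [e1, ← Subgroup.map_map, hF]
      conv_lhs => rw [← hβF]
      rw [Subgroup.map_map]
      have e2 : ((beta C p (MulAut.conj (pr Q g0) * α) hE)⁻¹).toMonoidHom.comp
          (beta C p (MulAut.conj (pr Q g0) * α) hE).toMonoidHom = MonoidHom.id _ := by
        apply MonoidHom.ext
        intro x
        show (beta C p (MulAut.conj (pr Q g0) * α) hE)⁻¹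
          ((beta C p (MulAut.conj (pr Q g0) * α) hE) x) = x
        exact MulAut.inv_apply_self (Cfsg.POmega F ⇑Q) _ _
      rw [e2, Subgroup.map_id]
  have h3 : beta C p (MulAut.conj (pr Q g0) * α) hE = MulAut.conj (pr Q g0) * α :=
    inv_mul_eq_one.1 hγ
  have h4 : α = (MulAut.conj (pr Q g0))⁻¹ * beta C p (MulAut.conj (pr Q g0) * α) hE := by
    rw [h3]; group
  rw [h4]
  exact Subgroup.mul_mem _ (Subgroup.inv_mem _ (conj_mem_gamma g0)) hβ

/-- an automorphism mapping the standard point group to a point group is point-preserving -/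
theorem pointPres_of_std (p : ℕ) [Fact p.Prime] [CharP F p]
    (α : MulAut (Cfsg.POmega F ⇑Q))
    (h : ∃ a', a' ≠ 0 ∧ Q a' = 0 ∧ (Qb Q (C.ev 0)).map α.toMonoidHom = Qb Q a') :
    PointPres Q α := by
  obtain ⟨a', ha'0, ha', hA⟩ := h
  intro a ha0 ha
  obtain ⟨g, hg⟩ := to_e0 C ha0 ha
  have h1 : Qb Q a = (Qb Q (C.ev 0)).map (MulAut.conj (pr Q g⁻¹)).toMonoidHom := by
    rw [Qb_conj C (C.ev_ne 0) (C.q_ev 0), ← hg, ga_inv_ga]
  obtain ⟨h', hh'⟩ := pr_surjective Q (α (pr Q g⁻¹))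
  refine ⟨ga Q h' a', ga_ne_zero h' ha'0, by rw [Q_ga]; exact ha', ?_⟩
  rw [h1, map_conj_comm, hA, ← hh', Qb_conj C ha'0 ha']

end ctx

end Cfsg.Agent.Lib.Helper5.AutOrth
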