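import Mathlib
import Cfsg.Agent.Lib.Helper5.AutOrthD4

set_option autoImplicit false
set_option linter.unusedSimpArgs false
set_option linter.unusedVariables false
set_option linter.unnecessarySeqFocus false
set_option linter.unusedSectionVars false
set_option linter.style.haveILetI false

/-!
# Dimension `8`: the semisimilarity automorphisms have index at most `3`
-/

namespace Cfsg.Agent.Lib.Helper5.AutOrth

open Matrix Module QuadraticMap
open Cfsg.Agent.Lib.Helper37 Cfsg.Agent.Lib.Helper8 Cfsg.Agent.Lib.Helper13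
open scoped Classical Pointwise

universe u

variable {ι : Type} [Fintype ι] [DecidableEq ι] {F : Type u} [Field F] [Fintype F]
variable {Q : QuadraticForm F (ι → F)} {k : ℕ} {e f : Fin k → ι → F}

/-- the extra data in dimension `8`: a fourth hyperbolic pair `(e3, f3)` such that the
perpendicular space of `⟨e0, e1, e2⟩` is spanned by `e0, e1, e2, e3, f3` -/
structure Dim8 (C : Ctx Q k e f) (e3 f3 : ι → F) : Prop where
  qe : Q e3 = 0
  qf : Q f3 = 0
  ef : polar ⇑Q e3 f3 = 1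
  ee3 : ∀ j : Fin 3, polar ⇑Q (C.ev j) e3 = 0
  ef3 : ∀ j : Fin 3, polar ⇑Q (C.ev j) f3 = 0
  fe3 : ∀ j : Fin 3, polar ⇑Q (C.fv j) e3 = 0
  ff3 : ∀ j : Fin 3, polar ⇑Q (C.fv j) f3 = 0
  h8 : ∀ x : ι → F, polar ⇑Q x (C.ev 0) = 0 → polar ⇑Q x (C.ev 1) = 0 →
    polar ⇑Q x (C.ev 2) = 0 →
    ∃ c0 c1 c2 c d : F, x = c0 • C.ev 0 + c1 • C.ev 1 + c2 • C.ev 2 + c • e3 + d • f3

section ctx

variable (C : Ctx Q k e f)
include C

/-- a standard vector and a vector `b3` paired with some `a3` orthogonal to the standard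
vectors form a totally singular pair -/
lemma ts_ev_of {a3 b3 : ι → F} (hqb : Q b3 = 0) (hba : polar ⇑Q b3 a3 = 1)
    (hea : ∀ j : Fin 3, polar ⇑Q (C.ev j) a3 = 0) (heb : ∀ j : Fin 3, polar ⇑Q (C.ev j) b3 = 0)
    (j : Fin 3) : TS Q (C.ev j) b3 := by
  refine ⟨C.q_ev j, hqb, heb j, ?_⟩
  intro a b hab
  have h1 := congrArg (fun z => polar ⇑Q z a3) hab
  simp only [polar_add_left, polar_smul_left, hea j, hba, smul_eq_mul, mul_zero, mul_one,
    zero_add] at h1
  have h2 : b = 0 := by simpa [polar] using h1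
  subst h2
  rw [zero_smul, add_zero] at hab
  rcases smul_eq_zero.1 hab with h3 | h3
  · exact ⟨h3, rfl⟩
  · exact absurd h3 (C.ev_ne j)

/-- removing the `e0`, `e1` components by root elements fixing `e0, e1, e2` -/
lemma kill_01 {a3 b3 : ι → F} (hqb : Q b3 = 0) (hab : polar ⇑Q a3 b3 = 1)
    (hea : ∀ j : Fin 3, polar ⇑Q (C.ev j) a3 = 0) (heb : ∀ j : Fin 3, polar ⇑Q (C.ev j) b3 = 0)
    (c0 c1 c2 c : F) (hc : c ≠ 0) :
    ∃ g : ↥(Cfsg.Omega F ⇑Q), ga Q g (C.ev 0) = C.ev 0 ∧ ga Q g (C.ev 1) = C.ev 1 ∧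
      ga Q g (C.ev 2) = C.ev 2 ∧
      ga Q g (c0 • C.ev 0 + c1 • C.ev 1 + c2 • C.ev 2 + c • a3) = c2 • C.ev 2 + c • a3 := by
  have hba : polar ⇑Q b3 a3 = 1 := by rw [polar_comm]; exact hab
  have ts0 := ts_ev_of C hqb hba hea heb 0
  have ts1 := ts_ev_of C hqb hba hea heb 1
  have hae : ∀ j : Fin 3, polar ⇑Q a3 (C.ev j) = 0 := fun j => by rw [polar_comm]; exact hea j
  have hfix : ∀ (i j : Fin 3) (t : F), TS Q (C.ev i) b3 →
      ga Q (Eg Q (C.ev i) (t • b3)) (C.ev j) = C.ev j := by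
    intro i j t hts
    rw [ga_root C hts, Tm, heb j, C.ee]
    simp
  have hmove : ∀ (i : Fin 3) (t : F), TS Q (C.ev i) b3 →
      ga Q (Eg Q (C.ev i) (t • b3)) a3 = a3 + t • C.ev i := by
    intro i t hts
    rw [ga_root C hts, Tm, hab, hae i]
    simp
  refine ⟨Eg Q (C.ev 0) ((-c0 * c⁻¹) • b3) * Eg Q (C.ev 1) ((-c1 * c⁻¹) • b3), ?_, ?_, ?_, ?_⟩
  · rw [ga_mul, hfix 1 0 _ ts1, hfix 0 0 _ ts0]
  · rw [ga_mul, hfix 1 1 _ ts1, hfix 0 1 _ ts0]
  · rw [ga_mul, hfix 1 2 _ ts1, hfix 0 2 _ ts0]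
  · rw [ga_mul]
    simp only [ga_add, ga_smul]
    rw [hfix 1 0 _ ts1, hfix 1 1 _ ts1, hfix 1 2 _ ts1, hmove 1 _ ts1]
    simp only [ga_add, ga_smul]
    rw [hfix 0 0 _ ts0, hfix 0 1 _ ts0, hfix 0 2 _ ts0, hmove 0 _ ts0]
    have e0' : c • ((-c0 * c⁻¹) • C.ev 0) = (-c0) • C.ev 0 := by
      rw [smul_smul]; congr 1; field_simp
    have e1' : c • ((-c1 * c⁻¹) • C.ev 1) = (-c1) • C.ev 1 := by
      rw [smul_smul]; congr 1; field_simp
    rw [smul_add, smul_add, e0', e1']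
    module

variable {e3 f3 : ι → F} (D : Dim8 C e3 f3)
include D

lemma Dim8.ts_e2e3 : TS Q (C.ev 2) e3 :=
  ts_ev_of C D.qe D.ef D.ef3 D.ee3 2

lemma Dim8.ts_e2f3 : TS Q (C.ev 2) f3 :=
  ts_ev_of C D.qf (by rw [polar_comm]; exact D.ef) D.ee3 D.ef3 2

/-- **moving a pair of disjoint perpendicular totally singular lines to one of two standard
positions** -/
theorem move_pair {u v u' v' : ι → F} (h : TS Q u v) (h' : TS Q u' v')
    (p1 : polar ⇑Q u u' = 0) (p2 : polar ⇑Q u v' = 0) (p3 : polar ⇑Q v u' = 0)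
    (p4 : polar ⇑Q v v' = 0)
    (hno : ¬ ∃ a, a ≠ 0 ∧ a ∈ Submodule.span F {u, v} ∧ a ∈ Submodule.span F {u', v'}) :
    ∃ g : ↥(Cfsg.Omega F ⇑Q), Xb Q (ga Q g u) (ga Q g v) = Xb Q (C.ev 0) (C.ev 1) ∧
      (Xb Q (ga Q g u') (ga Q g v') = Xb Q (C.ev 2) e3 ∨
        Xb Q (ga Q g u') (ga Q g v') = Xb Q (C.ev 2) f3) := by
  have hli : LinearIndependent F ![u, v, u'] := by
    rw [Fintype.linearIndependent_iff]
    intro c hc
    rw [Fin.sum_univ_three] at hc
    simp only [Matrix.cons_val_zero, Matrix.cons_val_one, Matrix.cons_val_two,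
      Matrix.tail_cons, Matrix.head_cons] at hc
    have h2 : c 2 = 0 := by
      by_contra h2
      apply hno
      refine ⟨u', h'.u_ne, ?_, Submodule.subset_span (by simp)⟩
      have e1 : c 2 • u' = -(c 0 • u + c 1 • v) := eq_neg_of_add_eq_zero_right hc
      have e2 : u' = (c 2)⁻¹ • (c 2 • u') := by rw [smul_smul, inv_mul_cancel₀ h2, one_smul]
      rw [e2, e1]
      exact Submodule.smul_mem _ _ (Submodule.neg_mem _ (Submodule.add_mem _
        (Submodule.smul_mem _ _ (Submodule.subset_span (by simp)))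
        (Submodule.smul_mem _ _ (Submodule.subset_span (by simp)))))
    rw [h2, zero_smul, add_zero] at hc
    obtain ⟨h0, h1⟩ := h.ind _ _ hc
    intro i
    fin_cases i
    · exact h0
    · exact h1
    · exact h2
  have hli' : LinearIndependent F ![C.ev 0, C.ev 1, C.ev 2] := by
    rw [Fintype.linearIndependent_iff]
    intro c hc
    rw [Fin.sum_univ_three] at hc
    simp only [Matrix.cons_val_zero, Matrix.cons_val_one, Matrix.cons_val_two,
      Matrix.tail_cons, Matrix.head_cons] at hc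
    have h0 := congrArg (fun z => polar ⇑Q z (C.fv 0)) hc
    have h1 := congrArg (fun z => polar ⇑Q z (C.fv 1)) hc
    have h2 := congrArg (fun z => polar ⇑Q z (C.fv 2)) hc
    simp only [polar_add_left, polar_smul_left, smul_eq_mul, C.ef, C.ff, C.ee, C.fe] at h0 h1 h2
    simp [polar] at h0 h1 h2
    intro i
    fin_cases i
    · exact h0
    · exact h1
    · exact h2
  obtain ⟨g0, hg0, hgx⟩ := omega_witt_frame Q C.nd C.hcard 3 ![u, v, u']
    ![C.ev 0, C.ev 1, C.ev 2] hli hli'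
    (by
      intro i; fin_cases i
      · simp [h.qu, C.q_ev]
      · simp [h.qv, C.q_ev]
      · simp [h'.qu, C.q_ev])
    (by
      intro i j; fin_cases i <;> fin_cases j <;>
        simp [h.uu, h.vv, h.uv, h.vu, h'.uu, p1, p3, polar_comm ⇑Q u' u, polar_comm ⇑Q u' v,
          C.ee])
    (by
      intro c hc
      refine ⟨e3 + c • f3, ?_, ?_⟩
      · rw [QuadraticMap.map_add Q, D.qe, QuadraticMap.map_smul, D.qf, polar_smul_right, D.ef]
        simp
      · intro i; fin_cases i <;>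
          simp [polar_add_left, polar_smul_left, polar_comm ⇑Q e3, polar_comm ⇑Q f3, D.ee3,
            D.ef3])
  obtain ⟨g, hgdef⟩ : ∃ g : ↥(Cfsg.Omega F ⇑Q), g = ⟨g0, hg0⟩ := ⟨_, rfl⟩
  have hgu : ga Q g u = C.ev 0 := by rw [hgdef]; exact hgx 0
  have hgv : ga Q g v = C.ev 1 := by rw [hgdef]; exact hgx 1
  have hgu' : ga Q g u' = C.ev 2 := by rw [hgdef]; exact hgx 2
  obtain ⟨w, hw⟩ : ∃ w, w = ga Q g v' := ⟨_, rfl⟩
  have hw0 : polar ⇑Q w (C.ev 0) = 0 := by
    rw [hw, ← hgu, polar_ga, polar_comm]; exact p2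
  have hw1 : polar ⇑Q w (C.ev 1) = 0 := by
    rw [hw, ← hgv, polar_ga, polar_comm]; exact p4
  have hw2 : polar ⇑Q w (C.ev 2) = 0 := by
    rw [hw, ← hgu', polar_ga]; exact h'.vu
  have hQw : Q w = 0 := by rw [hw, Q_ga]; exact h'.qv
  obtain ⟨c0, c1, c2, c, d, hwd⟩ := D.h8 w hw0 hw1 hw2
  have hts' : TS Q (C.ev 2) w := by
    have := h'.ga g
    rwa [hgu', ← hw] at this
  -- `c * d = 0`
  have hcd : c * d = 0 := by
    have e1 : Q w = c * d := by
      rw [hwd]
      simp only [QuadraticMap.map_add Q, QuadraticMap.map_smul, polar_add_left, polar_smul_left,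
        polar_smul_right, C.q_ev, D.qe, D.qf, C.ee, D.ee3, D.ef3, D.ef, smul_eq_mul]
      ring
    rw [← e1, hQw]
  -- not both zero
  have hnz : ¬ (c = 0 ∧ d = 0) := by
    rintro ⟨rfl, rfl⟩
    apply hno
    refine ⟨v' - c2 • u', ?_, ?_, ?_⟩
    · intro h0
      have := (h'.ind (-c2) 1 (by rw [← h0]; module)).2
      exact one_ne_zero this
    · have e1 : v' - c2 • u' = c0 • u + c1 • v := by
        apply ga_injective g
        rw [ga_sub, ga_smul, ga_add, ga_smul, ga_smul, ← hw, hgu, hgv, hgu', hwd]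
        module
      rw [e1]
      exact Submodule.add_mem _ (Submodule.smul_mem _ _ (Submodule.subset_span (by simp)))
        (Submodule.smul_mem _ _ (Submodule.subset_span (by simp)))
    · exact Submodule.sub_mem _ (Submodule.subset_span (by simp))
        (Submodule.smul_mem _ _ (Submodule.subset_span (by simp)))
  have hfe : polar ⇑Q f3 e3 = 1 := by rw [polar_comm]; exact D.ef
  rcases mul_eq_zero.1 hcd with hc0 | hd0
  · -- `c = 0`, `d ≠ 0`
    have hd : d ≠ 0 := fun hd => hnz ⟨hc0, hd⟩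
    subst hc0
    obtain ⟨g1, k0, k1, k2, k3⟩ := kill_01 C D.qe hfe D.ef3 D.ee3 c0 c1 c2 d hd
    refine ⟨g1 * g, ?_, Or.inr ?_⟩
    · rw [ga_mul, ga_mul, hgu, hgv, k0, k1]
    · rw [ga_mul, ga_mul, hgu', ← hw, k2]
      have e1 : ga Q g1 w = c2 • C.ev 2 + d • f3 := by
        rw [hwd, zero_smul, add_zero]; exact k3
      have hts2 : TS Q (C.ev 2) (ga Q g1 w) := by
        have := hts'.ga g1
        rwa [k2] at this
      apply Xb_eq_of_mem_span C (Dim8.ts_e2f3 C D) hts2 (Submodule.subset_span (by simp))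
      rw [e1]
      exact Submodule.mem_span_pair.2 ⟨c2, d, rfl⟩
  · have hc : c ≠ 0 := fun hc => hnz ⟨hc, hd0⟩
    subst hd0
    obtain ⟨g1, k0, k1, k2, k3⟩ := kill_01 C D.qf D.ef D.ee3 D.ef3 c0 c1 c2 c hc
    refine ⟨g1 * g, ?_, Or.inl ?_⟩
    · rw [ga_mul, ga_mul, hgu, hgv, k0, k1]
    · rw [ga_mul, ga_mul, hgu', ← hw, k2]
      have e1 : ga Q g1 w = c2 • C.ev 2 + c • e3 := by
        rw [hwd, zero_smul, add_zero]; exact k3
      have hts2 : TS Q (C.ev 2) (ga Q g1 w) := by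
        have := hts'.ga g1
        rwa [k2] at this
      apply Xb_eq_of_mem_span C (Dim8.ts_e2e3 C D) hts2 (Submodule.subset_span (by simp))
      rw [e1]
      exact Submodule.mem_span_pair.2 ⟨c2, c, rfl⟩

end ctx

end Cfsg.Agent.Lib.Helper5.AutOrth
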