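import Mathlib
import Cfsg.Agent.Lib.Helper5.AutOrthD4b

set_option autoImplicit false
set_option linter.unusedSimpArgs false
set_option linter.unusedVariables false
set_option linter.unnecessarySeqFocus false
set_option linter.unusedSectionVars false
set_option linter.style.haveILetI false

/-!
# Dimension `8`: the semisimilarity automorphisms have index at most `3` (conclusion)
-/

namespace Cfsg.Agent.Lib.Helper5.AutOrth

open Matrix Module QuadraticMap
open Cfsg.Agent.Lib.Helper37 Cfsg.Agent.Lib.Helper8 Cfsg.Agent.Lib.Helper13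
open scoped Classical Pointwise

universe u

variable {ι : Type} [Fintype ι] [DecidableEq ι] {F : Type u} [Field F] [Fintype F]
variable {Q : QuadraticForm F (ι → F)} {k : ℕ} {e f : Fin k → ι → F}

/-- the three model groups: the standard point group and the groups attached to the two standard
pairs of disjoint perpendicular lines -/
noncomputable def Rmodel (C : Ctx Q k e f) (e3 f3 : ι → F) (i : Fin 3) :
    Subgroup (Cfsg.POmega F ⇑Q) :=
  if i = 0 then Qb Q (C.ev 0)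
  else if i = 1 then QQ Q (Xb Q (C.ev 0) (C.ev 1)) (Xb Q (C.ev 2) e3)
  else QQ Q (Xb Q (C.ev 0) (C.ev 1)) (Xb Q (C.ev 2) f3)

/-- `α` maps the standard point group to an `Ω`-conjugate of the `i`-th model group -/
def Cls (C : Ctx Q k e f) (e3 f3 : ι → F) (i : Fin 3) (α : MulAut (Cfsg.POmega F ⇑Q)) : Prop :=
  ∃ g : ↥(Cfsg.Omega F ⇑Q),
    (Qb Q (C.ev 0)).map (MulAut.conj (pr Q g) * α).toMonoidHom = Rmodel C e3 f3 i

section ctx

variable (C : Ctx Q k e f)
include C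

lemma img_conj_Xb {u v : ι → F} (h : TS Q u v) (g : ↥(Cfsg.Omega F ⇑Q)) :
    img (MulAut.conj (pr Q g)) (Xb Q u v) = Xb Q (ga Q g u) (ga Q g v) := by
  ext z
  rw [mem_img]
  constructor
  · rintro ⟨y, hy, rfl⟩
    rw [MulAut.conj_apply]
    exact Xb_conj_mem C h g hy
  · intro hz
    refine ⟨(pr Q g)⁻¹ * z * pr Q g, ?_, ?_⟩
    · rw [← Xb_conj_iff C h g]
      have : pr Q g * ((pr Q g)⁻¹ * z * pr Q g) * (pr Q g)⁻¹ = z := by group
      rw [this]
      exact hz
    · rw [MulAut.conj_apply]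
      group

lemma map_mul_aut (α β : MulAut (Cfsg.POmega F ⇑Q)) (H : Subgroup (Cfsg.POmega F ⇑Q)) :
    H.map (α * β).toMonoidHom = (H.map β.toMonoidHom).map α.toMonoidHom := by
  rw [Subgroup.map_map]
  rfl

variable {e3 f3 : ι → F} (D : Dim8 C e3 f3)
include D

/-- every automorphism belongs to one of the three classes -/
theorem exists_cls (p : ℕ) [Fact p.Prime] [CharP F p] (α : MulAut (Cfsg.POmega F ⇑Q)) :
    ∃ i, Cls C e3 f3 i α := by
  have hα := rootPerm_all C p α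
  have hα' := rootPerm_all C p α⁻¹
  have h01 : (0 : Fin 3) ≠ 1 := by decide
  have hax : TS Q (C.ev 0) (C.ev 1) := C.ts_ee h01
  have hay : TS Q (C.ev 0) (C.fv 1) := C.ts_ef h01
  have hxy : polar ⇑Q (C.ev 1) (C.fv 1) = 1 := C.ef_same 1
  have hmap : (Qb Q (C.ev 0)).map α.toMonoidHom =
      QQ Q (img α (Xb Q (C.ev 0) (C.ev 1))) (img α (Xb Q (C.ev 0) (C.fv 1))) := by
    rw [← QQ_eq_Qb C p hax hay hxy, QQ_map hα hα']
  have hgood := good_map hα hα' (good_std C p hax hay hxy)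
  rcases good_classify' C p hgood with ⟨a, x, y, hax', hay', hxy', hX, hY⟩ |
    ⟨u, v, u', v', h, h', p1, p2, p3, p4, hno, hX, hY⟩
  · refine ⟨0, ?_⟩
    obtain ⟨g, hg⟩ := to_e0 C hax'.u_ne hax'.qu
    refine ⟨g, ?_⟩
    rw [map_mul_aut C, hmap, hX, hY, QQ_eq_Qb C p hax' hay' hxy',
      Qb_conj C hax'.u_ne hax'.qu, hg]
    simp [Rmodel]
  · obtain ⟨g, hg1, hg2⟩ := move_pair C D h h' p1 p2 p3 p4 hno
    have hc := rootPerm_all C p (MulAut.conj (pr Q g))
    have hc' := rootPerm_all C p (MulAut.conj (pr Q g))⁻¹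
    have key : (Qb Q (C.ev 0)).map (MulAut.conj (pr Q g) * α).toMonoidHom =
        QQ Q (Xb Q (ga Q g u) (ga Q g v)) (Xb Q (ga Q g u') (ga Q g v')) := by
      rw [map_mul_aut C, hmap, hX, hY, QQ_map hc hc', img_conj_Xb C h, img_conj_Xb C h']
    rcases hg2 with hg2 | hg2
    · refine ⟨1, g, ?_⟩
      rw [key, hg1, hg2]
      simp [Rmodel]
    · refine ⟨2, g, ?_⟩
      rw [key, hg1, hg2]
      simp [Rmodel]

omit D in
/-- two automorphisms in the same class differ by a semisimilarity automorphism -/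
theorem cls_same (p : ℕ) [Fact p.Prime] [CharP F p] {e3 f3 : ι → F} {i : Fin 3}
    {α β : MulAut (Cfsg.POmega F ⇑Q)}
    (hα : Cls C e3 f3 i α) (hβ : Cls C e3 f3 i β) : α⁻¹ * β ∈ Cfsg.gammaPOmega F ⇑Q := by
  obtain ⟨g, hg⟩ := hα
  obtain ⟨h, hh⟩ := hβ
  obtain ⟨γ, hγ⟩ : ∃ γ, γ = (MulAut.conj (pr Q h) * β)⁻¹ * (MulAut.conj (pr Q g) * α) :=
    ⟨_, rfl⟩
  have h1 : (Qb Q (C.ev 0)).map γ.toMonoidHom = Qb Q (C.ev 0) := by
    rw [hγ, map_mul_aut C, hg, ← hh, ← map_mul_aut C, inv_mul_cancel]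
    exact Subgroup.map_id _
  have h2 : γ ∈ Cfsg.gammaPOmega F ⇑Q :=
    mem_gamma_of_pointPres C p γ
      (pointPres_of_std C p γ ⟨C.ev 0, C.ev_ne 0, C.q_ev 0, h1⟩)
  obtain ⟨h', hh'⟩ := pr_surjective Q (β⁻¹ (pr Q h))
  obtain ⟨g', hg'⟩ := pr_surjective Q (β⁻¹ (pr Q g))
  have e1 : α⁻¹ * β = γ⁻¹ * ((β⁻¹ * MulAut.conj (pr Q h) * β)⁻¹ *
      (β⁻¹ * MulAut.conj (pr Q g) * β)) := by
    rw [hγ]; group
  rw [e1, aut_conj_eq, aut_conj_eq, ← hh', ← hg']
  exact Subgroup.mul_mem _ (Subgroup.inv_mem _ h2)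
    (Subgroup.mul_mem _ (Subgroup.inv_mem _ (conj_mem_gamma h')) (conj_mem_gamma g'))

/-- **In dimension `8` the semisimilarity automorphisms have index at most `3`.** -/
theorem index_le_three (p : ℕ) [Fact p.Prime] [CharP F p] :
    (Cfsg.gammaPOmega F ⇑Q).index ≤ 3 ∧ (Cfsg.gammaPOmega F ⇑Q).index ≠ 0 := by
  apply index_le_three_of_cover _ (fun α => (exists_cls C D p α).choose)
  intro α β hαβ
  have h1 := (exists_cls C D p α).choose_spec
  have h2 := (exists_cls C D p β).choose_spec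
  rw [hαβ] at h1
  exact cls_same C p h1 h2

end ctx

end Cfsg.Agent.Lib.Helper5.AutOrth
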