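import Mathlib
import Cfsg.Agent.Lib.Helper5.AutOrthD4c
import Cfsg.Agent.Lib.Helper43.OrthCardForms

set_option autoImplicit false
set_option linter.unusedSimpArgs false
set_option linter.unusedVariables false
set_option linter.unnecessarySeqFocus false
set_option linter.unusedSectionVars false
set_option linter.style.haveILetI false

/-!
# `PΩ⁺₈(F)`: the semisimilarity automorphisms have index at most `3`
-/

namespace Cfsg.Agent.Lib.Helper5.AutOrth

open Matrix Module QuadraticMap
open Cfsg.Agent.Lib.Helper37 Cfsg.Agent.Lib.Helper8 Cfsg.Agent.Lib.Helper13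
open Cfsg.Agent.Lib.Helper43
open scoped Classical Pointwise

universe u

variable (F : Type u) [Field F] [Fintype F]

theorem plus_hypFam (m : ℕ) :
    HypFam (plusForm m F) m (fun i => Pi.single (Sum.inl i) 1)
      (fun i => Pi.single (Sum.inr i) 1) :=
  let h := plus_family m F
  ⟨h.qe, h.qf, h.ee, h.ff, h.ef⟩

theorem plus_ctx (m : ℕ) (hm : 4 ≤ m) :
    Ctx (plusForm m F) m (fun i => Pi.single (Sum.inl i) 1)
      (fun i => Pi.single (Sum.inr i) 1) :=
  ⟨plusForm_nondegenerate m F, plus_hypFam F m, by omega, Or.inr (by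
    rw [Module.finrank_fintype_fun_eq_card]; simp; omega)⟩

theorem plus4_dim8 :
    Dim8 (plus_ctx F 4 le_rfl) (Pi.single (Sum.inl 3) 1) (Pi.single (Sum.inr 3) 1) := by
  have hev : ∀ j : Fin 3, (plus_ctx F 4 le_rfl).ev j =
      Pi.single (Sum.inl (Fin.castLE (by norm_num : 3 ≤ 4) j)) 1 := fun j => rfl
  have hfv : ∀ j : Fin 3, (plus_ctx F 4 le_rfl).fv j =
      Pi.single (Sum.inr (Fin.castLE (by norm_num : 3 ≤ 4) j)) 1 := fun j => rfl
  refine ⟨plusForm_single_inl 4 F 3, plusForm_single_inr 4 F 3, ?_, ?_, ?_, ?_, ?_, ?_⟩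
  · rw [polar_plusForm_inl]; simp
  · intro j
    rw [hev, polar_plusForm_inl]; simp
  · intro j
    rw [hev, polar_plusForm_inl]
    fin_cases j <;> simp [Pi.single_apply, Fin.castLE]
  · intro j
    rw [hfv, polar_plusForm_inr]
    fin_cases j <;> simp [Pi.single_apply, Fin.castLE]
  · intro j
    rw [hfv, polar_plusForm_inr]; simp
  · intro x h0 h1 h2
    rw [polar_comm, hev, polar_plusForm_inl] at h0 h1 h2
    refine ⟨x (Sum.inl 0), x (Sum.inl 1), x (Sum.inl 2), x (Sum.inl 3), x (Sum.inr 3), ?_⟩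
    simp only [hev]
    funext t
    rcases t with i | i
    · fin_cases i <;> simp [Pi.single_apply, Fin.castLE]
    · fin_cases i
      · simpa [Pi.single_apply, Fin.castLE] using h0
      · simpa [Pi.single_apply, Fin.castLE] using h1
      · simpa [Pi.single_apply, Fin.castLE] using h2
      · simp [Pi.single_apply, Fin.castLE]

/-- **The image of `PΓO⁺₈(F)` has index at most `3` in `Aut(PΩ⁺₈(F))`.** -/
theorem index_gamma_plus4 :
    (Cfsg.gammaPOmega F (Cfsg.quadFormPlus 4 F)).index ≤ 3 ∧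
      (Cfsg.gammaPOmega F (Cfsg.quadFormPlus 4 F)).index ≠ 0 := by
  obtain ⟨p, hp⟩ := CharP.exists F
  have := hp
  have : Fact p.Prime := ⟨CharP.char_is_prime F p⟩
  rw [plusForm_coe]
  exact index_le_three (plus_ctx F 4 le_rfl) (plus4_dim8 F) p

end Cfsg.Agent.Lib.Helper5.AutOrth
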