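import Mathlib
import Cfsg.Agent.Lib.Helper5.HermCount
import Cfsg.Agent.Lib.Helper5.UnitaryCard
import Cfsg.Agent.Lib.Helper5.DotCount
import Cfsg.Agent.Lib.Helper5.TwoSubspaces

set_option autoImplicit false
set_option linter.unusedSimpArgs false
set_option linter.unusedVariables false
set_option linter.unnecessarySeqFocus false
set_option linter.unusedSectionVars false

namespace Cfsg.Agent.Lib.Helper5

open Finset Module

section HermPerp

variable {F : Type*} [Field F] [Fintype F] {q : ℕ}

/-- the number of roots of `X^q + a X` is at most `q` -/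
lemma card_roots_frob_le (hq : 2 ≤ q) (a : F) [DecidableEq F] :
    #{t : F | t ^ q + a * t = 0} ≤ q := by
  open Polynomial in
  have hdeg : (X ^ q + C a * X : F[X]).natDegree = q := by
    rw [natDegree_add_eq_left_of_natDegree_lt]
    · exact natDegree_X_pow q
    · rw [natDegree_X_pow]
      calc (C a * X : F[X]).natDegree ≤ 1 := (natDegree_C_mul_le a X).trans natDegree_X_le
        _ < q := by omega
  open Polynomial in
  have hne : (X ^ q + C a * X : F[X]) ≠ 0 := by
    intro h
    rw [h, natDegree_zero] at hdeg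
    omega
  open Polynomial in
  have := card_le_degree_of_subset_roots (p := (X ^ q + C a * X : F[X]))
    (Z := ({t : F | t ^ q + a * t = 0} : Finset F)) (by
      intro t ht
      rw [Finset.mem_val, Finset.mem_filter] at ht
      rw [mem_roots hne]
      simp [ht.2])
  rw [hdeg] at this
  exact this

/-- the trace map `t ↦ t + t^q` has fibres of size `q` over the fixed field -/
lemma card_trace_fiber (hF : Fintype.card F = q ^ 2) {c : F} (hc : c ^ q = c) :
    Nat.card {t : F // t + t ^ q = c} = q := by
  classical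
  have hq := two_le_of_card hF
  let Tr : F →+ F :=
    { toFun := fun t => t + t ^ q
      map_zero' := by simp [show q ≠ 0 by omega]
      map_add' := fun a b => by rw [frob_add hF]; ring }
  -- kernel has at most q elements
  have hker : #{t : F | Tr t = 0} ≤ q := by
    have := card_roots_frob_le hq (1 : F)
    refine le_trans (Finset.card_le_card ?_) this
    intro t ht
    rw [Finset.mem_filter] at ht ⊢
    refine ⟨ht.1, ?_⟩
    have := ht.2
    change t + t ^ q = 0 at this
    rw [one_mul, add_comm]; exact this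
  -- the fixed field has at most q elements
  have hK : #{t : F | t ^ q = t} ≤ q := by
    have := card_roots_frob_le hq (-1 : F)
    refine le_trans (Finset.card_le_card ?_) this
    intro t ht
    rw [Finset.mem_filter] at ht ⊢
    refine ⟨ht.1, ?_⟩
    rw [ht.2]; ring
  -- the image is in the fixed field
  have himg : Finset.univ.image Tr ⊆ ({t : F | t ^ q = t} : Finset F) := by
    intro d hd
    rw [Finset.mem_image] at hd
    obtain ⟨t, _, rfl⟩ := hd
    rw [Finset.mem_filter]
    refine ⟨Finset.mem_univ _, ?_⟩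
    change (t + t ^ q) ^ q = t + t ^ q
    rw [frob_add hF, pow_q_pow_q hF, add_comm]
  have hfib : ∀ d ∈ Finset.univ.image Tr, #{t : F | Tr t = d} = #{t : F | Tr t = 0} := by
    intro d hd
    rw [Finset.mem_image] at hd
    obtain ⟨t, _, rfl⟩ := hd
    exact AddMonoidHom.card_fiber_eq_of_mem_range Tr ⟨t, rfl⟩ ⟨0, map_zero _⟩
  have hsum : Fintype.card F = ∑ d ∈ Finset.univ.image Tr, #{t : F | Tr t = d} := by
    rw [← Finset.card_univ]
    exact Finset.card_eq_sum_card_fiberwise (fun t _ => Finset.mem_image_of_mem _ (Finset.mem_univ t))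
  rw [Finset.sum_congr rfl hfib, Finset.sum_const, smul_eq_mul, hF] at hsum
  have himg_le : #(Finset.univ.image Tr) ≤ q := le_trans (Finset.card_le_card himg) hK
  have hk : #{t : F | Tr t = 0} = q := by
    by_contra hne
    have hlt : #{t : F | Tr t = 0} < q := lt_of_le_of_ne hker hne
    have : #(Finset.univ.image Tr) * #{t : F | Tr t = 0} < q * q := by
      calc #(Finset.univ.image Tr) * #{t : F | Tr t = 0}
          ≤ q * #{t : F | Tr t = 0} := Nat.mul_le_mul_right _ himg_le
        _ < q * q := Nat.mul_lt_mul_of_pos_left hlt (by omega)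
    nlinarith
  have hr : #(Finset.univ.image Tr) = q := by
    rw [hk] at hsum
    have : q * q = #(Finset.univ.image Tr) * q := by rw [← hsum]; ring
    exact (Nat.eq_of_mul_eq_mul_right (by omega) this).symm
  have himg_eq : Finset.univ.image Tr = ({t : F | t ^ q = t} : Finset F) :=
    Finset.eq_of_subset_of_card_le himg (by rw [hr]; exact hK)
  have hcmem : c ∈ Finset.univ.image Tr := by
    rw [himg_eq, Finset.mem_filter]
    exact ⟨Finset.mem_univ _, hc⟩
  have := hfib c hcmem
  rw [hk] at this
  refine Eq.trans ?_ this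
  rw [Nat.card_eq_fintype_card, Fintype.card_subtype]
  rfl

variable {n : ℕ}

local notation "H" => Cfsg.hermForm n F q

lemma herm_neg_pow (hF : Fintype.card F = q ^ 2) (x : F) (hx : x ^ q = x) : (-x) ^ q = -x := by
  have hq := two_le_of_card hF
  have := frob_sub hF 0 x
  rw [zero_sub, zero_pow (by omega), zero_sub, hx] at this
  exact this

/-- the affine hyperplane `h(v,u) = c` -/
lemma card_herm_eq (hF : Fintype.card F = q ^ 2) (u : Fin n → F) (hu : u ≠ 0) (c : F) :
    Nat.card {v : Fin n → F // H v u = c} = (q ^ 2) ^ (n - 1) := by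
  have hq := two_le_of_card hF
  have h1 : ∀ v, H v u = (fun i => u i ^ q) ⬝ᵥ v := by
    intro v
    unfold Cfsg.hermForm dotProduct
    apply Finset.sum_congr rfl
    intro i _
    ring
  have hne : (fun i => u i ^ q) ≠ 0 := by
    intro h0
    apply hu
    funext i
    have := congrFun h0 i
    exact (pow_eq_zero_iff (by omega)).1 this
  have := card_dotProduct_eq (fun i => u i ^ q) hne c
  rw [Fintype.card_fin, hF] at this
  rw [← this]
  apply Nat.card_congr
  apply Equiv.subtypeEquivRight
  intro v
  rw [h1]

lemma herm_add_smul_self (hF : Fintype.card F = q ^ 2) (u v : Fin n → F) (hu : H u u = 0)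
    (t : F) : H (v + t • u) (v + t • u) = H v v + t ^ q * H v u + t * (H v u) ^ q := by
  rw [herm_add_left, herm_add_right hF, herm_add_right hF, herm_smul_left, herm_smul_left,
    herm_smul_right, herm_smul_right, hu, herm_conj hF]
  ring

/-- isotropic vectors with `h(v,u) = 1`, for isotropic `u ≠ 0` -/
lemma card_herm_one_iso (hF : Fintype.card F = q ^ 2) (u : Fin n → F) (hu : u ≠ 0)
    (hu0 : H u u = 0) :
    Nat.card {v : Fin n → F // H v u = 1 ∧ H v v = 0} * q = (q ^ 2) ^ (n - 1) := by
  classical
  have hq := two_le_of_card hF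
  -- the double count
  have e1 : {p : (Fin n → F) × F // H p.1 u = 1 ∧ H (p.1 + p.2 • u) (p.1 + p.2 • u) = 0} ≃
      Σ v : {v : Fin n → F // H v u = 1}, {t : F // t + t ^ q = - H v.1 v.1} :=
    { toFun := fun p => ⟨⟨p.1.1, p.2.1⟩, ⟨p.1.2, by
        have := p.2.2
        rw [herm_add_smul_self hF u _ hu0, p.2.1] at this
        rw [eq_neg_iff_add_eq_zero]
        refine Eq.trans ?_ this
        change p.1.2 + p.1.2 ^ q + H p.1.1 p.1.1 = _
        ring⟩⟩
      invFun := fun x => ⟨(x.1.1, x.2.1), x.1.2, by
        rw [herm_add_smul_self hF u _ hu0, x.1.2]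
        have := x.2.2
        rw [eq_neg_iff_add_eq_zero] at this
        refine Eq.trans ?_ this
        change H x.1.1 x.1.1 + x.2.1 ^ q * 1 + x.2.1 * 1 ^ q = _
        ring⟩
      left_inv := fun p => rfl
      right_inv := fun x => rfl }
  have e2 : {p : (Fin n → F) × F // H p.1 u = 1 ∧ H (p.1 + p.2 • u) (p.1 + p.2 • u) = 0} ≃
      {v : Fin n → F // H v u = 1 ∧ H v v = 0} × F :=
    { toFun := fun p => (⟨p.1.1 + p.1.2 • u, by
        rw [herm_add_left, herm_smul_left, hu0, mul_zero, add_zero]
        exact p.2.1, p.2.2⟩, p.1.2)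
      invFun := fun x => ⟨(x.1.1 - x.2 • u, x.2), by
        refine ⟨?_, ?_⟩
        · change H (x.1.1 - x.2 • u) u = 1
          rw [herm_sub_left, herm_smul_left, hu0, mul_zero, sub_zero]
          exact x.1.2.1
        · change H (x.1.1 - x.2 • u + x.2 • u) (x.1.1 - x.2 • u + x.2 • u) = 0
          rw [sub_add_cancel]
          exact x.1.2.2⟩
      left_inv := by
        intro p
        apply Subtype.ext
        apply Prod.ext
        · change p.1.1 + p.1.2 • u - p.1.2 • u = p.1.1
          rw [add_sub_cancel_right]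
        · rfl
      right_inv := by
        intro x
        apply Prod.ext
        · apply Subtype.ext
          change x.1.1 - x.2 • u + x.2 • u = x.1.1
          rw [sub_add_cancel]
        · rfl }
  have h1 := Nat.card_congr (e1.symm.trans e2)
  have : Fintype {v : Fin n → F // H v u = 1} := Fintype.ofFinite _
  rw [Nat.card_sigma, Nat.card_prod] at h1
  have hfib : ∀ v : {v : Fin n → F // H v u = 1},
      Nat.card {t : F // t + t ^ q = - H v.1 v.1} = q := by
    intro v
    apply card_trace_fiber hF
    exact herm_neg_pow hF _ (hermForm_self_pow hF n v.1)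
  simp only [hfib, Finset.sum_const, Finset.card_univ, smul_eq_mul] at h1
  rw [← Nat.card_eq_fintype_card, card_herm_eq hF u hu 1, Nat.card_eq_fintype_card (α := F), hF] at h1
  -- h1 : (q^2)^(n-1) * q = N * q^2
  have : (q ^ 2) ^ (n - 1) * q = (Nat.card {v : Fin n → F // H v u = 1 ∧ H v v = 0} * q) * q := by
    rw [h1]; ring
  exact (Nat.eq_of_mul_eq_mul_right (by omega) this).symm

/-- scaling -/
lemma card_herm_eq_iso_scale (hF : Fintype.card F = q ^ 2) (u : Fin n → F) (c : F) (hc : c ≠ 0) :
    Nat.card {v : Fin n → F // H v u = c ∧ H v v = 0} =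
      Nat.card {v : Fin n → F // H v u = 1 ∧ H v v = 0} := by
  apply Nat.card_congr
  refine
    { toFun := fun v => ⟨c⁻¹ • v.1, by
        rw [herm_smul_left, v.2.1, inv_mul_cancel₀ hc], by
        rw [herm_smul_left, herm_smul_right, v.2.2, mul_zero, mul_zero]⟩
      invFun := fun v => ⟨c • v.1, by
        rw [herm_smul_left, v.2.1, mul_one], by
        rw [herm_smul_left, herm_smul_right, v.2.2, mul_zero, mul_zero]⟩
      left_inv := fun v => by
        apply Subtype.ext
        change c • c⁻¹ • v.1 = v.1
        rw [smul_smul, mul_inv_cancel₀ hc, one_smul]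
      right_inv := fun v => by
        apply Subtype.ext
        change c⁻¹ • c • v.1 = v.1
        rw [smul_smul, inv_mul_cancel₀ hc, one_smul] }

/-- isotropic vectors, split by the value of `h(·,u)` -/
lemma card_iso_split (hF : Fintype.card F = q ^ 2) (u : Fin n → F) :
    Nat.card {v : Fin n → F // H v v = 0} =
      Nat.card {v : Fin n → F // H v u = 0 ∧ H v v = 0} +
        (q ^ 2 - 1) * Nat.card {v : Fin n → F // H v u = 1 ∧ H v v = 0} := by
  classical
  let f : {v : Fin n → F // H v v = 0} → F := fun v => H v.1 u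
  have e := Equiv.sigmaFiberEquiv f
  rw [← Nat.card_congr e, Nat.card_sigma]
  have hfib : ∀ c : F, Nat.card {v // f v = c} =
      Nat.card {v : Fin n → F // H v u = c ∧ H v v = 0} := by
    intro c
    apply Nat.card_congr
    exact
      { toFun := fun v => ⟨v.1.1, v.2, v.1.2⟩
        invFun := fun v => ⟨⟨v.1, v.2.2⟩, v.2.1⟩
        left_inv := fun v => rfl
        right_inv := fun v => rfl }
  simp only [hfib]
  rw [← Finset.add_sum_erase Finset.univ _ (Finset.mem_univ (0 : F))]
  congr 1
  rw [Finset.sum_congr rfl (fun c hc => card_herm_eq_iso_scale hF u c (Finset.ne_of_mem_erase hc)),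
    Finset.sum_const, Finset.card_erase_of_mem (Finset.mem_univ _), Finset.card_univ, hF,
    smul_eq_mul]

/-- For isotropic `u ≠ 0`: the number `R` of isotropic `w ∉ ⟨u⟩` orthogonal to `u`. -/
lemma card_perp_iso (hF : Fintype.card F = q ^ 2) (u : Fin n → F) (hu : u ≠ 0)
    (hu0 : H u u = 0) :
    (Nat.card {w : Fin n → F // w ∉ Submodule.span F {u} ∧ (H w u = 0 ∧ H w w = 0)} + q ^ 2) * q +
        (q ^ 2 - 1) * (q ^ 2) ^ (n - 1) =
      Nat.card {v : Fin n → F // H v v = 0} * q := by
  have h1 := card_not_mem_span_add (F := F) u hu (fun w => H w u = 0 ∧ H w w = 0) (by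
    intro a
    constructor
    · rw [herm_smul_left, hu0, mul_zero]
    · rw [herm_smul_left, herm_smul_right, hu0, mul_zero, mul_zero])
  rw [hF] at h1
  rw [h1, card_iso_split hF u, add_mul, mul_assoc, card_herm_one_iso hF u hu hu0]

lemma herm_ti_span (hF : Fintype.card F = q ^ 2) (S : Set (Fin n → F))
    (hS : ∀ u ∈ S, ∀ v ∈ S, H u v = 0) :
    ∀ u ∈ Submodule.span F S, ∀ v ∈ Submodule.span F S, H u v = 0 := by
  apply ti_span (B := H) herm_zero_left (herm_zero_right hF)
    herm_add_left (herm_add_right hF) _ _ S hS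
  · intro a u v h
    rw [herm_smul_left, h, mul_zero]
  · intro a u v h
    rw [herm_smul_right, h, mul_zero]

lemma herm_ti_pair_iff (hF : Fintype.card F = q ^ 2) (u w : Fin n → F) :
    (∀ x ∈ Submodule.span F {u, w}, ∀ y ∈ Submodule.span F {u, w}, H x y = 0) ↔
      H u u = 0 ∧ (H w u = 0 ∧ H w w = 0) := by
  have hq := two_le_of_card hF
  have hu : u ∈ Submodule.span F {u, w} := Submodule.subset_span (Set.mem_insert _ _)
  have hw : w ∈ Submodule.span F {u, w} := Submodule.subset_span (Set.mem_insert_of_mem _ rfl)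
  constructor
  · intro h
    exact ⟨h u hu u hu, h w hw u hu, h w hw w hw⟩
  · rintro ⟨h1, h2, h3⟩
    apply herm_ti_span hF
    rintro x (rfl | rfl) y (rfl | rfl)
    · exact h1
    · rw [← herm_conj hF, h2, zero_pow (by omega)]
    · exact h2
    · exact h3

/-- Totally isotropic lines of the Hermitian form, counted through ordered pairs. -/
theorem card_herm_ti_lines (hF : Fintype.card F = q ^ 2) (c : ℕ)
    (hc : (c + q ^ 2) * q + (q ^ 2 - 1) * (q ^ 2) ^ (n - 1) =
      Nat.card {v : Fin n → F // H v v = 0} * q) :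
    Nat.card {W : Submodule F (Fin n → F) // finrank F W = 2 ∧ ∀ u ∈ W, ∀ v ∈ W, H u v = 0} *
        (((q ^ 2) ^ 2 - 1) * ((q ^ 2) ^ 2 - q ^ 2)) =
      (Nat.card {v : Fin n → F // H v v = 0} - 1) * c := by
  have hq := two_le_of_card hF
  have h1 := card_two_subspaces (F := F) (V := Fin n → F)
    (fun W => ∀ u ∈ W, ∀ v ∈ W, H u v = 0)
  have h2 : Nat.card {s : Fin 2 → (Fin n → F) // LinearIndependent F s ∧
      ∀ u ∈ Submodule.span F (Set.range s), ∀ v ∈ Submodule.span F (Set.range s), H u v = 0} =
      Nat.card {s : Fin 2 → (Fin n → F) // LinearIndependent F s ∧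
        (H (s 0) (s 0) = 0 ∧ (H (s 1) (s 0) = 0 ∧ H (s 1) (s 1) = 0))} := by
    apply Nat.card_congr
    apply Equiv.subtypeEquivRight
    intro s
    have : Set.range s = {s 0, s 1} := by
      have : s = ![s 0, s 1] := by
        funext i; fin_cases i <;> rfl
      conv_lhs => rw [this]
      rw [Matrix.range_cons_cons_empty]
    rw [this, herm_ti_pair_iff hF]
  have h3 := card_pairs (F := F) (V := Fin n → F)
    (fun u w => H u u = 0 ∧ (H w u = 0 ∧ H w w = 0)) (fun u => H u u = 0) c
    (fun _ _ h => h.1) (by
      intro u hu hu0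
      have h := card_perp_iso hF u hu hu0
      have e : Nat.card {w : Fin n → F // w ∉ Submodule.span F {u} ∧
          (H u u = 0 ∧ (H w u = 0 ∧ H w w = 0))} =
          Nat.card {w : Fin n → F // w ∉ Submodule.span F {u} ∧ (H w u = 0 ∧ H w w = 0)} := by
        apply Nat.card_congr
        apply Equiv.subtypeEquivRight
        intro w
        simp [hu0]
      rw [e]
      rw [← hc] at h
      have h' : (Nat.card {w : Fin n → F // w ∉ Submodule.span F {u} ∧
          (H w u = 0 ∧ H w w = 0)} + q ^ 2) * q = (c + q ^ 2) * q := by omega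
      have := Nat.eq_of_mul_eq_mul_right (by omega) h'
      omega)
  have h4 : Nat.card {u : Fin n → F // u ≠ 0 ∧ H u u = 0} =
      Nat.card {v : Fin n → F // H v v = 0} - 1 := by
    have h := card_not_mem_add (F := F) (V := Fin n → F) ⊥ (fun v => H v v = 0) (by
      intro w hw
      rw [Submodule.mem_bot] at hw
      subst hw
      exact herm_zero_left _)
    have h6 : Nat.card (⊥ : Submodule F (Fin n → F)) = 1 := by
      simp
    rw [h6] at h
    have h7 : Nat.card {u : Fin n → F // u ≠ 0 ∧ H u u = 0} =
        Nat.card {w : Fin n → F // w ∉ (⊥ : Submodule F (Fin n → F)) ∧ H w w = 0} := by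
      apply Nat.card_congr
      apply Equiv.subtypeEquivRight
      intro w
      simp
    omega
  rw [h2, h3, h4, hF] at h1
  exact h1.symm

end HermPerp

end Cfsg.Agent.Lib.Helper5
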