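import Mathlib
import Cfsg.Prelude.Def_Classical
import Cfsg.Agent.Lib.Helper5.PSL2Center
import Cfsg.Agent.Lib.Helper37.OmegaIndex
import Cfsg.Agent.Lib.Helper43.Gram
import Cfsg.Agent.Lib.Helper43.QForm
import Cfsg.Agent.Lib.Helper8.Dickson
import Cfsg.Agent.Lib.Helper8.OrthForms
import Cfsg.Agent.Lib.Helper38.SLCard
import Cfsg.Agent.S0287
import Cfsg.Agent.S0243

set_option autoImplicit false
set_option linter.unusedSimpArgs false
set_option linter.unusedVariables false
set_option linter.unnecessarySeqFocus false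
set_option linter.unusedSectionVars false

namespace Cfsg.Agent.Lib.Helper5.Om4

open Matrix
open scoped commutatorElement

abbrev I4 := Fin 2 ⊕ Fin 2

variable {F : Type*} [Field F]

/-- the matrix of a vector -/
def toM (v : I4 → F) : Matrix (Fin 2) (Fin 2) F :=
  !![v (.inl 0), v (.inl 1); - v (.inr 1), v (.inr 0)]

/-- the vector of a matrix -/
def ofM (M : Matrix (Fin 2) (Fin 2) F) : I4 → F :=
  Sum.elim ![M 0 0, M 0 1] ![M 1 1, - M 1 0]

lemma ofM_toM (v : I4 → F) : ofM (toM v) = v := by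
  funext i
  rcases i with i | i <;> fin_cases i <;> simp [ofM, toM]

lemma toM_ofM (M : Matrix (Fin 2) (Fin 2) F) : toM (ofM M) = M := by
  ext i j
  fin_cases i <;> fin_cases j <;> simp [ofM, toM]

lemma det_toM (v : I4 → F) : (toM v).det = Cfsg.quadFormPlus 2 F v := by
  simp [Matrix.det_fin_two, toM, Cfsg.quadFormPlus, Fin.sum_univ_two]

lemma toM_add (u v : I4 → F) : toM (u + v) = toM u + toM v := by
  ext i j
  fin_cases i <;> fin_cases j <;> simp [toM] <;> ring

lemma toM_smul (a : F) (v : I4 → F) : toM (a • v) = a • toM v := by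
  ext i j
  fin_cases i <;> fin_cases j <;> simp [toM]

lemma ofM_add (M N : Matrix (Fin 2) (Fin 2) F) : ofM (M + N) = ofM M + ofM N := by
  funext i
  rcases i with i | i <;> fin_cases i <;> simp [ofM] <;> ring

lemma ofM_smul (a : F) (M : Matrix (Fin 2) (Fin 2) F) : ofM (a • M) = a • ofM M := by
  funext i
  rcases i with i | i <;> fin_cases i <;> simp [ofM]

/-- the left-right action as a linear map -/
noncomputable def lrLin (g : GL (Fin 2) F × GL (Fin 2) F) : (I4 → F) →ₗ[F] (I4 → F) where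
  toFun v := ofM ((g.1 : Matrix (Fin 2) (Fin 2) F) * toM v *
    ((g.2⁻¹ : GL (Fin 2) F) : Matrix (Fin 2) (Fin 2) F))
  map_add' u v := by
    rw [toM_add, mul_add, add_mul, ofM_add]
  map_smul' a v := by
    rw [toM_smul, Matrix.mul_smul, Matrix.smul_mul, ofM_smul]
    rfl

lemma lrLin_apply (g : GL (Fin 2) F × GL (Fin 2) F) (v : I4 → F) :
    lrLin g v = ofM ((g.1 : Matrix (Fin 2) (Fin 2) F) * toM v *
      ((g.2⁻¹ : GL (Fin 2) F) : Matrix (Fin 2) (Fin 2) F)) := rfl

lemma toM_lrLin (g : GL (Fin 2) F × GL (Fin 2) F) (v : I4 → F) :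
    toM (lrLin g v) = (g.1 : Matrix (Fin 2) (Fin 2) F) * toM v *
      ((g.2⁻¹ : GL (Fin 2) F) : Matrix (Fin 2) (Fin 2) F) := by
  rw [lrLin_apply, toM_ofM]

lemma lrLin_one : lrLin (1 : GL (Fin 2) F × GL (Fin 2) F) = 1 := by
  apply LinearMap.ext
  intro v
  rw [lrLin_apply]
  simp [ofM_toM]

lemma lrLin_mul (g h : GL (Fin 2) F × GL (Fin 2) F) : lrLin (g * h) = lrLin g * lrLin h := by
  apply LinearMap.ext
  intro v
  rw [Module.End.mul_apply, lrLin_apply g, toM_lrLin, lrLin_apply]
  congr 1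
  rw [Prod.fst_mul, Prod.snd_mul, _root_.mul_inv_rev, Units.val_mul, Units.val_mul]
  simp only [Matrix.mul_assoc]

/-- the left-right action as a monoid hom to endomorphisms -/
noncomputable def lrEnd : GL (Fin 2) F × GL (Fin 2) F →* Module.End F (I4 → F) where
  toFun := lrLin
  map_one' := lrLin_one
  map_mul' := lrLin_mul

/-- the left-right action as a monoid hom to `GL₄` -/
noncomputable def lrGL : GL (Fin 2) F × GL (Fin 2) F →* GL I4 F :=
  (((LinearMap.toMatrixAlgEquiv' (R := F) (n := I4)).toMulEquiv.toMonoidHom).comp lrEnd).toHomUnits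

lemma lrGL_mulVec (g : GL (Fin 2) F × GL (Fin 2) F) (v : I4 → F) :
    ((lrGL g : GL I4 F) : Matrix I4 I4 F) *ᵥ v = lrLin g v := by
  unfold lrGL
  rw [MonoidHom.coe_toHomUnits]
  simp only [MonoidHom.coe_comp, Function.comp_apply]
  change (LinearMap.toMatrix' (lrLin g)) *ᵥ v = _
  rw [LinearMap.toMatrix'_mulVec]

lemma quadFormPlus_lrLin (g : GL (Fin 2) F × GL (Fin 2) F)
    (hg : (g.1 : Matrix (Fin 2) (Fin 2) F).det = (g.2 : Matrix (Fin 2) (Fin 2) F).det) (v : I4 → F) :
    Cfsg.quadFormPlus 2 F (lrLin g v) = Cfsg.quadFormPlus 2 F v := by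
  have h1 := det_toM (lrLin g v)
  rw [toM_lrLin, Matrix.det_mul, Matrix.det_mul, det_toM, hg] at h1
  have h2 : ((g.2 : Matrix (Fin 2) (Fin 2) F)).det *
      (((g.2⁻¹ : GL (Fin 2) F) : Matrix (Fin 2) (Fin 2) F)).det = 1 := by
    rw [← Matrix.det_mul, ← Units.val_mul, mul_inv_cancel, Units.val_one, Matrix.det_one]
  linear_combination -h1 + (Cfsg.quadFormPlus 2 F v) * h2

lemma lrGL_mem (g : GL (Fin 2) F × GL (Fin 2) F)
    (hg : (g.1 : Matrix (Fin 2) (Fin 2) F).det = (g.2 : Matrix (Fin 2) (Fin 2) F).det) :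
    lrGL g ∈ Cfsg.isometryGroup F (Cfsg.quadFormPlus 2 F) := by
  intro u v
  change Cfsg.quadFormPlus 2 F (((lrGL g : GL I4 F) : Matrix I4 I4 F) *ᵥ u) = _
  rw [lrGL_mulVec, quadFormPlus_lrLin g hg]

/-- `SL₂ × SL₂ → GL₂ × GL₂` -/
noncomputable def incl : Matrix.SpecialLinearGroup (Fin 2) F × Matrix.SpecialLinearGroup (Fin 2) F →*
    GL (Fin 2) F × GL (Fin 2) F :=
  Matrix.SpecialLinearGroup.toGL.prodMap Matrix.SpecialLinearGroup.toGL

/-- the left-right action as a hom `SL₂ × SL₂ → O⁺₄` -/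
noncomputable def lrO : Matrix.SpecialLinearGroup (Fin 2) F × Matrix.SpecialLinearGroup (Fin 2) F →*
    Cfsg.isometryGroup F (Cfsg.quadFormPlus 2 F) :=
  (lrGL.comp incl).codRestrict _ (fun g => lrGL_mem _ (by
    change (g.1.1).det = (g.2.1).det
    rw [g.1.2, g.2.2]))

lemma lrO_val (g : Matrix.SpecialLinearGroup (Fin 2) F × Matrix.SpecialLinearGroup (Fin 2) F) :
    (lrO g).1 = lrGL (incl g) := rfl

/-- the diagonal element `(diag(a,1), diag(a,1))` acting as an isometry -/
noncomputable def dO (a : F) (ha : a ≠ 0) : Cfsg.isometryGroup F (Cfsg.quadFormPlus 2 F) :=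
  ⟨lrGL (dg a ha, dg a ha), lrGL_mem _ rfl⟩

lemma lrO_mem_commutator_left (h3 : ∃ a : F, a ≠ 0 ∧ a ≠ 1)
    (s : Matrix.SpecialLinearGroup (Fin 2) F) :
    lrO (s, 1) ∈ commutator (Cfsg.isometryGroup F (Cfsg.quadFormPlus 2 F)) := by
  obtain ⟨a, ha0, ha1⟩ := h3
  refine transvection_induction
    (fun s => lrO (s, 1) ∈ commutator (Cfsg.isometryGroup F (Cfsg.quadFormPlus 2 F))) ?_ ?_ ?_ s
  · have : ((1 : Matrix.SpecialLinearGroup (Fin 2) F), (1 : Matrix.SpecialLinearGroup (Fin 2) F)) = 1 := rfl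
    rw [this, map_one]; exact Subgroup.one_mem _
  · intro i j hij c
    obtain ⟨c', hc'⟩ := exists_dg_commutator ha0 ha1 hij c
    have : lrO (Matrix.SpecialLinearGroup.transvection hij c, 1) =
        ⁅dO a ha0, lrO (Matrix.SpecialLinearGroup.transvection hij c', 1)⁆ := by
      apply Subtype.ext
      rw [lrO_val]
      change _ = ⁅lrGL (dg a ha0, dg a ha0), lrGL (incl (Matrix.SpecialLinearGroup.transvection hij c', 1))⁆
      rw [← map_commutatorElement]
      congr 1
      apply Prod.ext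
      · change _ = ⁅dg a ha0, Matrix.SpecialLinearGroup.toGL (Matrix.SpecialLinearGroup.transvection hij c')⁆
        rw [hc']; rfl
      · change Matrix.SpecialLinearGroup.toGL 1 = ⁅dg a ha0, Matrix.SpecialLinearGroup.toGL 1⁆
        simp
    rw [this]
    exact Subgroup.commutator_mem_commutator (Subgroup.mem_top _) (Subgroup.mem_top _)
  · intro A B hA hB
    have : ((A * B, 1) : Matrix.SpecialLinearGroup (Fin 2) F × Matrix.SpecialLinearGroup (Fin 2) F) =
        (A, 1) * (B, 1) := by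
      apply Prod.ext <;> simp
    rw [this, map_mul]
    exact Subgroup.mul_mem _ hA hB

lemma lrO_mem_commutator_right (h3 : ∃ a : F, a ≠ 0 ∧ a ≠ 1)
    (s : Matrix.SpecialLinearGroup (Fin 2) F) :
    lrO (1, s) ∈ commutator (Cfsg.isometryGroup F (Cfsg.quadFormPlus 2 F)) := by
  obtain ⟨a, ha0, ha1⟩ := h3
  refine transvection_induction
    (fun s => lrO (1, s) ∈ commutator (Cfsg.isometryGroup F (Cfsg.quadFormPlus 2 F))) ?_ ?_ ?_ s
  · have : ((1 : Matrix.SpecialLinearGroup (Fin 2) F), (1 : Matrix.SpecialLinearGroup (Fin 2) F)) = 1 := rfl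
    rw [this, map_one]; exact Subgroup.one_mem _
  · intro i j hij c
    obtain ⟨c', hc'⟩ := exists_dg_commutator ha0 ha1 hij c
    have : lrO (1, Matrix.SpecialLinearGroup.transvection hij c) =
        ⁅dO a ha0, lrO (1, Matrix.SpecialLinearGroup.transvection hij c')⁆ := by
      apply Subtype.ext
      rw [lrO_val]
      change _ = ⁅lrGL (dg a ha0, dg a ha0), lrGL (incl (1, Matrix.SpecialLinearGroup.transvection hij c'))⁆
      rw [← map_commutatorElement]
      congr 1
      apply Prod.ext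
      · change Matrix.SpecialLinearGroup.toGL 1 = ⁅dg a ha0, Matrix.SpecialLinearGroup.toGL 1⁆
        simp
      · change _ = ⁅dg a ha0, Matrix.SpecialLinearGroup.toGL (Matrix.SpecialLinearGroup.transvection hij c')⁆
        rw [hc']; rfl
    rw [this]
    exact Subgroup.commutator_mem_commutator (Subgroup.mem_top _) (Subgroup.mem_top _)
  · intro A B hA hB
    have : ((1, A * B) : Matrix.SpecialLinearGroup (Fin 2) F × Matrix.SpecialLinearGroup (Fin 2) F) =
        (1, A) * (1, B) := by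
      apply Prod.ext <;> simp
    rw [this, map_mul]
    exact Subgroup.mul_mem _ hA hB

lemma lrO_mem_Omega (h3 : ∃ a : F, a ≠ 0 ∧ a ≠ 1)
    (g : Matrix.SpecialLinearGroup (Fin 2) F × Matrix.SpecialLinearGroup (Fin 2) F) :
    lrO g ∈ Cfsg.Omega F (Cfsg.quadFormPlus 2 F) := by
  have : g = (g.1, 1) * (1, g.2) := by
    apply Prod.ext <;> simp
  rw [this, map_mul]
  exact Subgroup.mul_mem _ (lrO_mem_commutator_left h3 g.1) (lrO_mem_commutator_right h3 g.2)

/-- the left-right action `SL₂ × SL₂ → Ω⁺₄` -/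
noncomputable def lrOmega (h3 : ∃ a : F, a ≠ 0 ∧ a ≠ 1) :
    Matrix.SpecialLinearGroup (Fin 2) F × Matrix.SpecialLinearGroup (Fin 2) F →*
      Cfsg.Omega F (Cfsg.quadFormPlus 2 F) :=
  lrO.codRestrict _ (lrO_mem_Omega h3)

abbrev SS (F : Type*) [Field F] :=
  Matrix.SpecialLinearGroup (Fin 2) F × Matrix.SpecialLinearGroup (Fin 2) F

lemma lrOmega_eq_one_iff (h3 : ∃ a : F, a ≠ 0 ∧ a ≠ 1) (g : SS F) :
    lrOmega h3 g = 1 ↔ ∀ v, lrLin (incl g) v = v := by
  constructor
  · intro h v
    have h1 : lrGL (incl g) = 1 := by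
      have := congrArg (fun x => ((x : Cfsg.Omega F (Cfsg.quadFormPlus 2 F)) :
        Cfsg.isometryGroup F (Cfsg.quadFormPlus 2 F)).1) h
      exact this
    rw [← lrGL_mulVec, h1, Units.val_one, Matrix.one_mulVec]
  · intro h
    apply Subtype.ext
    apply Subtype.ext
    apply Units.ext
    change ((lrGL (incl g) : GL I4 F) : Matrix I4 I4 F) = 1
    apply Matrix.toLin'.injective
    apply LinearMap.ext
    intro v
    rw [Matrix.toLin'_apply, lrGL_mulVec, h, Matrix.toLin'_one, LinearMap.id_apply]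

lemma mem_ker_lrOmega (h3 : ∃ a : F, a ≠ 0 ∧ a ≠ 1) (g : SS F) :
    g ∈ (lrOmega h3).ker ↔
      g.1 = g.2 ∧ g.1 ∈ Subgroup.center (Matrix.SpecialLinearGroup (Fin 2) F) := by
  rw [MonoidHom.mem_ker, lrOmega_eq_one_iff]
  constructor
  · intro h
    have key : ∀ M : Matrix (Fin 2) (Fin 2) F, g.1.1 * M = M * g.2.1 := by
      intro M
      have h1 := congrArg toM (h (ofM M))
      rw [toM_lrLin, toM_ofM] at h1
      have h1' : g.1.1 * M * ((Matrix.SpecialLinearGroup.toGL g.2)⁻¹ : GL (Fin 2) F).1 = M := h1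
      have h2 : (g.1.1 * M * ((Matrix.SpecialLinearGroup.toGL g.2)⁻¹ : GL (Fin 2) F).1) * g.2.1 =
          M * g.2.1 := by
        rw [h1']
      rw [Matrix.mul_assoc] at h2
      have h3 : ((Matrix.SpecialLinearGroup.toGL g.2)⁻¹ : GL (Fin 2) F).1 * g.2.1 = 1 := by
        have : g.2.1 = (Matrix.SpecialLinearGroup.toGL g.2 : GL (Fin 2) F).1 := rfl
        rw [this, ← Units.val_mul, inv_mul_cancel, Units.val_one]
      rw [h3, Matrix.mul_one] at h2
      exact h2
    have heq : g.1 = g.2 := by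
      apply Subtype.ext
      have := key 1
      rw [Matrix.mul_one, Matrix.one_mul] at this
      exact this
    refine ⟨heq, ?_⟩
    apply mem_center_of_commute
    · have := key !![0, 1; 0, 0]
      rw [← heq] at this
      exact this
    · have := key !![0, 0; 1, 0]
      rw [← heq] at this
      exact this
  · rintro ⟨heq, hc⟩ v
    obtain ⟨r, hr, hr2⟩ := Matrix.SpecialLinearGroup.mem_center_iff.1 hc
    rw [lrLin_apply]
    have hc' : (Matrix.SpecialLinearGroup.toGL g.1 : GL (Fin 2) F).1 * toM v =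
        toM v * (Matrix.SpecialLinearGroup.toGL g.2 : GL (Fin 2) F).1 := by
      change g.1.1 * toM v = toM v * g.2.1
      rw [← heq, ← hr2]
      exact (Matrix.scalar_commute r (fun _ => Commute.all _ _) (toM v)).eq
    change ofM ((Matrix.SpecialLinearGroup.toGL g.1 : GL (Fin 2) F).1 * toM v *
      ((Matrix.SpecialLinearGroup.toGL g.2)⁻¹ : GL (Fin 2) F).1) = v
    rw [hc', Matrix.mul_assoc, ← Units.val_mul, mul_inv_cancel, Units.val_one, Matrix.mul_one,
      ofM_toM]

/-- the kernel of the left-right action is the diagonal centre -/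
noncomputable def kerEquiv (h3 : ∃ a : F, a ≠ 0 ∧ a ≠ 1) :
    Subgroup.center (Matrix.SpecialLinearGroup (Fin 2) F) ≃ (lrOmega h3).ker where
  toFun z := ⟨(z.1, z.1), (mem_ker_lrOmega h3 _).2 ⟨rfl, z.2⟩⟩
  invFun g := ⟨g.1.1, ((mem_ker_lrOmega h3 _).1 g.2).2⟩
  left_inv z := rfl
  right_inv g := by
    apply Subtype.ext
    apply Prod.ext
    · rfl
    · exact ((mem_ker_lrOmega h3 _).1 g.2).1

/-- the Gram matrix of `quadFormPlus 2` -/
def gram4 (F : Type*) [Field F] : Matrix I4 I4 F :=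
  Matrix.fromBlocks (0 : Matrix (Fin 2) (Fin 2) F) 1 1 0

lemma gram4_isGram (h2 : (2 : F) ≠ 0) :
    Cfsg.Agent.Lib.Helper37.IsGram (Cfsg.quadFormPlus 2 F) (gram4 F) where
  two_ne := h2
  symm := by
    unfold gram4
    rw [Matrix.IsSymm, Matrix.fromBlocks_transpose]
    simp
  self := by
    intro u
    rw [Matrix.toBilin'_apply']
    unfold gram4 Cfsg.quadFormPlus
    simp [dotProduct, Matrix.mulVec, Fintype.sum_sum_type, Matrix.fromBlocks_apply₁₁,
      Matrix.fromBlocks_apply₁₂, Matrix.fromBlocks_apply₂₁, Matrix.fromBlocks_apply₂₂,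
      Fin.sum_univ_two, Matrix.one_apply]
    ring

lemma index_omega4_even [Fintype F] (hq : 3 ≤ Fintype.card F) (h2 : (2 : F) = 0) :
    (Cfsg.Omega F (Cfsg.quadFormPlus 2 F)).index = 2 := by
  have := Cfsg.Agent.Lib.Helper8.commutator_index_two_char2 h2
    (Cfsg.Agent.Lib.Helper8.plusForm 2 F) (Cfsg.Agent.Lib.Helper8.plusForm_nondegenerate 2 F)
    (Or.inl (by omega)) (Cfsg.Agent.Lib.Helper8.plusForm_exists_ne_zero 2 F (by omega))
  rw [← Cfsg.Agent.Lib.Helper8.plusForm_coe] at this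
  exact this

lemma index_omega4_odd [Fintype F] (h2 : (2 : F) ≠ 0) :
    (Cfsg.Omega F (Cfsg.quadFormPlus 2 F)).index = 4 :=
  Cfsg.Agent.Lib.Helper37.index_omega_eq_four (gram4_isGram h2)
    (by
      unfold gram4
      rw [Cfsg.Agent.Lib.Helper43.det_fromBlocks_zero_one_one_zero]
      norm_num) (by simp)

lemma map_mem_center_iff {G H : Type*} [Group G] [Group H] (f : G →* H)
    (hf : Function.Surjective f) (g : G) :
    f g ∈ Subgroup.center H ↔ ∀ x : G, ⁅g, x⁆ ∈ f.ker := by
  rw [Subgroup.mem_center_iff]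
  constructor
  · intro h x
    rw [MonoidHom.mem_ker, map_commutatorElement, commutatorElement_eq_one_iff_mul_comm]
    exact (h (f x)).symm
  · intro h y
    obtain ⟨x, rfl⟩ := hf y
    have := h x
    rw [MonoidHom.mem_ker, map_commutatorElement, commutatorElement_eq_one_iff_mul_comm] at this
    exact this.symm

section Final

variable [Fintype F]

lemma lrOmega_surjective (hq : 3 ≤ Fintype.card F) (h3 : ∃ a : F, a ≠ 0 ∧ a ≠ 1) :
    Function.Surjective (lrOmega h3) := by
  classical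
  obtain ⟨q, hF⟩ : ∃ q, Fintype.card F = q := ⟨_, rfl⟩
  rw [hF] at hq
  have hn : Nat.card (Matrix.SpecialLinearGroup (Fin 2) F) = q * (q ^ 2 - 1) := by
    rw [Cfsg.Agent.Lib.Helper38.card_SL2, hF]
  have hPz := Subgroup.card_eq_card_quotient_mul_card_subgroup
    (Subgroup.center (Matrix.SpecialLinearGroup (Fin 2) F))
  have hP := Cfsg.Agent.S0243.result (F := F) (q := q) hF 2 le_rfl
  rw [Fin.prod_univ_two] at hP
  simp only [Fin.val_zero, Fin.val_one, pow_zero, pow_one] at hP
  have hO := Cfsg.Agent.S0287.result (F := F) (q := q) hF 2 (by omega)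
  simp only [show (2 : ℕ) - 1 = 1 from rfl, Finset.prod_range_one, zero_add, mul_one] at hO
  have hidx := Subgroup.card_mul_index (Cfsg.Omega F (Cfsg.quadFormPlus 2 F))
  have hker : Nat.card (lrOmega h3).ker =
      Nat.card (Subgroup.center (Matrix.SpecialLinearGroup (Fin 2) F)) :=
    (Nat.card_congr (kerEquiv h3)).symm
  have hrange := Subgroup.card_mul_index (lrOmega h3).ker
  rw [Subgroup.index_ker, hker, Nat.card_prod, hn] at hrange
  set P := Nat.card (Matrix.ProjectiveSpecialLinearGroup (Fin 2) F) with hPdef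
  set z := Nat.card (Subgroup.center (Matrix.SpecialLinearGroup (Fin 2) F)) with hz
  set R := Nat.card (lrOmega h3).range with hR
  set W := Nat.card (Cfsg.Omega F (Cfsg.quadFormPlus 2 F)) with hW
  rw [hn] at hPz
  have hPz' : q * (q ^ 2 - 1) = P * z := hPz
  have e3 : q ^ 2 - q = q * (q - 1) := by
    obtain ⟨k, rfl⟩ : ∃ k, q = k + 1 := ⟨q - 1, by omega⟩
    simp only [Nat.add_sub_cancel]
    apply Nat.sub_eq_of_eq_add; ring
  rw [e3] at hP
  have hq1 : 0 < q - 1 := by omega
  have hnpos : 0 < q * (q ^ 2 - 1) := by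
    apply Nat.mul_pos (by omega)
    have : 9 ≤ q ^ 2 := by nlinarith
    omega
  have hPpos : 0 < P := by
    rcases Nat.eq_zero_or_pos P with h | h
    · rw [h, zero_mul] at hPz'; omega
    · exact h
  have hRW : R = W := by
    by_cases h2 : (2 : F) = 0
    · -- even
      have hi := index_omega4_even (by rw [hF]; exact hq) h2
      rw [hi, hO] at hidx
      have heven : q % 2 = 0 := by
        by_contra hc
        have : q % 2 = 1 := by omega
        rw [← hF] at this
        exact (Cfsg.Agent.Lib.Helper43.two_ne_zero_iff_odd_card.2 this) h2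
      have hgcd : Nat.gcd 2 (q - 1) = 1 := by
        have : (q - 1) % 2 = 1 := by omega
        exact (Nat.Prime.coprime_iff_not_dvd Nat.prime_two).2 (by omega)
      rw [hgcd, one_mul] at hP
      have hP' : P = q * (q ^ 2 - 1) := by
        apply Nat.eq_of_mul_eq_mul_left hq1
        rw [hP]; ring
      have hz1 : z = 1 := by
        rw [← hP'] at hPz'
        have : P * 1 = P * z := by rw [mul_one]; exact hPz'
        exact (Nat.eq_of_mul_eq_mul_left hPpos this).symm
      rw [hz1, one_mul] at hrange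
      have : W * 2 = R * 2 := by
        rw [hidx, hrange]; ring
      omega
    · -- odd
      have hi := index_omega4_odd h2
      rw [hi, hO] at hidx
      have hodd : q % 2 = 1 := by
        rw [← hF]
        exact Cfsg.Agent.Lib.Helper43.two_ne_zero_iff_odd_card.1 h2
      have hgcd : Nat.gcd 2 (q - 1) = 2 := by
        apply Nat.gcd_eq_left
        omega
      rw [hgcd] at hP
      have hP' : 2 * P = q * (q ^ 2 - 1) := by
        apply Nat.eq_of_mul_eq_mul_left hq1
        calc (q - 1) * (2 * P) = 2 * ((q - 1) * P) := by ring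
          _ = (q ^ 2 - 1) * (q * (q - 1)) := hP
          _ = _ := by ring
      have hz2 : z = 2 := by
        rw [← hP'] at hPz'
        have : P * 2 = P * z := by rw [← hPz']; ring
        exact (Nat.eq_of_mul_eq_mul_left hPpos this).symm
      rw [hz2] at hrange
      have : W * 4 = R * 4 := by
        rw [hidx]
        calc 2 * q ^ (2 * 1) * (q ^ 2 - 1) * (q ^ 2 - 1)
            = 2 * (q * (q ^ 2 - 1) * (q * (q ^ 2 - 1))) := by ring
          _ = 2 * (2 * R) := by rw [hrange]
          _ = _ := by ring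
      omega
  have htop : (lrOmega h3).range = ⊤ := Subgroup.eq_top_of_card_eq _ hRW
  exact MonoidHom.range_eq_top.1 htop

/-- the map to `PΩ⁺₄` -/
noncomputable def toPOmega (h3 : ∃ a : F, a ≠ 0 ∧ a ≠ 1) :
    SS F →* Cfsg.POmega F (Cfsg.quadFormPlus 2 F) :=
  (QuotientGroup.mk' _).comp (lrOmega h3)

/-- the map to `PSL₂ × PSL₂` -/
noncomputable def toPP : SS F →* Matrix.ProjectiveSpecialLinearGroup (Fin 2) F ×
    Matrix.ProjectiveSpecialLinearGroup (Fin 2) F :=
  (QuotientGroup.mk' _).prodMap (QuotientGroup.mk' _)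

lemma mem_ker_toPP (g : SS F) : g ∈ (toPP (F := F)).ker ↔
    g.1 ∈ Subgroup.center (Matrix.SpecialLinearGroup (Fin 2) F) ∧
      g.2 ∈ Subgroup.center (Matrix.SpecialLinearGroup (Fin 2) F) := by
  rw [MonoidHom.mem_ker]
  unfold toPP
  rw [MonoidHom.prodMap_def, MonoidHom.prod_apply, Prod.mk_eq_one]
  simp only [MonoidHom.coe_comp, Function.comp_apply, MonoidHom.coe_fst, MonoidHom.coe_snd,
    QuotientGroup.mk'_apply, QuotientGroup.eq_one_iff]

lemma mem_ker_toPOmega (hq : 3 ≤ Fintype.card F) (h3 : ∃ a : F, a ≠ 0 ∧ a ≠ 1) (g : SS F) :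
    g ∈ (toPOmega h3).ker ↔
    g.1 ∈ Subgroup.center (Matrix.SpecialLinearGroup (Fin 2) F) ∧
      g.2 ∈ Subgroup.center (Matrix.SpecialLinearGroup (Fin 2) F) := by
  rw [MonoidHom.mem_ker]
  unfold toPOmega
  rw [MonoidHom.coe_comp, Function.comp_apply, QuotientGroup.mk'_apply, QuotientGroup.eq_one_iff,
    map_mem_center_iff _ (lrOmega_surjective hq h3)]
  constructor
  · intro h
    constructor
    · rw [Subgroup.mem_center_iff]
      intro x
      have := (mem_ker_lrOmega h3 _).1 (h (x, 1))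
      have h1 : ⁅g.1, x⁆ = ⁅g.2, 1⁆ := this.1
      rw [commutatorElement_one_right, commutatorElement_eq_one_iff_mul_comm] at h1
      exact h1.symm
    · rw [Subgroup.mem_center_iff]
      intro x
      have := (mem_ker_lrOmega h3 _).1 (h (1, x))
      have h1 : ⁅g.1, 1⁆ = ⁅g.2, x⁆ := this.1
      rw [commutatorElement_one_right, eq_comm, commutatorElement_eq_one_iff_mul_comm] at h1
      exact h1.symm
  · rintro ⟨h1, h2⟩ x
    rw [mem_ker_lrOmega]
    have e1 : ⁅g.1, x.1⁆ = 1 := by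
      rw [commutatorElement_eq_one_iff_mul_comm]
      exact ((Subgroup.mem_center_iff.1 h1) x.1).symm
    have e2 : ⁅g.2, x.2⁆ = 1 := by
      rw [commutatorElement_eq_one_iff_mul_comm]
      exact ((Subgroup.mem_center_iff.1 h2) x.2).symm
    change ⁅g.1, x.1⁆ = ⁅g.2, x.2⁆ ∧ ⁅g.1, x.1⁆ ∈ _
    rw [e1, e2]
    exact ⟨rfl, Subgroup.one_mem _⟩

/-- `PΩ⁺₄(q) ≅ PSL₂(q) × PSL₂(q)` for `q ≥ 3`. -/
theorem pomega4_equiv (hq : 3 ≤ Fintype.card F) :
    Nonempty (Cfsg.POmega F (Cfsg.quadFormPlus 2 F) ≃*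
      Matrix.ProjectiveSpecialLinearGroup (Fin 2) F ×
        Matrix.ProjectiveSpecialLinearGroup (Fin 2) F) := by
  classical
  have h3 : ∃ a : F, a ≠ 0 ∧ a ≠ 1 := by
    by_contra hcon
    push Not at hcon
    have : Fintype.card F ≤ 2 := by
      have hsub : (Finset.univ : Finset F) ⊆ {0, 1} := by
        intro a _
        by_cases ha : a = 0
        · simp [ha]
        · simp [hcon a ha]
      calc Fintype.card F = (Finset.univ : Finset F).card := rfl
        _ ≤ ({0, 1} : Finset F).card := Finset.card_le_card hsub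
        _ ≤ 2 := Finset.card_le_two
    omega
  have hs1 : Function.Surjective (toPOmega h3) := by
    unfold toPOmega
    rw [MonoidHom.coe_comp]
    exact (QuotientGroup.mk'_surjective _).comp (lrOmega_surjective hq h3)
  have hs2 : Function.Surjective (toPP (F := F)) := by
    unfold toPP
    rintro ⟨a, b⟩
    obtain ⟨a', rfl⟩ := QuotientGroup.mk_surjective a
    obtain ⟨b', rfl⟩ := QuotientGroup.mk_surjective b
    exact ⟨(a', b'), rfl⟩
  have hker : (toPOmega h3).ker = (toPP (F := F)).ker := by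
    ext g
    rw [mem_ker_toPOmega hq h3, mem_ker_toPP]
  exact ⟨((QuotientGroup.quotientKerEquivOfSurjective _ hs1).symm.trans
    (QuotientGroup.quotientMulEquivOfEq hker)).trans
    (QuotientGroup.quotientKerEquivOfSurjective _ hs2)⟩

end Final

end Cfsg.Agent.Lib.Helper5.Om4
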