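import Mathlib
import Cfsg.Agent.Lib.Helper5.BalRed

set_option autoImplicit false
set_option linter.unusedSimpArgs false
set_option linter.unusedVariables false
set_option linter.unusedSectionVars false
set_option linter.unnecessarySeqFocus false
set_option linter.style.haveILetI false

/-!
# Local balance in `Aut(PSL_n(F))`: matrices commuting projectively with transvections;
the centralizer condition in the field case
-/

namespace Cfsg.Agent.Lib.Helper5.Bal

open Matrix Cfsg.Agent.Lib.Helper5.AutPSLn Cfsg.Agent.Lib.Helper45.AutPSL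
  Cfsg.Agent.Lib.Helper5.BalE

variable {n : ℕ} {F : Type*} [Field F]

/-- an automorphism fixing the fixed field of `σ` is a power of `σ` -/
lemma fc_mem_zpowers_of_fix [Finite F] (σ τ : F ≃+* F) (h : ∀ a, σ a = a → τ a = a) :
    τ ∈ Subgroup.zpowers σ := by
  classical
  haveI : Finite (F ≃+* F) :=
    Finite.of_injective (fun e : F ≃+* F => (e : F → F)) DFunLike.coe_injective
  let G : Subgroup (F ≃+* F) := Subgroup.zpowers σ
  let f : F ≃ₐ[FixedPoints.subfield G F] F := AlgEquiv.ofRingEquiv (f := τ) (fun x => by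
    apply h
    exact x.2 ⟨σ, Subgroup.mem_zpowers σ⟩)
  obtain ⟨g, hg⟩ := FixedPoints.toAlgAut_surjective G F f
  have : g.1 = τ := by
    ext a
    have := AlgEquiv.congr_fun hg a
    exact this
  rw [← this]
  exact g.2

lemma gl_mul_inv (k : GL (Fin n) F) : k.1 * (k⁻¹).1 = 1 := by
  rw [← Units.val_mul, mul_inv_cancel]; rfl

lemma gl_inv_mul (k : GL (Fin n) F) : (k⁻¹).1 * k.1 = 1 := by
  rw [← Units.val_mul, inv_mul_cancel]; rfl

/-- **the unipotent trick**: if `k σ(1 + N₁) k⁻¹ = c (1 + N₂)` with `N₁² = N₂² = 0` then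
`c = 1` and `k σ(N₁) k⁻¹ = N₂` -/
lemma unipotent_fix' (hn : 1 ≤ n) (k : GL (Fin n) F) (τ : F ≃+* F)
    (N₁ N : Matrix (Fin n) (Fin n) F) (hN₁ : N₁ * N₁ = 0)
    (hN : N * N = 0) (c : F)
    (h : k.1 * (1 + N₁).map τ * (k⁻¹).1 = c • (1 + N)) :
    c = 1 ∧ k.1 * N₁.map τ * (k⁻¹).1 = N := by
  obtain ⟨N', hN'⟩ : ∃ N', N' = k.1 * N₁.map τ * (k⁻¹).1 := ⟨_, rfl⟩
  have hsq : N' * N' = 0 := by
    rw [hN']
    calc k.1 * N₁.map τ * (k⁻¹).1 * (k.1 * N₁.map τ * (k⁻¹).1)
        = k.1 * (N₁.map τ * ((k⁻¹).1 * k.1) * N₁.map τ) * (k⁻¹).1 := by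
          simp only [Matrix.mul_assoc]
      _ = 0 := by
          rw [gl_inv_mul, Matrix.mul_one, ← map_sigma_mul, hN₁]
          simp
  have h1 : 1 + N' = c • (1 + N) := by
    rw [hN', ← h]
    have : (1 + N₁).map τ = 1 + N₁.map τ := by
      rw [Matrix.map_add _ (fun a b => map_add τ a b), map_sigma_one]
    rw [this, Matrix.mul_add, Matrix.add_mul, Matrix.mul_one, gl_mul_inv]
  have h2 : N' = (c - 1) • (1 : Matrix (Fin n) (Fin n) F) + c • N := by
    have : N' = c • (1 + N) - 1 := by rw [← h1]; abel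
    rw [this, smul_add, sub_smul, one_smul]
    abel
  have hc : c = 1 := by
    by_contra hc
    have hc' : c - 1 ≠ 0 := sub_ne_zero.2 hc
    have h3 : N' * N' = ((c - 1) * (c - 1)) • (1 : Matrix (Fin n) (Fin n) F) +
        ((c - 1) * c + c * (c - 1)) • N := by
      rw [h2]
      simp only [Matrix.add_mul, Matrix.mul_add, Matrix.smul_mul, Matrix.mul_smul, Matrix.one_mul,
        Matrix.mul_one, hN, smul_zero, add_zero, smul_smul, smul_add, add_smul]
      abel
    rw [hsq] at h3
    have h4 : ((c - 1) * (c - 1)) • N = 0 := by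
      have := congrArg (fun X => X * N) h3
      simp only [Matrix.zero_mul, Matrix.add_mul, Matrix.smul_mul, Matrix.one_mul, hN, smul_zero,
        add_zero] at this
      exact this.symm
    have hN0 : N = 0 := by
      rcases smul_eq_zero.1 h4 with h5 | h5
      · exact absurd h5 (mul_ne_zero hc' hc')
      · exact h5
    rw [hN0, smul_zero, add_zero] at h3
    have h6 := congrFun (congrFun h3 ⟨0, by omega⟩) ⟨0, by omega⟩
    simp only [Matrix.zero_apply, Matrix.smul_apply, Matrix.one_apply_eq, smul_eq_mul,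
      mul_one] at h6
    exact mul_ne_zero hc' hc' h6.symm
  refine ⟨hc, ?_⟩
  rw [← hN', h2, hc, sub_self, zero_smul, zero_add, one_smul]

lemma unipotent_fix (hn : 1 ≤ n) (k : GL (Fin n) F) (τ : F ≃+* F) (N : Matrix (Fin n) (Fin n) F)
    (hN : N * N = 0) (c : F)
    (h : k.1 * (1 + N).map τ * (k⁻¹).1 = c • (1 + N)) :
    c = 1 ∧ k.1 * N.map τ * (k⁻¹).1 = N :=
  unipotent_fix' hn k τ N N hN hN c h

/-- from `k A k⁻¹ = B` to `k A = B k` -/
lemma conj_eq_to_mul (k : GL (Fin n) F) {A B : Matrix (Fin n) (Fin n) F}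
    (h : k.1 * A * (k⁻¹).1 = B) : k.1 * A = B * k.1 := by
  rw [← h, Matrix.mul_assoc, Matrix.mul_assoc, gl_inv_mul, Matrix.mul_one]

/-- a field automorphism applied to a vector -/
def vmap (τ : F ≃+* F) (u : Fin n → F) : Fin n → F := fun i => τ (u i)

lemma vecMulVec_map (τ : F ≃+* F) (u w : Fin n → F) :
    (Matrix.vecMulVec u w).map τ = Matrix.vecMulVec (vmap τ u) (vmap τ w) := by
  ext i j
  simp [Matrix.vecMulVec_apply, vmap]

lemma mul_vecMulVec_mul (A B : Matrix (Fin n) (Fin n) F) (u w : Fin n → F) :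
    A * Matrix.vecMulVec u w * B = Matrix.vecMulVec (A *ᵥ u) (w ᵥ* B) := by
  rw [Matrix.mul_vecMulVec, Matrix.vecMulVec_mul]

lemma vecMulVec_sq (u w : Fin n → F) (h : w ⬝ᵥ u = 0) :
    Matrix.vecMulVec u w * Matrix.vecMulVec u w = 0 := by
  rw [Matrix.vecMulVec_mul_vecMulVec, h, zero_smul]
  ext i j
  simp [Matrix.vecMulVec_apply]

/-- equal rank one matrices have proportional columns -/
lemma col_of_vecMulVec_eq {u w u' w' : Fin n → F} (hu : u ≠ 0) (hw : w ≠ 0)
    (h : Matrix.vecMulVec u' w' = Matrix.vecMulVec u w) : ∃ l : F, l ≠ 0 ∧ u' = l • u := by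
  obtain ⟨j, hj⟩ : ∃ j, w j ≠ 0 := by
    by_contra hcon
    push Not at hcon
    exact hw (funext hcon)
  have h1 : ∀ i, u' i * w' j = u i * w j := fun i => by
    have := congrFun (congrFun h i) j
    simpa [Matrix.vecMulVec_apply] using this
  have hw'j : w' j ≠ 0 := by
    intro h0
    apply hu
    ext i
    have := h1 i
    rw [h0, mul_zero] at this
    rcases mul_eq_zero.1 this.symm with h2 | h2
    · exact h2
    · exact absurd h2 hj
  refine ⟨w j / w' j, div_ne_zero hj hw'j, ?_⟩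
  ext i
  rw [Pi.smul_apply, smul_eq_mul]
  field_simp
  rw [h1 i]
  ring

/-- **projective commutation with a transvection** `1 + u wᵀ`: the centre `u` is an
eigenvector of the semilinear map `k ∘ τ`, and `k τ(u wᵀ) k⁻¹ = u wᵀ` -/
lemma transvection_fix (hn : 1 ≤ n) (k : GL (Fin n) F) (τ : F ≃+* F) {u w : Fin n → F}
    (hu : u ≠ 0) (hw : w ≠ 0) (huw : w ⬝ᵥ u = 0) (c : F)
    (h : k.1 * (1 + Matrix.vecMulVec u w).map τ * (k⁻¹).1 = c • (1 + Matrix.vecMulVec u w)) :
    (∃ l : F, l ≠ 0 ∧ k.1 *ᵥ vmap τ u = l • u) ∧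
      Matrix.vecMulVec (k.1 *ᵥ vmap τ u) (vmap τ w ᵥ* (k⁻¹).1) = Matrix.vecMulVec u w := by
  obtain ⟨-, h2⟩ := unipotent_fix hn k τ _ (vecMulVec_sq u w huw) c h
  rw [vecMulVec_map, mul_vecMulVec_mul] at h2
  exact ⟨col_of_vecMulVec_eq hu hw h2, h2⟩

end Cfsg.Agent.Lib.Helper5.Bal

namespace Cfsg.Agent.Lib.Helper5.Bal

open Matrix Cfsg.Agent.Lib.Helper5.AutPSLn Cfsg.Agent.Lib.Helper45.AutPSL
  Cfsg.Agent.Lib.Helper5.BalE

variable {n : ℕ} {F : Type*} [Field F]

lemma single_sq {i j : Fin n} (hij : i ≠ j) (a b : F) :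
    Matrix.single i j a * Matrix.single i j b = 0 := by
  rw [Matrix.single_mul_single_of_ne _ _ _ _ hij.symm]

lemma single_map (τ : F ≃+* F) (i j : Fin n) (a : F) :
    (Matrix.single i j a).map τ = Matrix.single i j (τ a) := by
  ext r s
  by_cases h : i = r ∧ j = s
  · obtain ⟨rfl, rfl⟩ := h
    simp
  · rw [Matrix.map_apply, Matrix.single_apply, Matrix.single_apply, if_neg h, if_neg h, map_zero]

lemma transvection_mem_fixSL (σ : F ≃+* F) {i j : Fin n} (hij : i ≠ j) {a : F} (ha : σ a = a) :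
    Matrix.SpecialLinearGroup.transvection hij a ∈ fixSL σ := by
  apply Subtype.ext
  rw [fieldS_coe', Matrix.SpecialLinearGroup.transvection_coe,
    Matrix.map_add _ (fun a b => map_add σ a b), map_sigma_one, single_map, ha]

/-- BAL-FC1: the centralizer condition in the field case -/
theorem cent_field_mat [Fintype F] (hn : 2 ≤ n) (σ : F ≃+* F) (k : GL (Fin n) F) (τ : F ≃+* F)
    (h : ∀ x ∈ fixSL σ, ∃ c : F, k.1 * x.1.map τ * (k⁻¹).1 = c • x.1) :
    τ ∈ Subgroup.zpowers σ ∧ k ∈ Subgroup.center (GL (Fin n) F) := by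
  have key : ∀ (i j : Fin n) (hij : i ≠ j) (a : F), σ a = a →
      k.1 * Matrix.single i j (τ a) = Matrix.single i j a * k.1 := by
    intro i j hij a ha
    obtain ⟨c, hc⟩ := h _ (transvection_mem_fixSL σ hij ha)
    rw [Matrix.SpecialLinearGroup.transvection_coe] at hc
    obtain ⟨-, h2⟩ := unipotent_fix (by omega) k τ _ (single_sq hij a a) c hc
    rw [single_map] at h2
    exact conj_eq_to_mul k h2
  -- `k` is scalar
  have hdiag : ∀ (i j : Fin n), i ≠ j → (∀ r, r ≠ i → k.1 r i = 0) ∧ k.1 i i = k.1 j j := by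
    intro i j hij
    have e := key i j hij 1 (map_one σ)
    rw [map_one] at e
    constructor
    · intro r hr
      have := congrFun (congrFun e r) j
      rw [Matrix.mul_single_apply_same, Matrix.single_mul_apply_of_ne _ _ _ _ _ hr, mul_one] at this
      exact this
    · have := congrFun (congrFun e i) j
      rw [Matrix.mul_single_apply_same, Matrix.single_mul_apply_same, mul_one, one_mul] at this
      exact this
  have i0 : Fin n := ⟨0, by omega⟩
  have i1 : Fin n := ⟨1, by omega⟩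
  have hother : ∀ i : Fin n, ∃ j : Fin n, i ≠ j := by
    intro i
    by_cases hi : i = ⟨0, by omega⟩
    · exact ⟨⟨1, by omega⟩, by rw [hi]; simp [Fin.ext_iff]⟩
    · exact ⟨⟨0, by omega⟩, hi⟩
  obtain ⟨l, hl⟩ : ∃ l : F, l = k.1 ⟨0, by omega⟩ ⟨0, by omega⟩ := ⟨_, rfl⟩
  have hkk : ∀ i : Fin n, k.1 i i = l := by
    intro i
    by_cases hi : i = ⟨0, by omega⟩
    · rw [hi, hl]
    · rw [hl]; exact (hdiag i _ hi).2
  have hk : k.1 = l • (1 : Matrix (Fin n) (Fin n) F) := by
    ext r i
    by_cases hri : r = i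
    · subst hri
      simp [hkk]
    · obtain ⟨j, hj⟩ := hother i
      rw [(hdiag i j hj).1 r hri]
      simp [Matrix.one_apply_ne hri]
  have hl0 : l ≠ 0 := by
    rintro rfl
    rw [zero_smul] at hk
    have h1 := gl_mul_inv k
    rw [hk, Matrix.zero_mul] at h1
    have := congrFun (congrFun h1 i0) i0
    simp at this
  constructor
  · apply fc_mem_zpowers_of_fix
    intro a ha
    have e := key i0 _ (hother i0).choose_spec a ha
    have := congrFun (congrFun e i0) (hother i0).choose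
    rw [hk] at this
    simp only [Matrix.smul_mul, Matrix.mul_smul, Matrix.one_mul, Matrix.mul_one, Matrix.smul_apply,
      Matrix.single_apply_same, smul_eq_mul] at this
    exact mul_left_cancel₀ hl0 this
  · rw [Subgroup.mem_center_iff]
    intro g
    apply Units.ext
    rw [Units.val_mul, Units.val_mul, hk]
    simp

/-- BAL-FC2: no graph-type automorphism centralizes `SL_n(F₀)`, `n ≥ 3` -/
theorem no_iota_field [Fintype F] (hn : 3 ≤ n) (σ : F ≃+* F) (k : GL (Fin n) F) (τ : F ≃+* F) :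
    ¬ ∀ x ∈ fixSL (n := n) σ, ∃ c : F, k.1 * (((x⁻¹).1)ᵀ).map τ * (k⁻¹).1 = c • x.1 := by
  intro h
  have key : ∀ (i j : Fin n) (hij : i ≠ j), ∀ r, r ≠ i → k.1 r j = 0 := by
    intro i j hij r hr
    obtain ⟨c, hc⟩ := h _ (transvection_mem_fixSL σ hij (map_one σ))
    have hinv : ((Matrix.SpecialLinearGroup.transvection hij (1 : F))⁻¹).1ᵀ =
        1 + Matrix.single j i (-1 : F) := by
      have h1 : (Matrix.SpecialLinearGroup.transvection hij (1 : F))⁻¹ =
          Matrix.SpecialLinearGroup.transvection hij (-1 : F) := by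
        apply inv_eq_of_mul_eq_one_right
        apply Subtype.ext
        rw [val_mul, Matrix.SpecialLinearGroup.transvection_coe,
          Matrix.SpecialLinearGroup.transvection_coe, val_one]
        simp only [Matrix.add_mul, Matrix.mul_add, Matrix.one_mul, Matrix.mul_one, single_sq hij]
        rw [add_zero, add_assoc, ← Matrix.single_add]
        simp
      rw [h1, Matrix.SpecialLinearGroup.transvection_coe, Matrix.transpose_add,
        Matrix.transpose_one, Matrix.transpose_single]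
    rw [hinv, Matrix.SpecialLinearGroup.transvection_coe] at hc
    obtain ⟨-, h2⟩ := unipotent_fix' (by omega) k τ _ _ (single_sq hij.symm _ _)
      (single_sq hij 1 1) c hc
    rw [single_map] at h2
    have e := conj_eq_to_mul k h2
    have := congrFun (congrFun e r) i
    rw [Matrix.mul_single_apply_same, Matrix.single_mul_apply_of_ne _ _ _ _ _ hr, map_neg,
      map_one, mul_neg, mul_one, neg_eq_zero] at this
    exact this
  -- a zero column
  let j : Fin n := ⟨0, by omega⟩
  let i : Fin n := ⟨1, by omega⟩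
  let i' : Fin n := ⟨2, by omega⟩
  have hij : i ≠ j := by simp [i, j, Fin.ext_iff]
  have hi'j : i' ≠ j := by simp [i', j, Fin.ext_iff]
  have hii' : i ≠ i' := by simp [i, i', Fin.ext_iff]
  have hcol : ∀ r, k.1 r j = 0 := by
    intro r
    by_cases hr : r = i
    · exact key i' j hi'j r (by rw [hr]; exact hii')
    · exact key i j hij r hr
  have h1 := gl_inv_mul k
  have := congrFun (congrFun h1 j) j
  rw [Matrix.mul_apply] at this
  simp only [hcol, mul_zero, Finset.sum_const_zero, Matrix.one_apply_eq] at this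
  exact zero_ne_one this

/-- BAL-FN -/
theorem L0_ne_bot (hn : 2 ≤ n) (σ : F ≃+* F) : L0 (n := n) σ ≠ ⊥ := by
  intro h
  let i : Fin n := ⟨0, by omega⟩
  let j : Fin n := ⟨1, by omega⟩
  have hij : i ≠ j := by simp [i, j, Fin.ext_iff]
  have h1 : pr (Matrix.SpecialLinearGroup.transvection hij (1 : F)) ∈ L0 (n := n) σ :=
    ⟨_, transvection_mem_fixSL σ hij (map_one σ), rfl⟩
  rw [h, Subgroup.mem_bot, pr_def, QuotientGroup.eq_one_iff,
    Matrix.SpecialLinearGroup.transvection_mem_center_iff] at h1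
  exact one_ne_zero h1

end Cfsg.Agent.Lib.Helper5.Bal
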