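import Mathlib
import Cfsg.Agent.Lib.Helper5.BalFC

set_option autoImplicit false
set_option linter.unusedSimpArgs false
set_option linter.unusedVariables false
set_option linter.unusedSectionVars false
set_option linter.unnecessarySeqFocus false
set_option linter.style.haveILetI false

/-!
# Local balance in `Aut(PSL_n(F))`: the centralizer condition for symplectic subgroups
-/

namespace Cfsg.Agent.Lib.Helper5.Bal

open Matrix Cfsg.Agent.Lib.Helper5.AutPSLn Cfsg.Agent.Lib.Helper45.AutPSL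
  Cfsg.Agent.Lib.Helper5.BalE

variable {n : ℕ} {F : Type*} [Field F]

lemma vmap_ee (τ : F ≃+* F) (i : Fin n) : vmap τ (ee i : Fin n → F) = ee i := by
  ext r
  simp only [vmap, ee_apply]
  split_ifs <;> simp

lemma vmap_add (τ : F ≃+* F) (u w : Fin n → F) : vmap τ (u + w) = vmap τ u + vmap τ w := by
  ext r
  simp [vmap]

lemma vmap_smul (τ : F ≃+* F) (a : F) (u : Fin n → F) : vmap τ (a • u) = τ a • vmap τ u := by
  ext r
  simp [vmap]

lemma vmap_ne_zero (τ : F ≃+* F) {u : Fin n → F} (hu : u ≠ 0) : vmap τ u ≠ 0 := by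
  intro h
  apply hu
  ext r
  have := congrFun h r
  simpa [vmap] using this

lemma mulVec_ee (A : Matrix (Fin n) (Fin n) F) (i r : Fin n) : (A *ᵥ ee i) r = A r i := by
  unfold ee
  rw [Matrix.mulVec_single_one]
  rfl

/-- a semilinear map `k ∘ τ` fixing the points `<e_i>` and `<e_i + a e_j>` (`i ≠ j`, all `a`)
is a scalar, and `τ = 1` -/
lemma semilinear_scalar (hn : 2 ≤ n) (k : GL (Fin n) F) (τ : F ≃+* F)
    (h1 : ∀ i : Fin n, ∃ l : F, k.1 *ᵥ ee i = l • ee i)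
    (h2 : ∀ (i j : Fin n), i ≠ j → ∀ a : F, ∃ l : F,
      k.1 *ᵥ vmap τ (ee i + a • ee j) = l • (ee i + a • ee j)) :
    τ = 1 ∧ k ∈ Subgroup.center (GL (Fin n) F) := by
  choose l hl using h1
  have hl0 : ∀ i, l i ≠ 0 := by
    intro i h0
    have h3 := hl i
    rw [h0, zero_smul] at h3
    exact mulVec_ne_zero k (ee_ne_zero i) h3
  have key : ∀ (i j : Fin n), i ≠ j → ∀ a : F, τ a * l j = l i * a := by
    intro i j hij a
    obtain ⟨l', hl'⟩ := h2 i j hij a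
    rw [vmap_add, vmap_smul, vmap_ee, vmap_ee, Matrix.mulVec_add, Matrix.mulVec_smul, hl i,
      hl j] at hl'
    have e1 := congrFun hl' i
    have e2 := congrFun hl' j
    simp only [Pi.add_apply, Pi.smul_apply, ee_apply, smul_eq_mul, if_true, if_neg hij,
      if_neg hij.symm, mul_zero, add_zero, zero_add, mul_one] at e1 e2
    rw [← e1] at e2
    rw [e2]
  have hother : ∀ i : Fin n, ∃ j : Fin n, i ≠ j := by
    intro i
    by_cases hi : i = ⟨0, by omega⟩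
    · exact ⟨⟨1, by omega⟩, by rw [hi]; simp [Fin.ext_iff]⟩
    · exact ⟨⟨0, by omega⟩, hi⟩
  have hleq : ∀ i j : Fin n, l i = l j := by
    intro i j
    by_cases hij : i = j
    · rw [hij]
    · have := key i j hij 1
      rw [map_one, one_mul, mul_one] at this
      exact this.symm
  constructor
  · ext a
    obtain ⟨j, hj⟩ := hother ⟨0, by omega⟩
    have := key _ j hj a
    rw [hleq j ⟨0, by omega⟩, mul_comm] at this
    exact mul_left_cancel₀ (hl0 _) this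
  · have hk : k.1 = l ⟨0, by omega⟩ • (1 : Matrix (Fin n) (Fin n) F) := by
      ext r i
      have e := congrFun (hl i) r
      rw [mulVec_ee, hleq i ⟨0, by omega⟩] at e
      rw [e]
      simp only [Pi.smul_apply, ee_apply, smul_eq_mul, Matrix.smul_apply, Matrix.one_apply]
    rw [Subgroup.mem_center_iff]
    intro g
    apply Units.ext
    rw [Units.val_mul, Units.val_mul, hk]
    simp

/-- an alternating matrix gives an alternating form -/
lemma alt_dot (h2 : (2 : F) ≠ 0) {A : Matrix (Fin n) (Fin n) F} (hA : Aᵀ = -A) (v : Fin n → F) :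
    (A *ᵥ v) ⬝ᵥ v = 0 := by
  have h1 : (A *ᵥ v) ⬝ᵥ v = -((A *ᵥ v) ⬝ᵥ v) := by
    calc (A *ᵥ v) ⬝ᵥ v = v ⬝ᵥ (A *ᵥ v) := dotProduct_comm _ _
      _ = (v ᵥ* A) ⬝ᵥ v := Matrix.dotProduct_mulVec v A v
      _ = (Aᵀ *ᵥ v) ⬝ᵥ v := by rw [Matrix.mulVec_transpose]
      _ = -((A *ᵥ v) ⬝ᵥ v) := by rw [hA, Matrix.neg_mulVec, neg_dotProduct]
  have h3 : (2 : F) * ((A *ᵥ v) ⬝ᵥ v) = 0 := by linear_combination h1
  rcases mul_eq_zero.1 h3 with h | h
  · exact absurd h h2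
  · exact h

lemma inv_alt (g : GL (Fin n) F) (hg : g.1ᵀ = -g.1) : ((g⁻¹).1)ᵀ = -(g⁻¹).1 := by
  have h1 : ((g⁻¹).1)ᵀ * g.1ᵀ = 1 := by
    rw [← Matrix.transpose_mul, gl_mul_inv, Matrix.transpose_one]
  rw [hg, Matrix.mul_neg] at h1
  have h2 : ((g⁻¹).1)ᵀ * g.1 = -1 := by rw [← h1, neg_neg]
  calc ((g⁻¹).1)ᵀ = ((g⁻¹).1)ᵀ * (g.1 * (g⁻¹).1) := by rw [gl_mul_inv, Matrix.mul_one]
    _ = (((g⁻¹).1)ᵀ * g.1) * (g⁻¹).1 := by rw [Matrix.mul_assoc]
    _ = -(g⁻¹).1 := by rw [h2, Matrix.neg_mul, Matrix.one_mul]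

/-- symplectic transvections -/
lemma symp_tv_mem (h2 : (2 : F) ≠ 0) (g : GL (Fin n) F) (hg : g.1ᵀ = -g.1) (v : Fin n → F) :
    ((g⁻¹).1 *ᵥ v) ⬝ᵥ v = 0 ∧ tv v ((g⁻¹).1 *ᵥ v) ∈ formSL g.1 := by
  have hd : ((g⁻¹).1 *ᵥ v) ⬝ᵥ v = 0 := alt_dot h2 (inv_alt g hg) v
  refine ⟨hd, ?_⟩
  rw [mem_formSL, tv_coe hd]
  obtain ⟨w, hw⟩ : ∃ w, w = (g⁻¹).1 *ᵥ v := ⟨_, rfl⟩
  rw [← hw] at hd ⊢
  have e1 : g.1 *ᵥ w = v := by
    rw [hw, Matrix.mulVec_mulVec, gl_mul_inv, Matrix.one_mulVec]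
  have e2 : w ᵥ* g.1 = -v := by
    rw [← Matrix.mulVec_transpose, hg, Matrix.neg_mulVec, e1]
  have e3 : (-v) ⬝ᵥ w = 0 := by rw [neg_dotProduct, dotProduct_comm, hd, neg_zero]
  rw [Matrix.transpose_add, Matrix.transpose_one, Matrix.transpose_vecMulVec, Matrix.add_mul,
    Matrix.one_mul, Matrix.mul_add, Matrix.mul_one, Matrix.add_mul,
    Matrix.vecMulVec_mul, e2, Matrix.mul_vecMulVec, e1, Matrix.vecMulVec_mul_vecMulVec, e3,
    zero_smul]
  ext i j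
  simp [Matrix.vecMulVec_apply]

/-- BAL-SC: the centralizer condition for the symplectic group of an alternating matrix -/
theorem cent_symp_mat [Fintype F] (hn : 3 ≤ n) (h2 : (2 : F) ≠ 0) (g : GL (Fin n) F)
    (hg : g.1ᵀ = -g.1) (k : GL (Fin n) F) (τ : F ≃+* F)
    (h : ∀ x ∈ formSL g.1, ∃ c : F, k.1 * x.1.map τ * (k⁻¹).1 = c • x.1) :
    τ = 1 ∧ k ∈ Subgroup.center (GL (Fin n) F) := by
  have key : ∀ v : Fin n → F, v ≠ 0 → ∃ l : F, k.1 *ᵥ vmap τ v = l • v := by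
    intro v hv
    obtain ⟨hd, hmem⟩ := symp_tv_mem h2 g hg v
    obtain ⟨c, hc⟩ := h _ hmem
    rw [tv_coe hd] at hc
    have hw : (g⁻¹).1 *ᵥ v ≠ 0 := mulVec_ne_zero g⁻¹ hv
    obtain ⟨⟨l, -, hl⟩, -⟩ := transvection_fix (by omega) k τ hv hw hd c hc
    exact ⟨l, hl⟩
  apply semilinear_scalar (by omega) k τ
  · intro i
    have := key (ee i) (ee_ne_zero i)
    rwa [vmap_ee] at this
  · intro i j hij a
    apply key
    intro h0
    have := congrFun h0 i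
    simp [ee_apply, hij] at this

end Cfsg.Agent.Lib.Helper5.Bal
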