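import Mathlib
import Cfsg.Agent.Lib.Helper5.BalSC
import Cfsg.Agent.Lib.Helper13.SU3Inv1

set_option autoImplicit false
set_option linter.unusedSimpArgs false
set_option linter.unusedVariables false
set_option linter.unusedSectionVars false
set_option linter.unnecessarySeqFocus false
set_option linter.style.haveILetI false

/-!
# Local balance in `Aut(PSL_n(F))`: the centralizer condition for unitary subgroups
-/

namespace Cfsg.Agent.Lib.Helper5.Bal

open Matrix Cfsg.Agent.Lib.Helper5.AutPSLn Cfsg.Agent.Lib.Helper45.AutPSL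
  Cfsg.Agent.Lib.Helper5.BalE

variable {n : ℕ} {F : Type*} [Field F]

/-- the Frobenius `a ↦ a ^ q₀` as a ring automorphism -/
noncomputable def ucFrob [Fintype F] {q₀ : ℕ} (hF : Fintype.card F = q₀ ^ 2) : F ≃+* F where
  toFun := Cfsg.Agent.Lib.Helper99.frobU hF
  invFun := Cfsg.Agent.Lib.Helper99.frobU hF
  left_inv := Cfsg.Agent.Lib.Helper99.frobU_frobU hF
  right_inv := Cfsg.Agent.Lib.Helper99.frobU_frobU hF
  map_mul' := map_mul _
  map_add' := map_add _

lemma ucFrob_apply [Fintype F] {q₀ : ℕ} (hF : Fintype.card F = q₀ ^ 2) (a : F) :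
    ucFrob hF a = a ^ q₀ := Cfsg.Agent.Lib.Helper99.frobU_apply hF a

lemma ucFrob_ucFrob [Fintype F] {q₀ : ℕ} (hF : Fintype.card F = q₀ ^ 2) (a : F) :
    ucFrob hF (ucFrob hF a) = a := Cfsg.Agent.Lib.Helper99.frobU_frobU hF a

lemma vmap_vmap (σ : F ≃+* F) (hσ2 : ∀ a, σ (σ a) = a) (v : Fin n → F) :
    vmap σ (vmap σ v) = v := by
  ext r
  exact hσ2 _

/-- unitary transvections -/
lemma unit_tv_mem [Fintype F] {q₀ : ℕ} (σ : F ≃+* F) (hσ : ∀ a, σ a = a ^ q₀)
    (hσ2 : ∀ a, σ (σ a) = a) (v : Fin n → F) (hv : vmap σ v ⬝ᵥ v = 0) (a : F)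
    (ha : a + σ a = 0) :
    (a • vmap σ v) ⬝ᵥ v = 0 ∧ tv v (a • vmap σ v) ∈ Cfsg.SU n F q₀ := by
  have hd : (a • vmap σ v) ⬝ᵥ v = 0 := by rw [smul_dotProduct, hv, smul_zero]
  refine ⟨hd, ?_⟩
  rw [mem_SU_iff_mul σ hσ, tv_coe hd]
  have e1 : (1 + Matrix.vecMulVec v (a • vmap σ v)).map σ =
      1 + Matrix.vecMulVec (vmap σ v) (σ a • v) := by
    rw [Matrix.map_add _ (fun a b => map_add σ a b), map_sigma_one, vecMulVec_map, vmap_smul,
      vmap_vmap σ hσ2]
  rw [e1, Matrix.transpose_add, Matrix.transpose_one, Matrix.transpose_vecMulVec, Matrix.add_mul,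
    Matrix.one_mul, Matrix.mul_add, Matrix.mul_one, Matrix.vecMulVec_mul_vecMulVec]
  have e2 : v ⬝ᵥ vmap σ v = 0 := by rw [dotProduct_comm]; exact hv
  rw [e2, zero_smul]
  ext i j
  simp only [Matrix.add_apply, Matrix.vecMulVec_apply, Pi.smul_apply, smul_eq_mul, Pi.zero_apply,
    mul_zero, add_zero]
  have : vmap σ v i * (σ a * v j) + a * vmap σ v i * v j = (a + σ a) * (vmap σ v i * v j) := by
    ring
  rw [add_assoc, this, ha, zero_mul, add_zero]

/-- BAL-UC: the centralizer condition for the unitary group -/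
theorem cent_unit_mat [Fintype F] (hn : 3 ≤ n) (h2 : (2 : F) ≠ 0) {q₀ : ℕ}
    (hF : Fintype.card F = q₀ ^ 2) (k : GL (Fin n) F) (τ : F ≃+* F)
    (h : ∀ x ∈ Cfsg.SU n F q₀, ∃ c : F, k.1 * x.1.map τ * (k⁻¹).1 = c • x.1) :
    τ = 1 ∧ k ∈ Subgroup.center (GL (Fin n) F) := by
  obtain ⟨σ, hσd⟩ : ∃ σ : F ≃+* F, σ = ucFrob hF := ⟨_, rfl⟩
  have hσ : ∀ a, σ a = a ^ q₀ := fun a => by rw [hσd]; exact ucFrob_apply hF a
  have hσ2 : ∀ a, σ (σ a) = a := fun a => by rw [hσd]; exact ucFrob_ucFrob hF a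
  obtain ⟨t, ht0, ht⟩ := Cfsg.Agent.Lib.Helper99.exists_trace_zero hF
  have ht' : t + σ t = 0 := by rw [hσ]; exact ht
  -- every isotropic point is fixed
  have key : ∀ v : Fin n → F, v ≠ 0 → vmap σ v ⬝ᵥ v = 0 →
      ∃ l : F, k.1 *ᵥ vmap τ v = l • v := by
    intro v hv hiso
    obtain ⟨hd, hmem⟩ := unit_tv_mem σ hσ hσ2 v hiso t ht'
    obtain ⟨c, hc⟩ := h _ hmem
    rw [tv_coe hd] at hc
    have hw : t • vmap σ v ≠ 0 := by
      intro h0
      rcases smul_eq_zero.1 h0 with h1 | h1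
      · exact ht0 h1
      · exact vmap_ne_zero σ hv h1
    obtain ⟨⟨l, -, hl⟩, -⟩ := transvection_fix (by omega) k τ hv hw hd c hc
    exact ⟨l, hl⟩
  -- an element of norm `-1`
  obtain ⟨ζ, hζ⟩ := Cfsg.Agent.Lib.Helper13.exists_norm_eq hF (-1 : F) (by simp)
    (by rw [Cfsg.Agent.Lib.Helper99.frob_neg hF, one_pow])
  have hζ' : ζ * σ ζ = -1 := by rw [hσ]; exact hζ
  have hζ0 : ζ ≠ 0 := by
    rintro rfl
    rw [zero_mul] at hζ'
    have : (1 : F) = 0 := by linear_combination hζ'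
    exact one_ne_zero this
  have hiso2 : ∀ (i j : Fin n), i ≠ j → ∀ z : F, z * σ z = -1 →
      vmap σ (ee i + z • ee j) ⬝ᵥ (ee i + z • ee j) = 0 := by
    intro i j hij z hz
    rw [vmap_add, vmap_smul, vmap_ee, vmap_ee]
    simp only [add_dotProduct, dotProduct_add, smul_dotProduct, dotProduct_smul, ee_dot, ee_apply,
      smul_eq_mul, if_true, if_neg hij, if_neg hij.symm, mul_zero, add_zero, zero_add, mul_one]
    linear_combination hz
  -- `k` is diagonal
  have hdiag : ∀ (i r : Fin n), r ≠ i → k.1 r i = 0 := by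
    intro i r hri
    obtain ⟨j, hji, hjr⟩ : ∃ j : Fin n, j ≠ i ∧ j ≠ r := by
      by_contra hcon
      push Not at hcon
      have hsub : (Finset.univ : Finset (Fin n)) ⊆ {i, r} := by
        intro j _
        by_cases hj : j = i
        · simp [hj]
        · simp [hcon j hj]
      have := Finset.card_le_card hsub
      rw [Finset.card_univ, Fintype.card_fin] at this
      have h3 : ({i, r} : Finset (Fin n)).card ≤ 2 := Finset.card_insert_le _ _
      omega
    have hij : i ≠ j := hji.symm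
    obtain ⟨l, hl⟩ := key _ (by
      intro h0
      have := congrFun h0 i
      simp [ee_apply, hij] at this) (hiso2 i j hij ζ hζ')
    obtain ⟨l', hl'⟩ := key _ (by
      intro h0
      have := congrFun h0 i
      simp [ee_apply, hij] at this) (hiso2 i j hij (-ζ) (by rw [map_neg]; linear_combination hζ'))
    rw [vmap_add, vmap_smul, vmap_ee, vmap_ee, Matrix.mulVec_add, Matrix.mulVec_smul] at hl hl'
    have e1 := congrFun hl r
    have e2 := congrFun hl' r
    simp only [Pi.add_apply, Pi.smul_apply, mulVec_ee, ee_apply, smul_eq_mul, if_neg hri,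
      if_neg hjr.symm, mul_zero, add_zero, map_neg, neg_mul] at e1 e2
    have e3 : (2 : F) * k.1 r i = 0 := by linear_combination e1 + e2
    rcases mul_eq_zero.1 e3 with h0 | h0
    · exact absurd h0 h2
    · exact h0
  have hcol : ∀ i : Fin n, k.1 *ᵥ ee i = k.1 i i • ee i := by
    intro i
    ext r
    rw [mulVec_ee, Pi.smul_apply, ee_apply, smul_eq_mul]
    by_cases hri : r = i
    · rw [hri, if_pos rfl, mul_one]
    · rw [if_neg hri, mul_zero, hdiag i r hri]
  -- the key relation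
  have hrel : ∀ (i j : Fin n), i ≠ j → ∀ x : F, τ x * k.1 j j = k.1 i i * x := by
    intro i j hij x
    obtain ⟨m, hmi, hmj⟩ : ∃ m : Fin n, m ≠ i ∧ m ≠ j := by
      by_contra hcon
      push Not at hcon
      have hsub : (Finset.univ : Finset (Fin n)) ⊆ {i, j} := by
        intro m _
        by_cases hm : m = i
        · simp [hm]
        · simp [hcon m hm]
      have := Finset.card_le_card hsub
      rw [Finset.card_univ, Fintype.card_fin] at this
      have h3 : ({i, j} : Finset (Fin n)).card ≤ 2 := Finset.card_insert_le _ _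
      omega
    -- `y` with `1 + x σ(x) + y σ(y) = 0`
    obtain ⟨y, hy⟩ : ∃ y : F, y * σ y = -1 - x * σ x := by
      by_cases hc0 : -1 - x * σ x = 0
      · exact ⟨0, by rw [zero_mul, hc0]⟩
      · have hfix : (-1 - x * σ x) ^ q₀ = -1 - x * σ x := by
          rw [← hσ, map_sub, map_neg, map_one, map_mul, hσ2, mul_comm]
        obtain ⟨y, hy⟩ := Cfsg.Agent.Lib.Helper13.exists_norm_eq hF _ hc0 hfix
        exact ⟨y, by rw [hσ]; exact hy⟩
    obtain ⟨v, hvd⟩ : ∃ v : Fin n → F, v = ee i + x • ee j + y • ee m := ⟨_, rfl⟩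
    have hvi : v i = 1 := by
      rw [hvd]
      simp [ee_apply, hij, hmi.symm]
    have hvj : v j = x := by
      rw [hvd]
      simp [ee_apply, hij.symm, hmj.symm]
    have hv0 : v ≠ 0 := by
      intro h0
      rw [h0] at hvi
      simp at hvi
    have hiso : vmap σ v ⬝ᵥ v = 0 := by
      rw [hvd, vmap_add, vmap_add, vmap_smul, vmap_smul, vmap_ee, vmap_ee, vmap_ee]
      simp only [add_dotProduct, dotProduct_add, smul_dotProduct, dotProduct_smul, ee_dot,
        ee_apply, smul_eq_mul, if_true, if_neg hij, if_neg hij.symm, if_neg hmi, if_neg hmi.symm,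
        if_neg hmj, if_neg hmj.symm, mul_zero, add_zero, zero_add, mul_one]
      linear_combination hy
    obtain ⟨l, hl⟩ := key v hv0 hiso
    rw [hvd, vmap_add, vmap_add, vmap_smul, vmap_smul, vmap_ee, vmap_ee, vmap_ee,
      Matrix.mulVec_add, Matrix.mulVec_add, Matrix.mulVec_smul, Matrix.mulVec_smul, hcol, hcol,
      hcol, ← hvd] at hl
    have e1 := congrFun hl i
    have e2 := congrFun hl j
    simp only [Pi.add_apply, Pi.smul_apply, ee_apply, smul_eq_mul, if_true, if_neg hij,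
      if_neg hij.symm, if_neg hmi, if_neg hmi.symm, if_neg hmj, if_neg hmj.symm, mul_zero,
      add_zero, zero_add, mul_one, hvi, hvj] at e1 e2
    rw [← e1] at e2
    exact e2
  apply semilinear_scalar (by omega) k τ
  · intro i
    exact ⟨_, hcol i⟩
  · intro i j hij a
    refine ⟨k.1 i i, ?_⟩
    rw [vmap_add, vmap_smul, vmap_ee, vmap_ee, Matrix.mulVec_add, Matrix.mulVec_smul, hcol,
      hcol, smul_add, smul_smul, smul_smul, hrel i j hij a]

end Cfsg.Agent.Lib.Helper5.Bal
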