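import Mathlib
import Cfsg.Agent.Lib.Helper5.AutPSUSylow
import Cfsg.Agent.Lib.Helper13.UnitaryConfig

set_option autoImplicit false
set_option linter.unusedSimpArgs false
set_option linter.unusedVariables false
set_option linter.unnecessarySeqFocus false
set_option linter.unusedSectionVars false
set_option linter.style.haveILetI false

/-!
# Automorphisms of `PSU_n(q)` permute the long root subgroups
-/

namespace Cfsg.Agent.Lib.Helper5.AutPSU

open Matrix Cfsg.Agent.Lib.Helper99 Cfsg.Agent.Lib.Helper99.SURoot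
open scoped Pointwise

variable {F : Type*} [Field F] [Fintype F] {q n : ℕ}

local notation "hh" => Cfsg.hermForm n F q

/-- the image in `PSU_n(q)` of the root subgroup of the isotropic vector `v` -/
def Xb (n q : ℕ) (v : Fin n → F) : Subgroup (Cfsg.PSU n F q) := (root n q v).map pr

lemma mem_Xb (hF : Fintype.card F = q ^ 2) {v : Fin n → F} (hv0 : v ≠ 0) (hv : hh v v = 0)
    (y : Cfsg.PSU n F q) :
    y ∈ Xb n q v ↔ ∃ c : F, c + c ^ q = 0 ∧ y = pr (tvElt n hF v c) := by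
  unfold Xb
  rw [Subgroup.mem_map]
  constructor
  · rintro ⟨t, ht, rfl⟩
    obtain ⟨c, hc, rfl⟩ := (mem_root_iff n hF v hv0 hv t).1 ht
    exact ⟨c, hc, rfl⟩
  · rintro ⟨c, hc, rfl⟩
    exact ⟨_, (mem_root_iff n hF v hv0 hv _).2 ⟨c, hc, rfl⟩, rfl⟩

lemma Xb_smul (hF : Fintype.card F = q ^ 2) {v : Fin n → F} (hv0 : v ≠ 0) (hv : hh v v = 0)
    {l : F} (hl : l ≠ 0) : Xb n q (l • v) = Xb n q v := by
  unfold Xb
  rw [root_smul n hF l hl v hv0 hv]

lemma Xb_conj_mem (hF : Fintype.card F = q ^ 2) {v : Fin n → F} (hv0 : v ≠ 0) (hv : hh v v = 0)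
    (g : ↥(Cfsg.SU n F q)) {y : Cfsg.PSU n F q} (hy : y ∈ Xb n q v) :
    pr g * y * (pr g)⁻¹ ∈ Xb n q (mat n g *ᵥ v) := by
  obtain ⟨c, hc, rfl⟩ := (mem_Xb hF hv0 hv y).1 hy
  rw [mem_Xb hF (mulVec_ne_zero n g v hv0) (by rw [su_preserves, hv])]
  refine ⟨c, hc, ?_⟩
  rw [← map_inv, ← map_mul, ← map_mul, conj_elt n hF g v hv c hc]

lemma Xb_conj_iff (hF : Fintype.card F = q ^ 2) {v : Fin n → F} (hv0 : v ≠ 0) (hv : hh v v = 0)
    (g : ↥(Cfsg.SU n F q)) (y : Cfsg.PSU n F q) :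
    pr g * y * (pr g)⁻¹ ∈ Xb n q (mat n g *ᵥ v) ↔ y ∈ Xb n q v := by
  constructor
  · intro h
    have h1 := Xb_conj_mem hF (mulVec_ne_zero n g v hv0) (by rw [su_preserves, hv]) g⁻¹ h
    rw [su_inv_mulVec_mulVec, map_inv] at h1
    have h2 : (pr g)⁻¹ * (pr g * y * (pr g)⁻¹) * (pr g)⁻¹⁻¹ = y := by group
    rw [h2] at h1
    exact h1
  · exact Xb_conj_mem hF hv0 hv g

/-- a nonzero vector orthogonal to two given vectors, `n ≥ 3` -/
lemma exists_perp_two (hF : Fintype.card F = q ^ 2) (hn : 3 ≤ n) (v w : Fin n → F) :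
    ∃ x : Fin n → F, x ≠ 0 ∧ hh x v = 0 ∧ hh x w = 0 := by
  obtain ⟨x, -, hx0, h1, h2⟩ := exists_ne_zero_hperp_two hF (⊤ : Submodule F (Fin n → F))
    (by rw [finrank_top, Module.finrank_fintype_fun_eq_card, Fintype.card_fin]; exact hn) v w
  exact ⟨x, hx0, h1, h2⟩

/-- lifting an equality of images of transvections -/
lemma tv_eq_of_pr_eq (hF : Fintype.card F = q ^ 2) (hn : 3 ≤ n) {v w : Fin n → F}
    (hv : hh v v = 0) (hw : hh w w = 0) {a b : F} (ha : a + a ^ q = 0) (hb : b + b ^ q = 0)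
    (h : pr (tvElt n hF v a) = pr (tvElt n hF w b)) : tvElt n hF v a = tvElt n hF w b := by
  obtain ⟨ν, hν, hx⟩ := exists_smul_of_pr_eq hF hn h
  obtain ⟨x, hx0, h1, h2⟩ := exists_perp_two hF hn v w
  have h3 := hx x
  rw [tvElt_mulVec n hF v hv a ha, tvElt_mulVec n hF w hw b hb, h1, h2] at h3
  simp only [mul_zero, zero_smul, add_zero] at h3
  have hν1 : ν = 1 := by
    have h4 : (ν - 1) • x = 0 := by rw [sub_smul, ← h3, one_smul, sub_self]
    rcases smul_eq_zero.1 h4 with h5 | h5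
    · exact sub_eq_zero.1 h5
    · exact absurd h5 hx0
  apply su_ext
  intro y
  rw [hx y, hν1, one_smul]

/-- root subgroups with a common nontrivial element have proportional directions -/
theorem dir_of_Xb_inter (hF : Fintype.card F = q ^ 2) (hn : 3 ≤ n) {v w : Fin n → F}
    (hv0 : v ≠ 0) (hv : hh v v = 0) (hw0 : w ≠ 0) (hw : hh w w = 0) {y : Cfsg.PSU n F q}
    (hyv : y ∈ Xb n q v) (hyw : y ∈ Xb n q w) (hy1 : y ≠ 1) : ∃ c : F, c ≠ 0 ∧ v = c • w := by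
  obtain ⟨a, ha, rfl⟩ := (mem_Xb hF hv0 hv y).1 hyv
  obtain ⟨b, hb, hab⟩ := (mem_Xb hF hw0 hw _).1 hyw
  have ha0 : a ≠ 0 := by
    rintro rfl
    rw [elt_zero n hF v hv, map_one] at hy1
    exact hy1 rfl
  have h1 := tv_eq_of_pr_eq hF hn hv hw ha hb hab
  apply dir_of_tv_eq hF hv0 ha0 (b := b)
  intro x
  have h2 := congrArg (fun z => mat n z *ᵥ x) h1
  simp only [tvElt_mulVec n hF v hv a ha, tvElt_mulVec n hF w hw b hb] at h2
  exact add_left_cancel h2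

lemma Xb_exists_ne_one (hF : Fintype.card F = q ^ 2) (hn : 3 ≤ n) {v : Fin n → F}
    (hv0 : v ≠ 0) (hv : hh v v = 0) : ∃ y, y ∈ Xb n q v ∧ y ≠ 1 := by
  obtain ⟨τ, hτ0, hτ⟩ := exists_trace_zero hF
  refine ⟨pr (tvElt n hF v τ), (mem_Xb hF hv0 hv _).2 ⟨τ, hτ, rfl⟩, ?_⟩
  intro h
  have h0 : (0 : F) + (0 : F) ^ q = 0 := by rw [zero_pow (q_ne_zero hF), add_zero]
  have h1 : pr (tvElt n hF v τ) = pr (tvElt n hF v 0) := by
    rw [h, elt_zero n hF v hv, map_one]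
  have h2 := tv_eq_of_pr_eq hF hn hv hv hτ h0 h1
  rw [elt_zero n hF v hv] at h2
  exact hτ0 ((elt_eq_one_iff n hF v hv0 hv τ hτ).1 h2)

/-- root subgroups commute exactly when their directions are orthogonal -/
theorem Xb_commute_iff (hF : Fintype.card F = q ^ 2) (hn : 3 ≤ n) {v w : Fin n → F}
    (hv0 : v ≠ 0) (hv : hh v v = 0) (hw0 : w ≠ 0) (hw : hh w w = 0) :
    (∀ x ∈ Xb n q v, ∀ y ∈ Xb n q w, x * y = y * x) ↔ hh v w = 0 := by
  constructor
  · intro h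
    obtain ⟨τ, hτ0, hτ⟩ := exists_trace_zero hF
    have h1 := h _ ((mem_Xb hF hv0 hv _).2 ⟨τ, hτ, rfl⟩) _ ((mem_Xb hF hw0 hw _).2 ⟨τ, hτ, rfl⟩)
    rw [← map_mul, ← map_mul] at h1
    obtain ⟨ν, hν, hx⟩ := exists_smul_of_pr_eq hF hn h1
    obtain ⟨x, hx0, h2, h3⟩ := exists_perp_two hF hn v w
    have h4 := hx x
    rw [su_mul_mulVec, su_mul_mulVec, tvElt_mulVec n hF v hv τ hτ x,
      tvElt_mulVec n hF w hw τ hτ x, h2, h3] at h4
    simp only [mul_zero, zero_smul, add_zero] at h4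
    rw [tvElt_mulVec n hF v hv τ hτ x, tvElt_mulVec n hF w hw τ hτ x, h2, h3] at h4
    simp only [mul_zero, zero_smul, add_zero] at h4
    have hν1 : ν = 1 := by
      have h5 : (ν - 1) • x = 0 := by rw [sub_smul, ← h4, one_smul, sub_self]
      rcases smul_eq_zero.1 h5 with h6 | h6
      · exact sub_eq_zero.1 h6
      · exact absurd h6 hx0
    have h5 : tvElt n hF v τ * tvElt n hF w τ = tvElt n hF w τ * tvElt n hF v τ := by
      apply su_ext
      intro y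
      have := hx y
      rw [hν1, one_smul] at this
      exact this.symm
    exact orth_of_comm n hF v w hv0 hv hw τ τ hτ hτ hτ0 hτ0 h5
  · intro h x hx y hy
    obtain ⟨a, ha, rfl⟩ := (mem_Xb hF hv0 hv x).1 hx
    obtain ⟨b, hb, rfl⟩ := (mem_Xb hF hw0 hw y).1 hy
    rw [← map_mul, ← map_mul, elt_comm_of_orth n hF v w hv hw h a b ha hb]

/-- the normalizer of a root subgroup is the image of the stabilizer of the point -/
theorem mem_stab_of_normalizes (hF : Fintype.card F = q ^ 2) (hn : 3 ≤ n) {e : Fin n → F}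
    (he0 : e ≠ 0) (he : hh e e = 0) (g : ↥(Cfsg.SU n F q))
    (hg : ∀ y, y ∈ Xb n q e → pr g * y * (pr g)⁻¹ ∈ Xb n q e) : g ∈ PSUS.stab n e := by
  obtain ⟨y, hy, hy1⟩ := Xb_exists_ne_one hF hn he0 he
  have h1 := hg y hy
  have h2 := Xb_conj_mem hF he0 he g hy
  have h3 : pr g * y * (pr g)⁻¹ ≠ 1 := by
    intro h
    apply hy1
    have : y = (pr g)⁻¹ * (pr g * y * (pr g)⁻¹) * pr g := by group
    rw [this, h]
    group
  obtain ⟨c, hc0, hc⟩ := dir_of_Xb_inter hF hn (mulVec_ne_zero n g e he0)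
    (by rw [su_preserves, he]) he0 he h2 h1 h3
  exact (PSUS.mem_stab n e g).2 ⟨c, hc⟩

theorem normalizes_of_mem_stab (hF : Fintype.card F = q ^ 2) {e : Fin n → F}
    (he0 : e ≠ 0) (he : hh e e = 0) {g : ↥(Cfsg.SU n F q)} (hg : g ∈ PSUS.stab n e)
    (y : Cfsg.PSU n F q) : pr g * y * (pr g)⁻¹ ∈ Xb n q e ↔ y ∈ Xb n q e := by
  obtain ⟨l, hl⟩ := (PSUS.mem_stab n e g).1 hg
  have hl0 : l ≠ 0 := by
    rintro rfl
    rw [zero_smul] at hl
    exact he0 (su_mulVec_eq_zero n g e hl)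
  have := Xb_conj_iff hF he0 he g y
  rw [hl, Xb_smul hF he0 he hl0] at this
  exact this

/-! ### The permutation of root subgroups induced by an automorphism -/

/-- a hyperbolic pair exists -/
lemma exists_isHyp (hF : Fintype.card F = q ^ 2) (hn : 2 ≤ n) :
    ∃ e f : Fin n → F, IsHyp n q e f := by
  obtain ⟨e, f, h1, h2, h3, -⟩ := Helper13.exists_hyp_pair_coords (n := n) hF
    ⟨0, by omega⟩ ⟨1, by omega⟩ (by intro h; simpa using congrArg Fin.val h)
  refine ⟨e, f, h1, h2, h3, ?_⟩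
  rw [← hf_conj n hF, h3, one_pow]

section perm

/-- the case of a fixed base vector -/
theorem exists_root_map_base (p : ℕ) [Fact p.Prime] [CharP F p]
    (hF : Fintype.card F = q ^ 2) (hn : 3 ≤ n) {e f : Fin n → F}
    (H : IsHyp n q e f) (α : MulAut (Cfsg.PSU n F q)) :
    ∃ e' : Fin n → F, e' ≠ 0 ∧ hh e' e' = 0 ∧ ∀ y, y ∈ Xb n q e ↔ α y ∈ Xb n q e' := by
  obtain ⟨U, hQU⟩ := (Qs_isPGroup p hF H.ee).exists_le_sylow
  let P : Sylow p (Cfsg.PSU n F q) := U.mapSurjective pr_surjective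
  obtain ⟨c, hc⟩ := MulAction.exists_smul_eq (Cfsg.PSU n F q) (α • P) P
  obtain ⟨c', rfl⟩ := pr_surjective c
  obtain ⟨α1, hα1def⟩ : ∃ α1, α1 = MulAut.conj (pr c') * α := ⟨_, rfl⟩
  have hα1P : α1 • (U.1.map pr) = U.1.map pr := by
    have h := congrArg (fun Q : Sylow p (Cfsg.PSU n F q) => Q.toSubgroup) hc
    simp only [Sylow.smul_def, Sylow.pointwise_smul_def] at h
    rw [hα1def, mul_smul]
    exact h
  have hα1 : ∀ x, α1 x ∈ U.1.map pr ↔ x ∈ U.1.map pr := by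
    intro x
    constructor
    · intro hx
      rw [← hα1P] at hx
      obtain ⟨y, hy, hyx⟩ := hx
      have : y = x := α1.injective hyx
      exact this ▸ hy
    · intro hx
      rw [← hα1P]
      exact ⟨x, hx, rfl⟩
  -- the centre of the image of `U`
  have hcen : ∀ y : Cfsg.PSU n F q,
      (y ∈ U.1.map pr ∧ ∀ w ∈ U.1.map pr, w * y = y * w) ↔ y ∈ Xb n q e := by
    intro y
    constructor
    · rintro ⟨⟨u, hu, rfl⟩, hcomm⟩
      refine ⟨u, ?_, rfl⟩
      show u ∈ root n q e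
      rw [← sylow_center p hF H U.1 U.2 hQU u]
      refine ⟨hu, ?_⟩
      intro x hx
      have h1 := hcomm (pr x) ⟨x, hx, rfl⟩
      rw [← map_mul, ← map_mul] at h1
      obtain ⟨ν, hν, hxx⟩ := exists_smul_of_pr_eq hF hn h1
      have h2 := hxx e
      have hfix := sylow_fix p hF H U.1 U.2 hQU
      rw [su_mul_mulVec, su_mul_mulVec, hfix x hx, hfix u hu, hfix x hx] at h2
      have hν1 : ν = 1 := by
        have h4 : (ν - 1) • e = 0 := by
          rw [sub_smul, one_smul]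
          nth_rewrite 2 [h2]
          rw [sub_self]
        rcases smul_eq_zero.1 h4 with h5 | h5
        · exact sub_eq_zero.1 h5
        · exact absurd h5 H.e_ne
      apply su_ext
      intro z
      have := hxx z
      rw [hν1, one_smul] at this
      exact this.symm
    · rintro ⟨t, ht, rfl⟩
      have h1 := (sylow_center p hF H U.1 U.2 hQU t).2 ht
      refine ⟨⟨t, h1.1, rfl⟩, ?_⟩
      rintro _ ⟨x, hx, rfl⟩
      rw [← map_mul, ← map_mul, h1.2 x hx]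
  have hα1X : ∀ y, y ∈ Xb n q e ↔ α1 y ∈ Xb n q e := by
    intro y
    rw [← hcen, ← hcen, hα1]
    constructor
    · rintro ⟨h1, h2⟩
      refine ⟨h1, ?_⟩
      intro w hw
      obtain ⟨w', rfl⟩ := α1.surjective w
      rw [← map_mul, ← map_mul, h2 w' ((hα1 w').1 hw)]
    · rintro ⟨h1, h2⟩
      refine ⟨h1, ?_⟩
      intro w hw
      apply α1.injective
      rw [map_mul, map_mul, h2 _ ((hα1 w).2 hw)]
  refine ⟨mat n c'⁻¹ *ᵥ e, mulVec_ne_zero n _ e H.e_ne, by rw [su_preserves, H.ee], ?_⟩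
  intro y
  rw [hα1X y, hα1def, MulAut.mul_apply, MulAut.conj_apply]
  rw [← Xb_conj_iff hF H.e_ne H.ee c'⁻¹ (pr c' * α y * (pr c')⁻¹)]
  have : pr c'⁻¹ * (pr c' * α y * (pr c')⁻¹) * (pr c'⁻¹)⁻¹ = α y := by
    rw [map_inv]
    group
  rw [this]

/-- **Every automorphism of `PSU_n(q)` permutes the long root subgroups.** -/
theorem exists_root_map (p : ℕ) [Fact p.Prime] [CharP F p]
    (hF : Fintype.card F = q ^ 2) (hn : 3 ≤ n)
    (α : MulAut (Cfsg.PSU n F q)) {v : Fin n → F} (hv0 : v ≠ 0) (hv : hh v v = 0) :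
    ∃ v' : Fin n → F, v' ≠ 0 ∧ hh v' v' = 0 ∧ ∀ y, y ∈ Xb n q v ↔ α y ∈ Xb n q v' := by
  obtain ⟨e, f, H⟩ := exists_isHyp (q := q) (n := n) hF (by omega)
  obtain ⟨e', he'0, he', hα⟩ := exists_root_map_base p hF hn H α
  obtain ⟨g, l, hl0, hgl⟩ := PSUS.exists_move n hF v e hv0 H.e_ne hv H.ee
  obtain ⟨g', hg'⟩ := pr_surjective (α (pr g))
  refine ⟨mat n g'⁻¹ *ᵥ e', mulVec_ne_zero n _ e' he'0, by rw [su_preserves, he'], ?_⟩
  intro y
  have h1 := Xb_conj_iff hF hv0 hv g y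
  rw [hgl, Xb_smul hF H.e_ne H.ee hl0] at h1
  rw [← h1, hα, map_mul, map_mul, map_inv, ← hg']
  rw [← Xb_conj_iff hF he'0 he' g'⁻¹ (pr g' * α y * (pr g')⁻¹)]
  have : pr g'⁻¹ * (pr g' * α y * (pr g')⁻¹) * (pr g'⁻¹)⁻¹ = α y := by
    rw [map_inv]
    group
  rw [this]

end perm

end Cfsg.Agent.Lib.Helper5.AutPSU
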