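import Mathlib
import Cfsg.Agent.Lib.Helper5.AutPSURoot
import Cfsg.Agent.Lib.Helper13.UnitaryGen5

set_option autoImplicit false
set_option linter.unusedSimpArgs false
set_option linter.unusedVariables false
set_option linter.unnecessarySeqFocus false
set_option linter.unusedSectionVars false
set_option linter.style.haveILetI false

/-!
# Geometry of the complement of a hyperbolic pair
-/

namespace Cfsg.Agent.Lib.Helper5.AutPSU

open Matrix Cfsg.Agent.Lib.Helper99 Cfsg.Agent.Lib.Helper99.SURoot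

variable {F : Type*} [Field F] [Fintype F] {q n : ℕ}

local notation "hh" => Cfsg.hermForm n F q

lemma exists_unit_W (hF : Fintype.card F = q ^ 2) (hn : 3 ≤ n) {e f : Fin n → F}
    (H : IsHyp n q e f) : ∃ a : Fin n → F, InW n q e f a ∧ hh a a = 1 := by
  obtain ⟨a, h1, h2, h3⟩ := Helper13.exists_unit_perp hF hn e f H.ee H.ff H.fe
  exact ⟨a, ⟨h2, h3⟩, h1⟩

lemma exists_iso_W (hF : Fintype.card F = q ^ 2) (hn : 4 ≤ n) {e f : Fin n → F}
    (H : IsHyp n q e f) : ∃ r : Fin n → F, r ≠ 0 ∧ InW n q e f r ∧ hh r r = 0 := by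
  obtain ⟨a, haW, ha⟩ := exists_unit_W hF (by omega) H
  obtain ⟨u, h1, h2, h3, h4⟩ := Helper13.exists_iso_perp hF hn e f a H.ee H.ff H.ef haW.1 haW.2
    (by rw [ha]; exact one_ne_zero)
  refine ⟨u, ?_, ⟨h2, h3⟩, h1⟩
  rintro rfl
  exact h4 (hermForm_zero_right hF a)

/-- an isotropic vector of the complement has an isotropic partner in the complement -/
lemma exists_partner_W (hF : Fintype.card F = q ^ 2) {e f : Fin n → F} (H : IsHyp n q e f)
    {r : Fin n → F} (hr0 : r ≠ 0) (hrW : InW n q e f r) (hr : hh r r = 0) :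
    ∃ r' : Fin n → F, InW n q e f r' ∧ IsHyp n q r r' := by
  have h1 : ∃ u, InW n q e f u ∧ hh r u ≠ 0 := by
    by_contra hcon
    push Not at hcon
    exact hr0 (nondeg_W hF H hrW hcon)
  obtain ⟨u, huW, hu⟩ := h1
  -- rescale so that `h(r, u') = 1`
  obtain ⟨u', hu'W, hru'⟩ : ∃ u', InW n q e f u' ∧ hh r u' = 1 := by
    refine ⟨(((hh r u)⁻¹) ^ q) • u, huW.smul _, ?_⟩
    rw [hf_smul_right, SURoot.pow_q_pow_q hF, inv_mul_cancel₀ hu]
  have hu'r : hh u' r = 1 := by rw [← hf_conj n hF, hru', one_pow]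
  have hself : (-(hh u' u')) ^ q = -(hh u' u') := by rw [frob_neg hF, hf_conj n hF]
  obtain ⟨c, hc⟩ := exists_trace_eq' hF _ hself
  refine ⟨u' + c • r, hu'W.add (hrW.smul c), hr, ?_, ?_, ?_⟩
  · simp only [hf_add_left, hf_add_right n hF, hf_smul_left, hf_smul_right, hr, hru', hu'r]
    linear_combination hc
  · rw [hf_add_right n hF, hf_smul_right, hr, hru']
    ring
  · rw [hf_add_left, hf_smul_left, hr, hu'r]
    ring

lemma exists_hyp_W (hF : Fintype.card F = q ^ 2) (hn : 4 ≤ n) {e f : Fin n → F}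
    (H : IsHyp n q e f) :
    ∃ r r' : Fin n → F, InW n q e f r ∧ InW n q e f r' ∧ IsHyp n q r r' := by
  obtain ⟨r, hr0, hrW, hr⟩ := exists_iso_W hF hn H
  obtain ⟨r', hr'W, Hr⟩ := exists_partner_W hF H hr0 hrW hr
  exact ⟨r, r', hrW, hr'W, Hr⟩

/-- every vector of the complement is an isotropic vector plus a combination of a hyperbolic pair -/
lemma iso_decomp_W (hF : Fintype.card F = q ^ 2) {e f r r' : Fin n → F}
    (hrW : InW n q e f r) (hr'W : InW n q e f r') (Hr : IsHyp n q r r') {u : Fin n → F}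
    (hu : InW n q e f u) :
    ∃ (s : Fin n → F) (c₁ c₂ : F), InW n q e f s ∧ hh s s = 0 ∧ u = s + c₁ • r + c₂ • r' := by
  set u₀ := projW n q r r' u with hu₀
  have hu₀W : InW n q e f u₀ := by
    rw [hu₀]
    unfold projW
    exact (hu.sub (hrW.smul _)).sub (hr'W.smul _)
  have hu₀r := projW_inW Hr u
  rw [← hu₀] at hu₀r
  have hself : (-(hh u₀ u₀)) ^ q = -(hh u₀ u₀) := by rw [frob_neg hF, hf_conj n hF]
  obtain ⟨c, hc⟩ := exists_trace_eq' hF _ hself
  refine ⟨u₀ + c • r + r', hh u r' - c, hh u r - 1, (hu₀W.add (hrW.smul c)).add hr'W, ?_, ?_⟩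
  · simp only [hf_add_left, hf_add_right n hF, hf_smul_left, hf_smul_right, Hr.ee, Hr.ff, Hr.ef,
      Hr.fe, hu₀r.1, hu₀r.2, hu₀r.eu hF, hu₀r.fu hF]
    linear_combination hc
  · rw [hu₀]
    unfold projW
    module

/-- a transvection fixes the vectors orthogonal to its direction -/
lemma tv_fix_of_orth (hF : Fintype.card F = q ^ 2) {r x : Fin n → F} (hr : hh r r = 0) {a : F}
    (ha : a + a ^ q = 0) (hx : hh x r = 0) : mat n (tvElt n hF r a) *ᵥ x = x := by
  rw [tvElt_mulVec n hF r hr a ha, hx, mul_zero, zero_smul, add_zero]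

/-- in dimension three the complement of a hyperbolic pair is a line -/
lemma W_line (hF : Fintype.card F = q ^ 2) (hn : n = 3) {e f a : Fin n → F}
    (H : IsHyp n q e f) (haW : InW n q e f a) (ha : hh a a = 1) {u : Fin n → F}
    (hu : InW n q e f u) : u = hh u a • a := by
  subst hn
  have := Helper13.decomp3 hF e f a H.ee H.ff H.fe ha haW.1 haW.2 u
  rw [hu.1, hu.2, zero_smul, zero_smul, zero_add, zero_add] at this
  exact this

end Cfsg.Agent.Lib.Helper5.AutPSU
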