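import Mathlib
import Cfsg.Agent.Lib.Helper5.AutPSUGeom
import Cfsg.Agent.Lib.Helper13.UParab1

set_option autoImplicit false
set_option linter.unusedSimpArgs false
set_option linter.unusedVariables false
set_option linter.unnecessarySeqFocus false
set_option linter.unusedSectionVars false
set_option linter.style.haveILetI false

/-!
# The largest normal `p`-subgroup of the stabilizer of an isotropic point
-/

namespace Cfsg.Agent.Lib.Helper5.AutPSU

open Matrix Cfsg.Agent.Lib.Helper99 Cfsg.Agent.Lib.Helper99.SURoot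
open scoped Pointwise

variable {F : Type*} [Field F] [Fintype F] {q n : ℕ}

local notation "hh" => Cfsg.hermForm n F q

lemma p_dvd_q (p : ℕ) [Fact p.Prime] [CharP F p] (hF : Fintype.card F = q ^ 2) : p ∣ q := by
  have h1 : ((Fintype.card F : ℕ) : F) = 0 := Nat.cast_card_eq_zero F
  have h2 : p ∣ Fintype.card F := (CharP.cast_eq_zero_iff F p _).1 h1
  rw [hF] at h2
  exact (Fact.out : p.Prime).dvd_of_dvd_pow h2

/-- a scalar element of `SU` fixing a nonzero vector is trivial -/
lemma eq_one_of_scalar_fix {z : ↥(Cfsg.SU n F q)} {ν : F} (hz : ∀ x, mat n z *ᵥ x = ν • x)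
    {v : Fin n → F} (hv0 : v ≠ 0) (hv : mat n z *ᵥ v = v) : z = 1 := by
  have h1 : (ν - 1) • v = 0 := by rw [sub_smul, ← hz, hv, one_smul, sub_self]
  have hν : ν = 1 := by
    rcases smul_eq_zero.1 h1 with h2 | h2
    · exact sub_eq_zero.1 h2
    · exact absurd h2 hv0
  apply su_ext
  intro x
  rw [hz, hν, one_smul, su_one_mulVec]

section pgroup

variable (p : ℕ) [Fact p.Prime] [CharP F p]

/-- the centre of `SU_n(q)` has order prime to `p` -/
lemma center_card_coprime (hF : Fintype.card F = q ^ 2) (hn : 3 ≤ n) :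
    (Nat.card (Subgroup.center ↥(Cfsg.SU n F q))).Coprime p := by
  rw [Nat.coprime_comm, (Fact.out : p.Prime).coprime_iff_not_dvd]
  intro hdvd
  obtain ⟨z, hz⟩ := exists_prime_orderOf_dvd_card' p hdvd
  have hz1 : z ≠ 1 := by
    intro h
    rw [h, orderOf_one] at hz
    exact (Fact.out : p.Prime).one_lt.ne hz
  obtain ⟨ν, -, hν⟩ := exists_scalar_of_mem_center hF hn z.2
  have hzp : z.1 ^ p ^ 1 = 1 := by
    rw [pow_one]
    have := pow_orderOf_eq_one z
    rw [hz] at this
    have h2 := congrArg Subtype.val this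
    simpa using h2
  have h3 := scalar_pow hν (p ^ 1)
  rw [hzp] at h3
  obtain ⟨e, f, H⟩ := exists_isHyp (q := q) (n := n) hF (by omega)
  have h4 := h3 e
  rw [su_one_mulVec] at h4
  have h5 : (ν ^ p ^ 1 - 1) • e = 0 := by rw [sub_smul, ← h4, one_smul, sub_self]
  have hν1 : ν = 1 := by
    rcases smul_eq_zero.1 h5 with h6 | h6
    · exact eq_one_of_pow_p_pow p (sub_eq_zero.1 h6)
    · exact absurd h6 H.e_ne
  apply hz1
  apply Subtype.ext
  apply su_ext
  intro x
  rw [hν, hν1, one_smul]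
  show x = mat n (1 : ↥(Cfsg.SU n F q)) *ᵥ x
  rw [su_one_mulVec]

/-- lifting `p`-elements from `PSU` to `SU` -/
theorem exists_pelement_lift (hF : Fintype.card F = q ^ 2) (hn : 3 ≤ n) {y : Cfsg.PSU n F q}
    {k : ℕ} (hy : y ^ p ^ k = 1) : ∃ x : ↥(Cfsg.SU n F q), pr x = y ∧ x ^ p ^ k = 1 := by
  obtain ⟨x₀, rfl⟩ := pr_surjective y
  have h1 : x₀ ^ p ^ k ∈ Subgroup.center ↥(Cfsg.SU n F q) := by
    rw [← pr_eq_one_iff, map_pow, hy]
  have hcop : (Nat.card (Subgroup.center ↥(Cfsg.SU n F q))).Coprime (p ^ k) :=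
    (center_card_coprime p hF hn).pow_right k
  obtain ⟨z, hz⟩ := (powCoprime hcop).surjective ⟨(x₀ ^ p ^ k)⁻¹, inv_mem h1⟩
  have hz' : z.1 ^ p ^ k = (x₀ ^ p ^ k)⁻¹ := by
    have := congrArg Subtype.val hz
    simpa [powCoprime] using this
  refine ⟨x₀ * z.1, ?_, ?_⟩
  · rw [map_mul, pr_eq_one_iff.2 z.2, mul_one]
  · have hcomm : Commute x₀ z.1 := Subgroup.mem_center_iff.1 z.2 x₀
    rw [hcomm.mul_pow, hz', mul_inv_cancel]

/-- the number of vectors of the complement of a hyperbolic pair -/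
lemma card_W (hF : Fintype.card F = q ^ 2) (hn : 3 ≤ n) {e f : Fin n → F} (H : IsHyp n q e f) :
    Nat.card {u : Fin n → F // InW n q e f u} = q ^ (2 * n - 4) := by
  have h1 := Helper13.card_affine (n := n) hF (I := Fin 2) ![e, f] ![f, e] (by
    intro l i
    fin_cases l <;> fin_cases i <;> simp [H.ee, H.ff, H.ef, H.fe]) (fun _ => 0)
  have h2 : Nat.card {y : Fin n → F // ∀ i : Fin 2, hh y (![e, f] i) = (fun _ => (0 : F)) i} =
      Nat.card {u : Fin n → F // InW n q e f u} := by
    apply Nat.card_congr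
    apply Equiv.subtypeEquivRight
    intro y
    simp [InW, Fin.forall_fin_two]
  rw [h2] at h1
  have hq : 0 < q := Nat.pos_of_ne_zero (q_ne_zero hF)
  have h3 : q ^ (2 * n) = q ^ (2 * n - 4) * q ^ (2 * Fintype.card (Fin 2)) := by
    rw [← pow_add, Fintype.card_fin]
    congr 1
    omega
  rw [h3] at h1
  exact Nat.eq_of_mul_eq_mul_right (pow_pos hq _) h1

/-- a `p`-group of isometries fixing a hyperbolic pair fixes a nonzero vector of the complement -/
theorem exists_fixed_W (hF : Fintype.card F = q ^ 2) (hn : 3 ≤ n) {e f : Fin n → F}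
    (H : IsHyp n q e f) (N : Subgroup ↥(Cfsg.SU n F q)) (hN : IsPGroup p N)
    (hfix : ∀ l ∈ N, mat n l *ᵥ e = e ∧ mat n l *ᵥ f = f) :
    ∃ u₁ : Fin n → F, u₁ ≠ 0 ∧ InW n q e f u₁ ∧ ∀ l ∈ N, mat n l *ᵥ u₁ = u₁ := by
  have hWstab : ∀ l ∈ N, ∀ u, InW n q e f u → InW n q e f (mat n l *ᵥ u) := by
    intro l hl u hu
    have h1 : mat n l *ᵥ e = (1 : F) • e := by rw [(hfix l hl).1, one_smul]
    have h2 : mat n l *ᵥ f = (1 : F) • f := by rw [(hfix l hl).2, one_smul]
    exact levi_W H h1 h2 hu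
  let act : MulAction ↥N {u : Fin n → F // InW n q e f u} :=
    { smul := fun l u => ⟨mat n l.1 *ᵥ u.1, hWstab l.1 l.2 u.1 u.2⟩
      one_smul := fun u => Subtype.ext (su_one_mulVec n u.1)
      mul_smul := fun l m u => Subtype.ext (su_mul_mulVec n l.1 m.1 u.1) }
  have hcard : p ∣ Nat.card {u : Fin n → F // InW n q e f u} := by
    rw [card_W hF hn H]
    exact dvd_pow (p_dvd_q p hF) (by omega)
  have h0 : (⟨0, InW.zero⟩ : {u : Fin n → F // InW n q e f u}) ∈
      MulAction.fixedPoints ↥N {u : Fin n → F // InW n q e f u} := by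
    intro l
    apply Subtype.ext
    show mat n l.1 *ᵥ (0 : Fin n → F) = 0
    rw [mulVec_zero]
  obtain ⟨b, hb, hb0⟩ := hN.exists_fixed_point_of_prime_dvd_card_of_fixed_point
    {u : Fin n → F // InW n q e f u} hcard h0
  refine ⟨b.1, ?_, b.2, ?_⟩
  · intro h
    apply hb0
    apply Subtype.ext
    exact h.symm
  · intro l hl
    have := hb ⟨l, hl⟩
    exact congrArg Subtype.val this

/-- a `p`-subgroup fixing a hyperbolic pair and normalized by the Levi complement is trivial -/
theorem levi_pgroup_trivial (hF : Fintype.card F = q ^ 2) (hn : 3 ≤ n) {e f : Fin n → F}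
    (H : IsHyp n q e f) (N : Subgroup ↥(Cfsg.SU n F q)) (hN : IsPGroup p N)
    (hfix : ∀ l ∈ N, mat n l *ᵥ e = e ∧ mat n l *ᵥ f = f)
    (hnorm : ∀ m ∈ Levi n q e f, ∀ l ∈ N, m * l * m⁻¹ ∈ N) : ∀ l ∈ N, l = 1 := by
  obtain ⟨u₁, hu₁0, hu₁W, hu₁⟩ := exists_fixed_W p hF hn H N hN hfix
  -- the fixed vectors
  have hfixW : ∀ u, InW n q e f u → ∀ l ∈ N, mat n l *ᵥ u = u := by
    rcases Nat.lt_or_ge n 4 with h3 | h4
    · -- dimension three: the complement is a line
      have hn3 : n = 3 := by omega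
      obtain ⟨a, haW, ha⟩ := exists_unit_W hF hn H
      have hu₁a := W_line hF hn3 H haW ha hu₁W
      have hc0 : hh u₁ a ≠ 0 := by
        intro h0
        rw [h0, zero_smul] at hu₁a
        exact hu₁0 hu₁a
      intro u hu l hl
      have hua := W_line hF hn3 H haW ha hu
      have hau : a = (hh u₁ a)⁻¹ • u₁ := by
        rw [hu₁a, hf_smul_left, ha, mul_one, smul_smul, inv_mul_cancel₀ hc0, one_smul]
      rw [hua, hau, mulVec_smul, mulVec_smul, hu₁ l hl]
    · -- dimension at least four: irreducibility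
      have hYt : ∀ (r : Fin n → F), InW n q e f r → hh r r = 0 → ∀ (a : F), a + a ^ q = 0 →
          ∀ y, (∀ l ∈ N, mat n l *ᵥ y = y) →
            ∀ l ∈ N, mat n l *ᵥ (mat n (tvElt n hF r a) *ᵥ y) = mat n (tvElt n hF r a) *ᵥ y := by
        intro r hrW hr a ha y hy l hl
        have htL : tvElt n hF r a ∈ Levi n q e f := by
          rw [mem_Levi]
          exact ⟨⟨1, by rw [tv_fix_of_orth hF hr ha (hrW.eu hF), one_smul]⟩,
            ⟨1, by rw [tv_fix_of_orth hF hr ha (hrW.fu hF), one_smul]⟩⟩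
        have h1 := hnorm _ (inv_mem htL) l hl
        rw [inv_inv] at h1
        have h2 := hy _ h1
        rw [su_mul_mulVec, su_mul_mulVec] at h2
        have h3 := congrArg (fun z => mat n (tvElt n hF r a) *ᵥ z) h2
        simp only [su_mulVec_inv_mulVec] at h3
        exact h3
      -- isotropic vectors not orthogonal to a fixed vector are fixed
      obtain ⟨τ, hτ0, hτ⟩ := exists_trace_zero hF
      have hstep : ∀ (y r : Fin n → F), (∀ l ∈ N, mat n l *ᵥ y = y) → InW n q e f r →
          hh r r = 0 → hh y r ≠ 0 → ∀ l ∈ N, mat n l *ᵥ r = r := by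
        intro y r hy hrW hr hyr l hl
        have h1 := hYt r hrW hr τ hτ y hy l hl
        rw [tvElt_mulVec n hF r hr τ hτ, mulVec_add, hy l hl, mulVec_smul] at h1
        have h2 : (τ * hh y r) • (mat n l *ᵥ r) = (τ * hh y r) • r := add_left_cancel h1
        exact smul_right_injective _ (mul_ne_zero hτ0 hyr) h2
      -- a fixed isotropic vector
      have hex : ∃ s₀, s₀ ≠ 0 ∧ InW n q e f s₀ ∧ hh s₀ s₀ = 0 ∧ ∀ l ∈ N, mat n l *ᵥ s₀ = s₀ := by
        by_contra hcon
        push Not at hcon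
        apply hu₁0
        apply nondeg_W hF H hu₁W
        obtain ⟨r, r', hrW, hr'W, Hr⟩ := exists_hyp_W hF h4 H
        have hiso : ∀ s, InW n q e f s → hh s s = 0 → hh u₁ s = 0 := by
          intro s hsW hs
          by_contra hne
          have hs0 : s ≠ 0 := by
            rintro rfl
            exact hne (hermForm_zero_right hF u₁)
          obtain ⟨l, hl, hls⟩ := hcon s hs0 hsW hs
          exact hls (hstep u₁ s hu₁ hsW hs hne l hl)
        intro u' hu'
        obtain ⟨s, c₁, c₂, hsW, hs, rfl⟩ := iso_decomp_W hF hrW hr'W Hr hu'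
        rw [hf_add_right n hF, hf_add_right n hF, hf_smul_right, hf_smul_right,
          hiso s hsW hs, hiso r hrW Hr.ee, hiso r' hr'W Hr.ff]
        ring
      obtain ⟨s₀, hs₀0, hs₀W, hs₀, hs₀fix⟩ := hex
      obtain ⟨s₀', hs₀'W, Hs⟩ := exists_partner_W hF H hs₀0 hs₀W hs₀
      have hs₀'fix : ∀ l ∈ N, mat n l *ᵥ s₀' = s₀' :=
        hstep s₀ s₀' hs₀fix hs₀'W Hs.ff (by rw [Hs.ef]; exact one_ne_zero)
      have hisofix : ∀ s, InW n q e f s → hh s s = 0 → ∀ l ∈ N, mat n l *ᵥ s = s := by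
        intro s hsW hs
        by_cases h1 : hh s₀ s = 0
        · by_cases h2 : hh s₀' s = 0
          · -- `s + s₀` is isotropic and not orthogonal to `s₀'`
            have h3 : hh (s + s₀) (s + s₀) = 0 := by
              simp only [hf_add_left, hf_add_right n hF, hs, hs₀, h1,
                hermForm_eq_zero_comm hF h1]
              ring
            have h4 : hh s₀' (s + s₀) ≠ 0 := by
              rw [hf_add_right n hF, h2, Hs.fe, zero_add]
              exact one_ne_zero
            have h5 := hstep s₀' (s + s₀) hs₀'fix (hsW.add hs₀W) h3 h4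
            intro l hl
            have h6 := h5 l hl
            rw [mulVec_add, hs₀fix l hl] at h6
            exact add_right_cancel h6
          · exact hstep s₀' s hs₀'fix hsW hs h2
        · exact hstep s₀ s hs₀fix hsW hs h1
      intro u hu l hl
      obtain ⟨s, c₁, c₂, hsW, hs, rfl⟩ := iso_decomp_W hF hs₀W hs₀'W Hs hu
      rw [mulVec_add, mulVec_add, mulVec_smul, mulVec_smul, hisofix s hsW hs l hl,
        hs₀fix l hl, hs₀'fix l hl]
  intro l hl
  apply su_ext_hyp H
  · rw [(hfix l hl).1, su_one_mulVec]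
  · rw [(hfix l hl).2, su_one_mulVec]
  · intro u hu
    rw [hfixW u hu l hl, su_one_mulVec]

end pgroup

end Cfsg.Agent.Lib.Helper5.AutPSU
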