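import Mathlib
import Cfsg.Agent.Lib.Helper5.AutPSUOp

set_option autoImplicit false
set_option linter.unusedSimpArgs false
set_option linter.unusedVariables false
set_option linter.unnecessarySeqFocus false
set_option linter.unusedSectionVars false
set_option linter.style.haveILetI false

/-!
# Automorphisms fixing a root subgroup preserve the unipotent radical of its normalizer
-/

namespace Cfsg.Agent.Lib.Helper5.AutPSU

open Matrix Cfsg.Agent.Lib.Helper99 Cfsg.Agent.Lib.Helper99.SURoot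
open scoped Pointwise

variable {F : Type*} [Field F] [Fintype F] {q n : ℕ}

local notation "hh" => Cfsg.hermForm n F q

/-- an automorphism fixing a root subgroup preserves the image of the stabilizer of its point -/
theorem aut_stab (hF : Fintype.card F = q ^ 2) (hn : 3 ≤ n) {e : Fin n → F} (he0 : e ≠ 0)
    (he : hh e e = 0) (α : MulAut (Cfsg.PSU n F q))
    (hα : ∀ y, y ∈ Xb n q e ↔ α y ∈ Xb n q e) {g g' : ↥(Cfsg.SU n F q)}
    (hg : g ∈ PSUS.stab n e) (hg' : α (pr g) = pr g') : g' ∈ PSUS.stab n e := by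
  apply mem_stab_of_normalizes hF hn he0 he
  intro y hy
  have h1 : α.symm y ∈ Xb n q e := by
    rw [hα, MulEquiv.apply_symm_apply]
    exact hy
  have h2 := (normalizes_of_mem_stab hF he0 he hg (α.symm y)).2 h1
  rw [hα, map_mul, map_mul, map_inv, MulEquiv.apply_symm_apply, hg'] at h2
  exact h2

lemma stab_of_pr_eq (hF : Fintype.card F = q ^ 2) (hn : 3 ≤ n) {e : Fin n → F}
    {g x : ↥(Cfsg.SU n F q)} (hg : g ∈ PSUS.stab n e) (h : pr g = pr x) : x ∈ PSUS.stab n e := by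
  obtain ⟨ν, -, hx⟩ := exists_smul_of_pr_eq hF hn h
  obtain ⟨l, hl⟩ := (PSUS.mem_stab n e g).1 hg
  rw [PSUS.mem_stab]
  exact ⟨ν * l, by rw [hx, hl, smul_smul]⟩

section pgroup

variable (p : ℕ) [Fact p.Prime] [CharP F p]

/-- a normal `p`-subgroup of the image of the stabilizer of `⟨e⟩` lies in the image of `Qs e` -/
theorem normal_pgroup_le_Qs (hF : Fintype.card F = q ^ 2) (hn : 3 ≤ n) {e f : Fin n → F}
    (H : IsHyp n q e f) (M : Subgroup (Cfsg.PSU n F q)) (hM : IsPGroup p M)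
    (hQM : (Qs hF e H.ee).map pr ≤ M)
    (hMP : ∀ y ∈ M, ∃ g ∈ PSUS.stab n e, pr g = y)
    (hnorm : ∀ g ∈ PSUS.stab n e, ∀ y ∈ M, pr g * y * (pr g)⁻¹ ∈ M) :
    M ≤ (Qs hF e H.ee).map pr := by
  -- the subgroup of `SU` fixing the hyperbolic pair and mapping into `M`
  let N : Subgroup ↥(Cfsg.SU n F q) :=
    { carrier := {l | mat n l *ᵥ e = e ∧ mat n l *ᵥ f = f ∧ pr l ∈ M}
      mul_mem' := by
        rintro a b ⟨ha1, ha2, ha3⟩ ⟨hb1, hb2, hb3⟩
        refine ⟨?_, ?_, ?_⟩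
        · rw [su_mul_mulVec, hb1, ha1]
        · rw [su_mul_mulVec, hb2, ha2]
        · rw [map_mul]
          exact mul_mem ha3 hb3
      one_mem' := ⟨su_one_mulVec n e, su_one_mulVec n f, by rw [map_one]; exact one_mem M⟩
      inv_mem' := by
        rintro a ⟨ha1, ha2, ha3⟩
        refine ⟨?_, ?_, ?_⟩
        · nth_rewrite 1 [← ha1]
          rw [su_inv_mulVec_mulVec]
        · nth_rewrite 1 [← ha2]
          rw [su_inv_mulVec_mulVec]
        · rw [map_inv]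
          exact inv_mem ha3 }
  have hNmem : ∀ l, l ∈ N ↔ (mat n l *ᵥ e = e ∧ mat n l *ᵥ f = f ∧ pr l ∈ M) := fun l => Iff.rfl
  have hNp : IsPGroup p N := by
    rintro ⟨l, hl1, hl2, hl3⟩
    obtain ⟨k, hk⟩ := hM ⟨pr l, hl3⟩
    have hk' : (pr l) ^ p ^ k = 1 := by
      have := congrArg Subtype.val hk
      simpa using this
    refine ⟨k, ?_⟩
    apply Subtype.ext
    rw [Subgroup.coe_pow, Subgroup.coe_one]
    show l ^ p ^ k = 1
    have hc : l ^ p ^ k ∈ Subgroup.center ↥(Cfsg.SU n F q) := by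
      rw [← pr_eq_one_iff, map_pow, hk']
    obtain ⟨ν, -, hν⟩ := exists_scalar_of_mem_center hF hn hc
    apply eq_one_of_scalar_fix hν H.e_ne
    have : ∀ m : ℕ, mat n (l ^ m) *ᵥ e = e := by
      intro m
      induction m with
      | zero => rw [pow_zero, su_one_mulVec]
      | succ m ih => rw [pow_succ, su_mul_mulVec, hl1, ih]
    exact this _
  have hNfix : ∀ l ∈ N, mat n l *ᵥ e = e ∧ mat n l *ᵥ f = f := fun l hl => ⟨hl.1, hl.2.1⟩
  have hNnorm : ∀ m ∈ Levi n q e f, ∀ l ∈ N, m * l * m⁻¹ ∈ N := by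
    intro m hm l hl
    obtain ⟨⟨a, ha⟩, ⟨b, hb⟩⟩ := (mem_Levi m).1 hm
    have ha0 : a ≠ 0 := by
      rintro rfl
      rw [zero_smul] at ha
      exact H.e_ne (su_mulVec_eq_zero n m e ha)
    have hb0 : b ≠ 0 := by
      rintro rfl
      rw [zero_smul] at hb
      exact H.f_ne (su_mulVec_eq_zero n m f hb)
    have hie : mat n m⁻¹ *ᵥ e = a⁻¹ • e := by
      have h1 : mat n m⁻¹ *ᵥ (mat n m *ᵥ e) = e := su_inv_mulVec_mulVec n m e
      rw [ha, mulVec_smul] at h1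
      calc mat n m⁻¹ *ᵥ e = a⁻¹ • (a • mat n m⁻¹ *ᵥ e) := by
            rw [smul_smul, inv_mul_cancel₀ ha0, one_smul]
        _ = a⁻¹ • e := by rw [h1]
    have hif : mat n m⁻¹ *ᵥ f = b⁻¹ • f := by
      have h1 : mat n m⁻¹ *ᵥ (mat n m *ᵥ f) = f := su_inv_mulVec_mulVec n m f
      rw [hb, mulVec_smul] at h1
      calc mat n m⁻¹ *ᵥ f = b⁻¹ • (b • mat n m⁻¹ *ᵥ f) := by
            rw [smul_smul, inv_mul_cancel₀ hb0, one_smul]
        _ = b⁻¹ • f := by rw [h1]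
    refine ⟨?_, ?_, ?_⟩
    · rw [su_mul_mulVec, su_mul_mulVec, hie, mulVec_smul, hl.1, mulVec_smul, ha, smul_smul,
        inv_mul_cancel₀ ha0, one_smul]
    · rw [su_mul_mulVec, su_mul_mulVec, hif, mulVec_smul, hl.2.1, mulVec_smul, hb, smul_smul,
        inv_mul_cancel₀ hb0, one_smul]
    · rw [map_mul, map_mul, map_inv]
      exact hnorm m hm.1 _ hl.2.2
  have hNtriv := levi_pgroup_trivial p hF hn H N hNp hNfix hNnorm
  -- now the main argument
  intro y hy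
  obtain ⟨k, hk⟩ := hM ⟨y, hy⟩
  have hk' : y ^ p ^ k = 1 := by
    have := congrArg Subtype.val hk
    simpa using this
  obtain ⟨x, rfl, hxk⟩ := exists_pelement_lift p hF hn hk'
  obtain ⟨g, hg, hgx⟩ := hMP _ hy
  have hxs : x ∈ PSUS.stab n e := stab_of_pr_eq hF hn hg hgx
  obtain ⟨c, hc⟩ := (PSUS.mem_stab n e x).1 hxs
  have hxe : mat n x *ᵥ e = e := fix_of_pelement p hxk H.e_ne hc
  obtain ⟨s, hs, hsl⟩ := exists_Qs_mul_levi hF H hxs
  obtain ⟨u, b, hC, rfl⟩ := hs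
  obtain ⟨⟨a, ha⟩, ⟨b', hb'⟩⟩ := (mem_Levi _).1 hsl
  have hle : mat n ((sg hF e u b)⁻¹ * x) *ᵥ e = e := by
    rw [su_mul_mulVec, hxe]
    have h := su_inv_mulVec_mulVec n (sg hF e u b) e
    rw [sg_e hF hC] at h
    exact h
  have ha1 : a = 1 := by
    rw [hle] at ha
    have h1 : (a - 1) • e = 0 := by rw [sub_smul, ← ha, one_smul, sub_self]
    rcases smul_eq_zero.1 h1 with h2 | h2
    · exact sub_eq_zero.1 h2
    · exact absurd h2 H.e_ne
  have hb1 : b' = 1 := by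
    have h1 := levi_scalars H (show mat n ((sg hF e u b)⁻¹ * x) *ᵥ e = a • e by rw [hle, ha1, one_smul]) hb'
    rw [ha1, one_mul] at h1
    rw [← SURoot.pow_q_pow_q hF b', h1, one_pow]
  have hlN : (sg hF e u b)⁻¹ * x ∈ N := by
    refine ⟨hle, by rw [hb', hb1, one_smul], ?_⟩
    rw [map_mul, map_inv]
    exact mul_mem (inv_mem (hQM ⟨_, ⟨u, b, hC, rfl⟩, rfl⟩)) hy
  have h1 := hNtriv _ hlN
  have h2 : x = sg hF e u b := by
    have : x = sg hF e u b * ((sg hF e u b)⁻¹ * x) := by group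
    rw [this, h1, mul_one]
  exact ⟨x, ⟨u, b, hC, h2⟩, rfl⟩

end pgroup

/-- **An automorphism fixing the root subgroup of `e` preserves the image of `Qs e`.** -/
theorem aut_Qs (p : ℕ) [Fact p.Prime] [CharP F p] (hF : Fintype.card F = q ^ 2) (hn : 3 ≤ n) {e f : Fin n → F}
    (H : IsHyp n q e f) (α : MulAut (Cfsg.PSU n F q))
    (hα : ∀ y, y ∈ Xb n q e ↔ α y ∈ Xb n q e) {x : ↥(Cfsg.SU n F q)}
    (hx : x ∈ Qs hF e H.ee) : ∃ x' ∈ Qs hF e H.ee, α (pr x) = pr x' := by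
  set Qb : Subgroup (Cfsg.PSU n F q) := (Qs hF e H.ee).map pr with hQb
  set Sb : Subgroup (Cfsg.PSU n F q) := (PSUS.stab n e).map pr with hSb
  set A : Subgroup (Cfsg.PSU n F q) := Qb.map α.toMonoidHom with hA
  have hQbp : IsPGroup p Qb := (Qs_isPGroup p hF H.ee).map pr
  have hAp : IsPGroup p A := hQbp.map _
  have hQS : Qs hF e H.ee ≤ PSUS.stab n e := by
    rintro _ ⟨u, b, hC, rfl⟩
    rw [PSUS.mem_stab]
    exact ⟨1, by rw [sg_e hF hC, one_smul]⟩
  have hαS : ∀ y, y ∈ Sb → α y ∈ Sb := by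
    rintro _ ⟨g, hg, rfl⟩
    obtain ⟨g', hg'⟩ := pr_surjective (α (pr g))
    exact ⟨g', aut_stab hF hn H.e_ne H.ee α hα hg hg'.symm, hg'⟩
  have hαS' : ∀ y, y ∈ Sb → α.symm y ∈ Sb := by
    rintro _ ⟨g, hg, rfl⟩
    obtain ⟨g', hg'⟩ := pr_surjective (α.symm (pr g))
    refine ⟨g', aut_stab hF hn H.e_ne H.ee α.symm ?_ hg hg'.symm, hg'⟩
    intro y
    rw [hα (α.symm y), MulEquiv.apply_symm_apply]
  -- conjugation by elements of `Sb` preserves `Qb` and `A`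
  have hQbnorm : ∀ c ∈ Sb, ∀ y ∈ Qb, c * y * c⁻¹ ∈ Qb := by
    rintro _ ⟨g, hg, rfl⟩ _ ⟨x, hx, rfl⟩
    rw [← map_inv, ← map_mul, ← map_mul]
    exact ⟨_, Qs_conj_mem hF H.ee H.e_ne hg hx, rfl⟩
  have hAnorm : ∀ c ∈ Sb, ∀ y ∈ A, c * y * c⁻¹ ∈ A := by
    rintro c hc _ ⟨y, hy, rfl⟩
    have h1 := hQbnorm _ (hαS' c hc) y hy
    refine ⟨_, h1, ?_⟩
    show α (α.symm c * y * (α.symm c)⁻¹) = c * α y * c⁻¹
    rw [map_mul, map_mul, map_inv, MulEquiv.apply_symm_apply]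
  have hQbS : Qb ≤ Sb := Subgroup.map_mono hQS
  have hAS : A ≤ Sb := by
    rintro _ ⟨y, hy, rfl⟩
    exact hαS y (hQbS hy)
  have hM : IsPGroup p (A ⊔ Qb : Subgroup (Cfsg.PSU n F q)) := by
    apply IsPGroup.to_sup_of_normal_right' hAp hQbp
    intro c hc
    rw [Subgroup.mem_normalizer_iff]
    intro y
    constructor
    · intro hy
      exact hQbnorm c (hAS hc) y hy
    · intro hy
      have h1 := hQbnorm c⁻¹ (inv_mem (hAS hc)) _ hy
      have h2 : c⁻¹ * (c * y * c⁻¹) * c⁻¹⁻¹ = y := by group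
      rw [h2] at h1
      exact h1
  have hle := normal_pgroup_le_Qs p hF hn H (A ⊔ Qb) hM le_sup_right
    (by
      intro y hy
      have : y ∈ Sb := (sup_le hAS hQbS) hy
      obtain ⟨g, hg, rfl⟩ := this
      exact ⟨g, hg, rfl⟩)
    (by
      intro g hg y hy
      have hc : pr g ∈ Sb := ⟨g, hg, rfl⟩
      have h1 : (A ⊔ Qb).map (MulAut.conj (pr g)).toMonoidHom ≤ A ⊔ Qb := by
        rw [Subgroup.map_sup]
        apply sup_le_sup
        · rintro _ ⟨z, hz, rfl⟩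
          exact hAnorm _ hc z hz
        · rintro _ ⟨z, hz, rfl⟩
          exact hQbnorm _ hc z hz
      exact h1 ⟨y, hy, rfl⟩)
  have h1 : α (pr x) ∈ A ⊔ Qb := le_sup_left (a := A) ⟨pr x, ⟨x, hx, rfl⟩, rfl⟩
  obtain ⟨x', hx', hx'eq⟩ := hle h1
  exact ⟨x', hx', hx'eq.symm⟩

end Cfsg.Agent.Lib.Helper5.AutPSU
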