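import Mathlib
import Cfsg.Agent.Lib.Helper5.AutPSUOp2

set_option autoImplicit false
set_option linter.unusedSimpArgs false
set_option linter.unusedVariables false
set_option linter.unnecessarySeqFocus false
set_option linter.unusedSectionVars false
set_option linter.style.haveILetI false

/-!
# The action of a normalized automorphism on the unipotent radical `Qs e`
-/

namespace Cfsg.Agent.Lib.Helper5.AutPSU

open Matrix Cfsg.Agent.Lib.Helper99 Cfsg.Agent.Lib.Helper99.SURoot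
open scoped Pointwise

variable {F : Type*} [Field F] [Fintype F] {q n : ℕ}

local notation "hh" => Cfsg.hermForm n F q

/-- the parametrisation of `Qs e` is injective modulo the centre -/
lemma pr_sg_inj (hF : Fintype.card F = q ^ 2) (hn : 3 ≤ n) {e f u u' : Fin n → F} {b b' : F}
    (H : IsHyp n q e f) (h : SgC n q e u b) (h' : SgC n q e u' b')
    (hu : InW n q e f u) (hu' : InW n q e f u')
    (heq : pr (sg hF e u b) = pr (sg hF e u' b')) : u = u' ∧ b = b' := by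
  obtain ⟨ν, -, hν⟩ := exists_smul_of_pr_eq hF hn heq
  have h1 := hν e
  rw [sg_e hF h, sg_e hF h'] at h1
  have hν1 : ν = 1 := by
    have h2 : (ν - 1) • e = 0 := by rw [sub_smul, ← h1, one_smul, sub_self]
    rcases smul_eq_zero.1 h2 with h3 | h3
    · exact sub_eq_zero.1 h3
    · exact absurd h3 H.e_ne
  have h2 := hν f
  rw [hν1, one_smul] at h2
  exact sg_inj hF H h h' hu hu' h2.symm

lemma sg_tv_mul (hF : Fintype.card F = q ^ 2) {e u : Fin n → F} {b c : F}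
    (h : SgC n q e u b) (hc : c + c ^ q = 0) :
    SgC n q e u (c + b) ∧ sg hF e 0 c * sg hF e u b = sg hF e u (c + b) := by
  have h1 := sgC_mul hF (sgC_tv h.1 hc) h
  have h2 := sg_mul hF (sgC_tv h.1 hc) h
  rw [zero_add, hermForm_zero_right hF, sub_zero] at h1 h2
  exact ⟨h1, h2⟩

/-- an automorphism fixing `Xb e` maps transvections along `e` to such -/
lemma aut_tv (hF : Fintype.card F = q ^ 2) {e : Fin n → F} (he0 : e ≠ 0) (he : hh e e = 0)
    (α : MulAut (Cfsg.PSU n F q)) (hα : ∀ y, y ∈ Xb n q e ↔ α y ∈ Xb n q e) {c : F}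
    (hc : c + c ^ q = 0) : ∃ c' : F, c' + c' ^ q = 0 ∧ α (pr (tvElt n hF e c)) = pr (tvElt n hF e c') := by
  have h1 : pr (tvElt n hF e c) ∈ Xb n q e := (mem_Xb hF he0 he _).2 ⟨c, hc, rfl⟩
  exact (mem_Xb hF he0 he _).1 ((hα _).1 h1)

/-- `A` describes the action of `α` on `Qs e` modulo the root subgroup -/
def IsLin (hF : Fintype.card F = q ^ 2) (e f : Fin n → F) (α : MulAut (Cfsg.PSU n F q))
    (A : (Fin n → F) → (Fin n → F)) : Prop :=
  (∀ u, InW n q e f u → InW n q e f (A u)) ∧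
    ∀ u b, InW n q e f u → SgC n q e u b →
      ∃ b', SgC n q e (A u) b' ∧ α (pr (sg hF e u b)) = pr (sg hF e (A u) b')

/-- existence of the map `A` -/
theorem exists_isLin (p : ℕ) [Fact p.Prime] [CharP F p] (hF : Fintype.card F = q ^ 2)
    (hn : 3 ≤ n) {e f : Fin n → F} (H : IsHyp n q e f) (α : MulAut (Cfsg.PSU n F q))
    (hα : ∀ y, y ∈ Xb n q e ↔ α y ∈ Xb n q e) :
    ∃ A : (Fin n → F) → (Fin n → F), IsLin hF e f α A := by
  have key : ∀ u, InW n q e f u → ∃ u', InW n q e f u' ∧ ∀ b, SgC n q e u b →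
      ∃ b', SgC n q e u' b' ∧ α (pr (sg hF e u b)) = pr (sg hF e u' b') := by
    intro u hu
    obtain ⟨b₀, hb₀⟩ := exists_sgC hF H.ee hu.1
    obtain ⟨x', hx', hx'eq⟩ := aut_Qs p hF hn H α hα (x := sg hF e u b₀) ⟨u, b₀, hb₀, rfl⟩
    obtain ⟨u', b₀', hu', hC', rfl⟩ := (mem_Qs_iff_W hF H x').1 hx'
    refine ⟨u', hu', ?_⟩
    intro b hb
    have hc : (b - b₀) + (b - b₀) ^ q = 0 := by
      rw [frob_sub hF]
      linear_combination hb.2.2 - hb₀.2.2
    obtain ⟨hC1, h1⟩ := sg_tv_mul hF hb₀ hc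
    have h2 : b - b₀ + b₀ = b := by ring
    rw [h2] at h1
    obtain ⟨c', hc', hc'eq⟩ := aut_tv hF H.e_ne H.ee α hα hc
    obtain ⟨hC2, h3⟩ := sg_tv_mul hF hC' hc'
    refine ⟨c' + b₀', hC2, ?_⟩
    rw [← h1, map_mul, map_mul, hx'eq, sg_tv hF H.ee hc, hc'eq, ← sg_tv hF H.ee hc', ← map_mul, h3]
  classical
  refine ⟨fun u => if h : InW n q e f u then Classical.choose (key u h) else 0, ?_, ?_⟩
  · intro u hu
    simp only [dif_pos hu]
    exact (Classical.choose_spec (key u hu)).1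
  · intro u b hu hb
    simp only [dif_pos hu]
    exact (Classical.choose_spec (key u hu)).2 b hb

section lin

variable {hF : Fintype.card F = q ^ 2} {e f : Fin n → F} {α : MulAut (Cfsg.PSU n F q)}
  {A : (Fin n → F) → (Fin n → F)}

/-- `A` is additive on the complement -/
theorem IsLin.add (hA : IsLin hF e f α A) (hn : 3 ≤ n) (H : IsHyp n q e f) {u₁ u₂ : Fin n → F}
    (h₁ : InW n q e f u₁) (h₂ : InW n q e f u₂) : A (u₁ + u₂) = A u₁ + A u₂ := by
  obtain ⟨b₁, hb₁⟩ := exists_sgC hF H.ee h₁.1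
  obtain ⟨b₂, hb₂⟩ := exists_sgC hF H.ee h₂.1
  obtain ⟨b₁', hb₁', e₁⟩ := hA.2 u₁ b₁ h₁ hb₁
  obtain ⟨b₂', hb₂', e₂⟩ := hA.2 u₂ b₂ h₂ hb₂
  obtain ⟨b₃', hb₃', e₃⟩ := hA.2 (u₁ + u₂) _ (h₁.add h₂) (sgC_mul hF hb₁ hb₂)
  rw [← sg_mul hF hb₁ hb₂, map_mul, map_mul, e₁, e₂, ← map_mul, sg_mul hF hb₁' hb₂'] at e₃
  exact (pr_sg_inj hF hn H (sgC_mul hF hb₁' hb₂') hb₃' ((hA.1 _ h₁).add (hA.1 _ h₂))
    (hA.1 _ (h₁.add h₂)) e₃).1.symm

theorem IsLin.zero (hA : IsLin hF e f α A) (hn : 3 ≤ n) (H : IsHyp n q e f) : A 0 = 0 := by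
  have := hA.add hn H (InW.zero (e := e) (f := f)) InW.zero
  rw [add_zero] at this
  exact left_eq_add.1 this

theorem IsLin.neg (hA : IsLin hF e f α A) (hn : 3 ≤ n) (H : IsHyp n q e f) {u : Fin n → F}
    (hu : InW n q e f u) : A (-u) = -A u := by
  have := hA.add hn H hu hu.neg
  rw [add_neg_cancel, hA.zero hn H] at this
  exact (neg_eq_of_add_eq_zero_right this.symm).symm

theorem IsLin.sub (hA : IsLin hF e f α A) (hn : 3 ≤ n) (H : IsHyp n q e f) {u₁ u₂ : Fin n → F}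
    (h₁ : InW n q e f u₁) (h₂ : InW n q e f u₂) : A (u₁ - u₂) = A u₁ - A u₂ := by
  rw [sub_eq_add_neg, hA.add hn H h₁ h₂.neg, hA.neg hn H h₂, sub_eq_add_neg]

/-- `A` is injective on the complement -/
theorem IsLin.eq_zero (hA : IsLin hF e f α A) (hn : 3 ≤ n) (H : IsHyp n q e f)
    (hα : ∀ y, y ∈ Xb n q e ↔ α y ∈ Xb n q e) {u : Fin n → F}
    (hu : InW n q e f u) (h0 : A u = 0) : u = 0 := by
  obtain ⟨b, hb⟩ := exists_sgC hF H.ee hu.1
  obtain ⟨b', hb', e₁⟩ := hA.2 u b hu hb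
  rw [h0] at hb' e₁
  have hb'' : b' + b' ^ q = 0 := by
    have := hb'.2.2
    rw [hermForm_zero_left, add_zero] at this
    exact this
  rw [sg_tv hF H.ee hb''] at e₁
  have h1 : pr (sg hF e u b) ∈ Xb n q e := by
    rw [hα, e₁]
    exact (mem_Xb hF H.e_ne H.ee _).2 ⟨b', hb'', rfl⟩
  obtain ⟨c, hc, h2⟩ := (mem_Xb hF H.e_ne H.ee _).1 h1
  rw [← sg_tv hF H.ee hc] at h2
  exact (pr_sg_inj hF hn H hb (sgC_tv H.ee hc) hu InW.zero h2).1

theorem IsLin.inj (hA : IsLin hF e f α A) (hn : 3 ≤ n) (H : IsHyp n q e f)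
    (hα : ∀ y, y ∈ Xb n q e ↔ α y ∈ Xb n q e) {u₁ u₂ : Fin n → F}
    (h₁ : InW n q e f u₁) (h₂ : InW n q e f u₂) (h : A u₁ = A u₂) : u₁ = u₂ := by
  have h3 := hA.sub hn H h₁ h₂
  rw [h, sub_self] at h3
  exact sub_eq_zero.1 (hA.eq_zero hn H hα (h₁.sub h₂) h3)

/-- composition of the maps attached to two automorphisms -/
theorem IsLin.comp {β : MulAut (Cfsg.PSU n F q)} {B : (Fin n → F) → (Fin n → F)}
    (hA : IsLin hF e f α A) (hB : IsLin hF e f β B) : IsLin hF e f (β * α) (fun u => B (A u)) := by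
  refine ⟨fun u hu => hB.1 _ (hA.1 u hu), ?_⟩
  intro u b hu hb
  obtain ⟨b', hb', e₁⟩ := hA.2 u b hu hb
  obtain ⟨b'', hb'', e₂⟩ := hB.2 (A u) b' (hA.1 u hu) hb'
  refine ⟨b'', hb'', ?_⟩
  rw [MulAut.mul_apply, e₁, e₂]

/-- uniqueness of the map attached to an automorphism -/
theorem IsLin.unique {B : (Fin n → F) → (Fin n → F)} (hA : IsLin hF e f α A)
    (hB : IsLin hF e f α B) (hn : 3 ≤ n) (H : IsHyp n q e f) {u : Fin n → F}
    (hu : InW n q e f u) : A u = B u := by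
  obtain ⟨b, hb⟩ := exists_sgC hF H.ee hu.1
  obtain ⟨b', hb', e₁⟩ := hA.2 u b hu hb
  obtain ⟨b'', hb'', e₂⟩ := hB.2 u b hu hb
  rw [e₁] at e₂
  exact (pr_sg_inj hF hn H hb' hb'' (hA.1 u hu) (hB.1 u hu) e₂).1

lemma isLin_one (hF : Fintype.card F = q ^ 2) (e f : Fin n → F) :
    IsLin hF e f (1 : MulAut (Cfsg.PSU n F q)) (fun u => u) :=
  ⟨fun u hu => hu, fun u b hu hb => ⟨b, hb, rfl⟩⟩

/-- `A` is surjective onto the complement -/
theorem IsLin.surj (hA : IsLin hF e f α A) (p : ℕ) [Fact p.Prime] [CharP F p] (hn : 3 ≤ n)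
    (H : IsHyp n q e f) (hα : ∀ y, y ∈ Xb n q e ↔ α y ∈ Xb n q e) {u : Fin n → F}
    (hu : InW n q e f u) : ∃ u', InW n q e f u' ∧ A u' = u := by
  have hα' : ∀ y, y ∈ Xb n q e ↔ α⁻¹ y ∈ Xb n q e := by
    intro y
    rw [hα (α⁻¹ y)]
    simp
  obtain ⟨B, hB⟩ := exists_isLin p hF hn H α⁻¹ hα'
  have h1 := hB.comp hA
  rw [mul_inv_cancel] at h1
  exact ⟨B u, hB.1 u hu, h1.unique (isLin_one hF e f) hn H hu⟩

/-- **Equivariance** with respect to the Levi complement -/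
theorem IsLin.equivariant (hA : IsLin hF e f α A) (hn : 3 ≤ n) (H : IsHyp n q e f)
    {m m' : ↥(Cfsg.SU n F q)} {l l' : F} (hm : mat n m *ᵥ e = l • e)
    (hmf : m ∈ PSUS.stab n f) (hm' : mat n m' *ᵥ e = l' • e) (hm'f : m' ∈ PSUS.stab n f)
    (hmm' : α (pr m) = pr m') {u : Fin n → F} (hu : InW n q e f u) :
    A (l ^ q • (mat n m *ᵥ u)) = l' ^ q • (mat n m' *ᵥ A u) := by
  obtain ⟨c, hc⟩ := (PSUS.mem_stab n f m).1 hmf
  obtain ⟨c', hc'⟩ := (PSUS.mem_stab n f m').1 hm'f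
  obtain ⟨b, hb⟩ := exists_sgC hF H.ee hu.1
  obtain ⟨b', hb', e₁⟩ := hA.2 u b hu hb
  obtain ⟨hC1, h1⟩ := conj_sg_stab hF hb m hm H.e_ne
  obtain ⟨hC2, h2⟩ := conj_sg_stab hF hb' m' hm' H.e_ne
  have hW1 : InW n q e f (l ^ q • (mat n m *ᵥ u)) := (levi_W H hm hc hu).smul _
  have hW2 : InW n q e f (l' ^ q • (mat n m' *ᵥ A u)) := (levi_W H hm' hc' (hA.1 u hu)).smul _
  obtain ⟨b₃, hb₃, e₃⟩ := hA.2 _ _ hW1 hC1
  rw [← h1, map_mul, map_mul, map_inv, map_mul, map_mul, map_inv, hmm', e₁, ← map_inv, ← map_mul,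
    ← map_mul, h2] at e₃
  exact (pr_sg_inj hF hn H hC2 hb₃ hW2 (hA.1 _ hW1) e₃).1.symm

/-- **The commutator relation**: the alternating form is preserved up to the action on the root
subgroup -/
theorem IsLin.comm (hA : IsLin hF e f α A) (hn : 3 ≤ n) (H : IsHyp n q e f)
    {u u' : Fin n → F} (hu : InW n q e f u) (hu' : InW n q e f u') :
    α (pr (tvElt n hF e (hh u u' - hh u' u))) =
      pr (tvElt n hF e (hh (A u) (A u') - hh (A u') (A u))) := by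
  have hω : ∀ v v' : Fin n → F, (hh v v' - hh v' v) + (hh v v' - hh v' v) ^ q = 0 := by
    intro v v'
    rw [frob_sub hF, hf_conj n hF, hf_conj n hF]
    ring
  obtain ⟨b, hb⟩ := exists_sgC hF H.ee hu.1
  obtain ⟨b', hb'⟩ := exists_sgC hF H.ee hu'.1
  obtain ⟨c, hc, e₁⟩ := hA.2 u b hu hb
  obtain ⟨c', hc', e₂⟩ := hA.2 u' b' hu' hb'
  -- the commutator identity in `SU`
  have hcomm : ∀ (v v' : Fin n → F) (d d' : F), SgC n q e v d → SgC n q e v' d' →
      sg hF e v d * sg hF e v' d' =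
        tvElt n hF e (hh v v' - hh v' v) * (sg hF e v' d' * sg hF e v d) := by
    intro v v' d d' hd hd'
    rw [sg_mul hF hd hd', sg_mul hF hd' hd, ← sg_tv hF H.ee (hω v v'),
      (sg_tv_mul hF (sgC_mul hF hd' hd) (hω v v')).2, add_comm v' v]
    congr 1
    ring
  have h1 := congrArg (fun z => α (pr z)) (hcomm u u' b b' hb hb')
  simp only [map_mul] at h1
  rw [e₁, e₂, ← map_mul, hcomm (A u) (A u') c c' hc hc', map_mul, map_mul] at h1
  exact (mul_right_cancel h1).symm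

end lin

end Cfsg.Agent.Lib.Helper5.AutPSU
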