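import Mathlib
import Cfsg.Agent.Lib.Helper5.AutPSULin
import Cfsg.Agent.Lib.Helper13.UParab4

set_option autoImplicit false
set_option linter.unusedSimpArgs false
set_option linter.unusedVariables false
set_option linter.unnecessarySeqFocus false
set_option linter.unusedSectionVars false
set_option linter.style.haveILetI false

/-!
# Normalizing an automorphism of `PSU_n(q)` by an element of `GU_n(q)`
-/

namespace Cfsg.Agent.Lib.Helper5.AutPSU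

open Matrix Cfsg.Agent.Lib.Helper99 Cfsg.Agent.Lib.Helper99.SURoot
open scoped Pointwise

variable {F : Type*} [Field F] [Fintype F] {q n : ℕ}

local notation "hh" => Cfsg.hermForm n F q

/-- the action of `GamU g` on transvections -/
lemma GamU_tv (hF : Fintype.card F = q ^ 2) (g : ↥(Cfsg.GU n F q)) {v : Fin n → F}
    (hv : hh v v = 0) {c : F} (hc : c + c ^ q = 0) :
    GamU g (pr (tvElt n hF v c)) = pr (tvElt n hF (g.1.1 *ᵥ v) c) := by
  have hv' : hh (g.1.1 *ᵥ v) (g.1.1 *ᵥ v) = 0 := by rw [GU_preserves g.2, hv]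
  rw [GamU_pr, ← sg_tv hF hv hc, conjU_sg hF g (sgC_tv hv hc), Matrix.mulVec_zero,
    sg_tv hF hv' hc]

/-- the action of `PhiU σ` on transvections -/
lemma PhiU_tv (hF : Fintype.card F = q ^ 2) (σ : F ≃+* F) {v : Fin n → F}
    (hv : hh v v = 0) {c : F} (hc : c + c ^ q = 0) :
    hh (fun i => σ (v i)) (fun i => σ (v i)) = 0 ∧ σ c + (σ c) ^ q = 0 ∧
    PhiU σ (pr (tvElt n hF v c)) = pr (tvElt n hF (fun i => σ (v i)) (σ c)) := by
  have hv' : hh (fun i => σ (v i)) (fun i => σ (v i)) = 0 := by rw [herm_map, hv, map_zero]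
  have hc' : σ c + (σ c) ^ q = 0 := by rw [← map_pow, ← map_add, hc, map_zero]
  refine ⟨hv', hc', ?_⟩
  rw [PhiU_pr, ← sg_tv hF hv hc, fieldU_sg hF σ (sgC_tv hv hc)]
  have h0 : (fun i => σ ((0 : Fin n → F) i)) = 0 := by
    funext i
    simp
  rw [h0, sg_tv hF hv' hc']

lemma GamU_Xb (hF : Fintype.card F = q ^ 2) (g : ↥(Cfsg.GU n F q)) {v : Fin n → F}
    (hv0 : v ≠ 0) (hv : hh v v = 0) (y : Cfsg.PSU n F q) :
    y ∈ Xb n q v ↔ GamU g y ∈ Xb n q (g.1.1 *ᵥ v) := by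
  have key : ∀ (g : ↥(Cfsg.GU n F q)) {v : Fin n → F} (hv0 : v ≠ 0) (hv : hh v v = 0)
      (y : Cfsg.PSU n F q), y ∈ Xb n q v → GamU g y ∈ Xb n q (g.1.1 *ᵥ v) := by
    intro g v hv0 hv y hy
    have hv' : hh (g.1.1 *ᵥ v) (g.1.1 *ᵥ v) = 0 := by rw [GU_preserves g.2, hv]
    have hv0' : g.1.1 *ᵥ v ≠ 0 := by
      intro h
      apply hv0
      have := congrArg (fun x => (g.1⁻¹).1 *ᵥ x) h
      simpa [gl_inv_mulVec_mulVec] using this
    obtain ⟨c, hc, rfl⟩ := (mem_Xb hF hv0 hv y).1 hy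
    rw [GamU_tv hF g hv hc]
    exact (mem_Xb hF hv0' hv' _).2 ⟨c, hc, rfl⟩
  refine ⟨key g hv0 hv y, fun h => ?_⟩
  have hv' : hh (g.1.1 *ᵥ v) (g.1.1 *ᵥ v) = 0 := by rw [GU_preserves g.2, hv]
  have hv0' : g.1.1 *ᵥ v ≠ 0 := by
    intro h
    apply hv0
    have := congrArg (fun x => (g.1⁻¹).1 *ᵥ x) h
    simpa [gl_inv_mulVec_mulVec] using this
  have h1 := key g⁻¹ hv0' hv' _ h
  have h2 : GamU g⁻¹ (GamU g y) = y := by
    rw [← MulAut.mul_apply, ← map_mul, inv_mul_cancel, map_one]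
    rfl
  have h3 : (g⁻¹).1.1 *ᵥ (g.1.1 *ᵥ v) = v := gl_inv_mulVec_mulVec g.1 v
  rw [h2, h3] at h1
  exact h1

/-- an isotropic non-zero vector has a hyperbolic partner -/
lemma exists_partner (hF : Fintype.card F = q ^ 2) (hn : 2 ≤ n) {r : Fin n → F} (hr0 : r ≠ 0)
    (hr : hh r r = 0) : ∃ r' : Fin n → F, IsHyp n q r r' := by
  obtain ⟨u, huu, hru⟩ := Helper13.exists_isotropic_partner hF hn r hr0 hr
  refine ⟨u, hr, huu, hru, ?_⟩
  rw [← hf_conj n hF, hru, one_pow]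

/-- **Normalization**: after composing with an automorphism induced by `GU_n(q)`, the root
subgroups of a hyperbolic pair are fixed. -/
theorem exists_normalize (p : ℕ) [Fact p.Prime] [CharP F p] (hF : Fintype.card F = q ^ 2)
    (hn : 3 ≤ n) {e f : Fin n → F} (H : IsHyp n q e f) (α : MulAut (Cfsg.PSU n F q)) :
    ∃ g : ↥(Cfsg.GU n F q),
      (∀ y, y ∈ Xb n q e ↔ (GamU g)⁻¹ (α y) ∈ Xb n q e) ∧
      (∀ y, y ∈ Xb n q f ↔ (GamU g)⁻¹ (α y) ∈ Xb n q f) := by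
  obtain ⟨e', he'0, he', hαe⟩ := exists_root_map p hF hn α H.e_ne H.ee
  obtain ⟨f', hf'0, hf', hαf⟩ := exists_root_map p hF hn α H.f_ne H.ff
  have hc0 : hh e' f' ≠ 0 := by
    intro h0
    have h1 := (Xb_commute_iff hF hn he'0 he' hf'0 hf').2 h0
    have h2 : hh e f = 0 := by
      rw [← Xb_commute_iff hF hn H.e_ne H.ee H.f_ne H.ff]
      intro x hx y hy
      apply α.injective
      rw [map_mul, map_mul]
      exact h1 _ ((hαe x).1 hx) _ ((hαf y).1 hy)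
    rw [H.ef] at h2
    exact one_ne_zero h2
  set c := hh e' f' with hc
  set d : F := (c⁻¹) ^ q with hd
  have hd0 : d ≠ 0 := pow_ne_zero _ (inv_ne_zero hc0)
  have hH' : IsHyp n q e' (d • f') := by
    have h1 : hh e' (d • f') = 1 := by
      rw [hf_smul_right, hd, SURoot.pow_q_pow_q hF, ← hc, inv_mul_cancel₀ hc0]
    refine ⟨he', isotropic_smul hf' d, h1, ?_⟩
    rw [← hf_conj n hF, h1, one_pow]
  -- Witt's lemma
  have hx : LinearIndependent F ![e, f] := by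
    apply Helper13.linearIndependent_of_dual hF ![e, f] ![f, e]
    intro l i
    fin_cases l <;> fin_cases i <;> simp [H.ee, H.ff, H.ef, H.fe]
  have hy : LinearIndependent F ![e', d • f'] := by
    apply Helper13.linearIndependent_of_dual hF ![e', d • f'] ![d • f', e']
    intro l i
    fin_cases l <;> fin_cases i <;> simp [hH'.ee, hH'.ff, hH'.ef, hH'.fe]
  obtain ⟨g, hg⟩ := Helper13.exists_GU_map hF ![e, f] ![e', d • f'] hx hy (by
    intro i j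
    fin_cases i <;> fin_cases j <;> simp [hH'.ee, hH'.ff, hH'.ef, hH'.fe, H.ee, H.ff, H.ef, H.fe])
  have hge : g.1.1 *ᵥ e = e' := hg 0
  have hgf : g.1.1 *ᵥ f = d • f' := hg 1
  refine ⟨g, fun y => ?_, fun y => ?_⟩
  · rw [hαe y, GamU_Xb hF g H.e_ne H.ee, hge]
    simp
  · rw [hαf y, GamU_Xb hF g H.f_ne H.ff, hgf, Xb_smul hF hf'0 hf' hd0]
    simp

/-- `Qs` only depends on the line -/
lemma Qs_smul (hF : Fintype.card F = q ^ 2) {v : Fin n → F} (hv : hh v v = 0) {l : F}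
    (hl : l ≠ 0) (hlv : hh (l • v) (l • v) = 0) : Qs hF (l • v) hlv = Qs hF v hv := by
  ext x
  rw [mem_Qs, mem_Qs]
  constructor
  · rintro ⟨u, b, hC, rfl⟩
    exact ⟨_, _, sgC_smul hF l hC hl, sg_smul hF l hC hl⟩
  · rintro ⟨u, b, hC, rfl⟩
    have hl' : l⁻¹ ≠ 0 := inv_ne_zero hl
    have hC' : SgC n q (l⁻¹ • (l • v)) u b := by
      rw [smul_smul, inv_mul_cancel₀ hl, one_smul]
      exact hC
    have h1 := sgC_smul hF l⁻¹ hC' hl'
    have h2 := sg_smul hF l⁻¹ hC' hl'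
    refine ⟨_, _, h1, ?_⟩
    rw [← h2]
    congr 1
    rw [smul_smul, inv_mul_cancel₀ hl, one_smul]

/-- conjugation maps `Qs` to `Qs` -/
lemma Qs_conj (hF : Fintype.card F = q ^ 2) {v : Fin n → F} (hv : hh v v = 0)
    (g : ↥(Cfsg.SU n F q)) (hgv : hh (mat n g *ᵥ v) (mat n g *ᵥ v) = 0) {x : ↥(Cfsg.SU n F q)}
    (hx : x ∈ Qs hF v hv) : g * x * g⁻¹ ∈ Qs hF (mat n g *ᵥ v) hgv := by
  obtain ⟨u, b, hC, rfl⟩ := hx
  exact ⟨_, _, sgC_conj g hC, conj_sg hF g hC⟩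

/-- **General form of `aut_Qs`** -/
theorem aut_Qs' (p : ℕ) [Fact p.Prime] [CharP F p] (hF : Fintype.card F = q ^ 2) (hn : 3 ≤ n)
    {r r₁ : Fin n → F} (hr0 : r ≠ 0) (hr : hh r r = 0) (hr₁0 : r₁ ≠ 0) (hr₁ : hh r₁ r₁ = 0)
    (α : MulAut (Cfsg.PSU n F q)) (hα : ∀ y, y ∈ Xb n q r ↔ α y ∈ Xb n q r₁)
    {x : ↥(Cfsg.SU n F q)} (hx : x ∈ Qs hF r hr) : ∃ x' ∈ Qs hF r₁ hr₁, α (pr x) = pr x' := by
  obtain ⟨r', Hr⟩ := exists_partner hF (by omega) hr0 hr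
  obtain ⟨g, l, hl, hg⟩ := PSUS.exists_move n hF r₁ r hr₁0 hr0 hr₁ hr
  -- `β = conj (pr g) ∘ α` fixes `Xb r`
  set β : MulAut (Cfsg.PSU n F q) := MulAut.conj (pr g) * α with hβ
  have hβr : ∀ y, y ∈ Xb n q r ↔ β y ∈ Xb n q r := by
    intro y
    rw [hα y, hβ, MulAut.mul_apply, MulAut.conj_apply, ← Xb_conj_iff hF hr₁0 hr₁ g (α y), hg,
      Xb_smul hF hr0 hr hl]
  obtain ⟨x₁, hx₁, hx₁eq⟩ := aut_Qs p hF hn Hr β hβr hx
  have hgi : mat n g⁻¹ *ᵥ r = l⁻¹ • r₁ := by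
    have : r = l⁻¹ • (mat n g *ᵥ r₁) := by rw [hg, smul_smul, inv_mul_cancel₀ hl, one_smul]
    rw [this, Matrix.mulVec_smul, su_inv_mulVec_mulVec]
  have hli : hh (l⁻¹ • r₁) (l⁻¹ • r₁) = 0 := isotropic_smul hr₁ _
  have h1 := Qs_conj hF Hr.ee g⁻¹ (by rw [hgi]; exact hli) hx₁
  have h2 : Qs hF (mat n g⁻¹ *ᵥ r) (by rw [hgi]; exact hli) = Qs hF r₁ hr₁ := by
    have h3 : Qs hF (mat n g⁻¹ *ᵥ r) (by rw [hgi]; exact hli) = Qs hF (l⁻¹ • r₁) hli := by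
      congr 1
    rw [h3, Qs_smul hF hr₁ (inv_ne_zero hl)]
  rw [h2] at h1
  refine ⟨_, h1, ?_⟩
  rw [map_mul, map_mul, ← hx₁eq, hβ, MulAut.mul_apply, MulAut.conj_apply, map_inv]
  group

end Cfsg.Agent.Lib.Helper5.AutPSU
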