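import Mathlib
import Cfsg.Agent.Lib.Helper5.AutPSUNorm
import Cfsg.Agent.Lib.Helper13.SU3Inv2

set_option autoImplicit false
set_option linter.unusedSimpArgs false
set_option linter.unusedVariables false
set_option linter.unnecessarySeqFocus false
set_option linter.unusedSectionVars false
set_option linter.style.haveILetI false

/-!
# Torus elements of `SU_n(q)` attached to hyperbolic pairs
-/

namespace Cfsg.Agent.Lib.Helper5.AutPSU

open Matrix Cfsg.Agent.Lib.Helper99 Cfsg.Agent.Lib.Helper99.SURoot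
open scoped Pointwise

variable {F : Type*} [Field F] [Fintype F] {q n : ℕ}

local notation "hh" => Cfsg.hermForm n F q

/-- an element of `SU` from a matrix -/
def mkSU (M : Matrix (Fin n) (Fin n) F) (hdet : M.det = 1)
    (hM : ∀ u v, hh (M *ᵥ u) (M *ᵥ v) = hh u v) : ↥(Cfsg.SU n F q) := ⟨⟨M, hdet⟩, hM⟩

lemma mkSU_mat (M : Matrix (Fin n) (Fin n) F) (hdet : M.det = 1)
    (hM : ∀ u v, hh (M *ᵥ u) (M *ᵥ v) = hh u v) : mat n (mkSU M hdet hM) = M := rfl

/-- the diagonal matrix of a hyperbolic pair -/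
def dg (n q : ℕ) (e f : Fin n → F) (l : F) : Matrix (Fin n) (Fin n) F :=
  embMat n q e f l 0 0 (l ^ q)⁻¹

lemma dg_mulVec (e f : Fin n → F) (l : F) (x : Fin n → F) :
    dg n q e f l *ᵥ x = x + hh x f • ((l - 1) • e) + hh x e • (((l ^ q)⁻¹ - 1) • f) := by
  unfold dg
  rw [embMat_mulVec]
  simp

lemma dg_e {e f : Fin n → F} (H : IsHyp n q e f) (l : F) : dg n q e f l *ᵥ e = l • e := by
  rw [dg_mulVec, H.ef, H.ee]
  module

lemma dg_f {e f : Fin n → F} (H : IsHyp n q e f) (l : F) :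
    dg n q e f l *ᵥ f = (l ^ q)⁻¹ • f := by
  rw [dg_mulVec, H.fe, H.ff]
  module

lemma dg_W {e f u : Fin n → F} (hu : InW n q e f u) (l : F) : dg n q e f l *ᵥ u = u := by
  rw [dg_mulVec, hu.1, hu.2]
  module

lemma dg_det {e f : Fin n → F} (H : IsHyp n q e f) (l : F) :
    (dg n q e f l).det = l * (l ^ q)⁻¹ := by
  unfold dg
  rw [embMat_det n e f H.ee H.ff H.ef H.fe]
  ring

lemma dg_preserves (hF : Fintype.card F = q ^ 2) {e f : Fin n → F} (H : IsHyp n q e f) {l : F}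
    (hl : l ≠ 0) (u v : Fin n → F) :
    hh (dg n q e f l *ᵥ u) (dg n q e f l *ᵥ v) = hh u v := by
  unfold dg
  apply embMat_preserves n hF e f H.ee H.ff H.ef H.fe
  · simp [q_ne_zero hF]
  · simp [q_ne_zero hF]
  · rw [zero_pow (q_ne_zero hF), mul_zero, add_zero, inv_pow, SURoot.pow_q_pow_q hF,
      mul_inv_cancel₀ hl]

/-- the torus element acting on two orthogonal hyperbolic pairs -/
theorem exists_torus2 (hF : Fintype.card F = q ^ 2) {e f r r' : Fin n → F}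
    (H : IsHyp n q e f) (Hr : IsHyp n q r r') (hrW : InW n q e f r) (hr'W : InW n q e f r')
    {l m : F} (hl : l ≠ 0) (hm : m ≠ 0) (hlm : (l * m) ^ q = l * m) :
    ∃ t : ↥(Cfsg.SU n F q), mat n t *ᵥ e = l • e ∧ mat n t *ᵥ f = (l ^ q)⁻¹ • f ∧
      mat n t *ᵥ r = m • r := by
  have heW : InW n q r r' e := ⟨hrW.eu hF, hr'W.eu hF⟩
  have hfW : InW n q r r' f := ⟨hrW.fu hF, hr'W.fu hF⟩
  have hdet : (dg n q e f l * dg n q r r' m).det = 1 := by
    rw [Matrix.det_mul, dg_det H, dg_det Hr]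
    have h1 : l ^ q * m ^ q = l * m := by rw [← mul_pow, hlm]
    have hlq : l ^ q ≠ 0 := pow_ne_zero _ hl
    have hmq : m ^ q ≠ 0 := pow_ne_zero _ hm
    field_simp
    linear_combination -h1
  refine ⟨mkSU (dg n q e f l * dg n q r r' m) hdet ?_, ?_, ?_, ?_⟩
  · intro u v
    rw [← Matrix.mulVec_mulVec, ← Matrix.mulVec_mulVec, dg_preserves hF H hl,
      dg_preserves hF Hr hm]
  · rw [mkSU_mat, ← Matrix.mulVec_mulVec, dg_W heW, dg_e H]
  · rw [mkSU_mat, ← Matrix.mulVec_mulVec, dg_W hfW, dg_f H]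
  · rw [mkSU_mat, ← Matrix.mulVec_mulVec, dg_e Hr, Matrix.mulVec_smul, dg_W hrW]

/-- the torus element acting on a hyperbolic pair and a unit vector orthogonal to it -/
theorem exists_torus3 (hF : Fintype.card F = q ^ 2) {e f a : Fin n → F}
    (H : IsHyp n q e f) (haW : InW n q e f a) (ha : hh a a = 1)
    {l : F} (hl : l ≠ 0) :
    ∃ t : ↥(Cfsg.SU n F q), mat n t *ᵥ e = l • e ∧ mat n t *ᵥ f = (l ^ q)⁻¹ • f ∧
      mat n t *ᵥ a = (l ^ q * l⁻¹) • a := by
  have hlq : l ^ q ≠ 0 := pow_ne_zero _ hl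
  have hμ0 : l ^ q * l⁻¹ ≠ 0 := mul_ne_zero hlq (inv_ne_zero hl)
  have hμ : (l ^ q * l⁻¹) * (l ^ q * l⁻¹) ^ q = 1 := by
    rw [mul_pow, SURoot.pow_q_pow_q hF, inv_pow]
    field_simp
  set D : Matrix (Fin n) (Fin n) F := ((Helper13.qdil q a (l ^ q * l⁻¹) : GL (Fin n) F) :
    Matrix (Fin n) (Fin n) F) with hD
  have hDx : ∀ x, D *ᵥ x = x + ((l ^ q * l⁻¹ - 1) * hh x a) • a :=
    Helper13.qdil_mulVec a ha _ hμ0
  have hDdet : D.det = l ^ q * l⁻¹ := Helper13.qdil_det a ha _ hμ0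
  have hDpres : ∀ u v, hh (D *ᵥ u) (D *ᵥ v) = hh u v :=
    GU_preserves (Helper13.qdil_mem_GU hF a ha _ hμ)
  have hdet : (dg n q e f l * D).det = 1 := by
    rw [Matrix.det_mul, dg_det H, hDdet]
    field_simp
  refine ⟨mkSU (dg n q e f l * D) hdet ?_, ?_, ?_, ?_⟩
  · intro u v
    rw [← Matrix.mulVec_mulVec, ← Matrix.mulVec_mulVec, dg_preserves hF H hl, hDpres]
  · rw [mkSU_mat, ← Matrix.mulVec_mulVec, hDx, haW.eu hF, mul_zero, zero_smul, add_zero, dg_e H]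
  · rw [mkSU_mat, ← Matrix.mulVec_mulVec, hDx, haW.fu hF, mul_zero, zero_smul, add_zero, dg_f H]
  · rw [mkSU_mat, ← Matrix.mulVec_mulVec, hDx, ha, mul_one]
    have : a + (l ^ q * l⁻¹ - 1) • a = (l ^ q * l⁻¹) • a := by module
    rw [this, Matrix.mulVec_smul, dg_W haW]

end Cfsg.Agent.Lib.Helper5.AutPSU
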