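import Mathlib
import Cfsg.Agent.Lib.Helper5.AutPSUTorus

set_option autoImplicit false
set_option linter.unusedSimpArgs false
set_option linter.unusedVariables false
set_option linter.unnecessarySeqFocus false
set_option linter.unusedSectionVars false
set_option linter.style.haveILetI false

/-!
# Semilinearity of the action of a normalized automorphism on `Qs e / X_e`
-/

namespace Cfsg.Agent.Lib.Helper5.AutPSU

open Matrix Cfsg.Agent.Lib.Helper99 Cfsg.Agent.Lib.Helper99.SURoot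
open scoped Pointwise

variable {F : Type*} [Field F] [Fintype F] {q n : ℕ}

local notation "hh" => Cfsg.hermForm n F q

/-- general form of `aut_stab` -/
theorem aut_stab' (hF : Fintype.card F = q ^ 2) (hn : 3 ≤ n) {r r₁ : Fin n → F} (hr0 : r ≠ 0)
    (hr : hh r r = 0) (hr₁0 : r₁ ≠ 0) (hr₁ : hh r₁ r₁ = 0) (α : MulAut (Cfsg.PSU n F q))
    (hα : ∀ y, y ∈ Xb n q r ↔ α y ∈ Xb n q r₁) {g g' : ↥(Cfsg.SU n F q)}
    (hg : g ∈ PSUS.stab n r) (hg' : α (pr g) = pr g') : g' ∈ PSUS.stab n r₁ := by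
  apply mem_stab_of_normalizes hF hn hr₁0 hr₁
  intro y hy
  have h1 : α.symm y ∈ Xb n q r := by
    rw [hα, MulEquiv.apply_symm_apply]
    exact hy
  have h2 := (normalizes_of_mem_stab hF hr0 hr hg (α.symm y)).2 h1
  rw [hα, map_mul, map_mul, map_inv, MulEquiv.apply_symm_apply, hg'] at h2
  exact h2

/-- the image of a root subgroup commuting with `Xb e` and `Xb f` again does -/
lemma root_map_W (hF : Fintype.card F = q ^ 2) (hn : 3 ≤ n) {e f : Fin n → F}
    (H : IsHyp n q e f) (α : MulAut (Cfsg.PSU n F q))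
    (hαe : ∀ y, y ∈ Xb n q e ↔ α y ∈ Xb n q e) (hαf : ∀ y, y ∈ Xb n q f ↔ α y ∈ Xb n q f)
    {r r₁ : Fin n → F} (hr0 : r ≠ 0) (hr : hh r r = 0) (hrW : InW n q e f r) (hr₁0 : r₁ ≠ 0)
    (hr₁ : hh r₁ r₁ = 0) (hαr : ∀ y, y ∈ Xb n q r ↔ α y ∈ Xb n q r₁) : InW n q e f r₁ := by
  have key : ∀ v : Fin n → F, v ≠ 0 → hh v v = 0 → (∀ y, y ∈ Xb n q v ↔ α y ∈ Xb n q v) →
      hh r v = 0 → hh r₁ v = 0 := by
    intro v hv0 hv hαv hrv
    rw [← Xb_commute_iff hF hn hr₁0 hr₁ hv0 hv]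
    intro x hx y hy
    have h1 := (Xb_commute_iff hF hn hr0 hr hv0 hv).2 hrv
    have hx' : α.symm x ∈ Xb n q r := by
      rw [hαr, MulEquiv.apply_symm_apply]
      exact hx
    have hy' : α.symm y ∈ Xb n q v := by
      rw [hαv, MulEquiv.apply_symm_apply]
      exact hy
    have h2 := congrArg α (h1 _ hx' _ hy')
    rw [map_mul, map_mul, MulEquiv.apply_symm_apply, MulEquiv.apply_symm_apply] at h2
    exact h2
  exact ⟨key e H.e_ne H.ee hαe hrW.1, key f H.f_ne H.ff hαf hrW.2⟩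

/-- a Siegel element of `e` along an isotropic vector `r` orthogonal to `e` is a Siegel element
of `r` -/
lemma sg_swap (hF : Fintype.card F = q ^ 2) {e r : Fin n → F} (he : hh e e = 0)
    (hr : hh r r = 0) (hre : hh r e = 0) (c : F) :
    SgC n q e (c • r) 0 ∧ SgC n q r (-(c ^ q) • e) 0 ∧
      sg hF e (c • r) 0 = sg hF r (-(c ^ q) • e) 0 := by
  have her : hh e r = 0 := hermForm_eq_zero_comm hF hre
  have h1 : SgC n q e (c • r) 0 := by
    refine ⟨he, ?_, ?_⟩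
    · rw [hf_smul_left, hre, mul_zero]
    · rw [hf_smul_left, hf_smul_right, hr, zero_pow (q_ne_zero hF)]
      ring
  have h2 : SgC n q r (-(c ^ q) • e) 0 := by
    refine ⟨hr, ?_, ?_⟩
    · rw [hf_smul_left, her, mul_zero]
    · rw [hf_smul_left, hf_smul_right, he, zero_pow (q_ne_zero hF)]
      ring
  refine ⟨h1, h2, ?_⟩
  apply su_ext
  intro x
  rw [sg_mulVec hF h1, sg_mulVec hF h2, hf_smul_right, hf_smul_right, frob_neg hF,
    SURoot.pow_q_pow_q hF]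
  module

/-- `A` maps the line of an isotropic vector of the complement to the corresponding line -/
theorem isLin_line (p : ℕ) [Fact p.Prime] [CharP F p] (hF : Fintype.card F = q ^ 2) (hn : 3 ≤ n)
    {e f : Fin n → F} (H : IsHyp n q e f) (α : MulAut (Cfsg.PSU n F q))
    {A : (Fin n → F) → (Fin n → F)} (hA : IsLin hF e f α A)
    {r r₁ : Fin n → F} (hr0 : r ≠ 0) (hr : hh r r = 0) (hrW : InW n q e f r) (hr₁0 : r₁ ≠ 0)
    (hr₁ : hh r₁ r₁ = 0) (hr₁W : InW n q e f r₁)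
    (hαr : ∀ y, y ∈ Xb n q r ↔ α y ∈ Xb n q r₁) (c : F) : ∃ c' : F, A (c • r) = c' • r₁ := by
  obtain ⟨h1, h2, h3⟩ := sg_swap hF H.ee hr hrW.1 c
  have hcW : InW n q e f (c • r) := hrW.smul c
  obtain ⟨b', hb', e₁⟩ := hA.2 (c • r) 0 hcW h1
  have hmem : sg hF e (c • r) 0 ∈ Qs hF r hr := ⟨_, _, h2, h3⟩
  obtain ⟨x', ⟨u₁, b₁, hC₁, rfl⟩, e₂⟩ := aut_Qs' p hF hn hr0 hr hr₁0 hr₁ α hαr hmem
  rw [e₁] at e₂
  obtain ⟨ν, -, hν⟩ := exists_smul_of_pr_eq hF hn e₂
  have hAW := hA.1 _ hcW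
  have hf := hν f
  rw [sg_mulVec hF hC₁, sg_f hF H hb' hAW.2, hr₁W.fu hF, zero_smul, add_zero, mul_zero,
    zero_sub] at hf
  -- pair with `e`
  have hν1 : ν = 1 := by
    have := congrArg (fun x => hh x e) hf
    simp only [hf_add_left, hf_smul_left, H.fe, H.ee, hAW.1, hr₁W.1, mul_zero, add_zero,
      mul_one] at this
    exact this.symm
  rw [hν1, one_smul] at hf
  have hb0 : b' = 0 := by
    have := congrArg (fun x => hh x f) hf
    simp only [hf_add_left, hf_smul_left, H.ff, H.ef, hAW.2, hr₁W.2, mul_zero, add_zero,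
      mul_one, zero_add] at this
    exact this.symm
  rw [hb0, zero_smul, add_zero] at hf
  refine ⟨-hh f u₁, ?_⟩
  have : A (c • r) = (f + -hh f u₁ • r₁) - f := by rw [hf]; abel
  rw [this]
  abel

/-! ### The subring argument -/

/-- `c` acts through `A` as a scalar on the vectors satisfying `P` -/
def InSP (P : (Fin n → F) → Prop) (A : (Fin n → F) → (Fin n → F)) (c : F) : Prop :=
  ∃ c' : F, ∀ u, P u → A (c • u) = c' • A u

section sp

variable {hF : Fintype.card F = q ^ 2} {e f : Fin n → F} {α : MulAut (Cfsg.PSU n F q)}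
  {A : (Fin n → F) → (Fin n → F)} {P : (Fin n → F) → Prop}

lemma InSP.add (hA : IsLin hF e f α A) (hn : 3 ≤ n) (H : IsHyp n q e f)
    (hPW : ∀ u, P u → InW n q e f u) {c d : F}
    (hc : InSP P A c) (hd : InSP P A d) : InSP P A (c + d) := by
  obtain ⟨c', hc'⟩ := hc
  obtain ⟨d', hd'⟩ := hd
  refine ⟨c' + d', fun u hu => ?_⟩
  rw [add_smul, hA.add hn H ((hPW u hu).smul c) ((hPW u hu).smul d), hc' u hu, hd' u hu, add_smul]

lemma InSP.mul (hPs : ∀ u (c : F), P u → P (c • u)) {c d : F}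
    (hc : InSP P A c) (hd : InSP P A d) : InSP P A (c * d) := by
  obtain ⟨c', hc'⟩ := hc
  obtain ⟨d', hd'⟩ := hd
  refine ⟨c' * d', fun u hu => ?_⟩
  rw [mul_smul, hc' _ (hPs u d hu), hd' u hu, mul_smul]

/-- a subring of `F` containing the fixed field and an element outside it is everything -/
theorem InSP.top (hA : IsLin hF e f α A) (hn : 3 ≤ n) (H : IsHyp n q e f)
    (hPW : ∀ u, P u → InW n q e f u) (hPs : ∀ u (c : F), P u → P (c • u))
    (h0 : ∀ t : F, t ^ q = t → InSP P A t) {ν : F} (hν : InSP P A ν) (hνq : ν ^ q ≠ ν) (x : F) :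
    InSP P A x := by
  have hd : ν - ν ^ q ≠ 0 := fun h => hνq (sub_eq_zero.1 h).symm
  obtain ⟨s₂, hs₂⟩ : ∃ s : F, s = (x - x ^ q) / (ν - ν ^ q) := ⟨_, rfl⟩
  obtain ⟨s₁, hs₁⟩ : ∃ s : F, s = x - s₂ * ν := ⟨_, rfl⟩
  have hmul : s₂ * (ν - ν ^ q) = x - x ^ q := by
    rw [hs₂]
    field_simp
  have h2 : s₂ ^ q = s₂ := by
    have h3 : s₂ ^ q * (ν ^ q - ν) = x ^ q - x := by
      have := congrArg (fun z => z ^ q) hmul
      simp only [mul_pow, frob_sub hF, SURoot.pow_q_pow_q hF] at this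
      exact this
    have hd' : ν ^ q - ν ≠ 0 := fun h => hνq (sub_eq_zero.1 h)
    apply mul_right_cancel₀ hd'
    linear_combination h3 + hmul
  have h1 : s₁ ^ q = s₁ := by
    rw [hs₁, frob_sub hF, mul_pow, h2]
    linear_combination hmul
  have hx : x = s₁ + s₂ * ν := by rw [hs₁]; ring
  rw [hx]
  exact InSP.add hA hn H hPW (h0 _ h1) (InSP.mul hPs (h0 _ h2) hν)

end sp

/-- a norm-one element outside the fixed field -/
lemma exists_normOne_not_fixed (hF : Fintype.card F = q ^ 2) :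
    ∃ ν : F, ν ^ (q + 1) = 1 ∧ ν ^ q ≠ ν := by
  obtain ⟨x, hx⟩ := exists_pow_q_ne hF
  have hx0 : x ≠ 0 := by
    rintro rfl
    exact hx (zero_pow (q_ne_zero hF))
  have hx1 : x + 1 ≠ 0 := by
    intro h
    have : x = -1 := eq_neg_of_add_eq_zero_left h
    apply hx
    rw [this, frob_neg hF, one_pow]
  have norm1 : ∀ y : F, y ≠ 0 → (y ^ q / y) ^ (q + 1) = 1 := by
    intro y hy
    rw [pow_succ, div_pow, SURoot.pow_q_pow_q hF]
    have : y ^ q ≠ 0 := pow_ne_zero _ hy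
    field_simp
  have fixed : ∀ y : F, y ≠ 0 → (y ^ q / y) ^ q = y ^ q / y → y ^ q = y ∨ y ^ q = -y := by
    intro y hy h
    rw [div_pow, SURoot.pow_q_pow_q hF] at h
    have hyq : y ^ q ≠ 0 := pow_ne_zero _ hy
    field_simp at h
    have : (y ^ q - y) * (y ^ q + y) = 0 := by linear_combination -h
    rcases mul_eq_zero.1 this with h' | h'
    · exact Or.inl (sub_eq_zero.1 h')
    · exact Or.inr (eq_neg_of_add_eq_zero_left h')
  by_contra hcon
  push Not at hcon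
  have h1 := fixed x hx0 (hcon _ (norm1 x hx0))
  have h2 := fixed (x + 1) hx1 (hcon _ (norm1 (x + 1) hx1))
  rw [frob_add hF, one_pow] at h2
  rcases h1 with h1 | h1
  · exact hx h1
  · rcases h2 with h2 | h2
    · exact hx (add_right_cancel h2)
    · rw [h1] at h2
      have h3 : (2 : F) = 0 := by linear_combination h2
      apply hx
      rw [h1]
      linear_combination (-x) * h3

/-- an element of `Fˣ` whose `3(q-1)`-th power is not one -/
lemma exists_gen3 (hF : Fintype.card F = q ^ 2) (hq : 3 ≤ q) :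
    ∃ g : F, g ≠ 0 ∧ g ^ (3 * q) ≠ g ^ 3 := by
  classical
  obtain ⟨g, hg⟩ := IsCyclic.exists_generator (α := Fˣ)
  have hord : orderOf g = q ^ 2 - 1 := by
    rw [orderOf_eq_card_of_forall_mem_zpowers hg, Nat.card_eq_fintype_card, Fintype.card_units, hF]
  refine ⟨g.1, g.ne_zero, fun h => ?_⟩
  have h1 : (g : F) ^ (3 * q - 3) = 1 := by
    have h2 : (g : F) ^ (3 * q - 3) * (g : F) ^ 3 = 1 * (g : F) ^ 3 := by
      rw [← pow_add, one_mul, Nat.sub_add_cancel (by omega), h]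
    exact mul_right_cancel₀ (pow_ne_zero _ g.ne_zero) h2
  have h3 : g ^ (3 * q - 3) = 1 := by
    apply Units.ext
    rw [Units.val_pow_eq_pow_val, h1, Units.val_one]
  have h4 := orderOf_dvd_of_pow_eq_one h3
  rw [hord] at h4
  have h5 := Nat.le_of_dvd (by omega) h4
  have h6 : q ^ 2 = q * q := sq q
  have h7 : 3 * q ≤ q * q := Nat.mul_le_mul_right q hq
  omega

/-- the image of a Levi element, with the equivariance of `A` -/
lemma levi_equiv (hF : Fintype.card F = q ^ 2) (hn : 3 ≤ n) {e f : Fin n → F}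
    (H : IsHyp n q e f) (α : MulAut (Cfsg.PSU n F q))
    (hαe : ∀ y, y ∈ Xb n q e ↔ α y ∈ Xb n q e) (hαf : ∀ y, y ∈ Xb n q f ↔ α y ∈ Xb n q f)
    {A : (Fin n → F) → (Fin n → F)} (hA : IsLin hF e f α A) {t : ↥(Cfsg.SU n F q)} {l : F}
    (hte : mat n t *ᵥ e = l • e) (htf : t ∈ PSUS.stab n f) :
    ∃ (t' : ↥(Cfsg.SU n F q)) (l' m' : F), α (pr t) = pr t' ∧ mat n t' *ᵥ e = l' • e ∧
      mat n t' *ᵥ f = m' • f ∧
      ∀ u, InW n q e f u → A (l ^ q • (mat n t *ᵥ u)) = l' ^ q • (mat n t' *ᵥ A u) := by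
  obtain ⟨t', ht'⟩ := pr_surjective (α (pr t))
  have h1 : t' ∈ PSUS.stab n e :=
    aut_stab hF hn H.e_ne H.ee α hαe ((PSUS.mem_stab n e t).2 ⟨l, hte⟩) ht'.symm
  have h2 : t' ∈ PSUS.stab n f := aut_stab hF hn H.f_ne H.ff α hαf htf ht'.symm
  obtain ⟨l', hl'⟩ := (PSUS.mem_stab n e t').1 h1
  obtain ⟨m', hm'⟩ := (PSUS.mem_stab n f t').1 h2
  exact ⟨t', l', m', ht'.symm, hl', hm', fun u hu =>
    hA.equivariant hn H hte htf hl' h2 ht'.symm hu⟩

/-- **Case `n = 3`**: every scalar acts semilinearly -/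
theorem inSP_three (hF : Fintype.card F = q ^ 2) (hn : n = 3) (hq : 3 ≤ q) {e f : Fin n → F}
    (H : IsHyp n q e f) (α : MulAut (Cfsg.PSU n F q))
    (hαe : ∀ y, y ∈ Xb n q e ↔ α y ∈ Xb n q e) (hαf : ∀ y, y ∈ Xb n q f ↔ α y ∈ Xb n q f)
    {A : (Fin n → F) → (Fin n → F)} (hA : IsLin hF e f α A) (c : F) :
    InSP (InW n q e f) A c := by
  have hn3 : 3 ≤ n := by omega
  obtain ⟨a, haW, ha⟩ := exists_unit_W hF hn3 H
  -- the torus elements
  have key : ∀ l : F, l ≠ 0 → InSP (InW n q e f) A (l ^ q * (l ^ q * l⁻¹)) := by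
    intro l hl
    obtain ⟨t, hte, htf, hta⟩ := exists_torus3 hF H haW ha hl
    obtain ⟨t', l', m', ht', hl', hm', heq⟩ := levi_equiv hF hn3 H α hαe hαf hA hte
      ((PSUS.mem_stab n f t).2 ⟨_, htf⟩)
    have h1 : InW n q e f (mat n t' *ᵥ a) := levi_W H hl' hm' haW
    have h2 := W_line hF hn H haW ha h1
    set μ' := hh (mat n t' *ᵥ a) a with hμ'
    refine ⟨l' ^ q * μ', fun u hu => ?_⟩
    have hu' := W_line hF hn H haW ha hu
    have hAu := W_line hF hn H haW ha (hA.1 u hu)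
    have h3 : mat n t *ᵥ u = (l ^ q * l⁻¹) • u := by
      rw [hu', Matrix.mulVec_smul, hta, smul_comm]
    have h4 : mat n t' *ᵥ A u = μ' • A u := by
      rw [hAu, Matrix.mulVec_smul, h2, smul_comm]
    have := heq u hu
    rw [h3, h4, smul_smul, smul_smul] at this
    exact this
  have h0 : ∀ t : F, t ^ q = t → InSP (InW n q e f) A t := by
    intro t ht
    by_cases ht0 : t = 0
    · refine ⟨0, fun u hu => ?_⟩
      rw [ht0, zero_smul, zero_smul, hA.zero hn3 H]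
    · have := key t ht0
      rw [ht, mul_inv_cancel₀ ht0, mul_one] at this
      exact this
  obtain ⟨g, hg0, hg⟩ := exists_gen3 hF hq
  have hν := key g hg0
  refine InSP.top hA hn3 H (fun u hu => hu) (fun u c hu => hu.smul c) h0 hν ?_ c
  intro h
  apply hg
  rw [mul_pow, mul_pow, SURoot.pow_q_pow_q hF, inv_pow] at h
  have hgq : g ^ q ≠ 0 := pow_ne_zero _ hg0
  field_simp at h
  rw [mul_comm 3 q, pow_mul]
  exact h.symm

/-- the images of non-proportional isotropic vectors are non-proportional -/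
lemma indep_images (hF : Fintype.card F = q ^ 2) (hn : 3 ≤ n) (α : MulAut (Cfsg.PSU n F q))
    {s r s₁ r₁ : Fin n → F} (hs0 : s ≠ 0) (hs : hh s s = 0) (hr0 : r ≠ 0) (hr : hh r r = 0)
    (hs₁0 : s₁ ≠ 0) (hs₁ : hh s₁ s₁ = 0) (hr₁0 : r₁ ≠ 0) (hr₁ : hh r₁ r₁ = 0)
    (hαs : ∀ y, y ∈ Xb n q s ↔ α y ∈ Xb n q s₁) (hαr : ∀ y, y ∈ Xb n q r ↔ α y ∈ Xb n q r₁)
    (hsr : ¬ ∃ k : F, s = k • r) {a b : F} (h : a • s₁ + b • r₁ = 0) : a = 0 ∧ b = 0 := by
  by_cases ha : a = 0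
  · rw [ha, zero_smul, zero_add] at h
    rcases smul_eq_zero.1 h with h' | h'
    · exact ⟨ha, h'⟩
    · exact absurd h' hr₁0
  · exfalso
    have h1 : s₁ = (-(b / a)) • r₁ := by
      have : a • s₁ = -(b • r₁) := eq_neg_of_add_eq_zero_left h
      have h2 : s₁ = a⁻¹ • (a • s₁) := by rw [smul_smul, inv_mul_cancel₀ ha, one_smul]
      rw [h2, this, smul_neg, smul_smul, neg_smul]
      congr 2
      field_simp
    have hk : -(b / a) ≠ 0 := by
      intro h0
      rw [h0, zero_smul] at h1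
      exact hs₁0 h1
    obtain ⟨y, hy, hy1⟩ := Xb_exists_ne_one hF hn hs0 hs
    have h3 : y ∈ Xb n q r := by
      rw [hαr, ← Xb_smul hF hr₁0 hr₁ hk, ← h1, ← hαs]
      exact hy
    obtain ⟨k, -, hk'⟩ := dir_of_Xb_inter hF hn hs0 hs hr0 hr hy h3 hy1
    exact hsr ⟨k, hk'⟩

/-- **Lines of isotropic vectors, `n ≥ 4`** -/
theorem inSP_line (p : ℕ) [Fact p.Prime] [CharP F p] (hF : Fintype.card F = q ^ 2) (hn : 4 ≤ n)
    {e f : Fin n → F} (H : IsHyp n q e f) (α : MulAut (Cfsg.PSU n F q))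
    (hαe : ∀ y, y ∈ Xb n q e ↔ α y ∈ Xb n q e) (hαf : ∀ y, y ∈ Xb n q f ↔ α y ∈ Xb n q f)
    {A : (Fin n → F) → (Fin n → F)} (hA : IsLin hF e f α A) {r : Fin n → F} (hr0 : r ≠ 0)
    (hr : hh r r = 0) (hrW : InW n q e f r) (c : F) :
    InSP (fun u => ∃ d : F, u = d • r) A c := by
  have hn3 : 3 ≤ n := by omega
  obtain ⟨r', hr'W, Hr⟩ := exists_partner_W hF H hr0 hrW hr
  obtain ⟨r₁, hr₁0, hr₁, hαr⟩ := exists_root_map p hF hn3 α hr0 hr
  have hr₁W := root_map_W hF hn3 H α hαe hαf hr0 hr hrW hr₁0 hr₁ hαr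
  have hPW : ∀ u, (∃ d : F, u = d • r) → InW n q e f u := by
    rintro u ⟨d, rfl⟩
    exact hrW.smul d
  have hPs : ∀ u (c : F), (∃ d : F, u = d • r) → ∃ d : F, c • u = d • r := by
    rintro u c ⟨d, rfl⟩
    exact ⟨c * d, by rw [mul_smul]⟩
  have key : ∀ l m : F, l ≠ 0 → m ≠ 0 → (l * m) ^ q = l * m →
      InSP (fun u => ∃ d : F, u = d • r) A (l ^ q * m) := by
    intro l m hl hm hlm
    obtain ⟨t, hte, htf, htr⟩ := exists_torus2 hF H Hr hrW hr'W hl hm hlm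
    obtain ⟨t', l', m', ht', hl', hm', heq⟩ := levi_equiv hF hn3 H α hαe hαf hA hte
      ((PSUS.mem_stab n f t).2 ⟨_, htf⟩)
    have h1 : t' ∈ PSUS.stab n r₁ :=
      aut_stab' hF hn3 hr0 hr hr₁0 hr₁ α hαr ((PSUS.mem_stab n r t).2 ⟨m, htr⟩) ht'
    obtain ⟨μ', hμ'⟩ := (PSUS.mem_stab n r₁ t').1 h1
    refine ⟨l' ^ q * μ', ?_⟩
    rintro u ⟨d, rfl⟩
    obtain ⟨k, hk⟩ := isLin_line p hF hn3 H α hA hr0 hr hrW hr₁0 hr₁ hr₁W hαr d
    have h3 : mat n t *ᵥ (d • r) = m • (d • r) := by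
      rw [Matrix.mulVec_smul, htr, smul_comm]
    have h4 : mat n t' *ᵥ A (d • r) = μ' • A (d • r) := by
      rw [hk, Matrix.mulVec_smul, hμ', smul_comm]
    have := heq (d • r) (hrW.smul d)
    rw [h3, h4, smul_smul (l ^ q) m, smul_smul (l' ^ q) μ'] at this
    exact this
  have h0 : ∀ t : F, t ^ q = t → InSP (fun u => ∃ d : F, u = d • r) A t := by
    intro t ht
    by_cases ht0 : t = 0
    · refine ⟨0, fun u hu => ?_⟩
      rw [ht0, zero_smul, zero_smul, hA.zero hn3 H]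
    · have := key t 1 ht0 one_ne_zero (by rw [mul_one, ht])
      rw [ht, mul_one] at this
      exact this
  obtain ⟨ν, hν1, hνq⟩ := exists_normOne_not_fixed hF
  obtain ⟨a, ha0, ha⟩ := exists_hilbert90 hF ν hν1
  have hν := key a a⁻¹ ha0 (inv_ne_zero ha0) (by rw [mul_inv_cancel₀ ha0, one_pow])
  rw [ha, mul_assoc, mul_inv_cancel₀ ha0, mul_one] at hν
  exact InSP.top hA hn3 H hPW hPs h0 hν hνq c

end Cfsg.Agent.Lib.Helper5.AutPSU
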