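import Mathlib
import Cfsg.Agent.Lib.Helper5.AutPSUSemi

set_option autoImplicit false
set_option linter.unusedSimpArgs false
set_option linter.unusedVariables false
set_option linter.unnecessarySeqFocus false
set_option linter.unusedSectionVars false
set_option linter.style.haveILetI false

/-!
# Semilinearity of the action of a normalized automorphism on `Qs e / X_e`, conclusion
-/

namespace Cfsg.Agent.Lib.Helper5.AutPSU

open Matrix Cfsg.Agent.Lib.Helper99 Cfsg.Agent.Lib.Helper99.SURoot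
open scoped Pointwise

variable {F : Type*} [Field F] [Fintype F] {q n : ℕ}

local notation "hh" => Cfsg.hermForm n F q

/-- making the sum of two isotropic vectors isotropic -/
lemma exists_iso_add (hF : Fintype.card F = q ^ 2) {s r : Fin n → F} (hs : hh s s = 0)
    (hr : hh r r = 0) : ∃ t : F, t ≠ 0 ∧ hh (s + t • r) (s + t • r) = 0 := by
  have expand : ∀ t : F, hh (s + t • r) (s + t • r) = t * hh r s + (t * hh r s) ^ q := by
    intro t
    simp only [hf_add_left, hf_add_right n hF, hf_smul_left, hf_smul_right, hs, hr, mul_zero,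
      add_zero, zero_add]
    rw [mul_pow, hf_conj n hF]
    try ring
  by_cases hz : hh r s = 0
  · refine ⟨1, one_ne_zero, ?_⟩
    rw [expand, hz, mul_zero, zero_pow (q_ne_zero hF), add_zero]
  · obtain ⟨τ, hτ0, hτ⟩ := exists_trace_zero hF
    refine ⟨τ / hh r s, div_ne_zero hτ0 hz, ?_⟩
    rw [expand, div_mul_cancel₀ _ hz, hτ]

/-- **Case `n ≥ 4`**: every scalar acts semilinearly -/
theorem inSP_four (p : ℕ) [Fact p.Prime] [CharP F p] (hF : Fintype.card F = q ^ 2) (hn : 4 ≤ n)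
    {e f : Fin n → F} (H : IsHyp n q e f) (α : MulAut (Cfsg.PSU n F q))
    (hαe : ∀ y, y ∈ Xb n q e ↔ α y ∈ Xb n q e) (hαf : ∀ y, y ∈ Xb n q f ↔ α y ∈ Xb n q f)
    {A : (Fin n → F) → (Fin n → F)} (hA : IsLin hF e f α A) (c : F) :
    InSP (InW n q e f) A c := by
  have hn3 : 3 ≤ n := by omega
  obtain ⟨r₀, r₀', hr₀W, hr₀'W, Hr⟩ := exists_hyp_W hF hn H
  obtain ⟨c', hc'⟩ := inSP_line p hF hn H α hαe hαf hA Hr.e_ne Hr.ee hr₀W c
  -- all isotropic vectors of the complement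
  have iso : ∀ s : Fin n → F, InW n q e f s → hh s s = 0 → A (c • s) = c' • A s := by
    intro s hsW hs
    by_cases hs0 : s = 0
    · rw [hs0, smul_zero, hA.zero hn3 H, smul_zero]
    by_cases hsr : ∃ k : F, s = k • r₀
    · exact hc' s hsr
    obtain ⟨t, ht0, hv⟩ := exists_iso_add hF hs Hr.ee
    set v := s + t • r₀ with hvdef
    have hvW : InW n q e f v := hsW.add (hr₀W.smul t)
    have hv0 : v ≠ 0 := by
      intro h0
      apply hsr
      refine ⟨-t, ?_⟩
      rw [neg_smul]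
      exact eq_neg_of_add_eq_zero_left h0
    obtain ⟨cs, hcs⟩ := inSP_line p hF hn H α hαe hαf hA hs0 hs hsW c
    obtain ⟨cv, hcv⟩ := inSP_line p hF hn H α hαe hαf hA hv0 hv hvW c
    have e1 := hcs s ⟨1, (one_smul _ _).symm⟩
    have e2 := hcv v ⟨1, (one_smul _ _).symm⟩
    have e3 := hc' (t • r₀) ⟨t, rfl⟩
    have htW : InW n q e f (t • r₀) := hr₀W.smul t
    have e4 : A v = A s + A (t • r₀) := hA.add hn3 H hsW htW
    have e5 : A (c • v) = A (c • s) + A (c • t • r₀) := by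
      rw [hvdef, smul_add]
      exact hA.add hn3 H (hsW.smul c) (htW.smul c)
    -- the images of the lines
    obtain ⟨s₁, hs₁0, hs₁, hαs⟩ := exists_root_map p hF hn3 α hs0 hs
    obtain ⟨r₁, hr₁0, hr₁, hαr⟩ := exists_root_map p hF hn3 α Hr.e_ne Hr.ee
    have hs₁W := root_map_W hF hn3 H α hαe hαf hs0 hs hsW hs₁0 hs₁ hαs
    have hr₁W := root_map_W hF hn3 H α hαe hαf Hr.e_ne Hr.ee hr₀W hr₁0 hr₁ hαr
    obtain ⟨k₁, hk₁⟩ := isLin_line p hF hn3 H α hA hs0 hs hsW hs₁0 hs₁ hs₁W hαs 1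
    obtain ⟨k₂, hk₂⟩ := isLin_line p hF hn3 H α hA Hr.e_ne Hr.ee hr₀W hr₁0 hr₁ hr₁W hαr t
    rw [one_smul] at hk₁
    have hk₁0 : k₁ ≠ 0 := by
      intro h0
      rw [h0, zero_smul] at hk₁
      exact hs0 (hA.eq_zero hn3 H hαe hsW hk₁)
    have hk₂0 : k₂ ≠ 0 := by
      intro h0
      rw [h0, zero_smul] at hk₂
      have := hA.eq_zero hn3 H hαe htW hk₂
      rcases smul_eq_zero.1 this with h | h
      · exact ht0 h
      · exact Hr.e_ne h
    have e6 : ((cv - cs) * k₁) • s₁ + ((cv - c') * k₂) • r₁ = 0 := by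
      have : cv • (A s + A (t • r₀)) = cs • A s + c' • A (t • r₀) := by
        rw [← e4, ← e2, e5, e1, e3]
      rw [hk₁, hk₂] at this
      have h2 : ((cv - cs) * k₁) • s₁ + ((cv - c') * k₂) • r₁ =
          cv • (k₁ • s₁ + k₂ • r₁) - (cs • k₁ • s₁ + c' • k₂ • r₁) := by module
      rw [h2, this, sub_self]
    obtain ⟨h7, h8⟩ := indep_images hF hn3 α hs0 hs Hr.e_ne Hr.ee hs₁0 hs₁ hr₁0 hr₁ hαs hαr hsr e6
    have h9 : cv = cs := by
      rcases mul_eq_zero.1 h7 with h | h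
      · exact sub_eq_zero.1 h
      · exact absurd h hk₁0
    have h10 : cv = c' := by
      rcases mul_eq_zero.1 h8 with h | h
      · exact sub_eq_zero.1 h
      · exact absurd h hk₂0
    rw [e1, ← h9, h10]
  refine ⟨c', fun u hu => ?_⟩
  obtain ⟨s, c₁, c₂, hsW, hs, rfl⟩ := iso_decomp_W hF hr₀W hr₀'W Hr hu
  have h1W : InW n q e f (c₁ • r₀) := hr₀W.smul c₁
  have h2W : InW n q e f (c₂ • r₀') := hr₀'W.smul c₂
  have e1 : A (c • s + c • c₁ • r₀ + c • c₂ • r₀') =
      A (c • s) + A (c • c₁ • r₀) + A (c • c₂ • r₀') := by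
    rw [hA.add hn3 H ((hsW.smul c).add (h1W.smul c)) (h2W.smul c),
      hA.add hn3 H (hsW.smul c) (h1W.smul c)]
  have e2 : A (s + c₁ • r₀ + c₂ • r₀') = A s + A (c₁ • r₀) + A (c₂ • r₀') := by
    rw [hA.add hn3 H (hsW.add h1W) h2W, hA.add hn3 H hsW h1W]
  rw [smul_add, smul_add, e1, e2, iso s hsW hs, iso _ h1W (isotropic_smul Hr.ee c₁),
    iso _ h2W (isotropic_smul Hr.ff c₂), smul_add, smul_add]

/-- the field automorphism attached to a normalized automorphism -/
theorem exists_ringEquiv (hF : Fintype.card F = q ^ 2) (hn : 3 ≤ n) {e f : Fin n → F}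
    (H : IsHyp n q e f) (α : MulAut (Cfsg.PSU n F q))
    (hαe : ∀ y, y ∈ Xb n q e ↔ α y ∈ Xb n q e)
    {A : (Fin n → F) → (Fin n → F)} (hA : IsLin hF e f α A)
    (hS : ∀ c : F, InSP (InW n q e f) A c) :
    ∃ φ : F ≃+* F, ∀ (c : F) u, InW n q e f u → A (c • u) = φ c • A u := by
  obtain ⟨a, haW, ha⟩ := exists_unit_W hF hn H
  have ha0 : a ≠ 0 := by
    rintro rfl
    rw [hermForm_zero_left] at ha
    exact zero_ne_one ha
  have hAa : A a ≠ 0 := fun h => ha0 (hA.eq_zero hn H hαe haW h)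
  choose φ₀ hφ₀ using hS
  have hinj := smul_left_injective F hAa
  let φ : F →+* F :=
    { toFun := φ₀
      map_one' := by
        apply hinj
        show φ₀ 1 • A a = (1 : F) • A a
        rw [← hφ₀ 1 a haW, one_smul, one_smul]
      map_mul' := fun c d => by
        apply hinj
        show φ₀ (c * d) • A a = (φ₀ c * φ₀ d) • A a
        rw [← hφ₀ (c * d) a haW, mul_smul, hφ₀ c _ (haW.smul d), hφ₀ d a haW, mul_smul]
      map_zero' := by
        apply hinj
        show φ₀ 0 • A a = (0 : F) • A a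
        rw [← hφ₀ 0 a haW, zero_smul, zero_smul, hA.zero hn H]
      map_add' := fun c d => by
        apply hinj
        show φ₀ (c + d) • A a = (φ₀ c + φ₀ d) • A a
        rw [← hφ₀ (c + d) a haW, add_smul, hA.add hn H (haW.smul c) (haW.smul d), hφ₀ c a haW,
          hφ₀ d a haW, add_smul] }
  have hbij : Function.Bijective φ :=
    (Finite.injective_iff_bijective).1 φ.injective
  refine ⟨RingEquiv.ofBijective φ hbij, fun c u hu => ?_⟩
  exact hφ₀ c u hu

/-- **Semilinearity** -/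
theorem exists_semilinear (p : ℕ) [Fact p.Prime] [CharP F p] (hF : Fintype.card F = q ^ 2)
    (hn : 3 ≤ n) (hq : ¬ (n = 3 ∧ q = 2)) {e f : Fin n → F} (H : IsHyp n q e f)
    (α : MulAut (Cfsg.PSU n F q))
    (hαe : ∀ y, y ∈ Xb n q e ↔ α y ∈ Xb n q e) (hαf : ∀ y, y ∈ Xb n q f ↔ α y ∈ Xb n q f)
    {A : (Fin n → F) → (Fin n → F)} (hA : IsLin hF e f α A) :
    ∃ φ : F ≃+* F, ∀ (c : F) u, InW n q e f u → A (c • u) = φ c • A u := by
  apply exists_ringEquiv hF hn H α hαe hA
  intro c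
  by_cases h4 : 4 ≤ n
  · exact inSP_four p hF h4 H α hαe hαf hA c
  · have hn3 : n = 3 := by omega
    have hq3 : 3 ≤ q := by
      have := q_ge_two hF
      by_contra h
      exact hq ⟨hn3, by omega⟩
    exact inSP_three hF hn3 hq3 H α hαe hαf hA c

end Cfsg.Agent.Lib.Helper5.AutPSU
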