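import Mathlib
import Cfsg.Agent.Lib.Helper5.AutPSUSemi2

set_option autoImplicit false
set_option linter.unusedSimpArgs false
set_option linter.unusedVariables false
set_option linter.unnecessarySeqFocus false
set_option linter.unusedSectionVars false
set_option linter.style.haveILetI false

/-!
# The map `A` attached to a normalized automorphism is a semilinear similitude
-/

namespace Cfsg.Agent.Lib.Helper5.AutPSU

open Matrix Cfsg.Agent.Lib.Helper99 Cfsg.Agent.Lib.Helper99.SURoot
open scoped Pointwise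

variable {F : Type*} [Field F] [Fintype F] {q n : ℕ}

local notation "hh" => Cfsg.hermForm n F q

/-- the parametrisation of `Xb e` is injective -/
lemma pr_tv_inj (hF : Fintype.card F = q ^ 2) (hn : 3 ≤ n) {e : Fin n → F} (he0 : e ≠ 0)
    (he : hh e e = 0) {x y : F} (hx : x + x ^ q = 0) (hy : y + y ^ q = 0)
    (h : pr (tvElt n hF e x) = pr (tvElt n hF e y)) : x = y := by
  have h1 := tv_eq_of_pr_eq hF hn he he hx hy h
  obtain ⟨r, hr⟩ := exists_dual n hF e he0
  have h2 := congrArg (fun g => mat n g *ᵥ r) h1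
  simp only [tvElt_mulVec n hF e he x hx, tvElt_mulVec n hF e he y hy, hr, mul_one] at h2
  have h3 : (x - y) • e = 0 := by
    rw [sub_smul]
    exact sub_eq_zero.2 (add_left_cancel h2)
  rcases smul_eq_zero.1 h3 with h4 | h4
  · exact sub_eq_zero.1 h4
  · exact absurd h4 he0

lemma omega_trace (hF : Fintype.card F = q ^ 2) (v v' : Fin n → F) :
    (hh v v' - hh v' v) + (hh v v' - hh v' v) ^ q = 0 := by
  rw [frob_sub hF, hf_conj n hF, hf_conj n hF]
  ring

lemma phi_frob (φ : F ≃+* F) (x : F) : φ (x ^ q) = (φ x) ^ q := map_pow φ x q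

/-- **The similitude property** -/
theorem exists_similitude (hF : Fintype.card F = q ^ 2) (hn : 3 ≤ n) {e f : Fin n → F}
    (H : IsHyp n q e f) (α : MulAut (Cfsg.PSU n F q))
    {A : (Fin n → F) → (Fin n → F)} (hA : IsLin hF e f α A) (φ : F ≃+* F)
    (hφ : ∀ (c : F) u, InW n q e f u → A (c • u) = φ c • A u) :
    ∃ κ : F, κ ≠ 0 ∧ κ ^ q = κ ∧
      ∀ u u', InW n q e f u → InW n q e f u' → hh (A u) (A u') = κ * φ (hh u u') := by
  -- the basic relation for a pair with `h(u,u') = 1`
  have pair : ∀ u u', InW n q e f u → InW n q e f u' → hh u u' = 1 → ∀ c : F,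
      α (pr (tvElt n hF e (c ^ q - c))) =
        pr (tvElt n hF e ((φ c) ^ q * hh (A u) (A u') - φ c * (hh (A u) (A u')) ^ q)) := by
    intro u u' hu hu' h1 c
    have h2 : hh u' u = 1 := by rw [← hf_conj n hF, h1, one_pow]
    have := hA.comm hn H hu (hu'.smul c)
    rw [hφ c u' hu', hf_smul_right, hf_smul_left, hf_smul_right, hf_smul_left, h1, h2, mul_one,
      mul_one, ← hf_conj n hF (A u) (A u')] at this
    exact this
  have key1 : ∀ u u' v v', InW n q e f u → InW n q e f u' → InW n q e f v → InW n q e f v' →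
      hh u u' = 1 → hh v v' = 1 → hh (A u) (A u') = hh (A v) (A v') := by
    intro u u' v v' hu hu' hv hv' h1 h2
    set z' := hh (A u) (A u') with hz'
    set z'' := hh (A v) (A v') with hz''
    have hc : ∀ c : F, (φ c) ^ q * z' - φ c * z' ^ q = (φ c) ^ q * z'' - φ c * z'' ^ q := by
      intro c
      have e1 := pair u u' hu hu' h1 c
      have e2 := pair v v' hv hv' h2 c
      rw [e1] at e2
      have t1 : ((φ c) ^ q * z' - φ c * z' ^ q) + ((φ c) ^ q * z' - φ c * z' ^ q) ^ q = 0 := by
        rw [frob_sub hF, mul_pow, mul_pow, SURoot.pow_q_pow_q hF, SURoot.pow_q_pow_q hF]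
        ring
      have t2 : ((φ c) ^ q * z'' - φ c * z'' ^ q) + ((φ c) ^ q * z'' - φ c * z'' ^ q) ^ q = 0 := by
        rw [frob_sub hF, mul_pow, mul_pow, SURoot.pow_q_pow_q hF, SURoot.pow_q_pow_q hF]
        ring
      exact pr_tv_inj hF hn H.e_ne H.ee t1 t2 e2
    have hw1 : (z' - z'') ^ q = z' - z'' := by
      have := hc 1
      rw [map_one, one_pow, one_mul, one_mul, one_mul, one_mul] at this
      rw [frob_sub hF]
      linear_combination -this
    obtain ⟨x₀, hx₀⟩ := exists_pow_q_ne hF
    have := hc (φ.symm x₀)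
    rw [RingEquiv.apply_symm_apply] at this
    have h3 : (x₀ ^ q - x₀) * (z' - z'') = 0 := by
      rw [frob_sub hF] at hw1
      linear_combination this + x₀ * hw1
    rcases mul_eq_zero.1 h3 with h4 | h4
    · exact absurd (sub_eq_zero.1 h4) hx₀
    · exact sub_eq_zero.1 h4
  obtain ⟨a, haW, ha⟩ := exists_unit_W hF hn H
  set κ := hh (A a) (A a) with hκ
  have hκq : κ ^ q = κ := hermForm_self_pow hF _ _
  have one : ∀ u u', InW n q e f u → InW n q e f u' → hh u u' = 1 → hh (A u) (A u') = κ :=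
    fun u u' hu hu' h1 => key1 u u' a a hu hu' haW haW h1 ha
  have nz : ∀ u u', InW n q e f u → InW n q e f u' → hh u u' ≠ 0 →
      hh (A u) (A u') = κ * φ (hh u u') := by
    intro u u' hu hu' hz
    set z := hh u u' with hzdef
    have h1 : hh u ((z⁻¹) ^ q • u') = 1 := by
      rw [hf_smul_right, SURoot.pow_q_pow_q hF, ← hzdef, inv_mul_cancel₀ hz]
    have h2 := one u _ hu (hu'.smul _) h1
    rw [hφ _ u' hu', hf_smul_right, ← phi_frob, SURoot.pow_q_pow_q hF, map_inv₀] at h2
    have hφz : φ z ≠ 0 := by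
      intro h0
      exact hz ((map_eq_zero φ).1 h0)
    field_simp at h2
    linear_combination h2
  have hκ0 : κ ≠ 0 := by
    intro h0
    obtain ⟨x₀, hx₀⟩ := exists_pow_q_ne hF
    have h1 := pair a a haW haW ha x₀
    rw [← hκ, h0, mul_zero, zero_pow (q_ne_zero hF), mul_zero, sub_zero, elt_zero n hF e H.ee,
      map_one] at h1
    have h2 : α (pr (tvElt n hF e (x₀ ^ q - x₀))) = α 1 := by rw [h1, map_one]
    have h3 := α.injective h2
    have t1 : (x₀ ^ q - x₀) + (x₀ ^ q - x₀) ^ q = 0 := by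
      rw [frob_sub hF, SURoot.pow_q_pow_q hF]
      ring
    have t0 : (0 : F) + (0 : F) ^ q = 0 := by rw [zero_pow (q_ne_zero hF), add_zero]
    rw [← map_one pr, ← elt_zero n hF e H.ee] at h3
    have h4 := pr_tv_inj hF hn H.e_ne H.ee t1 t0 h3
    exact hx₀ (sub_eq_zero.1 h4)
  refine ⟨κ, hκ0, hκq, fun u u' hu hu' => ?_⟩
  by_cases hz : hh u u' = 0
  · rw [hz, map_zero, mul_zero]
    by_cases hu0 : u = 0
    · rw [hu0, hA.zero hn H, hermForm_zero_left]
    · -- a vector pairing to one with `u`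
      have hex : ∃ u'', InW n q e f u'' ∧ hh u u'' ≠ 0 := by
        by_contra hcon
        push Not at hcon
        exact hu0 (nondeg_W hF H hu hcon)
      obtain ⟨u'', hu'', hne⟩ := hex
      have h1 := nz u u'' hu hu'' hne
      have h2 : hh u (u' + u'') ≠ 0 := by rw [hf_add_right n hF, hz, zero_add]; exact hne
      have h3 := nz u (u' + u'') hu (hu'.add hu'') h2
      rw [hA.add hn H hu' hu'', hf_add_right n hF, hf_add_right n hF, hz, zero_add, h1] at h3
      exact add_eq_right.1 h3
  · exact nz u u' hu hu' hz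

end Cfsg.Agent.Lib.Helper5.AutPSU
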