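import Mathlib
import Cfsg.Agent.Lib.Helper5.AutPSUSim

set_option autoImplicit false
set_option linter.unusedSimpArgs false
set_option linter.unusedVariables false
set_option linter.unnecessarySeqFocus false
set_option linter.unusedSectionVars false
set_option linter.style.haveILetI false

/-!
# Realizing a semilinear similitude of the complement by an element of `GU_n(q)` and a field
automorphism
-/

namespace Cfsg.Agent.Lib.Helper5.AutPSU

open Matrix Cfsg.Agent.Lib.Helper99 Cfsg.Agent.Lib.Helper99.SURoot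
open scoped Pointwise

variable {F : Type*} [Field F] [Fintype F] {q n : ℕ}

local notation "hh" => Cfsg.hermForm n F q

lemma projW_add (e f x y : Fin n → F) :
    projW n q e f (x + y) = projW n q e f x + projW n q e f y := by
  unfold projW
  rw [hf_add_left, hf_add_left]
  module

lemma projW_smul (e f : Fin n → F) (c : F) (x : Fin n → F) :
    projW n q e f (c • x) = c • projW n q e f x := by
  unfold projW
  rw [hf_smul_left, hf_smul_left]
  module

lemma projW_of_inW {e f u : Fin n → F} (hu : InW n q e f u) : projW n q e f u = u := by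
  unfold projW
  rw [hu.1, hu.2]
  module

lemma projW_e {e f : Fin n → F} (H : IsHyp n q e f) : projW n q e f e = 0 := by
  unfold projW
  rw [H.ef, H.ee]
  module

lemma projW_f {e f : Fin n → F} (H : IsHyp n q e f) : projW n q e f f = 0 := by
  unfold projW
  rw [H.fe, H.ff]
  module

lemma herm_hyp_expand (hF : Fintype.card F = q ^ 2) {e f : Fin n → F} (H : IsHyp n q e f)
    {a₁ a₂ b₁ b₂ : F} {w w' : Fin n → F} (hw : InW n q e f w) (hw' : InW n q e f w') :
    hh (a₁ • e + a₂ • f + w) (b₁ • e + b₂ • f + w') = a₁ * b₂ ^ q + a₂ * b₁ ^ q + hh w w' := by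
  simp only [hf_add_left, hf_add_right n hF, hf_smul_left, hf_smul_right, H.ee, H.ff, H.ef, H.fe,
    hw.1, hw.2, hw'.eu hF, hw'.fu hF, mul_zero, add_zero, zero_add, mul_one]
  ring

lemma herm_decomp (hF : Fintype.card F = q ^ 2) {e f : Fin n → F} (H : IsHyp n q e f)
    (x x' : Fin n → F) :
    hh x x' = hh x f * (hh x' e) ^ q + hh x e * (hh x' f) ^ q +
      hh (projW n q e f x) (projW n q e f x') := by
  have := herm_hyp_expand hF H (a₁ := hh x f) (a₂ := hh x e) (b₁ := hh x' f) (b₂ := hh x' e)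
    (projW_inW H x) (projW_inW H x')
  rw [← decomp_hyp, ← decomp_hyp] at this
  exact this

/-- the semilinear extension of `A` to the whole space -/
def Tmap (n q : ℕ) (e f : Fin n → F) (A : (Fin n → F) → (Fin n → F)) (φ : F ≃+* F) (ν : F)
    (x : Fin n → F) : Fin n → F :=
  (ν * φ (Cfsg.hermForm n F q x f)) • e + ((ν ^ q)⁻¹ * φ (Cfsg.hermForm n F q x e)) • f +
    (ν ^ q)⁻¹ • A (projW n q e f x)

section build

variable {e f : Fin n → F} {A : (Fin n → F) → (Fin n → F)} {φ : F ≃+* F} {ν : F}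

lemma Tmap_add (H : IsHyp n q e f)
    (hadd : ∀ u u', InW n q e f u → InW n q e f u' → A (u + u') = A u + A u')
    (x y : Fin n → F) : Tmap n q e f A φ ν (x + y) = Tmap n q e f A φ ν x + Tmap n q e f A φ ν y := by
  unfold Tmap
  rw [hf_add_left, hf_add_left, map_add, map_add, projW_add,
    hadd _ _ (projW_inW H x) (projW_inW H y)]
  module

lemma Tmap_smul (H : IsHyp n q e f)
    (hφ : ∀ (c : F) u, InW n q e f u → A (c • u) = φ c • A u) (c : F)
    (x : Fin n → F) : Tmap n q e f A φ ν (c • x) = φ c • Tmap n q e f A φ ν x := by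
  unfold Tmap
  rw [hf_smul_left, hf_smul_left, map_mul, map_mul, projW_smul, hφ _ _ (projW_inW H x)]
  module

lemma Tmap_zero (H : IsHyp n q e f)
    (hφ : ∀ (c : F) u, InW n q e f u → A (c • u) = φ c • A u) :
    Tmap n q e f A φ ν 0 = 0 := by
  have := Tmap_smul (ν := ν) H hφ 0 0
  rw [smul_zero, map_zero, zero_smul] at this
  exact this

lemma Tmap_sum (H : IsHyp n q e f)
    (hadd : ∀ u u', InW n q e f u → InW n q e f u' → A (u + u') = A u + A u')
    (hφ : ∀ (c : F) u, InW n q e f u → A (c • u) = φ c • A u)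
    {ι : Type*} (s : Finset ι) (v : ι → (Fin n → F)) :
    Tmap n q e f A φ ν (∑ j ∈ s, v j) = ∑ j ∈ s, Tmap n q e f A φ ν (v j) := by
  classical
  induction s using Finset.induction_on with
  | empty => simp [Tmap_zero H hφ]
  | insert a s ha ih => rw [Finset.sum_insert ha, Finset.sum_insert ha, Tmap_add H hadd, ih]

lemma Tmap_e (H : IsHyp n q e f) (hA0 : A 0 = 0) : Tmap n q e f A φ ν e = ν • e := by
  unfold Tmap
  rw [H.ef, H.ee, projW_e H, hA0, map_one, map_zero]
  module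

lemma Tmap_f (H : IsHyp n q e f) (hA0 : A 0 = 0) : Tmap n q e f A φ ν f = (ν ^ q)⁻¹ • f := by
  unfold Tmap
  rw [H.fe, H.ff, projW_f H, hA0, map_one, map_zero]
  module

lemma Tmap_W {u : Fin n → F} (hu : InW n q e f u) :
    Tmap n q e f A φ ν u = (ν ^ q)⁻¹ • A u := by
  unfold Tmap
  rw [hu.1, hu.2, projW_of_inW hu, map_zero]
  module

lemma Tmap_herm (hF : Fintype.card F = q ^ 2) (H : IsHyp n q e f)
    (hAW : ∀ u, InW n q e f u → InW n q e f (A u)) {κ : F} (hν : ν * ν ^ q = κ) (hκ0 : κ ≠ 0)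
    (hsim : ∀ u u', InW n q e f u → InW n q e f u' → hh (A u) (A u') = κ * φ (hh u u'))
    (x x' : Fin n → F) :
    hh (Tmap n q e f A φ ν x) (Tmap n q e f A φ ν x') = φ (hh x x') := by
  have hν0 : ν ≠ 0 := by
    rintro rfl
    rw [zero_mul] at hν
    exact hκ0 hν.symm
  have hνq : ν ^ q ≠ 0 := pow_ne_zero _ hν0
  unfold Tmap
  rw [herm_hyp_expand hF H ((hAW _ (projW_inW H x)).smul _) ((hAW _ (projW_inW H x')).smul _),
    hf_smul_left, hf_smul_right, hsim _ _ (projW_inW H x) (projW_inW H x'),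
    herm_decomp hF H x x', map_add, map_add, map_mul, map_mul, map_pow, map_pow, mul_pow, mul_pow,
    inv_pow, SURoot.pow_q_pow_q hF, ← hν]
  field_simp

/-- the matrix of the semilinear extension -/
def gmat (n q : ℕ) (e f : Fin n → F) (A : (Fin n → F) → (Fin n → F)) (φ : F ≃+* F) (ν : F) :
    Matrix (Fin n) (Fin n) F :=
  Matrix.of fun i j => Tmap n q e f A φ ν (Pi.single j 1) i

lemma gmat_mulVec (H : IsHyp n q e f)
    (hadd : ∀ u u', InW n q e f u → InW n q e f u' → A (u + u') = A u + A u')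
    (hφ : ∀ (c : F) u, InW n q e f u → A (c • u) = φ c • A u) (x : Fin n → F) :
    gmat n q e f A φ ν *ᵥ (fun i => φ (x i)) = Tmap n q e f A φ ν x := by
  have hx : x = ∑ j, x j • (Pi.single j (1 : F) : Fin n → F) := by
    funext i
    simp [Finset.sum_apply, Pi.single_apply]
  conv_rhs => rw [hx, Tmap_sum H hadd hφ]
  funext i
  rw [Finset.sum_apply]
  simp only [Matrix.mulVec, dotProduct, gmat, Matrix.of_apply]
  apply Finset.sum_congr rfl
  intro j _
  rw [Tmap_smul H hφ, Pi.smul_apply, smul_eq_mul, mul_comm]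

lemma gmat_iso (hF : Fintype.card F = q ^ 2) (H : IsHyp n q e f)
    (hAW : ∀ u, InW n q e f u → InW n q e f (A u))
    (hadd : ∀ u u', InW n q e f u → InW n q e f u' → A (u + u') = A u + A u')
    (hφ : ∀ (c : F) u, InW n q e f u → A (c • u) = φ c • A u) {κ : F} (hν : ν * ν ^ q = κ)
    (hκ0 : κ ≠ 0)
    (hsim : ∀ u u', InW n q e f u → InW n q e f u' → hh (A u) (A u') = κ * φ (hh u u')) :
    IsHermIso n F q (gmat n q e f A φ ν) := by
  intro y y'
  obtain ⟨x, rfl⟩ : ∃ x : Fin n → F, y = fun i => φ (x i) :=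
    ⟨fun i => φ.symm (y i), by funext i; simp⟩
  obtain ⟨x', rfl⟩ : ∃ x : Fin n → F, y' = fun i => φ (x i) :=
    ⟨fun i => φ.symm (y' i), by funext i; simp⟩
  rw [gmat_mulVec H hadd hφ, gmat_mulVec H hadd hφ, Tmap_herm hF H hAW hν hκ0 hsim,
    herm_map]

end build

/-- the action of `PhiU σ` on root subgroups -/
lemma PhiU_Xb (hF : Fintype.card F = q ^ 2) (σ : F ≃+* F) {v : Fin n → F}
    (hv0 : v ≠ 0) (hv : hh v v = 0) (y : Cfsg.PSU n F q) :
    y ∈ Xb n q v ↔ PhiU σ y ∈ Xb n q (fun i => σ (v i)) := by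
  have key : ∀ (σ : F ≃+* F) {v : Fin n → F} (hv0 : v ≠ 0) (hv : hh v v = 0)
      (y : Cfsg.PSU n F q), y ∈ Xb n q v → PhiU σ y ∈ Xb n q (fun i => σ (v i)) := by
    intro σ v hv0 hv y hy
    obtain ⟨c, hc, rfl⟩ := (mem_Xb hF hv0 hv y).1 hy
    obtain ⟨hv', hc', h⟩ := PhiU_tv hF σ hv hc
    have hv0' : (fun i => σ (v i)) ≠ 0 := by
      intro h0
      apply hv0
      funext i
      have := congrFun h0 i
      simpa using this
    rw [h]
    exact (mem_Xb hF hv0' hv' _).2 ⟨_, hc', rfl⟩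
  refine ⟨key σ hv0 hv y, fun h => ?_⟩
  have hv' : hh (fun i => σ (v i)) (fun i => σ (v i)) = 0 := by rw [herm_map, hv, map_zero]
  have hv0' : (fun i => σ (v i)) ≠ 0 := by
    intro h0
    apply hv0
    funext i
    have := congrFun h0 i
    simpa using this
  have h1 := key σ⁻¹ hv0' hv' _ h
  have h2 : PhiU σ⁻¹ (PhiU σ y) = y := by
    rw [← MulAut.mul_apply, ← map_mul, inv_mul_cancel, map_one]
    rfl
  have h3 : (fun i => σ⁻¹ ((fun i => σ (v i)) i)) = v := by
    funext i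
    show σ⁻¹ (σ (v i)) = v i
    rw [← RingAut.mul_apply, inv_mul_cancel]
    rfl
  rw [h2, h3] at h1
  exact h1

/-- **Realization** of a semilinear similitude of the complement -/
theorem exists_build (hF : Fintype.card F = q ^ 2) (hn : 3 ≤ n) {e f : Fin n → F}
    (H : IsHyp n q e f) {A : (Fin n → F) → (Fin n → F)}
    (hAW : ∀ u, InW n q e f u → InW n q e f (A u))
    (hadd : ∀ u u', InW n q e f u → InW n q e f u' → A (u + u') = A u + A u')
    (φ : F ≃+* F) (hφ : ∀ (c : F) u, InW n q e f u → A (c • u) = φ c • A u) {κ : F}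
    (hκ0 : κ ≠ 0) (hκq : κ ^ q = κ)
    (hsim : ∀ u u', InW n q e f u → InW n q e f u' → hh (A u) (A u') = κ * φ (hh u u')) :
    ∃ g : ↥(Cfsg.GU n F q), IsLin hF e f (GamU g * PhiU φ) A ∧
      (∀ y, y ∈ Xb n q e ↔ GamU g (PhiU φ y) ∈ Xb n q e) ∧
      (∀ y, y ∈ Xb n q f ↔ GamU g (PhiU φ y) ∈ Xb n q f) := by
  obtain ⟨ν, hν⟩ := Helper13.exists_norm_eq hF κ hκ0 hκq
  have hν0 : ν ≠ 0 := by
    rintro rfl
    rw [zero_mul] at hν
    exact hκ0 hν.symm
  have hνq : ν ^ q ≠ 0 := pow_ne_zero _ hν0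
  have hA0 : A 0 = 0 := by
    have := hφ 0 0 InW.zero
    rw [smul_zero, map_zero, zero_smul] at this
    exact this
  set g : ↥(Cfsg.GU n F q) := mkGU hF (gmat n q e f A φ ν) (gmat_iso hF H hAW hadd hφ hν hκ0 hsim)
    with hg
  have hgv : ∀ x : Fin n → F, g.1.1 *ᵥ (fun i => φ (x i)) = Tmap n q e f A φ ν x := by
    intro x
    rw [hg, mkGU_val]
    exact gmat_mulVec H hadd hφ x
  have hφe0 : (fun i => φ (e i)) ≠ 0 := by
    intro h0
    apply H.e_ne
    funext i
    have := congrFun h0 i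
    simpa using this
  have hφf0 : (fun i => φ (f i)) ≠ 0 := by
    intro h0
    apply H.f_ne
    funext i
    have := congrFun h0 i
    simpa using this
  have hφe : hh (fun i => φ (e i)) (fun i => φ (e i)) = 0 := by rw [herm_map, H.ee, map_zero]
  have hφf : hh (fun i => φ (f i)) (fun i => φ (f i)) = 0 := by rw [herm_map, H.ff, map_zero]
  refine ⟨g, ⟨hAW, ?_⟩, ?_, ?_⟩
  · intro u b hu hb
    have h1 : (GamU g * PhiU φ : MulAut (Cfsg.PSU n F q)) (pr (sg hF e u b)) =
        pr (sg hF (ν • e) ((ν ^ q)⁻¹ • A u) (φ b)) := by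
      rw [MulAut.mul_apply, PhiU_pr, fieldU_sg hF φ hb, GamU_pr,
        conjU_sg hF g (sgC_field φ hb), hgv, hgv, Tmap_e H hA0, Tmap_W hu]
    have hC : SgC n q (ν • e) ((ν ^ q)⁻¹ • A u) (φ b) := by
      have := sgC_conjU g (sgC_field φ hb)
      rw [hgv, hgv, Tmap_e H hA0, Tmap_W hu] at this
      exact this
    have h2 := sgC_smul hF ν hC hν0
    have h3 := sg_smul hF ν hC hν0
    have h4 : ν ^ q • (ν ^ q)⁻¹ • A u = A u := by
      rw [smul_smul, mul_inv_cancel₀ hνq, one_smul]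
    have h5 : ν ^ (q + 1) = κ := by rw [pow_succ, mul_comm]; exact hν
    rw [h4, h5] at h2 h3
    exact ⟨κ * φ b, h2, by rw [h1, h3]⟩
  · intro y
    rw [PhiU_Xb hF φ H.e_ne H.ee, GamU_Xb hF g hφe0 hφe, hgv, Tmap_e H hA0,
      Xb_smul hF H.e_ne H.ee hν0]
  · intro y
    rw [PhiU_Xb hF φ H.f_ne H.ff, GamU_Xb hF g hφf0 hφf, hgv, Tmap_f H hA0,
      Xb_smul hF H.f_ne H.ff (inv_ne_zero hνq)]

end Cfsg.Agent.Lib.Helper5.AutPSU
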