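import Mathlib
import Cfsg.Agent.Lib.Helper5.AutPSUBuild

set_option autoImplicit false
set_option linter.unusedSimpArgs false
set_option linter.unusedVariables false
set_option linter.unnecessarySeqFocus false
set_option linter.unusedSectionVars false
set_option linter.style.haveILetI false

/-!
# Rigidity: a normalized automorphism acting trivially on `Qs e / X_e` is trivial
-/

namespace Cfsg.Agent.Lib.Helper5.AutPSU

open Matrix Cfsg.Agent.Lib.Helper99 Cfsg.Agent.Lib.Helper99.SURoot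
open scoped Pointwise

variable {F : Type*} [Field F] [Fintype F] {q n : ℕ}

local notation "hh" => Cfsg.hermForm n F q

section rigid

variable {hF : Fintype.card F = q ^ 2} {e f : Fin n → F} {α : MulAut (Cfsg.PSU n F q)}
  {A : (Fin n → F) → (Fin n → F)}

/-- R1: the root subgroup `Xb e` is fixed pointwise -/
theorem rigid_tv (hA : IsLin hF e f α A) (hn : 3 ≤ n) (H : IsHyp n q e f)
    (hid : ∀ u, InW n q e f u → A u = u) {z : F} (hz : z + z ^ q = 0) :
    α (pr (tvElt n hF e z)) = pr (tvElt n hF e z) := by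
  obtain ⟨a, haW, ha⟩ := exists_unit_W hF hn H
  obtain ⟨c₀, hc₀⟩ := exists_trace_eq' hF 1 (one_pow q)
  have hzq : z ^ q = -z := by linear_combination hz
  set c : F := -z * c₀ with hc
  have h1 : hh a (c • a) - hh (c • a) a = z := by
    rw [hf_smul_right, hf_smul_left, ha, mul_one, mul_one, hc, mul_pow, frob_neg hF, hzq]
    linear_combination z * hc₀
  have := hA.comm hn H haW (haW.smul c)
  rw [hid _ haW, hid _ (haW.smul c), h1] at this
  exact this

/-- R2: the action on `Qs e` is by a shift of the last parameter -/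
theorem rigid_zeta (hA : IsLin hF e f α A) (hn : 3 ≤ n) (H : IsHyp n q e f)
    (hid : ∀ u, InW n q e f u → A u = u) {u : Fin n → F} (hu : InW n q e f u) :
    ∃ z : F, z + z ^ q = 0 ∧ ∀ b, SgC n q e u b →
      SgC n q e u (b + z) ∧ α (pr (sg hF e u b)) = pr (sg hF e u (b + z)) := by
  obtain ⟨b₀, hb₀⟩ := exists_sgC hF H.ee hu.1
  obtain ⟨b₀', hb₀', e₀⟩ := hA.2 u b₀ hu hb₀
  rw [hid u hu] at hb₀' e₀
  have hz : (b₀' - b₀) + (b₀' - b₀) ^ q = 0 := by
    rw [frob_sub hF]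
    linear_combination hb₀'.2.2 - hb₀.2.2
  refine ⟨b₀' - b₀, hz, fun b hb => ?_⟩
  have hc : (b - b₀) + (b - b₀) ^ q = 0 := by
    rw [frob_sub hF]
    linear_combination hb.2.2 - hb₀.2.2
  obtain ⟨hC1, h1⟩ := sg_tv_mul hF hb₀ hc
  obtain ⟨hC2, h2⟩ := sg_tv_mul hF hb₀' hc
  have e1 : b - b₀ + b₀ = b := by ring
  have e2 : b - b₀ + b₀' = b + (b₀' - b₀) := by ring
  rw [e1] at h1
  rw [e2] at h2 hC2
  refine ⟨hC2, ?_⟩
  rw [← h1, map_mul, map_mul, e₀, sg_tv hF H.ee hc, rigid_tv hA hn H hid hc, ← sg_tv hF H.ee hc,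
    ← map_mul, h2]

lemma frob_inj (hF : Fintype.card F = q ^ 2) {x y : F} (h : x ^ q = y ^ q) : x = y := by
  have := congrArg (fun z => z ^ q) h
  simpa [SURoot.pow_q_pow_q hF] using this

/-- R3: the Levi complement is fixed pointwise -/
theorem rigid_levi (hA : IsLin hF e f α A) (hn : 3 ≤ n) (H : IsHyp n q e f)
    (hαe : ∀ y, y ∈ Xb n q e ↔ α y ∈ Xb n q e) (hαf : ∀ y, y ∈ Xb n q f ↔ α y ∈ Xb n q f)
    (hid : ∀ u, InW n q e f u → A u = u) {m : ↥(Cfsg.SU n F q)} {l m₀ : F}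
    (hme : mat n m *ᵥ e = l • e) (hmf : mat n m *ᵥ f = m₀ • f) : α (pr m) = pr m := by
  obtain ⟨m', l', m₀', hm', hl', hm₀', heq⟩ := levi_equiv hF hn H α hαe hαf hA hme
    ((PSUS.mem_stab n f m).2 ⟨m₀, hmf⟩)
  have hsc := levi_scalars H hme hmf
  have hsc' := levi_scalars H hl' hm₀'
  have hl0 : l ≠ 0 := by
    rintro rfl
    rw [zero_mul] at hsc
    exact zero_ne_one hsc
  have hl'0 : l' ≠ 0 := by
    rintro rfl
    rw [zero_mul] at hsc'
    exact zero_ne_one hsc'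
  have hlq : l ^ q ≠ 0 := pow_ne_zero _ hl0
  have hl'q : l' ^ q ≠ 0 := pow_ne_zero _ hl'0
  -- the norms agree
  have hN : l ^ q * l = l' ^ q * l' := by
    obtain ⟨τ, hτ0, hτ⟩ := exists_trace_zero hF
    have h1 : m * tvElt n hF e τ * m⁻¹ = tvElt n hF e (τ * l ^ (q + 1)) := by
      rw [conj_elt n hF m e H.ee τ hτ, hme, elt_smul n hF l e H.ee τ hτ]
    have h2 : m' * tvElt n hF e τ * m'⁻¹ = tvElt n hF e (τ * l' ^ (q + 1)) := by
      rw [conj_elt n hF m' e H.ee τ hτ, hl', elt_smul n hF l' e H.ee τ hτ]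
    have t1 := mul_norm_trace_zero hF τ l hτ
    have t2 := mul_norm_trace_zero hF τ l' hτ
    have h3 := congrArg (fun x => α (pr x)) h1
    simp only [map_mul, map_inv] at h3
    rw [hm', rigid_tv hA hn H hid hτ, rigid_tv hA hn H hid t1, ← map_inv, ← map_mul, ← map_mul,
      h2] at h3
    have h4 := pr_tv_inj hF hn H.e_ne H.ee t2 t1 h3
    have h5 := mul_left_cancel₀ hτ0 h4
    rw [pow_succ, pow_succ] at h5
    exact h5.symm
  have hpr : pr m = pr m' := by
    apply pr_eq_of_smul (ν := l' / l)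
    have key := mulVec_ext_hyp (q := q) H (A := mat n m') (B := (l' / l) • mat n m) ?_ ?_ ?_
    · intro v
      rw [key v, Matrix.smul_mulVec]
    · rw [hl', Matrix.smul_mulVec, hme, smul_smul, div_mul_cancel₀ _ hl0]
    · rw [hm₀', Matrix.smul_mulVec, hmf, smul_smul]
      congr 1
      apply frob_inj hF
      have hm₀q : m₀ ^ q = l⁻¹ := eq_inv_of_mul_eq_one_right hsc
      have hm₀'q : m₀' ^ q = l'⁻¹ := eq_inv_of_mul_eq_one_right hsc'
      rw [mul_pow, div_pow, hm₀q, hm₀'q]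
      field_simp
      linear_combination hN
    · intro u hu
      have h1 := heq u hu
      have hW : InW n q e f (l ^ q • (mat n m *ᵥ u)) := (levi_W H hme hmf hu).smul _
      rw [hid _ hW, hid u hu] at h1
      rw [Matrix.smul_mulVec]
      have h2 : mat n m' *ᵥ u = (l' ^ q)⁻¹ • (l' ^ q • (mat n m' *ᵥ u)) := by
        rw [smul_smul, inv_mul_cancel₀ hl'q, one_smul]
      rw [h2, ← h1, smul_smul]
      congr 1
      field_simp
      linear_combination hN
  rw [hm', ← hpr]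

/-- the shift of the last parameter attached to a vector of the complement -/
def Zeta (hF : Fintype.card F = q ^ 2) (e : Fin n → F) (α : MulAut (Cfsg.PSU n F q))
    (u : Fin n → F) (z : F) : Prop :=
  z + z ^ q = 0 ∧ ∀ b, SgC n q e u b →
    SgC n q e u (b + z) ∧ α (pr (sg hF e u b)) = pr (sg hF e u (b + z))

lemma Zeta.unique (hn : 3 ≤ n) (H : IsHyp n q e f) {u : Fin n → F} (hu : InW n q e f u) {z z' : F}
    (h : Zeta hF e α u z) (h' : Zeta hF e α u z') : z = z' := by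
  obtain ⟨b, hb⟩ := exists_sgC hF H.ee hu.1
  obtain ⟨hC, e1⟩ := h.2 b hb
  obtain ⟨hC', e2⟩ := h'.2 b hb
  rw [e1] at e2
  exact add_left_cancel (pr_sg_inj hF hn H hC hC' hu hu e2).2

lemma Zeta.add (hn : 3 ≤ n) (H : IsHyp n q e f)
    (htv : ∀ c : F, c + c ^ q = 0 → α (pr (tvElt n hF e c)) = pr (tvElt n hF e c))
    {u u' : Fin n → F} (hu : InW n q e f u)
    (hu' : InW n q e f u') {z z' : F}
    (h : Zeta hF e α u z) (h' : Zeta hF e α u' z') : Zeta hF e α (u + u') (z + z') := by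
  refine ⟨?_, fun b hb => ?_⟩
  · rw [frob_add hF]
    linear_combination h.1 + h'.1
  · obtain ⟨b₁, hb₁⟩ := exists_sgC hF H.ee hu.1
    obtain ⟨b₂, hb₂⟩ := exists_sgC hF H.ee hu'.1
    obtain ⟨hC1, e1⟩ := h.2 b₁ hb₁
    obtain ⟨hC2, e2⟩ := h'.2 b₂ hb₂
    have hC3 := sgC_mul hF hb₁ hb₂
    have h3 := sg_mul hF hb₁ hb₂
    have hC4 := sgC_mul hF hC1 hC2
    have h4 := sg_mul hF hC1 hC2
    -- first for the particular parameter
    have e3 : α (pr (sg hF e (u + u') (b₁ + b₂ - hh u' u))) =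
        pr (sg hF e (u + u') (b₁ + b₂ - hh u' u + (z + z'))) := by
      rw [← h3, map_mul, map_mul, e1, e2, ← map_mul, h4]
      congr 2
      ring
    have hC5 : SgC n q e (u + u') (b₁ + b₂ - hh u' u + (z + z')) := by
      have : b₁ + b₂ - hh u' u + (z + z') = b₁ + z + (b₂ + z') - hh u' u := by ring
      rw [this]
      exact hC4
    -- then for all parameters
    have hc : (b - (b₁ + b₂ - hh u' u)) + (b - (b₁ + b₂ - hh u' u)) ^ q = 0 := by
      rw [frob_sub hF]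
      linear_combination hb.2.2 - hC3.2.2
    obtain ⟨hC6, h6⟩ := sg_tv_mul hF hC3 hc
    obtain ⟨hC7, h7⟩ := sg_tv_mul hF hC5 hc
    have e6 : b - (b₁ + b₂ - hh u' u) + (b₁ + b₂ - hh u' u) = b := by ring
    have e7 : b - (b₁ + b₂ - hh u' u) + (b₁ + b₂ - hh u' u + (z + z')) = b + (z + z') := by ring
    rw [e6] at h6
    rw [e7] at h7 hC7
    refine ⟨hC7, ?_⟩
    have htv' : α (pr (sg hF e 0 (b - (b₁ + b₂ - hh u' u)))) =
        pr (sg hF e 0 (b - (b₁ + b₂ - hh u' u))) := by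
      rw [sg_tv hF H.ee hc, htv _ hc]
    rw [← h6, map_mul, map_mul, e3, htv', ← map_mul, h7]

lemma Zeta.of_one (H : IsHyp n q e f)
    (htv : ∀ c : F, c + c ^ q = 0 → α (pr (tvElt n hF e c)) = pr (tvElt n hF e c))
    {u : Fin n → F} {z b₀ : F} (hz : z + z ^ q = 0) (hb₀ : SgC n q e u b₀)
    (hC : SgC n q e u (b₀ + z)) (h : α (pr (sg hF e u b₀)) = pr (sg hF e u (b₀ + z))) :
    Zeta hF e α u z := by
  refine ⟨hz, fun b hb => ?_⟩
  have hc : (b - b₀) + (b - b₀) ^ q = 0 := by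
    rw [frob_sub hF]
    linear_combination hb.2.2 - hb₀.2.2
  obtain ⟨hC6, h6⟩ := sg_tv_mul hF hb₀ hc
  obtain ⟨hC7, h7⟩ := sg_tv_mul hF hC hc
  have e6 : b - b₀ + b₀ = b := by ring
  have e7 : b - b₀ + (b₀ + z) = b + z := by ring
  rw [e6] at h6
  rw [e7] at h7 hC7
  refine ⟨hC7, ?_⟩
  have htv' : α (pr (sg hF e 0 (b - b₀))) = pr (sg hF e 0 (b - b₀)) := by
    rw [sg_tv hF H.ee hc, htv _ hc]
  rw [← h6, map_mul, map_mul, h, htv', ← map_mul, h7]

/-- R4: equivariance of the shift under the Levi complement -/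
lemma Zeta.levi (H : IsHyp n q e f)
    (htv : ∀ c : F, c + c ^ q = 0 → α (pr (tvElt n hF e c)) = pr (tvElt n hF e c))
    {u : Fin n → F} (hu : InW n q e f u) {z : F} (h : Zeta hF e α u z) {m : ↥(Cfsg.SU n F q)}
    {l : F} (hme : mat n m *ᵥ e = l • e) (hm : α (pr m) = pr m) :
    Zeta hF e α (l ^ q • (mat n m *ᵥ u)) (l ^ (q + 1) * z) := by
  obtain ⟨b₀, hb₀⟩ := exists_sgC hF H.ee hu.1
  obtain ⟨hC0, e0⟩ := h.2 b₀ hb₀
  obtain ⟨hC1, h1⟩ := conj_sg_stab hF hb₀ m hme H.e_ne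
  obtain ⟨hC2, h2⟩ := conj_sg_stab hF hC0 m hme H.e_ne
  have hz : (l ^ (q + 1) * z) + (l ^ (q + 1) * z) ^ q = 0 := by
    rw [mul_comm]
    exact mul_norm_trace_zero hF z l h.1
  have e3 : l ^ (q + 1) * (b₀ + z) = l ^ (q + 1) * b₀ + l ^ (q + 1) * z := by ring
  rw [e3] at hC2 h2
  apply Zeta.of_one H htv hz hC1 hC2
  rw [← h1, map_mul, map_mul, map_mul, map_mul, map_inv, map_inv, hm, e0, ← map_inv, ← map_mul,
    ← map_mul, h2]

/-- R5, case `n = 3` -/
theorem zeta_zero_three (hA : IsLin hF e f α A) (hn : n = 3) (hq : 3 ≤ q) (H : IsHyp n q e f)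
    (hαe : ∀ y, y ∈ Xb n q e ↔ α y ∈ Xb n q e) (hαf : ∀ y, y ∈ Xb n q f ↔ α y ∈ Xb n q f)
    (hid : ∀ u, InW n q e f u → A u = u) {u : Fin n → F} (hu : InW n q e f u) :
    Zeta hF e α u 0 := by
  have hn3 : 3 ≤ n := by omega
  have htv : ∀ c : F, c + c ^ q = 0 → α (pr (tvElt n hF e c)) = pr (tvElt n hF e c) :=
    fun c hc => rigid_tv hA hn3 H hid hc
  obtain ⟨a, haW, ha⟩ := exists_unit_W hF hn3 H
  obtain ⟨g, hg0, hg⟩ := exists_gen3 hF hq
  have hgq : g ^ q ≠ 0 := pow_ne_zero _ hg0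
  -- a norm one element whose cube is not one
  set lam : F := g ^ q / g with hlam
  have hlam0 : lam ≠ 0 := div_ne_zero hgq hg0
  have hlamq : lam ^ q = lam⁻¹ := by
    rw [hlam, div_pow, SURoot.pow_q_pow_q hF, inv_div]
  have hlam3 : lam ^ q * (lam ^ q * lam⁻¹) ≠ 1 := by
    rw [hlamq, hlam]
    intro h
    apply hg
    field_simp at h
    rw [mul_comm 3 q, pow_mul]
    exact h.symm
  have hN : lam ^ (q + 1) = 1 := by
    rw [pow_succ, hlamq, inv_mul_cancel₀ hlam0]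
  obtain ⟨t, hte, htf, hta⟩ := exists_torus3 hF H haW ha hlam0
  have htfix := rigid_levi hA hn3 H hαe hαf hid hte htf
  set c₁ : F := lam ^ q * (lam ^ q * lam⁻¹) with hc₁
  have hc₁1 : c₁ - 1 ≠ 0 := fun h => hlam3 (sub_eq_zero.1 h)
  -- the shift vanishes on `(c₁ - 1) • u`
  have key : ∀ u, InW n q e f u → Zeta hF e α ((c₁ - 1) • u) 0 := by
    intro u hu
    obtain ⟨z, hz⟩ := rigid_zeta hA hn3 H hid hu
    obtain ⟨zw, hzw⟩ := rigid_zeta hA hn3 H hid (hu.smul (c₁ - 1))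
    have h1 := Zeta.levi H htv hu hz hte htfix
    have hu' := W_line hF hn H haW ha hu
    have h3 : mat n t *ᵥ u = (lam ^ q * lam⁻¹) • u := by
      rw [hu', Matrix.mulVec_smul, hta, smul_comm]
    rw [h3, smul_smul, hN, one_mul] at h1
    have h2 := Zeta.add hn3 H htv (hu.smul (c₁ - 1)) hu hzw hz
    have h4 : (c₁ - 1) • u + u = c₁ • u := by module
    rw [h4] at h2
    have h5 := Zeta.unique hn3 H (hu.smul c₁) h1 h2
    have h6 : zw = 0 := by linear_combination -h5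
    rw [h6] at hzw
    exact hzw
  have := key ((c₁ - 1)⁻¹ • u) (hu.smul _)
  rw [smul_smul, mul_inv_cancel₀ hc₁1, one_smul] at this
  exact this

/-- R5, case `n ≥ 4` -/
theorem zeta_zero_four (hA : IsLin hF e f α A) (hn : 4 ≤ n) (H : IsHyp n q e f)
    (hαe : ∀ y, y ∈ Xb n q e ↔ α y ∈ Xb n q e) (hαf : ∀ y, y ∈ Xb n q f ↔ α y ∈ Xb n q f)
    (hid : ∀ u, InW n q e f u → A u = u) {u : Fin n → F} (hu : InW n q e f u) :
    Zeta hF e α u 0 := by
  have hn3 : 3 ≤ n := by omega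
  have htv : ∀ c : F, c + c ^ q = 0 → α (pr (tvElt n hF e c)) = pr (tvElt n hF e c) :=
    fun c hc => rigid_tv hA hn3 H hid hc
  obtain ⟨τ, hτ0, hτ⟩ := exists_trace_zero hF
  -- isotropic lines
  have iso : ∀ r : Fin n → F, r ≠ 0 → InW n q e f r → hh r r = 0 → ∀ c : F,
      Zeta hF e α (c • r) 0 := by
    intro r hr0 hrW hr c
    obtain ⟨r', hr'W, Hr⟩ := exists_partner_W hF H hr0 hrW hr
    have hme : mat n (tvElt n hF r τ) *ᵥ e = (1 : F) • e := by
      rw [one_smul]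
      exact tv_fix_of_orth hF hr hτ (hrW.eu hF)
    have hmf : mat n (tvElt n hF r τ) *ᵥ f = (1 : F) • f := by
      rw [one_smul]
      exact tv_fix_of_orth hF hr hτ (hrW.fu hF)
    have hfix := rigid_levi hA hn3 H hαe hαf hid hme hmf
    have key : ∀ d : F, Zeta hF e α ((τ * d) • r) 0 := by
      intro d
      have hu' : InW n q e f (d • r') := hr'W.smul d
      have hw : InW n q e f ((τ * d) • r) := hrW.smul _
      obtain ⟨z, hz⟩ := rigid_zeta hA hn3 H hid hu'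
      obtain ⟨zw, hzw⟩ := rigid_zeta hA hn3 H hid hw
      have h1 := Zeta.levi H htv hu' hz hme hfix
      have h3 : mat n (tvElt n hF r τ) *ᵥ (d • r') = d • r' + (τ * d) • r := by
        rw [tvElt_mulVec n hF r hr τ hτ, hf_smul_left, Hr.fe, mul_one]
      rw [h3, one_pow, one_pow, one_smul, one_mul] at h1
      have h2 := Zeta.add hn3 H htv hu' hw hz hzw
      have h5 := Zeta.unique hn3 H (hu'.add hw) h1 h2
      have h6 : zw = 0 := by linear_combination -h5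
      rw [h6] at hzw
      exact hzw
    have := key (c / τ)
    rw [mul_div_cancel₀ _ hτ0] at this
    exact this
  obtain ⟨r₀, r₀', hr₀W, hr₀'W, Hr⟩ := exists_hyp_W hF hn H
  obtain ⟨s, c₁, c₂, hsW, hs, rfl⟩ := iso_decomp_W hF hr₀W hr₀'W Hr hu
  have h1 : Zeta hF e α s 0 := by
    by_cases hs0 : s = 0
    · have := iso r₀ Hr.e_ne hr₀W Hr.ee 0
      rw [zero_smul] at this
      rw [hs0]
      exact this
    · have := iso s hs0 hsW hs 1
      rw [one_smul] at this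
      exact this
  have h2 := iso r₀ Hr.e_ne hr₀W Hr.ee c₁
  have h3 := iso r₀' Hr.f_ne hr₀'W Hr.ff c₂
  have h4 := Zeta.add hn3 H htv (hsW.add (hr₀W.smul c₁)) (hr₀'W.smul c₂)
    (Zeta.add hn3 H htv hsW (hr₀W.smul c₁) h1 h2) h3
  rw [add_zero, add_zero] at h4
  exact h4

/-- R6: the stabilizer of `e` is fixed pointwise -/
theorem rigid_stab (hA : IsLin hF e f α A) (hn : 3 ≤ n) (hq : ¬ (n = 3 ∧ q = 2))
    (H : IsHyp n q e f)
    (hαe : ∀ y, y ∈ Xb n q e ↔ α y ∈ Xb n q e) (hαf : ∀ y, y ∈ Xb n q f ↔ α y ∈ Xb n q f)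
    (hid : ∀ u, InW n q e f u → A u = u) {g : ↥(Cfsg.SU n F q)} (hg : g ∈ PSUS.stab n e) :
    α (pr g) = pr g := by
  obtain ⟨x, hx, hxg⟩ := exists_Qs_mul_levi hF H hg
  obtain ⟨u, b, hu, hb, rfl⟩ := (mem_Qs_iff_W hF H x).1 hx
  have hz : Zeta hF e α u 0 := by
    by_cases h4 : 4 ≤ n
    · exact zeta_zero_four hA h4 H hαe hαf hid hu
    · have hn3 : n = 3 := by omega
      have hq3 : 3 ≤ q := by
        have := q_ge_two hF
        by_contra h
        exact hq ⟨hn3, by omega⟩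
      exact zeta_zero_three hA hn3 hq3 H hαe hαf hid hu
  obtain ⟨-, e1⟩ := hz.2 b hb
  rw [add_zero] at e1
  obtain ⟨⟨l, hl⟩, ⟨m₀, hm₀⟩⟩ := (mem_Levi _).1 hxg
  have e2 := rigid_levi hA hn H hαe hαf hid hl hm₀
  have : g = sg hF e u b * ((sg hF e u b)⁻¹ * g) := by group
  rw [this, map_mul, map_mul, e1, e2]

end rigid

end Cfsg.Agent.Lib.Helper5.AutPSU
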