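import Mathlib
import Cfsg.Agent.Lib.Helper5.AutPSURigid

set_option autoImplicit false
set_option linter.unusedSimpArgs false
set_option linter.unusedVariables false
set_option linter.unnecessarySeqFocus false
set_option linter.unusedSectionVars false
set_option linter.style.haveILetI false

/-!
# Rigidity, conclusion
-/

namespace Cfsg.Agent.Lib.Helper5.AutPSU

open Matrix Cfsg.Agent.Lib.Helper99 Cfsg.Agent.Lib.Helper99.SURoot
open scoped Pointwise

variable {F : Type*} [Field F] [Fintype F] {q n : ℕ}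

local notation "hh" => Cfsg.hermForm n F q

section rigid

variable {hF : Fintype.card F = q ^ 2} {e f : Fin n → F} {α : MulAut (Cfsg.PSU n F q)}
  {A : (Fin n → F) → (Fin n → F)}

lemma inv_trace_zero (hF : Fintype.card F = q ^ 2) {b : F} (hb0 : b ≠ 0) (hb : b + b ^ q = 0) :
    b⁻¹ + (b⁻¹) ^ q = 0 := by
  have hbq : b ^ q ≠ 0 := pow_ne_zero _ hb0
  rw [inv_pow]
  field_simp
  linear_combination hb

/-- R7: the root subgroup `Xb f` is fixed pointwise -/
theorem rigid_tv_f (hA : IsLin hF e f α A) (hn : 3 ≤ n) (H : IsHyp n q e f)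
    (hαf : ∀ y, y ∈ Xb n q f ↔ α y ∈ Xb n q f)
    (hid : ∀ u, InW n q e f u → A u = u) {b : F} (hb : b + b ^ q = 0) :
    α (pr (tvElt n hF f b)) = pr (tvElt n hF f b) := by
  by_cases hb0 : b = 0
  · rw [hb0, elt_zero n hF f H.ff, map_one, map_one]
  have htv : ∀ c : F, c + c ^ q = 0 → α (pr (tvElt n hF e c)) = pr (tvElt n hF e c) :=
    fun c hc => rigid_tv hA hn H hid hc
  have hy : pr (tvElt n hF f b) ∈ Xb n q f := (mem_Xb hF H.f_ne H.ff _).2 ⟨b, hb, rfl⟩
  obtain ⟨b', hb', hyb'⟩ := (mem_Xb hF H.f_ne H.ff _).1 ((hαf _).1 hy)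
  -- the two vectors
  have hve : ∀ c : F, c + c ^ q = 0 → mat n (tvElt n hF f c) *ᵥ e = e + c • f := by
    intro c hc
    rw [tvElt_mulVec n hF f H.ff c hc, H.ef, mul_one]
  have hviso : ∀ c : F, c + c ^ q = 0 → hh (e + c • f) (e + c • f) = 0 := by
    intro c hc
    rw [← hve c hc, su_preserves, H.ee]
  have hvf : ∀ c : F, hh (e + c • f) f = 1 := by
    intro c
    rw [hf_add_left, hf_smul_left, H.ef, H.ff, mul_zero, add_zero]
  have hv0 : ∀ c : F, e + c • f ≠ 0 := by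
    intro c h0
    have := hvf c
    rw [h0, hermForm_zero_left] at this
    exact zero_ne_one this
  obtain ⟨y₀, hy₀, hy₀1⟩ := Xb_exists_ne_one hF hn H.e_ne H.ee
  have hαy₀ : α y₀ = y₀ := by
    obtain ⟨c, hc, rfl⟩ := (mem_Xb hF H.e_ne H.ee y₀).1 hy₀
    exact htv c hc
  set Y := pr (tvElt n hF f b) * y₀ * (pr (tvElt n hF f b))⁻¹ with hY
  have hαY1 : α Y ∈ Xb n q (e + b' • f) := by
    rw [hY, map_mul, map_mul, map_inv, hyb', hαy₀, ← hve b' hb']
    exact Xb_conj_mem hF H.e_ne H.ee _ hy₀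
  have hYv : Y ∈ Xb n q (e + b • f) := by
    rw [hY, ← hve b hb]
    exact Xb_conj_mem hF H.e_ne H.ee _ hy₀
  have hbi := inv_trace_zero hF hb0 hb
  have hxf : mat n (tvElt n hF e b⁻¹) *ᵥ f = b⁻¹ • (e + b • f) := by
    rw [tvElt_mulVec n hF e H.ee b⁻¹ hbi, H.fe, mul_one, smul_add, smul_smul,
      inv_mul_cancel₀ hb0, one_smul, add_comm]
  have hXeq : Xb n q (mat n (tvElt n hF e b⁻¹) *ᵥ f) = Xb n q (e + b • f) := by
    rw [hxf, Xb_smul hF (hv0 b) (hviso b hb) (inv_ne_zero hb0)]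
  set x := pr (tvElt n hF e b⁻¹) with hx
  have hαx : α x = x := htv _ hbi
  set Y₁ := x⁻¹ * Y * x with hY₁
  have hYY₁ : Y = x * Y₁ * x⁻¹ := by rw [hY₁]; group
  have hY₁f : Y₁ ∈ Xb n q f := by
    rw [← Xb_conj_iff hF H.f_ne H.ff (tvElt n hF e b⁻¹) Y₁, ← hx, ← hYY₁, hXeq]
    exact hYv
  have hαY2 : α Y ∈ Xb n q (e + b • f) := by
    rw [hYY₁, map_mul, map_mul, map_inv, hαx, ← hXeq]
    exact Xb_conj_mem hF H.f_ne H.ff _ ((hαf _).1 hY₁f)
  have hαYne : α Y ≠ 1 := by
    intro h1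
    have h2 : Y = 1 := by
      apply α.injective
      rw [h1, map_one]
    apply hy₀1
    have h3 : y₀ = (pr (tvElt n hF f b))⁻¹ * Y * pr (tvElt n hF f b) := by rw [hY]; group
    rw [h3, h2]
    group
  obtain ⟨c, hc0, hc⟩ := dir_of_Xb_inter hF hn (hv0 b) (hviso b hb) (hv0 b') (hviso b' hb')
    hαY2 hαY1 hαYne
  have hc1 : c = 1 := by
    have := congrArg (fun z => hh z f) hc
    simp only [hf_smul_left, hvf, mul_one] at this
    exact this.symm
  rw [hc1, one_smul] at hc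
  have hbb' : b = b' := by
    have h1 : (b - b') • f = 0 := by
      rw [sub_smul]
      exact sub_eq_zero.2 (add_left_cancel hc)
    rcases smul_eq_zero.1 h1 with h | h
    · exact sub_eq_zero.1 h
    · exact absurd h H.f_ne
  rw [hyb', ← hbb']

/-- **Rigidity** -/
theorem rigid (hA : IsLin hF e f α A) (hn : 3 ≤ n) (hq : ¬ (n = 3 ∧ q = 2))
    (H : IsHyp n q e f)
    (hαe : ∀ y, y ∈ Xb n q e ↔ α y ∈ Xb n q e) (hαf : ∀ y, y ∈ Xb n q f ↔ α y ∈ Xb n q f)
    (hid : ∀ u, InW n q e f u → A u = u) : α = 1 := by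
  let M : Subgroup ↥(Cfsg.SU n F q) :=
    { carrier := {x | α (pr x) = pr x}
      mul_mem' := fun {x y} hx hy => by
        show α (pr (x * y)) = pr (x * y)
        rw [map_mul, map_mul, hx, hy]
      one_mem' := by
        show α (pr 1) = pr 1
        rw [map_one, map_one]
      inv_mem' := fun {x} hx => by
        show α (pr x⁻¹) = pr x⁻¹
        rw [map_inv, map_inv, hx] }
  have hM : ∀ x, x ∈ M ↔ α (pr x) = pr x := fun x => Iff.rfl
  have hstab : PSUS.stab n e ≤ M := fun g hg => rigid_stab hA hn hq H hαe hαf hid hg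
  obtain ⟨τ, hτ0, hτ⟩ := exists_trace_zero hF
  have h1 : tvElt n hF f τ ∈ M := rigid_tv_f hA hn H hαf hid hτ
  have h2 : tvElt n hF f τ ∉ PSUS.stab n e := by
    intro h
    obtain ⟨l, hl⟩ := (PSUS.mem_stab n e _).1 h
    rw [tvElt_mulVec n hF f H.ff τ hτ, H.ef, mul_one] at hl
    have := congrArg (fun z => hh z e) hl
    simp only [hf_add_left, hf_smul_left, H.ee, H.fe, mul_zero, mul_one, zero_add] at this
    exact hτ0 this
  have hMtop : M = ⊤ := by
    rcases PSUS.stab_max n hF e H.e_ne H.ee M hstab with h | h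
    · rw [h] at h1
      exact absurd h1 h2
    · exact h
  ext y
  obtain ⟨x, rfl⟩ := pr_surjective y
  have : x ∈ M := by rw [hMtop]; trivial
  rw [MulAut.one_apply]
  exact this

end rigid

end Cfsg.Agent.Lib.Helper5.AutPSU
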