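import Mathlib
import Cfsg.Prelude.Def_LieTypeDatum
import Cfsg.Agent.Lib.Helper5.AutPSURigid2

set_option autoImplicit false
set_option linter.unusedSimpArgs false
set_option linter.unusedVariables false
set_option linter.unnecessarySeqFocus false
set_option linter.unusedSectionVars false
set_option linter.style.haveILetI false

/-!
# The automorphisms of `PSU_n(q)`: every automorphism is induced by a semilinear unitary map
-/

namespace Cfsg.Agent.Lib.Helper5.AutPSU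

open Matrix Cfsg.Agent.Lib.Helper99 Cfsg.Agent.Lib.Helper99.SURoot
open scoped Pointwise

variable {F : Type*} [Field F] [Fintype F] {q n : ℕ}

local notation "hh" => Cfsg.hermForm n F q

/-- **Main theorem**: every automorphism of `PSU_n(q)` is the product of an automorphism induced
by `GU_n(q)` and a field automorphism. -/
theorem exists_GamU_PhiU (p : ℕ) [Fact p.Prime] [CharP F p] (hF : Fintype.card F = q ^ 2)
    (hn : 3 ≤ n) (hq : ¬ (n = 3 ∧ q = 2)) (α : MulAut (Cfsg.PSU n F q)) :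
    ∃ (g : ↥(Cfsg.GU n F q)) (σ : F ≃+* F), α = GamU g * PhiU σ := by
  obtain ⟨e, f, H⟩ := exists_isHyp (q := q) (F := F) hF (show 2 ≤ n by omega)
  obtain ⟨g₁, h₁e, h₁f⟩ := exists_normalize p hF hn H α
  set α₁ : MulAut (Cfsg.PSU n F q) := (GamU g₁)⁻¹ * α with hα₁
  have hα₁e : ∀ y, y ∈ Xb n q e ↔ α₁ y ∈ Xb n q e := h₁e
  have hα₁f : ∀ y, y ∈ Xb n q f ↔ α₁ y ∈ Xb n q f := h₁f
  obtain ⟨A₁, hA₁⟩ := exists_isLin p hF hn H α₁ hα₁e
  obtain ⟨φ, hφ⟩ := exists_semilinear p hF hn hq H α₁ hα₁e hα₁f hA₁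
  obtain ⟨κ, hκ0, hκq, hsim⟩ := exists_similitude hF hn H α₁ hA₁ φ hφ
  obtain ⟨g₂, hβ, hβe, hβf⟩ := exists_build hF hn H hA₁.1
    (fun u u' hu hu' => hA₁.add hn H hu hu') φ hφ hκ0 hκq hsim
  set β : MulAut (Cfsg.PSU n F q) := GamU g₂ * PhiU φ with hβdef
  have hβe' : ∀ y, y ∈ Xb n q e ↔ β y ∈ Xb n q e := hβe
  have hβf' : ∀ y, y ∈ Xb n q f ↔ β y ∈ Xb n q f := hβf
  have hβie : ∀ y, y ∈ Xb n q e ↔ β⁻¹ y ∈ Xb n q e := by
    intro y
    rw [hβe' (β⁻¹ y)]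
    simp
  have hβif : ∀ y, y ∈ Xb n q f ↔ β⁻¹ y ∈ Xb n q f := by
    intro y
    rw [hβf' (β⁻¹ y)]
    simp
  obtain ⟨B, hB⟩ := exists_isLin p hF hn H β⁻¹ hβie
  have h1 : IsLin hF e f (β⁻¹ * β) (fun u => B (A₁ u)) := hβ.comp hB
  rw [inv_mul_cancel] at h1
  have hid : ∀ u, InW n q e f u → B (A₁ u) = u :=
    fun u hu => h1.unique (isLin_one hF e f) hn H hu
  have h2 : IsLin hF e f (β⁻¹ * α₁) (fun u => B (A₁ u)) := hA₁.comp hB
  have h2e : ∀ y, y ∈ Xb n q e ↔ (β⁻¹ * α₁) y ∈ Xb n q e := by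
    intro y
    rw [MulAut.mul_apply, ← hβie, ← hα₁e]
  have h2f : ∀ y, y ∈ Xb n q f ↔ (β⁻¹ * α₁) y ∈ Xb n q f := by
    intro y
    rw [MulAut.mul_apply, ← hβif, ← hα₁f]
  have h3 := rigid h2 hn hq H h2e h2f hid
  have h4 : α₁ = β := by
    have := congrArg (fun x => β * x) h3
    simpa using this
  refine ⟨g₁ * g₂, φ, ?_⟩
  rw [map_mul, mul_assoc, ← hβdef, ← h4, hα₁]
  group

/-! ### The predicates of the statements -/

lemma su_ext' {s s' : ↥(Cfsg.SU n F q)}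
    (h : ((s' : Matrix.SpecialLinearGroup (Fin n) F) : Matrix (Fin n) (Fin n) F) =
      ((s : Matrix.SpecialLinearGroup (Fin n) F) : Matrix (Fin n) (Fin n) F)) : s' = s :=
  Subtype.ext (Subtype.ext h)

lemma isInnerDiagonal_GamU (g : ↥(Cfsg.GU n F q)) : Cfsg.IsInnerDiagonalAutPSU (GamU g) := by
  refine ⟨g.1, g.2, ?_⟩
  intro s s' h
  have : s' = conjU g s := su_ext' h
  rw [this]
  rfl

lemma isFieldAut_PhiU (σ : F ≃+* F) :
    Cfsg.IsFieldAutPSUOf σ (PhiU σ : MulAut (Cfsg.PSU n F q)) := by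
  intro s s' h
  have : s' = fieldU σ s := su_ext' h
  rw [this]
  rfl

lemma isInduced_GamU_PhiU (g : ↥(Cfsg.GU n F q)) (σ : F ≃+* F) :
    Cfsg.IsInducedBySemilinearPSU g.1 σ (GamU g * PhiU σ : MulAut (Cfsg.PSU n F q)) := by
  intro s s' h
  have : s' = conjU g (fieldU σ s) := su_ext' h
  rw [this]
  rfl

end Cfsg.Agent.Lib.Helper5.AutPSU
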