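import Mathlib
import Cfsg.Agent.Lib.Helper5.AutPSUMain

set_option autoImplicit false
set_option linter.unusedSimpArgs false
set_option linter.unusedVariables false
set_option linter.unnecessarySeqFocus false
set_option linter.unusedSectionVars false
set_option linter.style.haveILetI false

/-!
# The normal form `GamU g * PhiU σ` of an automorphism of `PSU_n(q)`: multiplication and kernel
-/

namespace Cfsg.Agent.Lib.Helper5.AutPSU

open Matrix Cfsg.Agent.Lib.Helper99 Cfsg.Agent.Lib.Helper99.SURoot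
open scoped Pointwise

variable {F : Type*} [Field F] [Fintype F] {q n : ℕ}

local notation "hh" => Cfsg.hermForm n F q

lemma glmap_val (σ : F ≃+* F) (g : GL (Fin n) F) :
    (Matrix.GeneralLinearGroup.map σ.toRingHom g).1 = g.1.map σ := rfl

/-- the image of an element of `GU` under a field automorphism -/
def mapGU (σ : F ≃+* F) (g : ↥(Cfsg.GU n F q)) : ↥(Cfsg.GU n F q) :=
  ⟨Matrix.GeneralLinearGroup.map σ.toRingHom g.1, by
    intro u v
    obtain ⟨x, rfl⟩ : ∃ x : Fin n → F, u = fun i => σ (x i) :=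
      ⟨fun i => σ.symm (u i), by funext i; simp⟩
    obtain ⟨y, rfl⟩ : ∃ y : Fin n → F, v = fun i => σ (y i) :=
      ⟨fun i => σ.symm (v i), by funext i; simp⟩
    show hh ((g.1.1.map σ) *ᵥ fun i => σ (x i)) ((g.1.1.map σ) *ᵥ fun i => σ (y i)) =
      hh (fun i => σ (x i)) (fun i => σ (y i))
    rw [map_mulVec', map_mulVec', herm_map, herm_map]
    congr 1
    exact g.2 x y⟩

lemma mapGU_val (σ : F ≃+* F) (g : ↥(Cfsg.GU n F q)) :
    (mapGU σ g).1.1 = g.1.1.map σ := rfl

/-- field automorphisms normalize the automorphisms induced by `GU` -/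
lemma PhiU_mul_GamU (σ : F ≃+* F) (g : ↥(Cfsg.GU n F q)) :
    (PhiU σ * GamU g : MulAut (Cfsg.PSU n F q)) = GamU (mapGU σ g) * PhiU σ := by
  ext y
  obtain ⟨z, rfl⟩ := pr_surjective y
  rw [MulAut.mul_apply, MulAut.mul_apply, GamU_pr, PhiU_pr, PhiU_pr, GamU_pr]
  congr 1
  apply Subtype.ext
  apply Subtype.ext
  show (g.1.1 * z.1.1 * (g.1⁻¹).1).map σ =
    (mapGU σ g).1.1 * (z.1.1).map σ * ((mapGU σ g).1⁻¹).1
  have h1 : ((mapGU σ g).1⁻¹).1 = ((g.1⁻¹).1).map σ := by
    show ((Matrix.GeneralLinearGroup.map σ.toRingHom g.1)⁻¹).1 = _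
    rw [← map_inv]
    rfl
  rw [h1, mapGU_val]
  show σ.toRingHom.mapMatrix (g.1.1 * z.1.1 * (g.1⁻¹).1) =
    σ.toRingHom.mapMatrix g.1.1 * σ.toRingHom.mapMatrix z.1.1 * σ.toRingHom.mapMatrix (g.1⁻¹).1
  rw [map_mul, map_mul]

/-- multiplication of normal forms -/
theorem nf_mulU (g g' : ↥(Cfsg.GU n F q)) (σ σ' : F ≃+* F) :
    (GamU g * PhiU σ * (GamU g' * PhiU σ') : MulAut (Cfsg.PSU n F q)) =
      GamU (g * mapGU σ g') * PhiU (σ * σ') := by
  calc (GamU g * PhiU σ * (GamU g' * PhiU σ') : MulAut (Cfsg.PSU n F q))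
      = GamU g * (PhiU σ * GamU g') * PhiU σ' := by simp only [mul_assoc]
    _ = GamU g * (GamU (mapGU σ g') * PhiU σ) * PhiU σ' := by rw [PhiU_mul_GamU]
    _ = _ := by rw [map_mul, map_mul]; simp only [mul_assoc]

/-- **The kernel of the normal form** -/
theorem scalar_of_nf_eq_one (hF : Fintype.card F = q ^ 2) (hn : 3 ≤ n) {g : ↥(Cfsg.GU n F q)}
    {σ : F ≃+* F} (h : (GamU g * PhiU σ : MulAut (Cfsg.PSU n F q)) = 1) :
    σ = 1 ∧ ∃ a : F, ∀ x : Fin n → F, g.1.1 *ᵥ x = a • x := by
  -- the semilinear map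
  set T : (Fin n → F) → (Fin n → F) := fun x => g.1.1 *ᵥ (fun i => σ (x i)) with hT
  have Tadd : ∀ x y, T (x + y) = T x + T y := by
    intro x y
    simp only [hT]
    rw [← Matrix.mulVec_add]
    congr 1
    funext i
    simp
  have Tsmul : ∀ (c : F) x, T (c • x) = σ c • T x := by
    intro c x
    simp only [hT]
    rw [← Matrix.mulVec_smul]
    congr 1
    funext i
    simp
  have Therm : ∀ x y, hh (T x) (T y) = σ (hh x y) := by
    intro x y
    simp only [hT]
    rw [GU_preserves g.2, herm_map]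
  -- isotropic lines are fixed
  have iso : ∀ v : Fin n → F, v ≠ 0 → hh v v = 0 → ∃ k : F, T v = k • v := by
    intro v hv0 hv
    have hσv0 : (fun i => σ (v i)) ≠ 0 := by
      intro h0
      apply hv0
      funext i
      have := congrFun h0 i
      simpa using this
    have hσv : hh (fun i => σ (v i)) (fun i => σ (v i)) = 0 := by rw [herm_map, hv, map_zero]
    have hTv0 : T v ≠ 0 := by
      intro h0
      apply hσv0
      have := congrArg (fun x => (g.1⁻¹).1 *ᵥ x) h0
      simpa [hT, gl_inv_mulVec_mulVec] using this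
    have hTv : hh (T v) (T v) = 0 := by rw [Therm, hv, map_zero]
    obtain ⟨y, hy, hy1⟩ := Xb_exists_ne_one hF hn hv0 hv
    have h1 : GamU g (PhiU σ y) ∈ Xb n q (T v) :=
      (GamU_Xb hF g hσv0 hσv _).1 ((PhiU_Xb hF σ hv0 hv y).1 hy)
    have h2 : GamU g (PhiU σ y) = y := by
      rw [← MulAut.mul_apply, h]
      rfl
    rw [h2] at h1
    obtain ⟨c, -, hc⟩ := dir_of_Xb_inter hF hn hTv0 hTv hv0 hv h1 hy hy1
    exact ⟨c, hc⟩
  -- the complement of a hyperbolic pair
  have key : ∀ e f : Fin n → F, IsHyp n q e f → ∀ b : F, T f = b • f →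
      ∀ w, InW n q e f w → T w = b • w := by
    intro e f H b hb w hw
    obtain ⟨a, ha⟩ := iso e H.e_ne H.ee
    obtain ⟨b₀, hb₀⟩ := exists_sgC hF H.ee hw.1
    have hv : mat n (sg hF e w b₀) *ᵥ f = f + w + b₀ • e := sg_f hF H hb₀ hw.2
    have hviso : hh (f + w + b₀ • e) (f + w + b₀ • e) = 0 := by
      rw [← hv, su_preserves, H.ff]
    have hve : hh (f + w + b₀ • e) e = 1 := by
      rw [hf_add_left, hf_add_left, hf_smul_left, H.fe, hw.1, H.ee]
      ring
    have hv0 : f + w + b₀ • e ≠ 0 := by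
      intro h0
      rw [h0, hermForm_zero_left] at hve
      exact zero_ne_one hve
    obtain ⟨k, hk⟩ := iso _ hv0 hviso
    rw [Tadd, Tadd, Tsmul, hb, ha] at hk
    -- `T w` lies in the complement
    have ha0 : a ≠ 0 := by
      rintro rfl
      have := Therm e f
      rw [ha, zero_smul, hermForm_zero_left, H.ef, map_one] at this
      exact zero_ne_one this
    have hb0 : b ≠ 0 := by
      rintro rfl
      have := Therm f e
      rw [hb, zero_smul, hermForm_zero_left, H.fe, map_one] at this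
      exact zero_ne_one this
    have hTwe : hh (T w) e = 0 := by
      have := Therm w e
      rw [ha, hf_smul_right, hw.1, map_zero] at this
      rcases mul_eq_zero.1 this with h' | h'
      · exact absurd h' (pow_ne_zero _ ha0)
      · exact h'
    have hTwf : hh (T w) f = 0 := by
      have := Therm w f
      rw [hb, hf_smul_right, hw.2, map_zero] at this
      rcases mul_eq_zero.1 this with h' | h'
      · exact absurd h' (pow_ne_zero _ hb0)
      · exact h'
    have hkb : k = b := by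
      have := congrArg (fun z => hh z e) hk
      simp only [hf_add_left, hf_smul_left, H.fe, H.ee, hTwe, hw.1, mul_zero, add_zero, mul_one]
        at this
      exact this.symm
    rw [hkb] at hk
    have h3 : T w = b • w + (b * b₀ - σ b₀ * a) • e := by
      have : T w = (b • f + T w + σ b₀ • a • e) - b • f - σ b₀ • a • e := by abel
      rw [this, hk]
      module
    have h4 : b * b₀ - σ b₀ * a = 0 := by
      have := congrArg (fun z => hh z f) h3
      simp only [hf_add_left, hf_smul_left, H.ef, hTwf, hw.2, mul_zero, zero_add, mul_one]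
        at this
      exact this.symm
    rw [h3, h4, zero_smul, add_zero]
  obtain ⟨e, f, H⟩ := exists_isHyp (q := q) (F := F) hF (show 2 ≤ n by omega)
  obtain ⟨a, ha⟩ := iso e H.e_ne H.ee
  obtain ⟨b, hb⟩ := iso f H.f_ne H.ff
  obtain ⟨a₀, ha₀W, ha₀⟩ := exists_unit_W hF hn H
  have ha₀0 : a₀ ≠ 0 := by
    rintro rfl
    rw [hermForm_zero_left] at ha₀
    exact zero_ne_one ha₀
  have k1 := key e f H b hb
  have k2 := key f e H.symm a ha
  have hab : a = b := by
    have h1 := k1 a₀ ha₀W
    have h2 := k2 a₀ ha₀W.symm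
    rw [h1] at h2
    exact (smul_left_injective F ha₀0 h2).symm
  have hb0 : b ≠ 0 := by
    rintro rfl
    have := Therm f e
    rw [hb, zero_smul, hermForm_zero_left, H.fe, map_one] at this
    exact zero_ne_one this
  have hσ : σ = 1 := by
    ext c
    have h1 := k1 (c • a₀) (ha₀W.smul c)
    rw [Tsmul, k1 a₀ ha₀W, smul_smul, smul_smul] at h1
    have h2 := smul_left_injective F ha₀0 h1
    have h3 : σ c * b = c * b := by rw [h2, mul_comm]
    exact mul_right_cancel₀ hb0 h3
  refine ⟨hσ, b, ?_⟩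
  have hTx : ∀ x, T x = g.1.1 *ᵥ x := by
    intro x
    simp only [hT, hσ]
    rfl
  have := mulVec_ext_hyp (q := q) H (A := g.1.1) (B := b • (1 : Matrix (Fin n) (Fin n) F)) ?_ ?_ ?_
  · intro x
    rw [this x, Matrix.smul_mulVec, Matrix.one_mulVec]
  · rw [← hTx, ha, hab, Matrix.smul_mulVec, Matrix.one_mulVec]
  · rw [← hTx, hb, Matrix.smul_mulVec, Matrix.one_mulVec]
  · intro u hu
    rw [← hTx, k1 u hu, Matrix.smul_mulVec, Matrix.one_mulVec]

end Cfsg.Agent.Lib.Helper5.AutPSU
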