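import Mathlib
import Cfsg.Agent.Lib.Helper5.AutPSUKer
import Cfsg.Agent.Lib.Helper5.AutPSL2Out
import Cfsg.Agent.Lib.Helper5.SUCard
import Cfsg.Agent.Lib.Helper13.GU

set_option autoImplicit false
set_option linter.unusedSimpArgs false
set_option linter.unusedVariables false
set_option linter.unnecessarySeqFocus false
set_option linter.unusedSectionVars false
set_option linter.style.haveILetI false

/-!
# The order of `Aut(PSU_n(q))` and the structure of `Out(PSU_n(q))`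
-/

namespace Cfsg.Agent.Lib.Helper5.AutPSU

open Matrix Cfsg.Agent.Lib.Helper99 Cfsg.Agent.Lib.Helper99.SURoot
open scoped Pointwise

variable {F : Type*} [Field F] [Fintype F] {q n : ℕ}

local notation "hh" => Cfsg.hermForm n F q

/-- uniqueness of the field automorphism in the normal form -/
theorem nf_uniqueU (hF : Fintype.card F = q ^ 2) (hn : 3 ≤ n) {g g' : ↥(Cfsg.GU n F q)}
    {σ σ' : F ≃+* F}
    (e : (GamU g * PhiU σ : MulAut (Cfsg.PSU n F q)) = GamU g' * PhiU σ') : σ = σ' := by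
  have h1 : (GamU (g'⁻¹ * g) * PhiU (σ * σ'⁻¹) : MulAut (Cfsg.PSU n F q)) = 1 := by
    have : (GamU (g'⁻¹ * g) * PhiU (σ * σ'⁻¹) : MulAut (Cfsg.PSU n F q)) =
        (GamU g')⁻¹ * (GamU g * PhiU σ) * (PhiU σ')⁻¹ := by
      rw [map_mul, map_mul, map_inv, map_inv]
      group
    rw [this, e]
    group
  have h2 := (scalar_of_nf_eq_one hF hn h1).1
  exact mul_inv_eq_one.1 h2

/-- automorphisms induced by scalar matrices are trivial -/
lemma GamU_eq_one_iff (hF : Fintype.card F = q ^ 2) (hn : 3 ≤ n) (g : ↥(Cfsg.GU n F q)) :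
    (GamU g : MulAut (Cfsg.PSU n F q)) = 1 ↔ ∃ a : F, ∀ x : Fin n → F, g.1.1 *ᵥ x = a • x := by
  constructor
  · intro h
    have h1 : (GamU g * PhiU (1 : F ≃+* F) : MulAut (Cfsg.PSU n F q)) = 1 := by
      rw [map_one, mul_one, h]
    exact (scalar_of_nf_eq_one hF hn h1).2
  · rintro ⟨a, ha⟩
    ext y
    obtain ⟨x, rfl⟩ := pr_surjective y
    rw [GamU_pr, MulAut.one_apply]
    congr 1
    apply su_ext
    intro v
    rw [conjU_mulVec, ha, ← Matrix.mulVec_smul, ← ha, gl_mulVec_inv_mulVec]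

/-- the homomorphism `Aut(PSU_n(q)) → Aut(F)` -/
theorem exists_thetaU (p : ℕ) [Fact p.Prime] [CharP F p] (hF : Fintype.card F = q ^ 2)
    (hn : 3 ≤ n) (hq : ¬ (n = 3 ∧ q = 2)) :
    ∃ θ : MulAut (Cfsg.PSU n F q) →* (F ≃+* F),
      Function.Surjective θ ∧
      θ.ker = (GamU : ↥(Cfsg.GU n F q) →* MulAut (Cfsg.PSU n F q)).range := by
  have ex : ∀ α : MulAut (Cfsg.PSU n F q),
      ∃ (σ : F ≃+* F) (g : ↥(Cfsg.GU n F q)), α = GamU g * PhiU σ := by
    intro α
    obtain ⟨g, σ, e⟩ := exists_GamU_PhiU p hF hn hq α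
    exact ⟨σ, g, e⟩
  choose fσ fg hf using ex
  have char : ∀ (α : MulAut (Cfsg.PSU n F q)) (g : ↥(Cfsg.GU n F q)) (σ : F ≃+* F),
      α = GamU g * PhiU σ → fσ α = σ := by
    intro α g σ h
    exact nf_uniqueU hF hn ((hf α).symm.trans h)
  let θ : MulAut (Cfsg.PSU n F q) →* (F ≃+* F) :=
    { toFun := fσ
      map_one' := char 1 1 1 (by simp)
      map_mul' := fun α β => by
        have := nf_mulU (fg α) (fg β) (fσ α) (fσ β)
        rw [← hf α, ← hf β] at this
        exact char _ _ _ this }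
  have θ_apply : ∀ α, θ α = fσ α := fun α => rfl
  refine ⟨θ, ?_, ?_⟩
  · intro σ
    exact ⟨PhiU σ, char (PhiU σ) 1 σ (by simp)⟩
  · ext α
    rw [MonoidHom.mem_ker, θ_apply]
    constructor
    · intro h
      have := hf α
      rw [h, map_one, mul_one] at this
      exact ⟨fg α, this.symm⟩
    · rintro ⟨g, rfl⟩
      exact char (GamU g) g 1 (by simp)

instance instFiniteGU : Finite ↥(Cfsg.GU n F q) := by
  classical
  haveI : Finite (GL (Fin n) F) := Finite.of_fintype _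
  exact Subtype.finite

/-- the number of scalar matrices in `GU_n(q)` -/
theorem card_GamU_ker (hF : Fintype.card F = q ^ 2) (hn : 3 ≤ n) :
    Nat.card (GamU : ↥(Cfsg.GU n F q) →* MulAut (Cfsg.PSU n F q)).ker = q + 1 := by
  rw [← Helper13.card_normOne hF]
  symm
  have hd : ∀ μ : ↥(Helper13.normOne F q), ∀ i : Fin n, (fun _ : Fin n => ((μ.1 : Fˣ) : F)) i ^ (q + 1) = 1 := by
    intro μ i
    have := (Helper13.mem_normOne q μ.1).1 μ.2
    have h2 := congrArg Units.val this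
    simpa using h2
  have hscal : ∀ μ : ↥(Helper13.normOne F q), ∀ x : Fin n → F,
      (Helper13.diagGU n q (fun _ : Fin n => ((μ.1 : Fˣ) : F)) (hd μ)).1.1 *ᵥ x =
        ((μ.1 : Fˣ) : F) • x := by
    intro μ x
    rw [Helper13.diagGU_val]
    funext i
    rw [Matrix.mulVec_diagonal, Pi.smul_apply, smul_eq_mul]
  let fn : ↥(Helper13.normOne F q) →
      (GamU : ↥(Cfsg.GU n F q) →* MulAut (Cfsg.PSU n F q)).ker := fun μ =>
    ⟨Helper13.diagGU n q (fun _ : Fin n => ((μ.1 : Fˣ) : F)) (hd μ),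
      (GamU_eq_one_iff hF hn _).2 ⟨_, hscal μ⟩⟩
  apply Nat.card_congr (Equiv.ofBijective fn ⟨?_, ?_⟩)
  · intro μ μ' h
    have h1 := congrArg (fun z => (z.1.1.1 : Matrix (Fin n) (Fin n) F) ⟨0, by omega⟩ ⟨0, by omega⟩) h
    simp only [fn, Helper13.diagGU_val, Matrix.diagonal_apply_eq] at h1
    exact Subtype.ext (Units.ext h1)
  · rintro ⟨g, hg⟩
    obtain ⟨a, ha⟩ := (GamU_eq_one_iff hF hn g).1 hg
    have hq0 : q ≠ 0 := q_ne_zero hF
    have hnorm : a * a ^ q = 1 := by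
      have h1 := GU_preserves g.2 (Pi.single ⟨0, by omega⟩ 1) (Pi.single ⟨0, by omega⟩ 1)
      rw [ha, hf_smul_left, hf_smul_right, Helper13.hermForm_single_single n q hq0, if_pos rfl,
        mul_one] at h1
      exact h1
    have ha0 : a ≠ 0 := by
      rintro rfl
      rw [zero_mul] at hnorm
      exact zero_ne_one hnorm
    have hmem : Units.mk0 a ha0 ∈ Helper13.normOne F q := by
      rw [Helper13.mem_normOne]
      apply Units.ext
      rw [Units.val_pow_eq_pow_val, Units.val_mk0, Units.val_one, pow_succ, mul_comm]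
      exact hnorm
    refine ⟨⟨Units.mk0 a ha0, hmem⟩, ?_⟩
    apply Subtype.ext
    apply GU_ext
    have h3 : (Helper13.diagGU n q
        (fun _ : Fin n => (((⟨Units.mk0 a ha0, hmem⟩ : ↥(Helper13.normOne F q)).1 : Fˣ) : F))
        (hd _)).1.1 = Matrix.diagonal (fun _ => a) := by
      rw [Helper13.diagGU_val]
      rfl
    show (Helper13.diagGU n q _ (hd ⟨Units.mk0 a ha0, hmem⟩)).1.1 = g.1.1
    rw [h3]
    ext i j
    have h2 := congrFun (ha (Pi.single j 1)) i
    rw [Matrix.mulVec_single_one] at h2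
    rw [Matrix.diagonal_apply]
    simp only [Matrix.col_apply, Pi.smul_apply, Pi.single_apply, smul_eq_mul] at h2
    rw [h2]
    by_cases hij : i = j
    · simp [hij]
    · simp [hij]

/-- the group of automorphisms induced by `GU_n(q)` has order `|SU_n(q)|` -/
theorem card_GamU_range (hF : Fintype.card F = q ^ 2) (hn : 3 ≤ n) :
    Nat.card (GamU : ↥(Cfsg.GU n F q) →* MulAut (Cfsg.PSU n F q)).range =
      Nat.card ↥(Cfsg.SU n F q) := by
  have h1 := Subgroup.card_eq_card_quotient_mul_card_subgroup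
    (GamU : ↥(Cfsg.GU n F q) →* MulAut (Cfsg.PSU n F q)).ker
  rw [Nat.card_congr (QuotientGroup.quotientKerEquivRange
      (GamU : ↥(Cfsg.GU n F q) →* MulAut (Cfsg.PSU n F q))).toEquiv,
    card_GamU_ker hF hn, ← Cfsg.Agent.Lib.Helper5.card_SU hF n (by omega)] at h1
  have h2 : Nat.card ↥(Cfsg.SU n F q) * (q + 1) =
      Nat.card (GamU : ↥(Cfsg.GU n F q) →* MulAut (Cfsg.PSU n F q)).range * (q + 1) := by
    rw [← h1, mul_comm]
  exact (Nat.eq_of_mul_eq_mul_right (by omega) h2).symm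

/-- `|Inn(PSU_n(q))| = |PSU_n(q)|` -/
theorem card_InnU (hF : Fintype.card F = q ^ 2) (hn : 3 ≤ n) :
    Nat.card (Cfsg.Inn (Cfsg.PSU n F q)) = Nat.card (Cfsg.PSU n F q) := by
  have hinj : Function.Injective (MulAut.conj : Cfsg.PSU n F q →* _) := by
    rw [injective_iff_map_eq_one]
    intro a ha
    obtain ⟨x, rfl⟩ := pr_surjective a
    rw [conj_pr] at ha
    obtain ⟨c, hc⟩ := (GamU_eq_one_iff hF hn _).1 ha
    exact pr_eq_one_iff.2 (mem_center_of_scalar (ν := c) hc)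
  exact (Nat.card_congr (MonoidHom.ofInjective hinj).toEquiv).symm

/-- the order of `Aut(PSU_n(q))` -/
theorem card_autU (p : ℕ) [Fact p.Prime] [CharP F p] {f : ℕ} (hF : Fintype.card F = q ^ 2)
    (hFp : Fintype.card F = p ^ (2 * f)) (hn : 3 ≤ n) (hq : ¬ (n = 3 ∧ q = 2)) :
    Nat.card (MulAut (Cfsg.PSU n F q)) = 2 * f * Nat.card ↥(Cfsg.SU n F q) := by
  obtain ⟨θ, θ_surj, θ_ker⟩ := exists_thetaU (F := F) p hF hn hq
  rw [Subgroup.card_eq_card_quotient_mul_card_subgroup θ.ker,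
    Nat.card_congr (QuotientGroup.quotientKerEquivOfSurjective θ θ_surj).toEquiv, θ_ker,
    card_GamU_range hF hn, AutPSL2.card_ringAut p hFp]

/-- The outer automorphism group of `PSU_n(q)`, `n ≥ 3`, `q = p ^ f`, maps onto `Z/2f` with
cyclic kernel of order `gcd(n, q + 1)`. -/
theorem out_PSU {p f : ℕ} [Fact p.Prime] (hf : 1 ≤ f) (hqp : q = p ^ f)
    (hF : Fintype.card F = q ^ 2) (hn : 3 ≤ n) (hq : ¬ (n = 3 ∧ q = 2)) :
    ∃ φ : Cfsg.Out (Cfsg.PSU n F q) →* Multiplicative (ZMod (2 * f)),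
      Function.Surjective φ ∧ IsCyclic φ.ker ∧ Nat.card φ.ker = Nat.gcd n (q + 1) := by
  have hFp : Fintype.card F = p ^ (2 * f) := by rw [hF, hqp, ← pow_mul, mul_comm]
  haveI : CharP F p := charP_of_card_eq_prime_pow hFp
  haveI : NeZero (2 * f) := ⟨by omega⟩
  obtain ⟨θ, θ_surj, θ_ker⟩ := exists_thetaU (F := F) p hF hn hq
  have hInn : Cfsg.Inn (Cfsg.PSU n F q) ≤ θ.ker := by
    rw [θ_ker]
    rintro _ ⟨y, rfl⟩
    obtain ⟨x, rfl⟩ := pr_surjective y
    exact ⟨_, (conj_pr x).symm⟩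
  let φ0 : Cfsg.Out (Cfsg.PSU n F q) →* (F ≃+* F) := QuotientGroup.lift _ θ hInn
  have φ0_mk : ∀ α, φ0 (QuotientGroup.mk α) = θ α := fun α => rfl
  have φ0_surj : Function.Surjective φ0 := by
    intro σ
    obtain ⟨α, hα⟩ := θ_surj σ
    exact ⟨QuotientGroup.mk α, hα⟩
  haveI : IsCyclic (F ≃+* F) := AutPSL2.isCyclic_ringAut p
  have hcard : Nat.card (F ≃+* F) = Nat.card (Multiplicative (ZMod (2 * f))) := by
    rw [AutPSL2.card_ringAut p hFp, Nat.card_eq_fintype_card, Fintype.card_multiplicative,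
      ZMod.card]
  let e : (F ≃+* F) ≃* Multiplicative (ZMod (2 * f)) := mulEquivOfCyclicCardEq hcard
  let φ : Cfsg.Out (Cfsg.PSU n F q) →* Multiplicative (ZMod (2 * f)) := e.toMonoidHom.comp φ0
  have φ_apply : ∀ x, φ x = e (φ0 x) := fun x => rfl
  have φ_surj : Function.Surjective φ := e.surjective.comp φ0_surj
  -- counting
  haveI : Finite (MulAut (Cfsg.PSU n F q)) :=
    Finite.of_injective (fun α : MulAut (Cfsg.PSU n F q) =>
      (α : Cfsg.PSU n F q → Cfsg.PSU n F q))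
      (fun a b h => MulEquiv.ext (congrFun h))
  have c1 := card_autU (F := F) p hF hFp hn hq
  have c2 : Nat.card (MulAut (Cfsg.PSU n F q)) =
      Nat.card (Cfsg.Out (Cfsg.PSU n F q)) * Nat.card (Cfsg.PSU n F q) := by
    rw [Subgroup.card_eq_card_quotient_mul_card_subgroup (Cfsg.Inn (Cfsg.PSU n F q)),
      card_InnU hF hn]
  have c3 : Nat.card (Cfsg.Out (Cfsg.PSU n F q)) = (2 * f) * Nat.card φ.ker := by
    rw [Subgroup.card_eq_card_quotient_mul_card_subgroup φ.ker,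
      Nat.card_congr (QuotientGroup.quotientKerEquivOfSurjective φ φ_surj).toEquiv,
      Nat.card_eq_fintype_card, Fintype.card_multiplicative, ZMod.card]
  have c4 : Nat.card ↥(Cfsg.SU n F q) =
      Nat.card (Cfsg.PSU n F q) * Nat.card (Subgroup.center ↥(Cfsg.SU n F q)) :=
    Subgroup.card_eq_card_quotient_mul_card_subgroup _
  have hGpos : 0 < Nat.card (Cfsg.PSU n F q) := Nat.card_pos
  have c5 : Nat.card φ.ker = Nat.card (Subgroup.center ↥(Cfsg.SU n F q)) := by
    have h1 : (2 * f) * Nat.card (Cfsg.PSU n F q) * Nat.card φ.ker =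
        (2 * f) * Nat.card (Cfsg.PSU n F q) *
          Nat.card (Subgroup.center ↥(Cfsg.SU n F q)) := by
      calc (2 * f) * Nat.card (Cfsg.PSU n F q) * Nat.card φ.ker
          = ((2 * f) * Nat.card φ.ker) * Nat.card (Cfsg.PSU n F q) := by ring
        _ = Nat.card (MulAut (Cfsg.PSU n F q)) := by rw [← c3, ← c2]
        _ = 2 * f * (Nat.card (Cfsg.PSU n F q) *
              Nat.card (Subgroup.center ↥(Cfsg.SU n F q))) := by rw [c1, c4]
        _ = _ := by ring
    exact Nat.eq_of_mul_eq_mul_left (Nat.mul_pos (by omega) hGpos) h1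
  have c6 : Nat.card φ.ker = Nat.gcd n (q + 1) := by
    rw [c5, Cfsg.Agent.S0279.result hF n hn]
  refine ⟨φ, φ_surj, ?_, c6⟩
  -- the kernel is cyclic: it is a quotient of `GU / SU`
  let ψ0 : ↥(Cfsg.GU n F q) →* Cfsg.Out (Cfsg.PSU n F q) :=
    (QuotientGroup.mk' (Cfsg.Inn (Cfsg.PSU n F q))).comp GamU
  have ψ0_apply : ∀ g, ψ0 g = QuotientGroup.mk (GamU g) := fun g => rfl
  have hψker : ∀ g, ψ0 g ∈ φ.ker := by
    intro g
    rw [MonoidHom.mem_ker, φ_apply, ψ0_apply, φ0_mk]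
    have : GamU g ∈ θ.ker := by
      rw [θ_ker]; exact ⟨_, rfl⟩
    rw [MonoidHom.mem_ker.1 this, map_one]
  let ψ : ↥(Cfsg.GU n F q) →* φ.ker := ψ0.codRestrict φ.ker hψker
  have ψ_surj : Function.Surjective ψ := by
    rintro ⟨x, hx⟩
    obtain ⟨α, rfl⟩ := QuotientGroup.mk_surjective x
    rw [MonoidHom.mem_ker, φ_apply, φ0_mk] at hx
    have h1 : θ α = 1 := by
      have := congrArg e.symm hx
      simpa using this
    have h2 : α ∈ θ.ker := h1
    rw [θ_ker] at h2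
    obtain ⟨g, rfl⟩ := h2
    exact ⟨g, Subtype.ext rfl⟩
  have hdet : (Cfsg.Agent.Lib.Helper5.detGU n F q).ker ≤ ψ.ker := by
    intro g hg
    rw [MonoidHom.mem_ker] at hg ⊢
    have hdet1 : g.1.1.det = 1 := by
      have := congrArg Units.val hg
      rw [Cfsg.Agent.Lib.Helper5.detGU_val] at this
      simpa using this
    let x : ↥(Cfsg.SU n F q) := ⟨⟨g.1.1, hdet1⟩, fun u v => g.2 u v⟩
    have hx : toGU x = g := by
      apply Subtype.ext
      apply Units.ext
      rfl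
    apply Subtype.ext
    show ψ0 g = 1
    rw [ψ0_apply, ← hx, ← conj_pr]
    exact (QuotientGroup.eq_one_iff _).2 ⟨_, rfl⟩
  let ψ' : ↥(Cfsg.GU n F q) ⧸ (Cfsg.Agent.Lib.Helper5.detGU n F q).ker →* φ.ker :=
    QuotientGroup.lift _ ψ hdet
  have ψ'_surj : Function.Surjective ψ' := by
    intro y
    obtain ⟨g, hg⟩ := ψ_surj y
    exact ⟨QuotientGroup.mk g, hg⟩
  haveI : IsCyclic ↥(Cfsg.Agent.Lib.Helper5.detGU n F q).range := Subgroup.isCyclic _
  haveI : IsCyclic (↥(Cfsg.GU n F q) ⧸ (Cfsg.Agent.Lib.Helper5.detGU n F q).ker) :=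
    isCyclic_of_surjective
      (QuotientGroup.quotientKerEquivRange (Cfsg.Agent.Lib.Helper5.detGU n F q)).symm.toMonoidHom
      (QuotientGroup.quotientKerEquivRange (Cfsg.Agent.Lib.Helper5.detGU n F q)).symm.surjective
  exact isCyclic_of_surjective ψ' ψ'_surj

end Cfsg.Agent.Lib.Helper5.AutPSU
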