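import Mathlib
import Cfsg.Agent.Lib.Helper5.SympCard

set_option autoImplicit false
set_option linter.unusedSimpArgs false
set_option linter.unusedVariables false
set_option linter.unnecessarySeqFocus false
set_option linter.unusedSectionVars false

namespace Cfsg.Agent.Lib.Helper5.Sp4

open Matrix

abbrev K := ZMod 2
abbrev V6 := Fin 6 → K
abbrev W4 := Fin 2 ⊕ Fin 2 → K

/-- the symplectic basis of the even-weight vectors modulo the all-ones vector -/
def bvec : Fin 2 ⊕ Fin 2 → V6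
  | Sum.inl 0 => ![1, 1, 0, 0, 0, 0]
  | Sum.inl 1 => ![0, 0, 0, 1, 1, 0]
  | Sum.inr 0 => ![0, 1, 1, 0, 0, 0]
  | Sum.inr 1 => ![0, 0, 0, 0, 1, 1]

/-- the dual basis -/
def dvec (a : Fin 2 ⊕ Fin 2) : V6 := bvec a.swap

/-- the permutation action on vectors -/
def act (σ : Equiv.Perm (Fin 6)) (v : V6) : V6 := fun i => v (σ.symm i)

def phi (w : W4) : V6 := ∑ a, w a • bvec a

def psi (v : V6) : W4 := fun a => v ⬝ᵥ dvec a

lemma K1 : ∀ a b : Fin 2 ⊕ Fin 2, bvec b ⬝ᵥ dvec a = if b = a then 1 else 0 := by decide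

lemma K3 : ∀ v : V6, ∑ i, v i = 0 → phi (psi v) = v + (v 0 + v 1 + v 2) • (1 : V6) := by decide

lemma K4 : psi 1 = 0 := by decide

lemma K5 : ∀ a, ∑ i, bvec a i = 0 := by decide

lemma K7 : ∀ w w' : W4, sympForm w w' = phi w ⬝ᵥ phi w' := by decide

lemma K8 : (1 : V6) ⬝ᵥ (1 : V6) = 0 := by decide



lemma act_mul (σ τ : Equiv.Perm (Fin 6)) (v : V6) : act (σ * τ) v = act σ (act τ v) := by
  funext i
  simp [act, Equiv.Perm.mul_def, Equiv.symm_trans_apply]

lemma act_one (v : V6) : act 1 v = v := rfl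

lemma act_add (σ : Equiv.Perm (Fin 6)) (u v : V6) : act σ (u + v) = act σ u + act σ v := rfl

lemma act_smul (σ : Equiv.Perm (Fin 6)) (c : K) (v : V6) : act σ (c • v) = c • act σ v := rfl

lemma act_const_one (σ : Equiv.Perm (Fin 6)) : act σ (1 : V6) = 1 := rfl

lemma act_sum (σ : Equiv.Perm (Fin 6)) {ι : Type*} (s : Finset ι) (f : ι → V6) :
    act σ (∑ a ∈ s, f a) = ∑ a ∈ s, act σ (f a) := by
  funext i
  simp [act, Finset.sum_apply]

lemma sum_act (σ : Equiv.Perm (Fin 6)) (v : V6) : ∑ i, act σ v i = ∑ i, v i :=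
  Equiv.sum_comp σ.symm v

lemma act_dot (σ : Equiv.Perm (Fin 6)) (u v : V6) : act σ u ⬝ᵥ act σ v = u ⬝ᵥ v :=
  Equiv.sum_comp σ.symm (fun i => u i * v i)

lemma sum_phi (w : W4) : ∑ i, phi w i = 0 := by
  unfold phi
  simp only [Finset.sum_apply, Pi.smul_apply, smul_eq_mul]
  rw [Finset.sum_comm]
  apply Finset.sum_eq_zero
  intro a _
  rw [← Finset.mul_sum, K5, mul_zero]

lemma psi_add (u v : V6) : psi (u + v) = psi u + psi v := by
  funext a
  simp [psi, add_dotProduct]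

lemma psi_smul (c : K) (v : V6) : psi (c • v) = c • psi v := by
  funext a
  simp [psi, smul_dotProduct]

lemma psi_phi (w : W4) : psi (phi w) = w := by
  funext a
  unfold psi phi
  rw [sum_dotProduct]
  simp only [smul_dotProduct, K1, smul_eq_mul, mul_ite, mul_one, mul_zero]
  simp

lemma dot_one (v : V6) : v ⬝ᵥ (1 : V6) = ∑ i, v i := by
  simp [dotProduct]

lemma one_dot (v : V6) : (1 : V6) ⬝ᵥ v = ∑ i, v i := by
  simp [dotProduct]

/-- the matrix of a permutation -/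
def Lmat (σ : Equiv.Perm (Fin 6)) : Matrix (Fin 2 ⊕ Fin 2) (Fin 2 ⊕ Fin 2) K :=
  Matrix.of fun a b => act σ (bvec b) ⬝ᵥ dvec a

lemma Lmat_mulVec (σ : Equiv.Perm (Fin 6)) (w : W4) : Lmat σ *ᵥ w = psi (act σ (phi w)) := by
  funext a
  unfold psi phi
  rw [act_sum, sum_dotProduct]
  simp only [Matrix.mulVec, dotProduct, Lmat, Matrix.of_apply, act_smul, smul_dotProduct,
    smul_eq_mul]
  apply Finset.sum_congr rfl
  intro b _
  rw [Finset.sum_mul]
  apply Finset.sum_congr rfl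
  intro x _
  simp only [Pi.smul_apply, smul_eq_mul]
  ring

lemma phi_Lmat (σ : Equiv.Perm (Fin 6)) (w : W4) :
    ∃ s : K, phi (Lmat σ *ᵥ w) = act σ (phi w) + s • (1 : V6) := by
  rw [Lmat_mulVec]
  exact ⟨_, K3 _ (by rw [sum_act, sum_phi])⟩

lemma Lmat_mul (σ τ : Equiv.Perm (Fin 6)) : Lmat (σ * τ) = Lmat σ * Lmat τ := by
  apply Matrix.mulVec_injective
  funext w
  rw [← Matrix.mulVec_mulVec]
  obtain ⟨s, hs⟩ := phi_Lmat τ w
  rw [Lmat_mulVec σ, hs, act_add, act_smul, act_const_one, psi_add, psi_smul, K4, smul_zero,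
    add_zero, Lmat_mulVec, act_mul]

lemma Lmat_one : Lmat 1 = 1 := by
  apply Matrix.mulVec_injective
  funext w
  rw [Lmat_mulVec, act_one, psi_phi, Matrix.one_mulVec]

lemma Lmat_mem (σ : Equiv.Perm (Fin 6)) : Lmat σ ∈ symplecticGroup (Fin 2) K := by
  apply mem_symplecticGroup_of_sympForm
  intro w w'
  obtain ⟨s, hs⟩ := phi_Lmat σ w
  obtain ⟨s', hs'⟩ := phi_Lmat σ w'
  rw [K7, K7, hs, hs']
  have h1 : act σ (phi w) ⬝ᵥ (1 : V6) = 0 := by rw [dot_one, sum_act, sum_phi]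
  have h2 : (1 : V6) ⬝ᵥ act σ (phi w') = 0 := by rw [one_dot, sum_act, sum_phi]
  simp only [add_dotProduct, dotProduct_add, smul_dotProduct, dotProduct_smul, h1, h2, K8,
    act_dot, smul_eq_mul, mul_zero, add_zero]

/-- the homomorphism `S₆ → Sp₄(2)` -/
def Lhom : Equiv.Perm (Fin 6) →* symplecticGroup (Fin 2) K where
  toFun σ := ⟨Lmat σ, Lmat_mem σ⟩
  map_one' := Subtype.ext Lmat_one
  map_mul' σ τ := Subtype.ext (Lmat_mul σ τ)



/-- a three-cycle not in the kernel -/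
def c3 : Equiv.Perm (Fin 6) := Equiv.swap 0 1 * Equiv.swap 1 2

lemma Lmat_c3_ne : Lmat c3 (Sum.inr 0) (Sum.inl 0) ≠ (1 : Matrix (Fin 2 ⊕ Fin 2) (Fin 2 ⊕ Fin 2) K) (Sum.inr 0) (Sum.inl 0) := by
  decide

lemma c3_mem : c3 ∈ alternatingGroup (Fin 6) := by
  rw [Equiv.Perm.mem_alternatingGroup, c3, map_mul, Equiv.Perm.sign_swap (by decide),
    Equiv.Perm.sign_swap (by decide)]
  decide

lemma Lhom_injective : Function.Injective Lhom := by
  rw [← MonoidHom.ker_eq_bot_iff]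
  by_contra hne
  have hnt : Nontrivial Lhom.ker := (Subgroup.nontrivial_iff_ne_bot _).2 hne
  have hle := Equiv.Perm.alternatingGroup_le_of_normal (α := Fin 6) (by simp) hnt
  have h := hle c3_mem
  rw [MonoidHom.mem_ker] at h
  have h2 : Lmat c3 = 1 := congrArg Subtype.val h
  exact Lmat_c3_ne (by rw [h2])

lemma card_Sp4 : Nat.card (symplecticGroup (Fin 2) K) = 720 := by
  rw [card_symplecticGroup_fin]
  simp [Finset.prod_range_succ, ZMod.card]

lemma Lhom_bijective : Function.Bijective Lhom := by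
  have : Finite (symplecticGroup (Fin 2) K) := Nat.finite_of_card_ne_zero (by rw [card_Sp4]; norm_num)
  rw [Nat.bijective_iff_injective_and_card]
  refine ⟨Lhom_injective, ?_⟩
  rw [card_Sp4, Nat.card_perm, Nat.card_eq_fintype_card, Fintype.card_fin]
  rfl

/-- Transport of the symplectic group along a ring isomorphism. -/
def sympEquiv {l : Type*} [DecidableEq l] [Fintype l] {R S : Type*} [CommRing R] [CommRing S]
    (e : R ≃+* S) : symplecticGroup l R ≃* symplecticGroup l S where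
  toFun A := ⟨A.1.map e, SymplecticGroup.map_mem A.2 e⟩
  invFun A := ⟨A.1.map e.symm, SymplecticGroup.map_mem A.2 e.symm⟩
  left_inv A := by
    apply Subtype.ext
    ext i j
    simp
  right_inv A := by
    apply Subtype.ext
    ext i j
    simp
  map_mul' A B := by
    apply Subtype.ext
    show (A.1 * B.1).map e = A.1.map e * B.1.map e
    exact Matrix.map_mul

theorem symplectic_four_two_equiv_perm_six {F : Type*} [Field F] [Fintype F]
    (hF : Fintype.card F = 2) :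
    Nonempty (symplecticGroup (Fin 2) F ≃* Equiv.Perm (Fin 6)) := by
  have : Fact (Nat.Prime 2) := ⟨Nat.prime_two⟩
  let e : ZMod 2 ≃+* F := ZMod.ringEquivOfPrime F Nat.prime_two hF
  exact ⟨(sympEquiv e.symm).trans (MulEquiv.ofBijective Lhom Lhom_bijective).symm⟩

end Cfsg.Agent.Lib.Helper5.Sp4
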