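import Cfsg.Agent.Lib.Helper5.P3_L1

/-!
# S4427 hive (helper56) : P3-L2c `p3_L2c_annih`
-/

set_option autoImplicit false

namespace Cfsg.Agent.Lib.P3

open Cfsg Cfsg.Agent.Lib.Helper77 Cfsg.Agent.Lib.Helper16
open scoped ComplexConjugate
open Polynomial

universe u

theorem p3_L2c_annih {G : Type u} [Group G] [Fintype G] {M : Ideal AlgInt} (hM : M.IsPrime)
    (t : MonoidAlgebra (localSubring M hM) G) :
    ∃ m : Multiset (localSubring M hM),
      Polynomial.aeval t ((m.map (fun c => X - C c)).prod) = 0 := by
  classical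
  obtain ⟨P, hPm, hPt⟩ := IsIntegral.of_finite (localSubring M hM) t
  set Pc : Polynomial ℂ := P.map (localSubring M hM).subtype with hPc
  have hPcm : Pc.Monic := hPm.map _
  have hcard : Multiset.card Pc.roots = Pc.natDegree := IsAlgClosed.card_roots_eq_natDegree
  have hprod : (Pc.roots.map fun a => X - C a).prod = Pc :=
    prod_multiset_X_sub_C_of_monic_of_roots_card_eq hPcm hcard
  have hmem : ∀ r ∈ Pc.roots, r ∈ localSubring M hM := fun r hr =>
    p3_L1_root_mem hM P hPm r ((mem_roots hPcm.ne_zero).mp hr)
  set m : Multiset (localSubring M hM) :=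
    Pc.roots.pmap (fun r hr => (⟨r, hr⟩ : localSubring M hM)) hmem with hmdef
  have hm : m.map (fun c : localSubring M hM => (c : ℂ)) = Pc.roots := by
    rw [hmdef, Multiset.map_pmap]
    exact (Multiset.pmap_eq_map _ _ _ _).trans (Multiset.map_id' _)
  refine ⟨m, ?_⟩
  have hmap : ((m.map (fun c => X - C c)).prod).map (localSubring M hM).subtype = Pc := by
    rw [Polynomial.map_multiset_prod, Multiset.map_map, ← hprod, ← hm, Multiset.map_map]
    congr 1
    apply Multiset.map_congr rfl
    intro c _
    simp
  have hinj : Function.Injective (Polynomial.map (localSubring M hM).subtype) :=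
    Polynomial.map_injective _ Subtype.val_injective
  have hP : (m.map (fun c => X - C c)).prod = P := hinj hmap
  rw [hP, aeval_def]
  exact hPt

end Cfsg.Agent.Lib.P3
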