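import Mathlib
import Cfsg.Agent.Lib.Helper5.AutOrthMain

set_option autoImplicit false
set_option linter.unusedSimpArgs false
set_option linter.unusedVariables false
set_option linter.unnecessarySeqFocus false
set_option linter.unusedSectionVars false
set_option linter.style.haveILetI false

/-!
# Hypothesis (T) from a dimension count
-/

namespace Cfsg.Agent.Lib.Helper5.AutOrth

open Matrix Module QuadraticMap
open Cfsg.Agent.Lib.Helper37 Cfsg.Agent.Lib.Helper8 Cfsg.Agent.Lib.Helper13
open scoped Classical Pointwise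

universe u

variable {ι : Type} [Fintype ι] [DecidableEq ι] {F : Type u} [Field F] [Fintype F]
variable {Q : QuadraticForm F (ι → F)}

/-- in dimension at least `9` the perpendicular space of a `4`-space is not totally isotropic -/
theorem hypT_of_card (hQ : (QuadraticMap.polarBilin Q).Nondegenerate)
    (hn : 9 ≤ Fintype.card ι) : HypT Q := by
  intro u v u' v' h h' p1 p2 p3 p4 hno
  obtain ⟨a, ha⟩ : ∃ a : Fin 4 → ι → F, a = ![u, v, u', v'] := ⟨_, rfl⟩
  obtain ⟨L, hL⟩ : ∃ L : (ι → F) →ₗ[F] (Fin 4 → F),
      L = LinearMap.pi (fun i => QuadraticMap.polarBilin Q (a i)) := ⟨_, rfl⟩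
  have hker : ¬ (LinearMap.ker L ≤ Submodule.span F (Set.range a)) := by
    intro hle
    have h1 : finrank F (LinearMap.ker L) ≤ 4 := by
      calc finrank F (LinearMap.ker L) ≤ finrank F (Submodule.span F (Set.range a)) :=
            Submodule.finrank_mono hle
        _ ≤ Fintype.card (Fin 4) := finrank_range_le_card a
        _ = 4 := by simp
    have h2 := LinearMap.finrank_range_add_finrank_ker L
    have h3 : finrank F (LinearMap.range L) ≤ 4 := by
      calc finrank F (LinearMap.range L) ≤ finrank F (Fin 4 → F) := Submodule.finrank_le _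
        _ = 4 := by simp
    have h4 : finrank F (ι → F) = Fintype.card ι := Module.finrank_fintype_fun_eq_card F
    omega
  obtain ⟨w, hwker, hwM⟩ := SetLike.not_le_iff_exists.1 hker
  have hw : ∀ i, polar ⇑Q (a i) w = 0 := by
    intro i
    have := LinearMap.mem_ker.1 hwker
    rw [hL] at this
    exact congrFun this i
  by_contra hcon
  apply hwM
  apply mem_span_of_orth hQ a w
  intro x hx
  by_contra hne
  apply hcon
  have hw0 := hw 0
  have hw1 := hw 1
  have hw2 := hw 2
  have hw3 := hw 3
  have hx0 := hx 0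
  have hx1 := hx 1
  have hx2 := hx 2
  have hx3 := hx 3
  rw [ha] at hw0 hw1 hw2 hw3 hx0 hx1 hx2 hx3
  simp only [Matrix.cons_val_zero, Matrix.cons_val_one, Matrix.cons_val_two, Matrix.cons_val_three,
    Matrix.tail_cons, Matrix.head_cons] at hw0 hw1 hw2 hw3 hx0 hx1 hx2 hx3
  refine ⟨w, x, ?_, ?_, ?_, ?_, ?_, ?_, ?_, ?_, hne⟩
  · rw [polar_comm]; exact hw0
  · rw [polar_comm]; exact hw1
  · rw [polar_comm]; exact hw2
  · rw [polar_comm]; exact hw3
  · rw [polar_comm]; exact hx0
  · rw [polar_comm]; exact hx1
  · rw [polar_comm]; exact hx2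
  · rw [polar_comm]; exact hx3

end Cfsg.Agent.Lib.Helper5.AutOrth
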