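import Mathlib
import Cfsg.Agent.Lib.Helper5.AutOrthInst

set_option autoImplicit false
set_option linter.unusedSimpArgs false
set_option linter.unusedVariables false
set_option linter.unnecessarySeqFocus false
set_option linter.unusedSectionVars false
set_option linter.style.haveILetI false

/-!
# Hypothesis (T) when the Witt index is exactly three
-/

namespace Cfsg.Agent.Lib.Helper5.AutOrth

open Matrix Module QuadraticMap
open Cfsg.Agent.Lib.Helper37 Cfsg.Agent.Lib.Helper8 Cfsg.Agent.Lib.Helper13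
open scoped Classical Pointwise

universe u

variable {ι : Type} [Fintype ι] [DecidableEq ι] {F : Type u} [Field F] [Fintype F]
variable {Q : QuadraticForm F (ι → F)} {k : ℕ} {e f : Fin k → ι → F}

/-- if the perpendicular space of the three standard hyperbolic pairs is anisotropic, there are
no totally singular `4`-spaces, and hypothesis (T) holds vacuously -/
theorem hypT_of_aniso (C : Ctx Q k e f)
    (haniso : ∀ n : ι → F, (∀ j : Fin 3, polar ⇑Q n (C.ev j) = 0 ∧ polar ⇑Q n (C.fv j) = 0) →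
      Q n = 0 → n = 0) : HypT Q := by
  intro u v u' v' h h' p1 p2 p3 p4 hno
  exfalso
  have h01 : (0 : Fin 3) ≠ 1 := by decide
  have h02 : (0 : Fin 3) ≠ 2 := by decide
  have h12 : (1 : Fin 3) ≠ 2 := by decide
  have h10 : (1 : Fin 3) ≠ 0 := by decide
  have h20 : (2 : Fin 3) ≠ 0 := by decide
  have h21 : (2 : Fin 3) ≠ 1 := by decide
  obtain ⟨g, hgu, hgv⟩ := to_e0e1 C h
  -- a nontrivial combination of `u', v'` cannot be moved into the standard line
  have hkey : ∀ s1 s2 α β : F, s1 • ga Q g u' + s2 • ga Q g v' = α • C.ev 0 + β • C.ev 1 →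
      s1 = 0 ∧ s2 = 0 := by
    intro s1 s2 α β hst
    by_contra hcon
    apply hno
    refine ⟨s1 • u' + s2 • v', ?_, ?_, Submodule.mem_span_pair.2 ⟨s1, s2, rfl⟩⟩
    · intro h0
      exact hcon (h'.ind _ _ h0)
    · have e1 : ga Q g (s1 • u' + s2 • v') = ga Q g (α • u + β • v) := by
        rw [ga_add, ga_smul, ga_smul, hst, ga_add, ga_smul, ga_smul, hgu, hgv]
      rw [ga_injective g e1]
      exact Submodule.mem_span_pair.2 ⟨α, β, rfl⟩
  -- the images of `u', v'`
  obtain ⟨x, hx⟩ : ∃ x, x = ga Q g u' := ⟨_, rfl⟩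
  obtain ⟨y, hy⟩ : ∃ y, y = ga Q g v' := ⟨_, rfl⟩
  rw [← hx, ← hy] at hkey
  have hQx : Q x = 0 := by rw [hx, Q_ga]; exact h'.qu
  have hQy : Q y = 0 := by rw [hy, Q_ga]; exact h'.qv
  have hxy : polar ⇑Q x y = 0 := by rw [hx, hy, polar_ga]; exact h'.uv
  have hx0 : polar ⇑Q x (C.ev 0) = 0 := by
    rw [hx, ← hgu, polar_ga, polar_comm]; exact p1
  have hx1 : polar ⇑Q x (C.ev 1) = 0 := by
    rw [hx, ← hgv, polar_ga, polar_comm]; exact p3
  have hy0 : polar ⇑Q y (C.ev 0) = 0 := by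
    rw [hy, ← hgu, polar_ga, polar_comm]; exact p2
  have hy1 : polar ⇑Q y (C.ev 1) = 0 := by
    rw [hy, ← hgv, polar_ga, polar_comm]; exact p4
  -- every combination of `x, y` is singular
  have hQc : ∀ s t : F, Q (s • x + t • y) = 0 := by
    intro s t
    rw [QuadraticMap.map_add Q, QuadraticMap.map_smul, QuadraticMap.map_smul, hQx, hQy,
      polar_smul_left, polar_smul_right, hxy]
    simp
  -- the anisotropic part of a combination of `x, y`
  have hmain : ∀ z : ι → F, Q z = 0 → polar ⇑Q z (C.ev 0) = 0 → polar ⇑Q z (C.ev 1) = 0 →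
      ∀ c : F, (polar ⇑Q z (C.fv 2) = 0 ∨ polar ⇑Q z (C.ev 2) = 0) →
      z = polar ⇑Q z (C.fv 0) • C.ev 0 + polar ⇑Q z (C.fv 1) • C.ev 1 +
        polar ⇑Q z (C.fv 2) • C.ev 2 + polar ⇑Q z (C.ev 2) • C.fv 2 := by
    intro z hQz hz0 hz1 c hz2
    have hn : z - (polar ⇑Q z (C.fv 0) • C.ev 0 + polar ⇑Q z (C.fv 1) • C.ev 1 +
        polar ⇑Q z (C.fv 2) • C.ev 2 + polar ⇑Q z (C.ev 2) • C.fv 2) = 0 := by
      apply haniso
      · intro j
        constructor
        · fin_cases j <;>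
            simp [polar_sub_left, polar_add_left, polar_smul_left, C.ee, C.ff, C.ef, C.fe, hz0, hz1]
        · fin_cases j <;>
            simp [polar_sub_left, polar_add_left, polar_smul_left, C.ee, C.ff, C.ef, C.fe, hz0, hz1]
      · -- `Q` of the anisotropic part
        have e1 : z - (polar ⇑Q z (C.fv 0) • C.ev 0 + polar ⇑Q z (C.fv 1) • C.ev 1 +
            polar ⇑Q z (C.fv 2) • C.ev 2 + polar ⇑Q z (C.ev 2) • C.fv 2) =
            z + ((-polar ⇑Q z (C.fv 0)) • C.ev 0 + (-polar ⇑Q z (C.fv 1)) • C.ev 1 +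
            (-polar ⇑Q z (C.fv 2)) • C.ev 2 + (-polar ⇑Q z (C.ev 2)) • C.fv 2) := by module
        rw [e1, QuadraticMap.map_add Q, hQz]
        have e2 : Q ((-polar ⇑Q z (C.fv 0)) • C.ev 0 + (-polar ⇑Q z (C.fv 1)) • C.ev 1 +
            (-polar ⇑Q z (C.fv 2)) • C.ev 2 + (-polar ⇑Q z (C.ev 2)) • C.fv 2) =
            polar ⇑Q z (C.fv 2) * polar ⇑Q z (C.ev 2) := by
          simp only [QuadraticMap.map_add Q, QuadraticMap.map_smul, C.q_ev, C.q_fv,
            polar_add_left, polar_smul_left, polar_smul_right, C.ee, C.ef_ne h02, C.ef_ne h12,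
            C.ef_same, smul_eq_mul, mul_zero, add_zero, zero_add, mul_one]
          ring
        have e3 : polar ⇑Q z ((-polar ⇑Q z (C.fv 0)) • C.ev 0 + (-polar ⇑Q z (C.fv 1)) • C.ev 1 +
            (-polar ⇑Q z (C.fv 2)) • C.ev 2 + (-polar ⇑Q z (C.ev 2)) • C.fv 2) =
            -(2 * (polar ⇑Q z (C.fv 2) * polar ⇑Q z (C.ev 2))) := by
          simp only [polar_add_right, polar_smul_right, hz0, hz1, smul_eq_mul, mul_zero, zero_add]
          ring
        rw [e2, e3]
        rcases hz2 with h | h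
        · rw [h]; ring
        · rw [h]; ring
    exact sub_eq_zero.1 hn
  -- the two special combinations
  obtain ⟨a1, ha1⟩ : ∃ a1, a1 = polar ⇑Q x (C.fv 2) := ⟨_, rfl⟩
  obtain ⟨a2, ha2⟩ : ∃ a2, a2 = polar ⇑Q y (C.fv 2) := ⟨_, rfl⟩
  obtain ⟨b1, hb1⟩ : ∃ b1, b1 = polar ⇑Q x (C.ev 2) := ⟨_, rfl⟩
  obtain ⟨b2, hb2⟩ : ∃ b2, b2 = polar ⇑Q y (C.ev 2) := ⟨_, rfl⟩
  -- `r = a2 x - a1 y` has no `e₂`-component
  have hr := hmain (a2 • x + (-a1) • y) (hQc _ _)
    (by rw [polar_add_left, polar_smul_left, polar_smul_left, hx0, hy0]; simp)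
    (by rw [polar_add_left, polar_smul_left, polar_smul_left, hx1, hy1]; simp) 0
    (Or.inl (by
      rw [polar_add_left, polar_smul_left, polar_smul_left, ← ha1, ← ha2]
      simp only [smul_eq_mul]; ring))
  -- `r' = b2 x - b1 y` has no `f₂`-component
  have hr' := hmain (b2 • x + (-b1) • y) (hQc _ _)
    (by rw [polar_add_left, polar_smul_left, polar_smul_left, hx0, hy0]; simp)
    (by rw [polar_add_left, polar_smul_left, polar_smul_left, hx1, hy1]; simp) 0
    (Or.inr (by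
      rw [polar_add_left, polar_smul_left, polar_smul_left, ← hb1, ← hb2]
      simp only [smul_eq_mul]; ring))
  have c1 : polar ⇑Q (a2 • x + (-a1) • y) (C.fv 2) = 0 := by
    rw [polar_add_left, polar_smul_left, polar_smul_left, ← ha1, ← ha2]
    simp only [smul_eq_mul]; ring
  have c2 : polar ⇑Q (a2 • x + (-a1) • y) (C.ev 2) = a2 * b1 - a1 * b2 := by
    rw [polar_add_left, polar_smul_left, polar_smul_left, ← hb1, ← hb2]
    simp only [smul_eq_mul]; ring
  have c3 : polar ⇑Q (b2 • x + (-b1) • y) (C.ev 2) = 0 := by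
    rw [polar_add_left, polar_smul_left, polar_smul_left, ← hb1, ← hb2]
    simp only [smul_eq_mul]; ring
  have c4 : polar ⇑Q (b2 • x + (-b1) • y) (C.fv 2) = -(a2 * b1 - a1 * b2) := by
    rw [polar_add_left, polar_smul_left, polar_smul_left, ← ha1, ← ha2]
    simp only [smul_eq_mul]; ring
  rw [c1, c2, zero_smul, add_zero] at hr
  rw [c3, c4, zero_smul, add_zero] at hr'
  obtain ⟨α1, hα1⟩ : ∃ α1, α1 = polar ⇑Q (a2 • x + (-a1) • y) (C.fv 0) := ⟨_, rfl⟩
  obtain ⟨α2, hα2⟩ : ∃ α2, α2 = polar ⇑Q (a2 • x + (-a1) • y) (C.fv 1) := ⟨_, rfl⟩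
  obtain ⟨α1', hα1'⟩ : ∃ α1', α1' = polar ⇑Q (b2 • x + (-b1) • y) (C.fv 0) := ⟨_, rfl⟩
  obtain ⟨α2', hα2'⟩ : ∃ α2', α2' = polar ⇑Q (b2 • x + (-b1) • y) (C.fv 1) := ⟨_, rfl⟩
  rw [← hα1, ← hα2] at hr
  rw [← hα1', ← hα2'] at hr'
  -- `β = a2 b1 - a1 b2 = 0`
  have hβ : a2 * b1 - a1 * b2 = 0 := by
    have e1 : polar ⇑Q (a2 • x + (-a1) • y) (b2 • x + (-b1) • y) = 0 := by
      simp only [polar_add_left, polar_add_right, polar_smul_left, polar_smul_right, hxy,
        polar_comm ⇑Q y x, smul_eq_mul, mul_zero, add_zero]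
      rw [polar_self, polar_self, hQx, hQy]; simp
    rw [hr, hr'] at e1
    simp only [polar_add_left, polar_add_right, polar_smul_left, polar_smul_right, C.ee, C.ff,
      C.ef_ne h02, C.ef_ne h12, C.fe_ne h20, C.fe_ne h21, C.fe_same, smul_eq_mul, mul_zero,
      add_zero, zero_add, mul_one] at e1
    have e2 : (a2 * b1 - a1 * b2) * (a2 * b1 - a1 * b2) = 0 := by linear_combination -e1
    exact mul_self_eq_zero.1 e2
  rw [hβ, zero_smul, add_zero] at hr
  rw [hβ, neg_zero, zero_smul, add_zero] at hr'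
  obtain ⟨e1, e2⟩ := hkey _ _ _ _ hr
  obtain ⟨e3, e4⟩ := hkey _ _ _ _ hr'
  have a1z : a1 = 0 := neg_eq_zero.1 e2
  have b1z : b1 = 0 := neg_eq_zero.1 e4
  -- now `x` itself lies in the standard line
  have hxx := hmain x hQx hx0 hx1 0 (Or.inl (by rw [← ha1, a1z]))
  rw [← ha1, ← hb1, a1z, b1z, zero_smul, zero_smul, add_zero, add_zero] at hxx
  have hxx' : (1 : F) • x + (0 : F) • y =
      polar ⇑Q x (C.fv 0) • C.ev 0 + polar ⇑Q x (C.fv 1) • C.ev 1 := by
    rw [one_smul, zero_smul, add_zero]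
    exact hxx
  exact one_ne_zero (hkey _ _ _ _ hxx').1

end Cfsg.Agent.Lib.Helper5.AutOrth
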