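import Mathlib
import Cfsg.Agent.Lib.Helper5.BalE

set_option autoImplicit false
set_option linter.unusedSimpArgs false
set_option linter.unusedVariables false
set_option linter.unusedSectionVars false
set_option linter.unnecessarySeqFocus false
set_option linter.style.haveILetI false

/-!
# Abstract lemmas for local balance: evenness of the fixed points, transport of `O_{p'} = 1`
-/

namespace Cfsg.Agent.Lib.Helper5.BalE

variable {P : Type*} [Group P]

/-- under `GoodE`, the order of the fixed points is divisible by `p` -/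
theorem GoodE.not_coprime [Finite P] [Nontrivial P]
    (hZ : Function.Injective (MulAut.conj : P →* MulAut P)) {p : ℕ} [Fact p.Prime]
    {x : MulAut P} {L : Subgroup P} (h : GoodE p x L) :
    ¬ Nat.Coprime p (Nat.card ↥(MonoidHom.eqLocus x.toMonoidHom (MonoidHom.id P))) := by
  intro hcop
  have hp : p.Prime := Fact.out
  have hLle : L ≤ MonoidHom.eqLocus x.toMonoidHom (MonoidHom.id P) := fun l hl => h.fix l hl
  have hLc : (Nat.card ↥L).Coprime p :=
    Nat.Coprime.coprime_dvd_left (Subgroup.card_dvd_of_le hLle) hcop.symm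
  have hL : L = ⊥ := h.simple L le_rfl
    (fun l hl m hm => L.mul_mem (L.mul_mem hl hm) (L.inv_mem hl)) hLc
  have hP : IsPGroup p P := by
    intro y
    obtain ⟨a, m, hm, hym⟩ := Nat.exists_eq_pow_mul_and_not_dvd (orderOf_pos y).ne' p hp.ne_one
    refine ⟨a, ?_⟩
    apply hZ
    rw [map_one]
    apply h.cent
    · refine ⟨m, ((Nat.Prime.coprime_iff_not_dvd hp).2 hm).symm, ?_⟩
      rw [← map_pow, ← pow_mul, ← hym, pow_orderOf_eq_one, map_one]
    · intro l hl
      rw [hL, Subgroup.mem_bot] at hl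
      rw [hl, map_one]
  haveI := hP.center_nontrivial
  obtain ⟨z, hz⟩ := exists_ne (1 : Subgroup.center P)
  apply hz
  apply Subtype.ext
  apply hZ
  rw [Subgroup.coe_one, map_one]
  ext y
  rw [MulAut.conj_apply, MulAut.one_apply]
  have := Subgroup.mem_center_iff.1 z.2 y
  rw [← this]
  group

/-- transport of "`O_{p'} = 1`" between two quotients of a group with the same kernel -/
theorem simple_transport {S P₁ P₂ : Type*} [Group S] [Group P₁] [Group P₂]
    (f₁ : S →* P₁) (f₂ : S →* P₂) (hker : f₁.ker = f₂.ker) (p : ℕ)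
    (h₁ : ∀ M : Subgroup P₁, M ≤ f₁.range → (∀ l ∈ f₁.range, ∀ m ∈ M, l * m * l⁻¹ ∈ M) →
      (Nat.card ↥M).Coprime p → M = ⊥) :
    ∀ M : Subgroup P₂, M ≤ f₂.range → (∀ l ∈ f₂.range, ∀ m ∈ M, l * m * l⁻¹ ∈ M) →
      (Nat.card ↥M).Coprime p → M = ⊥ := by
  intro M hM hinv hc
  have hmap : (M.comap f₂).map f₂ = M := by
    rw [Subgroup.map_comap_eq, inf_eq_right]
    exact hM
  have hcard : Nat.card ↥((M.comap f₂).map f₁) = Nat.card ↥M := by
    rw [← Subgroup.relIndex_ker, hker, Subgroup.relIndex_ker, hmap]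
  have h := h₁ ((M.comap f₂).map f₁) (Subgroup.map_le_range _ _) ?_ (by rw [hcard]; exact hc)
  · rw [← hmap, eq_bot_iff]
    rintro _ ⟨t, ht, rfl⟩
    have h1 : f₁ t ∈ (M.comap f₂).map f₁ := ⟨t, ht, rfl⟩
    rw [h, Subgroup.mem_bot, ← MonoidHom.mem_ker, hker, MonoidHom.mem_ker] at h1
    rw [Subgroup.mem_bot]
    exact h1
  · rintro _ ⟨s, rfl⟩ _ ⟨t, ht, rfl⟩
    refine ⟨s * t * s⁻¹, ?_, by rw [map_mul, map_mul, map_inv]⟩
    show f₂ (s * t * s⁻¹) ∈ M
    rw [map_mul, map_mul, map_inv]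
    exact hinv _ ⟨s, rfl⟩ _ ht

end Cfsg.Agent.Lib.Helper5.BalE
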