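import Mathlib
import Cfsg.Agent.Lib.Helper5.BalRed
import Cfsg.Agent.Lib.Helper5.BalUAbs
import Cfsg.Agent.Lib.Helper5.AutPSUMaps
import Cfsg.Agent.Lib.Helper13.GU
import Cfsg.Agent.S0283

set_option autoImplicit false
set_option linter.unusedSimpArgs false
set_option linter.unusedVariables false
set_option linter.unusedSectionVars false
set_option linter.unnecessarySeqFocus false
set_option linter.style.haveILetI false

/-!
# BAL-US: the image of `SU_n(q₀)` in `PSL_n(F)` has no normal subgroup of odd order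
-/

namespace Cfsg.Agent.Lib.Helper5.Bal

open Matrix Cfsg.Agent.Lib.Helper5.BalE

variable {n : ℕ} {F : Type*} [Field F]

/-- in odd characteristic `q₀` is odd -/
lemma usb_odd [Fintype F] (h2 : (2 : F) ≠ 0) {q₀ : ℕ} (hF : Fintype.card F = q₀ ^ 2) : Odd q₀ := by
  by_contra hne
  rw [Nat.not_odd_iff_even] at hne
  obtain ⟨r, hr⟩ := CharP.exists F
  haveI := hr
  haveI : Fact r.Prime := ⟨CharP.char_is_prime F r⟩
  obtain ⟨m, hrp, hm⟩ := FiniteField.card F r
  have h1 : 2 ∣ r ^ (m : ℕ) := by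
    rw [← hm, hF]
    exact Dvd.dvd.pow (even_iff_two_dvd.1 hne) (by norm_num)
  have h3 : 2 ∣ r := Nat.Prime.dvd_of_dvd_pow Nat.prime_two h1
  have h4 : r = 2 := ((Nat.prime_dvd_prime_iff_eq Nat.prime_two hrp).1 h3).symm
  subst h4
  apply h2
  have := CharP.cast_eq_zero F 2
  exact_mod_cast this

/-- the diagonal involution `diag(-1,-1,1,...,1)` -/
def usb_d (m : ℕ) (F : Type*) [Field F] : Fin (m + 2) → F :=
  fun i => if (i : ℕ) < 2 then -1 else 1

lemma usb_det (m : ℕ) : (Matrix.diagonal (usb_d m F)).det = 1 := by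
  rw [Matrix.det_diagonal, Fin.prod_univ_succ, Fin.prod_univ_succ]
  have h0 : usb_d m F 0 = -1 := by simp [usb_d]
  have h1 : usb_d m F (Fin.succ 0) = -1 := by simp [usb_d]
  have h3 : ∀ i : Fin m, usb_d m F i.succ.succ = 1 := by
    intro i
    simp [usb_d]
  rw [h0, h1]
  simp only [h3, Finset.prod_const_one]
  ring

/-- the involution, in `SU_n(q₀)` -/
noncomputable def usb_t (m q₀ : ℕ) (hq : Odd q₀) (F : Type*) [Field F] :
    ↥(Cfsg.SU (m + 2) F q₀) :=
  ⟨⟨Matrix.diagonal (usb_d m F), usb_det m⟩, by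
    have := Cfsg.Agent.Lib.Helper13.diagonal_mem_GU (m + 2) q₀ (usb_d m F) (fun i => by
      unfold usb_d
      split_ifs
      · exact Even.neg_one_pow (by
          obtain ⟨k, hk⟩ := hq
          exact ⟨k + 1, by omega⟩)
      · exact one_pow _)
      (Matrix.SpecialLinearGroup.toGL ⟨Matrix.diagonal (usb_d m F), usb_det m⟩) rfl
    exact fun u v => this u v⟩

lemma usb_t_val (m q₀ : ℕ) (hq : Odd q₀) : (usb_t m q₀ hq F).1.1 = Matrix.diagonal (usb_d m F) := rfl

/-- BAL-US (backup version) -/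
theorem LU_simple_h5 [Fintype F] (hn : 3 ≤ n) (h2 : (2 : F) ≠ 0) {q₀ : ℕ}
    (hF : Fintype.card F = q₀ ^ 2) (M : Subgroup (Matrix.ProjectiveSpecialLinearGroup (Fin n) F))
    (hM : M ≤ LU n F q₀) (hinv : ∀ l ∈ LU n F q₀, ∀ m ∈ M, l * m * l⁻¹ ∈ M)
    (hc : (Nat.card ↥M).Coprime 2) : M = ⊥ := by
  classical
  have hodd := usb_odd h2 hF
  have hq : ¬ (n = 3 ∧ q₀ = 2) := by
    rintro ⟨-, rfl⟩
    exact absurd hodd (by decide)
  haveI hsimple : IsSimpleGroup (Cfsg.PSU n F q₀) := Cfsg.Agent.S0283.result hF n hn hq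
  -- `PSU` has even order
  have heven : 2 ∣ Nat.card (Cfsg.PSU n F q₀) := by
    obtain ⟨m, rfl⟩ : ∃ m, n = m + 2 := ⟨n - 2, by omega⟩
    have ht2 : usb_t m q₀ hodd F * usb_t m q₀ hodd F = 1 := by
      apply Subtype.ext
      apply Subtype.ext
      show Matrix.diagonal (usb_d m F) * Matrix.diagonal (usb_d m F) = (1 : Matrix _ _ F)
      rw [Matrix.diagonal_mul_diagonal, ← Matrix.diagonal_one]
      congr 1
      funext i
      unfold usb_d
      split_ifs <;> simp
    have htne : AutPSU.pr (usb_t m q₀ hodd F) ≠ 1 := by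
      intro h1
      rw [AutPSU.pr_eq_one_iff] at h1
      obtain ⟨ν, -, hν⟩ := AutPSU.exists_scalar_of_mem_center hF hn h1
      have e0 := congrFun (hν (Pi.single 0 1)) 0
      have e2 := congrFun (hν (Pi.single ⟨2, by omega⟩ 1)) ⟨2, by omega⟩
      have hm0 : Cfsg.Agent.Lib.Helper99.SURoot.mat (m + 2) (usb_t m q₀ hodd F) =
          Matrix.diagonal (usb_d m F) := rfl
      rw [hm0, Matrix.mulVec_single_one] at e0 e2
      simp [usb_d] at e0 e2
      rw [← e0] at e2
      apply h2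
      linear_combination e2
    have hord : orderOf (AutPSU.pr (usb_t m q₀ hodd F)) = 2 := by
      apply orderOf_eq_prime
      · rw [pow_two, ← map_mul, ht2, map_one]
      · exact htne
    have h5 := orderOf_dvd_natCard (AutPSU.pr (usb_t m q₀ hodd F))
    rwa [hord] at h5
  -- the two quotients
  have hker : (AutPSU.pr : ↥(Cfsg.SU n F q₀) →* Cfsg.PSU n F q₀).ker =
      ((AutPSLn.pr : SpecialLinearGroup (Fin n) F →* _).comp (Cfsg.SU n F q₀).subtype).ker := by
    ext x
    rw [MonoidHom.mem_ker, MonoidHom.mem_ker, AutPSU.pr_eq_one_iff, MonoidHom.comp_apply,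
      AutPSLn.pr_def, QuotientGroup.eq_one_iff]
    constructor
    · intro hx
      obtain ⟨ν, -, hν⟩ := AutPSU.exists_scalar_of_mem_center hF hn hx
      have h1 : x.1.1 = ν • (1 : Matrix (Fin n) (Fin n) F) := by
        apply Matrix.ext_iff_mulVec.2
        intro v
        rw [Matrix.smul_mulVec, Matrix.one_mulVec]
        exact hν v
      rw [Matrix.SpecialLinearGroup.mem_center_iff]
      refine ⟨ν, ?_, ?_⟩
      · have hd := x.1.2
        rw [h1, Matrix.det_smul, Matrix.det_one, mul_one] at hd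
        exact hd
      · show Matrix.scalar (Fin n) ν = x.1.1
        rw [h1, Matrix.scalar_apply, Matrix.smul_one_eq_diagonal]
    · intro hx
      rw [Subgroup.mem_center_iff]
      intro g
      apply Subtype.ext
      exact Subgroup.mem_center_iff.1 hx g.1
  have hr2 : ((AutPSLn.pr : SpecialLinearGroup (Fin n) F →* _).comp
      (Cfsg.SU n F q₀).subtype).range = LU n F q₀ := by
    rw [MonoidHom.range_comp, Subgroup.range_subtype]
    rfl
  have h₁ : ∀ M₁ : Subgroup (Cfsg.PSU n F q₀),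
      M₁ ≤ (AutPSU.pr : ↥(Cfsg.SU n F q₀) →* Cfsg.PSU n F q₀).range →
      (∀ l ∈ (AutPSU.pr : ↥(Cfsg.SU n F q₀) →* Cfsg.PSU n F q₀).range, ∀ m ∈ M₁,
        l * m * l⁻¹ ∈ M₁) → (Nat.card ↥M₁).Coprime 2 → M₁ = ⊥ := by
    intro M₁ _ hinv₁ hc₁
    haveI : M₁.Normal := ⟨fun m hm l => hinv₁ l (by
      obtain ⟨s, rfl⟩ := AutPSU.pr_surjective l
      exact ⟨s, rfl⟩) m hm⟩
    rcases Subgroup.Normal.eq_bot_or_eq_top (H := M₁) inferInstance with h | h
    · exact h
    · exfalso
      rw [h, Subgroup.card_top] at hc₁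
      have := Nat.Coprime.eq_one_of_dvd hc₁.symm heven
      omega
  have := simple_transport _ _ hker 2 h₁
  rw [hr2] at this
  exact this M hM hinv hc

end Cfsg.Agent.Lib.Helper5.Bal
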