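import Mathlib
import Cfsg.Agent.Lib.Helper5.BalRed
import Cfsg.Agent.Lib.Helper5.BalFC
import Cfsg.Agent.Lib.Helper5.BalSC
import Cfsg.Agent.Lib.Helper5.BalUC
import Cfsg.Agent.Lib.Helper5.BalUSb
import Cfsg.Agent.Lib.Helper37.GraphPSL2
import Cfsg.Agent.Lib.Helper2.BalOS2
import Cfsg.Agent.Lib.Helper43.BalOC
import Cfsg.Agent.Lib.Helper39.BalFS
import Cfsg.Agent.Lib.Helper39.BalSS

set_option autoImplicit false
set_option linter.unusedSimpArgs false
set_option linter.unusedVariables false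
set_option linter.unusedSectionVars false
set_option linter.unnecessarySeqFocus false
set_option linter.style.haveILetI false

/-!
# Local balance in `Aut(PSL_n(F))`: the main theorem (S2686)
-/


namespace Cfsg.Agent.Lib.Helper5.Bal

open Matrix Cfsg.Agent.Lib.Helper5.AutPSLn Cfsg.Agent.Lib.Helper45.AutPSL
  Cfsg.Agent.Lib.Helper5.BalE Cfsg.Agent.Lib.Helper45

variable {n : ℕ} {F : Type*} [Field F]

theorem goodE_orth [Fintype F] (hn : 3 ≤ n) (r : ℕ) [Fact r.Prime] [CharP F r]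
    (h2 : (2 : F) ≠ 0) (g : GL (Fin n) F) (hg : g.1ᵀ = g.1) :
    GoodE 2 (Gam g * Iota) (LG g.1) :=
  ⟨LG_fix g, LG_norm (by omega) g, fun M hM hinv hc => LG_simple_orth hn h2 g hg M hM hinv hc,
    cent_of_mat hn r (formSL g.1) (fun k τ h => cent_orth_mat hn h2 g hg k τ h)⟩

theorem goodE_symp [Fintype F] (hn : 3 ≤ n) (r : ℕ) [Fact r.Prime] [CharP F r]
    (h2 : (2 : F) ≠ 0) (g : GL (Fin n) F) (hg : g.1ᵀ = -g.1) :
    GoodE 2 (Gam g * Iota) (LG g.1) :=
  ⟨LG_fix g, LG_norm (by omega) g, fun M hM hinv hc => LG_simple_symp hn h2 g hg M hM hinv hc,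
    cent_of_mat hn r (formSL g.1) (fun k τ h => cent_symp_mat hn h2 g hg k τ h)⟩

theorem goodE_unit [Fintype F] (hn : 3 ≤ n) (r : ℕ) [Fact r.Prime] [CharP F r]
    (h2 : (2 : F) ≠ 0) (σ : F ≃+* F) (hσ2 : ∀ a, σ (σ a) = a) {q₀ : ℕ}
    (hσ : ∀ a, σ a = a ^ q₀) (hF : Fintype.card F = q₀ ^ 2) :
    GoodE 2 (PhiIota σ) (LU n F q₀) :=
  ⟨LU_fix σ hσ2 hσ, LU_norm (by omega) σ hσ2 hσ,
    fun M hM hinv hc => LU_simple_h5 hn h2 hF M hM hinv hc,
    cent_of_mat hn r (Cfsg.SU n F q₀) (fun k τ h => cent_unit_mat hn h2 hF k τ h)⟩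

theorem good_field [Fintype F] (hn : 2 ≤ n) {r : ℕ} [Fact r.Prime] [CharP F r] {p : ℕ}
    [Fact p.Prime] (hpr : p ≠ r) (σ : F ≃+* F) (hσ : orderOf σ = p) :
    Balance.Good p (Phi σ : MulAut (Matrix.ProjectiveSpecialLinearGroup (Fin n) F)) (L0 σ) := by
  refine ⟨L0_fix σ, L0_norm σ, fun hdvd M hM hinv hc => L0_simple hn hpr σ hσ hdvd M hM hinv hc,
    L0_ne_bot hn σ, ?_⟩
  intro ν hν
  obtain ⟨k, τ, γ, hγ, rfl⟩ := decomp hn r ν
  rcases hγ with rfl | ⟨hn3, rfl⟩
  · rw [mul_one] at hν ⊢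
    obtain ⟨hτ, hk⟩ := cent_field_mat hn σ k τ
      (fun x hx => mat_of_fix (by omega) k τ x (hν _ ⟨x, hx, rfl⟩))
    have hk1 : (Gam k : MulAut (Matrix.ProjectiveSpecialLinearGroup (Fin n) F)) = 1 := by
      rw [← MonoidHom.mem_ker, Gam_ker2 hn]; exact hk
    rw [hk1, one_mul]
    obtain ⟨j, rfl⟩ := Subgroup.mem_zpowers_iff.1 hτ
    rw [map_zpow]
    exact Subgroup.zpow_mem_zpowers _ j
  · exfalso
    exact no_iota_field hn3 σ k τ
      (fun x hx => mat_of_fix_iota (by omega) k τ x (hν _ ⟨x, hx, rfl⟩))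

/-- the centre of `PSL_n(F)` is trivial -/
lemma conj_injective [Fintype F] (hn : 2 ≤ n) :
    Function.Injective (MulAut.conj : Matrix.ProjectiveSpecialLinearGroup (Fin n) F →* _) := by
  rw [injective_iff_map_eq_one]
  intro k hk
  obtain ⟨x, rfl⟩ := pr_surjective k
  rw [conj_pr, ← MonoidHom.mem_ker, Gam_ker2 hn] at hk
  show pr x = 1
  rw [pr_def, QuotientGroup.eq_one_iff, Subgroup.mem_center_iff]
  intro y
  have := Subgroup.mem_center_iff.1 hk (Matrix.SpecialLinearGroup.toGL y)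
  apply Subtype.ext
  have h2 := congrArg (fun u : GL (Fin n) F => u.1) this
  simpa using h2

end Cfsg.Agent.Lib.Helper5.Bal

namespace Cfsg.Agent.Lib.Helper5.Bal

open Matrix Cfsg.Agent.Lib.Helper5.AutPSLn Cfsg.Agent.Lib.Helper45.AutPSL
  Cfsg.Agent.Lib.Helper5.BalE Cfsg.Agent.Lib.Helper45 Cfsg.Agent.Lib.Helper37.GraphPSL

variable {n : ℕ} {F : Type*} [Field F]

/-- **local balance for `PSL_n(F)`** and a non-inner-diagonal automorphism of prime order
different from the characteristic -/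
theorem psl_balance [Fintype F] {r : ℕ} [Fact r.Prime] [CharP F r] (hn : 2 ≤ n)
    (A : Subgroup (MulAut (Matrix.ProjectiveSpecialLinearGroup (Fin n) F)))
    (hinn : ∀ k : Matrix.ProjectiveSpecialLinearGroup (Fin n) F, MulAut.conj k ∈ A)
    {p : ℕ} [Fact p.Prime] (hpr : p ≠ r)
    (β : MulAut (Matrix.ProjectiveSpecialLinearGroup (Fin n) F)) (hord : orderOf β = p)
    (hnot : ¬ Cfsg.IsInnerDiagonalAutPSL β) :
    Cfsg.pPrimeCore p ↥(A ⊓ Subgroup.centralizer {β}) ≠ ⊥ ↔
      ((∃ γ φ : MulAut (Matrix.ProjectiveSpecialLinearGroup (Fin n) F),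
          Cfsg.IsInnerDiagonalAutPSL γ ∧ Cfsg.IsFieldAutPSL φ ∧ β = φ.trans γ) ∧
        Nat.Coprime p (Nat.card ↥(MonoidHom.eqLocus β.toMonoidHom
          (MonoidHom.id (Matrix.ProjectiveSpecialLinearGroup (Fin n) F))))) := by
  classical
  have hp : p.Prime := Fact.out
  have hr : r.Prime := Fact.out
  obtain ⟨g, σ, γ, hγ, hβ⟩ := decomp hn r β
  have hβp : β ^ p = 1 := by rw [← hord]; exact pow_orderOf_eq_one β
  rcases hγ with rfl | ⟨hn3, rfl⟩
  · -- field case
    rw [mul_one] at hβ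
    have hσ1 : σ ≠ 1 := by
      rintro rfl
      apply hnot
      rw [isInnerDiagonal_iff]
      exact ⟨g, by rw [hβ, map_one, mul_one]⟩
    have hσp : σ ^ p = 1 := by
      have e1 := pow_eq_tw (Gam : GL (Fin n) F →* MulAut (Matrix.ProjectiveSpecialLinearGroup (Fin n) F))
        (Phi σ) (glS σ) (Phi_mul_Gam' σ) g p
      rw [← hβ, hβp, Phi_pow] at e1
      have e2 : (Gam (tw (glS σ) g p)⁻¹ : MulAut (Matrix.ProjectiveSpecialLinearGroup (Fin n) F)) =
          Phi (σ ^ p) := by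
        rw [map_inv, inv_eq_iff_eq_inv, eq_inv_iff_mul_eq_one]
        exact e1.symm
      exact (Gam_eq_Phi hn e2).1
    have hσord : orderOf σ = p := orderOf_eq_prime hσp hσ1
    obtain ⟨h, hh⟩ := field_case hn σ p hσord hp.pos g (by rw [← hβ]; exact hβp)
    rw [← hβ] at hh
    have hGood := (good_field hn hpr σ hσord).conj (Gam h)
    rw [← hh] at hGood
    have hβInn : β ∉ Cfsg.Inn (Matrix.ProjectiveSpecialLinearGroup (Fin n) F) := by
      rintro ⟨k, rfl⟩
      apply hnot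
      obtain ⟨s, rfl⟩ := pr_surjective k
      rw [isInnerDiagonal_iff]
      exact ⟨_, conj_pr s⟩
    have hiff := hGood.core_ne_bot_iff (conj_injective hn) A hinn hord hβInn
    rw [hiff]
    constructor
    · intro hc
      exact ⟨⟨Gam g, Phi σ, isInnerDiagonal_Gam g, ⟨σ, isStdField_Phi σ⟩, by rw [hβ]; rfl⟩, hc⟩
    · exact fun h => h.2
  · -- graph case
    have hβ' : β = Gam g * Phi σ * IotaPow 1 := by rw [IotaPow_one]; exact hβ
    rw [hβ'] at hβp
    obtain ⟨hσp, hεp⟩ := nf_pow_eq_one hn3 hβp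
    have hp2 : p = 2 := by
      have h1 : ((p : ℕ) : ZMod 2) = 0 := by
        have : p • (1 : ZMod 2) = 0 := hεp
        rwa [nsmul_eq_mul, mul_one] at this
      have h2 : 2 ∣ p := (ZMod.natCast_eq_zero_iff p 2).1 h1
      exact ((Nat.prime_dvd_prime_iff_eq Nat.prime_two hp).1 h2).symm
    subst hp2
    have h2F : (2 : F) ≠ 0 := by
      intro h
      have h1 : ((2 : ℕ) : F) = 0 := by exact_mod_cast h
      have h2 := (CharP.cast_eq_zero_iff F r 2).1 h1
      exact hpr ((Nat.prime_dvd_prime_iff_eq hr Nat.prime_two).1 h2).symm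
    have hcore : Cfsg.pPrimeCore 2 ↥(A ⊓ Subgroup.centralizer {β}) = ⊥ := by
      by_cases hσ1 : σ = 1
      · subst hσ1
        rw [map_one, mul_one] at hβ
        have hb : β = beta g := by rw [hβ]; rfl
        have ho : orderOf (beta g) = 2 := by rw [← hb]; exact hord
        rcases (orderOf_beta_eq_two_iff hn3 g).1 ho with hs | hs
        · have hg : g.1ᵀ = g.1 := by
            have := congrArg (fun u : GL (Fin n) F => u.1) hs
            simpa [glT_val] using this
          rw [hβ]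
          exact (goodE_orth hn3 r h2F g hg).core_eq_bot (conj_injective hn) A hinn
        · have hg : g.1ᵀ = -g.1 := by
            have := congrArg (fun u : GL (Fin n) F => u.1) hs
            simp only [glT_val, Units.val_mul, sc_val] at this
            rw [this]
            simp
          rw [hβ]
          exact (goodE_symp hn3 r h2F g hg).core_eq_bot (conj_injective hn) A hinn
      · have hσord : orderOf σ = 2 := orderOf_eq_prime hσp hσ1
        obtain ⟨f, -, hF⟩ := FiniteField.card F r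
        have hβ2 : β = Gam g * PhiIota σ := by rw [hβ, mul_assoc]; rfl
        have hsq : (Gam g * PhiIota σ : MulAut (Matrix.ProjectiveSpecialLinearGroup (Fin n) F)) ^ 2
            = 1 := by rw [← hβ2, ← hord]; exact pow_orderOf_eq_one β
        obtain ⟨h, hh⟩ := graph_field_case hn3 r f hF σ hσord g hsq
        obtain ⟨hfe, hfrob⟩ := frob_of_order_two r f hF σ hσord
        have hK : Fintype.card F = (r ^ ((f : ℕ) / 2)) ^ 2 := by
          rw [hF, ← pow_mul]
          congr 1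
          obtain ⟨m, hm⟩ := hfe
          omega
        have hσσ : ∀ x, σ (σ x) = x := by
          intro x
          have := DFunLike.congr_fun hσp x
          simpa [pow_two] using this
        have hG := (goodE_unit hn3 r h2F σ hσσ hfrob hK).conj (Gam h)
        rw [← hh, ← hβ2] at hG
        exact hG.core_eq_bot (conj_injective hn) A hinn
    constructor
    · intro h
      exact absurd hcore h
    · rintro ⟨⟨γ', φ, hγ', ⟨τ, hφ⟩, e⟩, -⟩
      exfalso
      obtain ⟨g', rfl⟩ := (isInnerDiagonal_iff γ').1 hγ'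
      have hφ' : φ = Phi τ := (isStdField_iff τ φ).1 hφ
      subst hφ'
      have e2 : (Gam g * Phi σ * IotaPow 1 : MulAut (Matrix.ProjectiveSpecialLinearGroup (Fin n) F)) =
          Gam g' * Phi τ * IotaPow 0 := by
        rw [← hβ', e, IotaPow_zero, mul_one]
        rfl
      have := (nf_unique (by rw [Fintype.card_fin]; exact hn3) e2).2
      exact one_ne_zero this

end Cfsg.Agent.Lib.Helper5.Bal
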