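import Mathlib
import Cfsg.Agent.Lib.Helper5.BalSC

set_option autoImplicit false
set_option linter.unusedSimpArgs false
set_option linter.unusedVariables false
set_option linter.unusedSectionVars false
set_option linter.unnecessarySeqFocus false
set_option linter.style.haveILetI false

/-!
# BAL-SC': the centralizer condition for a symplectic group over a subfield
-/

namespace Cfsg.Agent.Lib.Helper5.Bal

open Matrix Cfsg.Agent.Lib.Helper5.AutPSLn Cfsg.Agent.Lib.Helper45.AutPSL
  Cfsg.Agent.Lib.Helper5.BalE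

variable {n : ℕ} {F : Type*} [Field F] {F₀ : Type*} [Field F₀]

/-- a vector over the subfield, seen over the big field -/
def jmap (j : F₀ →+* F) (u : Fin n → F₀) : Fin n → F := fun i => j (u i)

lemma jmap_ee (j : F₀ →+* F) (i : Fin n) : jmap j (ee i : Fin n → F₀) = ee i := by
  ext r
  simp only [jmap, ee_apply]
  split_ifs <;> simp

lemma jmap_add (j : F₀ →+* F) (u w : Fin n → F₀) : jmap j (u + w) = jmap j u + jmap j w := by
  ext r
  simp [jmap]

lemma jmap_smul (j : F₀ →+* F) (a : F₀) (u : Fin n → F₀) : jmap j (a • u) = j a • jmap j u := by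
  ext r
  simp [jmap]

lemma jmap_ne_zero (j : F₀ →+* F) {u : Fin n → F₀} (hu : u ≠ 0) : jmap j u ≠ 0 := by
  intro h
  apply hu
  ext r
  have := congrFun h r
  simp only [jmap, Pi.zero_apply] at this ⊢
  exact (map_eq_zero j).1 this

lemma jmap_dot (j : F₀ →+* F) (u w : Fin n → F₀) : jmap j u ⬝ᵥ jmap j w = j (u ⬝ᵥ w) := by
  simp only [dotProduct, jmap, map_sum, map_mul]

lemma vecMulVec_jmap (j : F₀ →+* F) (u w : Fin n → F₀) :
    (Matrix.vecMulVec u w).map j = Matrix.vecMulVec (jmap j u) (jmap j w) := by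
  ext r s
  simp [Matrix.vecMulVec_apply, jmap]

/-- a semilinear map `k ∘ τ` fixing the points `<e_i>` and `<e_i + a e_j>` (`i ≠ j`, `a` in the
subfield) is a scalar, and `τ` fixes the subfield -/
lemma semilinear_scalar' (hn : 2 ≤ n) (k : GL (Fin n) F) (τ : F ≃+* F) (j : F₀ →+* F)
    (h1 : ∀ i : Fin n, ∃ l : F, k.1 *ᵥ ee i = l • ee i)
    (h2 : ∀ (i i' : Fin n), i ≠ i' → ∀ a : F₀, ∃ l : F,
      k.1 *ᵥ vmap τ (ee i + j a • ee i') = l • (ee i + j a • ee i')) :
    (∀ a : F₀, τ (j a) = j a) ∧ k ∈ Subgroup.center (GL (Fin n) F) := by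
  choose l hl using h1
  have hl0 : ∀ i, l i ≠ 0 := by
    intro i h0
    have h3 := hl i
    rw [h0, zero_smul] at h3
    exact mulVec_ne_zero k (ee_ne_zero i) h3
  have key : ∀ (i i' : Fin n), i ≠ i' → ∀ a : F₀, τ (j a) * l i' = l i * j a := by
    intro i i' hij a
    obtain ⟨l', hl'⟩ := h2 i i' hij a
    rw [vmap_add, vmap_smul, vmap_ee, vmap_ee, Matrix.mulVec_add, Matrix.mulVec_smul, hl i,
      hl i'] at hl'
    have e1 := congrFun hl' i
    have e2 := congrFun hl' i'
    simp only [Pi.add_apply, Pi.smul_apply, ee_apply, smul_eq_mul, if_true, if_neg hij,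
      if_neg hij.symm, mul_zero, add_zero, zero_add, mul_one] at e1 e2
    rw [← e1] at e2
    rw [e2]
  have hother : ∀ i : Fin n, ∃ i' : Fin n, i ≠ i' := by
    intro i
    by_cases hi : i = ⟨0, by omega⟩
    · exact ⟨⟨1, by omega⟩, by rw [hi]; simp [Fin.ext_iff]⟩
    · exact ⟨⟨0, by omega⟩, hi⟩
  have hleq : ∀ i i' : Fin n, l i = l i' := by
    intro i i'
    by_cases hij : i = i'
    · rw [hij]
    · have := key i i' hij 1
      rw [map_one, map_one, one_mul, mul_one] at this
      exact this.symm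
  constructor
  · intro a
    obtain ⟨i', hi'⟩ := hother ⟨0, by omega⟩
    have := key _ i' hi' a
    rw [hleq i' ⟨0, by omega⟩, mul_comm] at this
    exact mul_left_cancel₀ (hl0 _) this
  · have hk : k.1 = l ⟨0, by omega⟩ • (1 : Matrix (Fin n) (Fin n) F) := by
      ext r i
      have e := congrFun (hl i) r
      rw [mulVec_ee, hleq i ⟨0, by omega⟩] at e
      rw [e]
      simp only [Pi.smul_apply, ee_apply, smul_eq_mul, Matrix.smul_apply, Matrix.one_apply]
    rw [Subgroup.mem_center_iff]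
    intro g
    apply Units.ext
    rw [Units.val_mul, Units.val_mul, hk]
    simp

/-- BAL-SC': the centralizer condition for the symplectic group of an alternating matrix over a
subfield -/
theorem cent_symp_mat' [Fintype F₀] [Fintype F] (hn : 3 ≤ n)
    (h2 : (2 : F₀) ≠ 0) (j : F₀ →+* F) (g : GL (Fin n) F₀) (hg : g.1ᵀ = -g.1)
    (k : GL (Fin n) F) (τ : F ≃+* F)
    (h : ∀ x ∈ formSL g.1, ∃ c : F, k.1 * ((x.1.map j).map τ) * (k⁻¹).1 = c • x.1.map j) :
    (∀ a : F₀, τ (j a) = j a) ∧ k ∈ Subgroup.center (GL (Fin n) F) := by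
  have key : ∀ v : Fin n → F₀, v ≠ 0 → ∃ l : F, k.1 *ᵥ vmap τ (jmap j v) = l • jmap j v := by
    intro v hv
    obtain ⟨hd, hmem⟩ := symp_tv_mem h2 g hg v
    obtain ⟨c, hc⟩ := h _ hmem
    rw [tv_coe hd] at hc
    have hw : (g⁻¹).1 *ᵥ v ≠ 0 := mulVec_ne_zero g⁻¹ hv
    have e : (1 + Matrix.vecMulVec v ((g⁻¹).1 *ᵥ v)).map j =
        1 + Matrix.vecMulVec (jmap j v) (jmap j ((g⁻¹).1 *ᵥ v)) := by
      rw [Matrix.map_add (hf := map_add j), vecMulVec_jmap, Matrix.map_one (f := j) (map_zero j) (map_one j)]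
    rw [e] at hc
    have hd' : jmap j ((g⁻¹).1 *ᵥ v) ⬝ᵥ jmap j v = 0 := by rw [jmap_dot, hd, map_zero]
    obtain ⟨⟨l, -, hl⟩, -⟩ := transvection_fix (by omega) k τ (jmap_ne_zero j hv)
      (jmap_ne_zero j hw) hd' c hc
    exact ⟨l, hl⟩
  apply semilinear_scalar' (by omega) k τ j
  · intro i
    have := key (ee i) (ee_ne_zero i)
    rwa [jmap_ee, vmap_ee] at this
  · intro i i' hij a
    have := key (ee i + a • ee i') (by
      intro h0
      have := congrFun h0 i
      simp [ee_apply, hij] at this)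
    rwa [jmap_add, jmap_smul, jmap_ee, jmap_ee] at this

end Cfsg.Agent.Lib.Helper5.Bal
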