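import Mathlib
import Cfsg.Agent.Lib.Helper5.BalRed
import Cfsg.Agent.Lib.Helper5.BalFC
import Cfsg.Agent.Lib.Helper5.BalUAbs
import Cfsg.Agent.Lib.Helper5.AutPSUOut
import Cfsg.Agent.Lib.Helper45.UAutCoset

set_option autoImplicit false
set_option linter.unusedSimpArgs false
set_option linter.unusedVariables false
set_option linter.unusedSectionVars false
set_option linter.unnecessarySeqFocus false
set_option linter.style.haveILetI false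

/-!
# Local balance in `Aut(PSU_n(q))`: the graph involutions, reductions to matrices
-/

namespace Cfsg.Agent.Lib.Helper5.BalU

open Matrix Cfsg.Agent.Lib.Helper5.AutPSU Cfsg.Agent.Lib.Helper45.UAut
  Cfsg.Agent.Lib.Helper5.BalE Cfsg.Agent.Lib.Helper5.Bal
open Cfsg.Agent.Lib.Helper45.AutPSL (tw pow_eq_tw)

variable {F : Type*} [Field F] [Fintype F] {q n : ℕ}

/-- the centre of `PSU_n(q)` is trivial -/
lemma conj_injectiveU (hF : Fintype.card F = q ^ 2) (hn : 3 ≤ n) :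
    Function.Injective (MulAut.conj : Cfsg.PSU n F q →* _) := by
  rw [injective_iff_map_eq_one]
  intro k hk
  obtain ⟨x, rfl⟩ := pr_surjective k
  rw [conj_pr, GamU_eq_one_iff hF hn] at hk
  obtain ⟨a, ha⟩ := hk
  rw [pr_eq_one_iff]
  exact mem_center_of_scalar (ν := a) ha

/-- matrices from their action on vectors -/
lemma mat_eq_smul_of_mulVec {A B : Matrix (Fin n) (Fin n) F} {c : F}
    (h : ∀ v : Fin n → F, A *ᵥ v = c • (B *ᵥ v)) : A = c • B := by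
  apply Matrix.ext_iff_mulVec.2
  intro v
  rw [h, Matrix.smul_mulVec]

/-- the elements of `SU_n(q)` preserving the bilinear form `g` -/
def formSU (n q : ℕ) (g : Matrix (Fin n) (Fin n) F) : Subgroup ↥(Cfsg.SU n F q) :=
  (formSL g).subgroupOf (Cfsg.SU n F q)

lemma mem_formSU {g : Matrix (Fin n) (Fin n) F} {x : ↥(Cfsg.SU n F q)} :
    x ∈ formSU n q g ↔ x.1.1 * g * x.1.1ᵀ = g := Iff.rfl

/-- its image in `PSU_n(q)` -/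
def LsU (n q : ℕ) (g : Matrix (Fin n) (Fin n) F) : Subgroup (Cfsg.PSU n F q) :=
  (formSU n q g).map pr

/-- the automorphism `Gam g * Phi σ` on matrices -/
lemma beta_pr (g : ↥(Cfsg.GU n F q)) (σ : F ≃+* F) (x : ↥(Cfsg.SU n F q)) :
    (GamU g * PhiU σ : MulAut (Cfsg.PSU n F q)) (pr x) = pr (conjU g (fieldU σ x)) := rfl

lemma beta_mat (g : ↥(Cfsg.GU n F q)) (σ : F ≃+* F) (x : ↥(Cfsg.SU n F q)) :
    (conjU g (fieldU σ x)).1.1 = g.1.1 * x.1.1.map σ * (g.1⁻¹).1 := rfl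

/-- the fixed points of `GamU g * PhiU σ`, `σ = (·)^q`, contain the isometries of `g` -/
lemma LsU_fix (σ : F ≃+* F) (hσ : ∀ a, σ a = a ^ q) (g : ↥(Cfsg.GU n F q)) :
    ∀ l ∈ LsU n q g.1.1, (GamU g * PhiU σ : MulAut (Cfsg.PSU n F q)) l = l := by
  rintro _ ⟨x, hx, rfl⟩
  rw [beta_pr]
  congr 1
  apply su_ext'
  rw [beta_mat, su_map_eq σ hσ x.2]
  have hx' : x.1.1 * g.1.1 * x.1.1ᵀ = g.1.1 := hx
  have h1 : x.1.1ᵀ * ((x.1⁻¹).1)ᵀ = 1 := by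
    rw [← Matrix.transpose_mul, sl_inv_mul, Matrix.transpose_one]
  calc g.1.1 * ((x.1⁻¹).1)ᵀ * (g.1⁻¹).1
      = (x.1.1 * g.1.1 * x.1.1ᵀ) * ((x.1⁻¹).1)ᵀ * (g.1⁻¹).1 := by rw [hx']
    _ = x.1.1 * g.1.1 * (x.1.1ᵀ * ((x.1⁻¹).1)ᵀ) * (g.1⁻¹).1 := by simp only [Matrix.mul_assoc]
    _ = x.1.1 * (g.1.1 * (g.1⁻¹).1) := by rw [h1, Matrix.mul_one, Matrix.mul_assoc]
    _ = x.1.1 := by rw [gl_mul_inv, Matrix.mul_one]

/-- the fixed points of `GamU g * PhiU σ` are similitudes of `g` -/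
lemma fix_betaU (hF : Fintype.card F = q ^ 2) (hn : 3 ≤ n) (σ : F ≃+* F)
    (hσ : ∀ a, σ a = a ^ q) (g : ↥(Cfsg.GU n F q)) (y : ↥(Cfsg.SU n F q))
    (h : (GamU g * PhiU σ : MulAut (Cfsg.PSU n F q)) (pr y) = pr y) :
    ∃ c : F, c ≠ 0 ∧ y.1.1 * g.1.1 * y.1.1ᵀ = c • g.1.1 := by
  rw [beta_pr] at h
  obtain ⟨r, hr, hr2⟩ := exists_smul_of_pr_eq hF hn h
  have hr3 : y.1.1 = r • (g.1.1 * y.1.1.map σ * (g.1⁻¹).1) := mat_eq_smul_of_mulVec hr2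
  rw [su_map_eq σ hσ y.2] at hr3
  have hr0 : r ≠ 0 := by
    rintro rfl
    rw [zero_mul] at hr
    exact zero_ne_one hr
  refine ⟨r, hr0, ?_⟩
  have h1 : ((y.1⁻¹).1)ᵀ * y.1.1ᵀ = 1 := by
    rw [← Matrix.transpose_mul, sl_mul_inv, Matrix.transpose_one]
  calc y.1.1 * g.1.1 * y.1.1ᵀ
      = (r • (g.1.1 * ((y.1⁻¹).1)ᵀ * (g.1⁻¹).1)) * g.1.1 * y.1.1ᵀ := by rw [← hr3]
    _ = r • (g.1.1 * ((y.1⁻¹).1)ᵀ * ((g.1⁻¹).1 * g.1.1) * y.1.1ᵀ) := by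
        simp only [Matrix.smul_mul, Matrix.mul_assoc]
    _ = r • (g.1.1 * (((y.1⁻¹).1)ᵀ * y.1.1ᵀ)) := by
        rw [gl_inv_mul, Matrix.mul_one, Matrix.mul_assoc]
    _ = r • g.1.1 := by rw [h1, Matrix.mul_one]

/-- the fixed points of `GamU g * PhiU σ` normalize the isometries of `g` -/
lemma LsU_norm (hF : Fintype.card F = q ^ 2) (hn : 3 ≤ n) (σ : F ≃+* F)
    (hσ : ∀ a, σ a = a ^ q) (g : ↥(Cfsg.GU n F q)) :
    ∀ k : Cfsg.PSU n F q, (GamU g * PhiU σ : MulAut (Cfsg.PSU n F q)) k = k →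
      ∀ l ∈ LsU n q g.1.1, k * l * k⁻¹ ∈ LsU n q g.1.1 := by
  intro k hk l hl
  obtain ⟨y, rfl⟩ := pr_surjective k
  obtain ⟨z, hz, rfl⟩ := hl
  obtain ⟨c, hc0, hc⟩ := fix_betaU hF hn σ hσ g y hk
  refine ⟨y * z * y⁻¹, ?_, by rw [map_mul, map_mul, map_inv]⟩
  have hz' : z.1.1 * g.1.1 * z.1.1ᵀ = g.1.1 := hz
  show (y * z * y⁻¹).1.1 * g.1.1 * ((y * z * y⁻¹).1.1)ᵀ = g.1.1
  have e : (y * z * y⁻¹).1.1 = y.1.1 * z.1.1 * (y.1⁻¹).1 := rfl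
  rw [e, Matrix.transpose_mul, Matrix.transpose_mul]
  have h1 : (y.1⁻¹).1 * g.1.1 * ((y.1⁻¹).1)ᵀ = c⁻¹ • g.1.1 := by
    have h2 : ((y.1⁻¹).1 * y.1.1) * g.1.1 * (y.1.1ᵀ * ((y.1⁻¹).1)ᵀ) =
        c • ((y.1⁻¹).1 * g.1.1 * ((y.1⁻¹).1)ᵀ) := by
      calc ((y.1⁻¹).1 * y.1.1) * g.1.1 * (y.1.1ᵀ * ((y.1⁻¹).1)ᵀ)
          = (y.1⁻¹).1 * (y.1.1 * g.1.1 * y.1.1ᵀ) * ((y.1⁻¹).1)ᵀ := by simp only [Matrix.mul_assoc]
        _ = c • ((y.1⁻¹).1 * g.1.1 * ((y.1⁻¹).1)ᵀ) := by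
            rw [hc]; simp only [Matrix.mul_smul, Matrix.smul_mul]
    rw [sl_inv_mul, ← Matrix.transpose_mul, sl_inv_mul, Matrix.transpose_one, Matrix.one_mul,
      Matrix.mul_one] at h2
    exact ((inv_smul_eq_iff₀ hc0).2 h2).symm
  calc y.1.1 * z.1.1 * (y.1⁻¹).1 * g.1.1 * (((y.1⁻¹).1)ᵀ * (z.1.1ᵀ * y.1.1ᵀ))
      = y.1.1 * z.1.1 * ((y.1⁻¹).1 * g.1.1 * ((y.1⁻¹).1)ᵀ) * z.1.1ᵀ * y.1.1ᵀ := by
        simp only [Matrix.mul_assoc]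
    _ = c⁻¹ • (y.1.1 * (z.1.1 * g.1.1 * z.1.1ᵀ) * y.1.1ᵀ) := by
        rw [h1]; simp only [Matrix.mul_smul, Matrix.smul_mul, Matrix.mul_assoc]
    _ = g.1.1 := by rw [hz', hc, smul_smul, inv_mul_cancel₀ hc0, one_smul]

end Cfsg.Agent.Lib.Helper5.BalU
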