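import Mathlib
import Cfsg.Agent.Lib.Helper5.BalUGlue

set_option autoImplicit false
set_option linter.unusedSimpArgs false
set_option linter.unusedVariables false
set_option linter.unusedSectionVars false
set_option linter.unnecessarySeqFocus false
set_option linter.style.haveILetI false

/-!
# Local balance in `Aut(PSU_n(q))`: consequences of the descent of the form to `F_q`
-/

namespace Cfsg.Agent.Lib.Helper5.BalU

open Matrix Cfsg.Agent.Lib.Helper5.AutPSU Cfsg.Agent.Lib.Helper45.UAut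
  Cfsg.Agent.Lib.Helper5.BalE Cfsg.Agent.Lib.Helper5.Bal
open Cfsg.Agent.Lib.Helper45.AutPSL (glS glS_val)

variable {F : Type*} [Field F] [Fintype F] {q n : ℕ} {F₀ : Type*} [Field F₀]

/-- `y ↦ a j(y) a⁻¹` -/
noncomputable def descHom (a : GL (Fin n) F) (j : F₀ →+* F) :
    SpecialLinearGroup (Fin n) F₀ →* SpecialLinearGroup (Fin n) F :=
  (AutPSLn.conjS a).toMonoidHom.comp (SpecialLinearGroup.map j)

lemma descHom_coe (a : GL (Fin n) F) (j : F₀ →+* F) (y : SpecialLinearGroup (Fin n) F₀) :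
    (descHom a j y).1 = a.1 * y.1.map j * (a⁻¹).1 := rfl

/-- the descent data -/
structure Desc (n q : ℕ) (g : Matrix (Fin n) (Fin n) F) (j : F₀ →+* F) (a : GL (Fin n) F)
    (g₀ : Matrix (Fin n) (Fin n) F₀) : Prop where
  iff : ∀ x : SpecialLinearGroup (Fin n) F,
    (x ∈ Cfsg.SU n F q ∧ x.1 * g * x.1ᵀ = g) ↔
      ∃ y ∈ formSL g₀, x.1 = a.1 * y.1.map j * (a⁻¹).1

variable {g : Matrix (Fin n) (Fin n) F} {j : F₀ →+* F} {a : GL (Fin n) F}
  {g₀ : Matrix (Fin n) (Fin n) F₀}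

lemma Desc.mem (D : Desc n q g j a g₀) (y : ↥(formSL g₀)) :
    descHom a j y.1 ∈ Cfsg.SU n F q ∧ (descHom a j y.1).1 * g * ((descHom a j y.1).1)ᵀ = g :=
  (D.iff _).2 ⟨y.1, y.2, rfl⟩

/-- the isomorphism of the isometry group over `F₀` onto the fixed isometry group in `SU_n(q)` -/
noncomputable def Desc.psi (D : Desc n q g j a g₀) : ↥(formSL g₀) →* ↥(Cfsg.SU n F q) :=
  ((descHom a j).comp (formSL g₀).subtype).codRestrict (Cfsg.SU n F q) (fun y => (D.mem y).1)

lemma Desc.psi_coe (D : Desc n q g j a g₀) (y : ↥(formSL g₀)) :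
    (D.psi y).1.1 = a.1 * y.1.1.map j * (a⁻¹).1 := rfl

lemma Desc.range_psi (D : Desc n q g j a g₀) : D.psi.range = formSU n q g := by
  ext x
  constructor
  · rintro ⟨y, rfl⟩
    exact (D.mem y).2
  · intro hx
    obtain ⟨y, hy, e⟩ := (D.iff x.1).1 ⟨x.2, hx⟩
    refine ⟨⟨y, hy⟩, ?_⟩
    apply su_ext'
    rw [e]
    rfl

/-- scalar matrices and the map `j` -/
lemma map_eq_smul_one_iff (hn : 1 ≤ n) (j : F₀ →+* F) (y : Matrix (Fin n) (Fin n) F₀) :
    (∃ ν : F, y.map j = ν • (1 : Matrix (Fin n) (Fin n) F)) ↔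
      ∃ c : F₀, y = c • (1 : Matrix (Fin n) (Fin n) F₀) := by
  constructor
  · rintro ⟨ν, hν⟩
    refine ⟨y ⟨0, by omega⟩ ⟨0, by omega⟩, ?_⟩
    ext i k
    apply j.injective
    have h1 := congrFun (congrFun hν i) k
    have h0 := congrFun (congrFun hν ⟨0, by omega⟩) ⟨0, by omega⟩
    simp only [Matrix.map_apply, Matrix.smul_apply, Matrix.one_apply_eq, smul_eq_mul, mul_one] at h0
    simp only [Matrix.map_apply, Matrix.smul_apply, smul_eq_mul] at h1
    rw [h1, Matrix.smul_apply, smul_eq_mul, map_mul, h0]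
    by_cases hik : i = k
    · subst hik
      simp
    · simp [Matrix.one_apply_ne hik]
  · rintro ⟨c, rfl⟩
    refine ⟨j c, ?_⟩
    ext i k
    by_cases hik : i = k
    · subst hik
      simp
    · simp [Matrix.one_apply_ne hik]

/-- conjugates of scalar matrices -/
lemma conj_eq_smul_one_iff (a : GL (Fin n) F) (A : Matrix (Fin n) (Fin n) F) (ν : F) :
    a.1 * A * (a⁻¹).1 = ν • (1 : Matrix (Fin n) (Fin n) F) ↔ A = ν • 1 := by
  constructor
  · intro h
    calc A = ((a⁻¹).1 * a.1) * A * ((a⁻¹).1 * a.1) := by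
          rw [gl_inv_mul, Matrix.one_mul, Matrix.mul_one]
      _ = (a⁻¹).1 * (a.1 * A * (a⁻¹).1) * a.1 := by simp only [Matrix.mul_assoc]
      _ = ν • 1 := by
          rw [h, Matrix.mul_smul, Matrix.smul_mul, Matrix.mul_one, gl_inv_mul]
  · rintro rfl
    rw [Matrix.mul_smul, Matrix.smul_mul, Matrix.mul_one, gl_mul_inv]

/-- the two projective images of the isometry group over `F₀` have the same kernel -/
lemma Desc.ker_eq (hF : Fintype.card F = q ^ 2) (hn : 3 ≤ n) (D : Desc n q g j a g₀) :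
    ((AutPSLn.pr : SpecialLinearGroup (Fin n) F₀ →* _).comp (formSL g₀).subtype).ker =
      ((pr : ↥(Cfsg.SU n F q) →* Cfsg.PSU n F q).comp D.psi).ker := by
  ext y
  rw [MonoidHom.mem_ker, MonoidHom.mem_ker, MonoidHom.comp_apply, MonoidHom.comp_apply,
    pr_eq_one_iff, AutPSLn.pr_def, QuotientGroup.eq_one_iff]
  have hL : (formSL g₀).subtype y ∈ Subgroup.center (SpecialLinearGroup (Fin n) F₀) ↔
      ∃ c : F₀, y.1.1 = c • (1 : Matrix (Fin n) (Fin n) F₀) := by
    rw [Matrix.SpecialLinearGroup.mem_center_iff]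
    constructor
    · rintro ⟨r, -, hr⟩
      refine ⟨r, ?_⟩
      have h3 : Matrix.scalar (Fin n) r = y.1.1 := hr
      rw [Matrix.scalar_apply, ← Matrix.smul_one_eq_diagonal] at h3
      exact h3.symm
    · rintro ⟨c, hc⟩
      refine ⟨c, ?_, ?_⟩
      · have hd := y.1.2
        rw [hc, Matrix.det_smul, Matrix.det_one, mul_one] at hd
        exact hd
      · show Matrix.scalar (Fin n) c = y.1.1
        rw [hc, Matrix.scalar_apply, Matrix.smul_one_eq_diagonal]
  have hR : D.psi y ∈ Subgroup.center ↥(Cfsg.SU n F q) ↔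
      ∃ ν : F, y.1.1.map j = ν • (1 : Matrix (Fin n) (Fin n) F) := by
    constructor
    · intro h
      obtain ⟨ν, -, hν⟩ := exists_scalar_of_mem_center hF hn h
      refine ⟨ν, ?_⟩
      have h1 : (D.psi y).1.1 = ν • (1 : Matrix (Fin n) (Fin n) F) := by
        apply mat_eq_smul_of_mulVec
        intro v
        rw [Matrix.one_mulVec]
        exact hν v
      rw [D.psi_coe] at h1
      exact (conj_eq_smul_one_iff a _ ν).1 h1
    · rintro ⟨ν, hν⟩
      apply mem_center_of_scalar (ν := ν)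
      intro v
      show (D.psi y).1.1 *ᵥ v = ν • v
      rw [D.psi_coe, (conj_eq_smul_one_iff a _ ν).2 hν, Matrix.smul_mulVec, Matrix.one_mulVec]
  rw [hL, hR, map_eq_smul_one_iff (by omega)]

/-- **transport of `O_{2'} = 1`** from `PSL_n(F₀)` to `PSU_n(q)` -/
theorem Desc.simple (hF : Fintype.card F = q ^ 2) (hn : 3 ≤ n) (D : Desc n q g j a g₀) (p : ℕ)
    (h₁ : ∀ M : Subgroup (Matrix.ProjectiveSpecialLinearGroup (Fin n) F₀), M ≤ LG g₀ →
      (∀ l ∈ LG g₀, ∀ m ∈ M, l * m * l⁻¹ ∈ M) → (Nat.card ↥M).Coprime p → M = ⊥) :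
    ∀ M : Subgroup (Cfsg.PSU n F q), M ≤ LsU n q g →
      (∀ l ∈ LsU n q g, ∀ m ∈ M, l * m * l⁻¹ ∈ M) → (Nat.card ↥M).Coprime p → M = ⊥ := by
  have e1 : ((AutPSLn.pr : SpecialLinearGroup (Fin n) F₀ →* _).comp (formSL g₀).subtype).range =
      LG g₀ := by
    rw [MonoidHom.range_comp, Subgroup.range_subtype]
    rfl
  have e2 : ((pr : ↥(Cfsg.SU n F q) →* Cfsg.PSU n F q).comp D.psi).range = LsU n q g := by
    rw [MonoidHom.range_comp, D.range_psi]
    rfl
  have := simple_transport _ _ (D.ker_eq hF hn) p (by rw [e1]; exact h₁)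
  rw [e2] at this
  exact this

end Cfsg.Agent.Lib.Helper5.BalU
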