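import Mathlib
import Cfsg.Agent.Lib.Helper5.BalUDesc
import Cfsg.Agent.Lib.Helper5.AutPSUMain

set_option autoImplicit false
set_option linter.unusedSimpArgs false
set_option linter.unusedVariables false
set_option linter.unusedSectionVars false
set_option linter.unnecessarySeqFocus false
set_option linter.style.haveILetI false

/-!
# Local balance in `Aut(PSU_n(q))`: the centralizer condition for the graph involutions
-/

namespace Cfsg.Agent.Lib.Helper5.BalU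

open Matrix Cfsg.Agent.Lib.Helper5.AutPSU Cfsg.Agent.Lib.Helper45.UAut
  Cfsg.Agent.Lib.Helper5.BalE Cfsg.Agent.Lib.Helper5.Bal
open Cfsg.Agent.Lib.Helper45.AutPSL (glS glS_val tw pow_eq_tw)

variable {F : Type*} [Field F] [Fintype F] {q n : ℕ} {F₀ : Type*} [Field F₀]

/-- an automorphism `GamU k * PhiU τ` fixing the class of `x`: matrix form -/
lemma mat_of_fixU (hF : Fintype.card F = q ^ 2) (hn : 3 ≤ n) (k : ↥(Cfsg.GU n F q))
    (τ : F ≃+* F) (x : ↥(Cfsg.SU n F q))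
    (h : (GamU k * PhiU τ : MulAut (Cfsg.PSU n F q)) (pr x) = pr x) :
    ∃ c : F, k.1.1 * x.1.1.map τ * (k.1⁻¹).1 = c • x.1.1 := by
  rw [beta_pr] at h
  obtain ⟨r, -, hr2⟩ := exists_smul_of_pr_eq hF hn h.symm
  exact ⟨r, mat_eq_smul_of_mulVec hr2⟩

/-- **reduction of the centralizer condition to matrices** -/
theorem cent_of_matU (hF : Fintype.card F = q ^ 2) (hn : 3 ≤ n) (hq : ¬ (n = 3 ∧ q = 2))
    (r : ℕ) [Fact r.Prime] [CharP F r] (σ : F ≃+* F) (hσ2 : σ ^ 2 = 1) (hσ1 : σ ≠ 1)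
    (S : Subgroup ↥(Cfsg.SU n F q))
    (hS : ∀ (k : GL (Fin n) F) (τ : F ≃+* F),
      (∀ x ∈ S, ∃ c : F, k.1 * x.1.1.map τ * (k⁻¹).1 = c • x.1.1) →
        (∀ b, σ b = b → τ b = b) ∧ (τ = 1 → k ∈ Subgroup.center (GL (Fin n) F))) :
    ∀ ν : MulAut (Cfsg.PSU n F q),
      (∃ m : ℕ, m.Coprime 2 ∧ ν ^ m = 1) → (∀ l ∈ S.map pr, ν l = l) → ν = 1 := by
  rintro ν ⟨m, hm, hνm⟩ hν
  obtain ⟨k, τ, rfl⟩ := exists_GamU_PhiU r hF hn hq ν
  have e1 := pow_eq_tw (GamU : ↥(Cfsg.GU n F q) →* MulAut (Cfsg.PSU n F q)) (PhiU τ) (guS τ)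
    (PhiU_mul_GamU' τ) k m
  rw [hνm, PhiU_pow] at e1
  have hτm : τ ^ m = 1 := (scalar_of_nf_eq_one hF hn e1.symm).1
  obtain ⟨hτfix, hk⟩ := hS k.1 τ
    (fun x hx => mat_of_fixU hF hn k τ x (hν _ ⟨x, hx, rfl⟩))
  have hτz := fc_mem_zpowers_of_fix σ τ hτfix
  have hord : orderOf σ = 2 := orderOf_eq_prime hσ2 hσ1
  have hmodd : Odd m := by
    rcases Nat.even_or_odd m with he | ho
    · exfalso
      have : 2 ∣ m := even_iff_two_dvd.1 he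
      have := Nat.Coprime.eq_one_of_dvd hm.symm this
      omega
    · exact ho
  have hτ1 : τ = 1 := by
    obtain ⟨z, rfl⟩ := Subgroup.mem_zpowers_iff.1 hτz
    rw [← zpow_mod_orderOf, hord]
    rcases Int.emod_two_eq_zero_or_one z with h0 | h1
    · rw [show z % ((2 : ℕ) : ℤ) = 0 from h0, zpow_zero]
    · exfalso
      rw [← zpow_mod_orderOf, hord, show z % ((2 : ℕ) : ℤ) = 1 from h1, zpow_one] at hτm
      obtain ⟨t, rfl⟩ := hmodd
      rw [pow_succ, pow_mul, hσ2, one_pow, one_mul] at hτm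
      exact hσ1 hτm
  have hk1 := hk hτ1
  rw [hτ1, map_one, mul_one, GamU_eq_one_iff hF hn]
  obtain ⟨c, hc⟩ := (Matrix.GeneralLinearGroup.mem_center_iff_val_mem_range_scalar).1 hk1
  refine ⟨c, fun v => ?_⟩
  rw [← hc, Matrix.scalar_apply, ← Matrix.smul_one_eq_diagonal, Matrix.smul_mulVec,
    Matrix.one_mulVec]

lemma glS_one_apply (a : GL (Fin n) F) : glS (1 : F ≃+* F) a = a := by
  apply Units.ext
  rw [glS_val]
  ext i k
  rfl

variable {g : Matrix (Fin n) (Fin n) F} {j : F₀ →+* F} {a : GL (Fin n) F}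
  {g₀ : Matrix (Fin n) (Fin n) F₀}

/-- the matrix centralizer condition, through the descent -/
theorem Desc.cent_mat (D : Desc n q g j a g₀)
    (hC : ∀ (k : GL (Fin n) F) (τ : F ≃+* F),
      (∀ y ∈ formSL g₀, ∃ c : F, k.1 * ((y.1.map j).map τ) * (k⁻¹).1 = c • y.1.map j) →
        (∀ a₀ : F₀, τ (j a₀) = j a₀) ∧ k ∈ Subgroup.center (GL (Fin n) F)) :
    ∀ (k : GL (Fin n) F) (τ : F ≃+* F),
      (∀ x ∈ formSU n q g, ∃ c : F, k.1 * x.1.1.map τ * (k⁻¹).1 = c • x.1.1) →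
        (∀ a₀ : F₀, τ (j a₀) = j a₀) ∧ (τ = 1 → k ∈ Subgroup.center (GL (Fin n) F)) := by
  intro k τ h
  obtain ⟨k', hk'⟩ : ∃ k' : GL (Fin n) F, k' = a⁻¹ * k * glS τ a := ⟨_, rfl⟩
  have hk'v : k'.1 = (a⁻¹).1 * k.1 * a.1.map τ := by rw [hk']; rfl
  have hk'i : (k'⁻¹).1 = (a⁻¹).1.map τ * (k⁻¹).1 * a.1 := by
    have : k'⁻¹ = glS τ a⁻¹ * k⁻¹ * a := by rw [hk', map_inv]; group
    rw [this]
    rfl
  obtain ⟨hfix, hcen⟩ := hC k' τ (by
    intro y hy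
    have hx : D.psi ⟨y, hy⟩ ∈ formSU n q g := (D.mem ⟨y, hy⟩).2
    obtain ⟨c, hc⟩ := h _ hx
    refine ⟨c, ?_⟩
    rw [D.psi_coe] at hc
    have e1 : (a.1 * y.1.map j * (a⁻¹).1).map τ =
        a.1.map τ * (y.1.map j).map τ * (a⁻¹).1.map τ := by
      rw [Matrix.map_mul (f := τ), Matrix.map_mul (f := τ)]
    rw [e1] at hc
    rw [hk'v, hk'i]
    calc (a⁻¹).1 * k.1 * a.1.map τ * (y.1.map j).map τ * ((a⁻¹).1.map τ * (k⁻¹).1 * a.1)
        = (a⁻¹).1 * (k.1 * (a.1.map τ * (y.1.map j).map τ * (a⁻¹).1.map τ) * (k⁻¹).1) * a.1 := by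
          simp only [Matrix.mul_assoc]
      _ = c • (((a⁻¹).1 * a.1) * y.1.map j * ((a⁻¹).1 * a.1)) := by
          rw [hc]
          simp only [Matrix.mul_smul, Matrix.smul_mul, Matrix.mul_assoc]
      _ = c • y.1.map j := by rw [gl_inv_mul, Matrix.one_mul, Matrix.mul_one])
  refine ⟨hfix, ?_⟩
  rintro rfl
  rw [glS_one_apply] at hk'
  have : k = a * k' * a⁻¹ := by rw [hk']; group
  rw [this, Subgroup.mem_center_iff.1 hcen a, mul_inv_cancel_right]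
  exact hcen

/-- **`GoodE` for a graph involution of `PSU_n(q)`**, from the descent and the leaves over `F_q` -/
theorem goodE_graphU (hF : Fintype.card F = q ^ 2) (hn : 3 ≤ n) (hq : ¬ (n = 3 ∧ q = 2))
    (r : ℕ) [Fact r.Prime] [CharP F r] (σ : F ≃+* F) (hσ : ∀ b, σ b = b ^ q) (hσ2 : σ ^ 2 = 1)
    (hσ1 : σ ≠ 1) (gU : ↥(Cfsg.GU n F q)) (D : Desc n q gU.1.1 j a g₀)
    (hj : ∀ b : F, σ b = b → ∃ a₀ : F₀, j a₀ = b)
    (hsimple : ∀ M : Subgroup (Matrix.ProjectiveSpecialLinearGroup (Fin n) F₀), M ≤ LG g₀ →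
      (∀ l ∈ LG g₀, ∀ m ∈ M, l * m * l⁻¹ ∈ M) → (Nat.card ↥M).Coprime 2 → M = ⊥)
    (hC : ∀ (k : GL (Fin n) F) (τ : F ≃+* F),
      (∀ y ∈ formSL g₀, ∃ c : F, k.1 * ((y.1.map j).map τ) * (k⁻¹).1 = c • y.1.map j) →
        (∀ a₀ : F₀, τ (j a₀) = j a₀) ∧ k ∈ Subgroup.center (GL (Fin n) F)) :
    GoodE 2 (GamU gU * PhiU σ : MulAut (Cfsg.PSU n F q)) (LsU n q gU.1.1) := by
  refine ⟨LsU_fix σ hσ gU, LsU_norm hF hn σ hσ gU, D.simple hF hn 2 hsimple, ?_⟩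
  apply cent_of_matU hF hn hq r σ hσ2 hσ1 (formSU n q gU.1.1)
  intro k τ h
  obtain ⟨h1, h2⟩ := D.cent_mat hC k τ h
  refine ⟨fun b hb => ?_, h2⟩
  obtain ⟨a₀, rfl⟩ := hj b hb
  exact h1 a₀

end Cfsg.Agent.Lib.Helper5.BalU
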