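import Mathlib
import Cfsg.Agent.Lib.Helper5.BalUCent
import Cfsg.Agent.Lib.Helper5.BalSCp
import Cfsg.Agent.Lib.Helper45.AutPSLFrob
import Cfsg.Agent.Lib.Helper2.BalOS2
import Cfsg.Agent.Lib.Helper43.BalOCp
import Cfsg.Agent.S0282
import Cfsg.Agent.Lib.Helper39.BalSS
import Cfsg.Agent.Lib.Helper65.BalUDesc
import Cfsg.Agent.Lib.Helper45.BalUGood

set_option autoImplicit false
set_option linter.unusedSimpArgs false
set_option linter.unusedVariables false
set_option linter.unusedSectionVars false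
set_option linter.unnecessarySeqFocus false
set_option linter.style.haveILetI false

/-!
# Local balance in `Aut(PSU_n(q))`: the main theorem (S2687)
-/

namespace Cfsg.Agent.Lib.Helper5.BalU

open Matrix Cfsg.Agent.Lib.Helper5.AutPSU Cfsg.Agent.Lib.Helper45.UAut
  Cfsg.Agent.Lib.Helper5.BalE Cfsg.Agent.Lib.Helper5.Bal Cfsg.Agent.Lib.Helper45
open Cfsg.Agent.Lib.Helper45.SpAut (fixK mem_fixK)
open Cfsg.Agent.Lib.Helper45.AutPSL (tw pow_eq_tw frob_of_order_two)

variable {F : Type*} [Field F] [Fintype F] {q n : ℕ}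

/-- `PSU_3(2)` is not simple -/
lemma not_three_two (hF : Fintype.card F = q ^ 2) (hK : IsSimpleGroup (Cfsg.PSU n F q)) :
    ¬ (n = 3 ∧ q = 2) := by
  rintro ⟨rfl, rfl⟩
  obtain ⟨h72, hsol⟩ := Cfsg.Agent.S0282.result (F := F) (by rw [hF]; norm_num)
  have hcomm := (IsSimpleGroup.comm_iff_isSolvable (G := Cfsg.PSU 3 F 2)).2 hsol
  letI : CommGroup (Cfsg.PSU 3 F 2) := { (inferInstance : Group (Cfsg.PSU 3 F 2)) with
    mul_comm := hcomm }
  have hp := IsSimpleGroup.prime_card (α := Cfsg.PSU 3 F 2)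
  rw [h72] at hp
  norm_num at hp

/-- `q` is a power of the characteristic -/
lemma exists_q_pow (r : ℕ) [Fact r.Prime] [CharP F r] (hF : Fintype.card F = q ^ 2) :
    ∃ f : ℕ, q = r ^ f ∧ Fintype.card F = r ^ (2 * f) := by
  have hr : r.Prime := Fact.out
  obtain ⟨m, -, hm⟩ := FiniteField.card F r
  have h1 : q ∣ r ^ (m : ℕ) := by rw [← hm, hF]; exact Dvd.intro_left _ (by ring)
  obtain ⟨f, -, rfl⟩ := (Nat.dvd_prime_pow hr).1 h1
  refine ⟨f, rfl, ?_⟩
  rw [hF, ← pow_mul, mul_comm]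

/-- a matrix which is a scalar multiple of its transpose -/
lemma symm_or_skew (hn : 1 ≤ n) (g : GL (Fin n) F) (c : F) (h : g.1 = c • g.1ᵀ) :
    g.1ᵀ = g.1 ∨ g.1ᵀ = -g.1 := by
  have h1 : g.1ᵀ = c • g.1 := by
    have := congrArg Matrix.transpose h
    rwa [Matrix.transpose_smul, Matrix.transpose_transpose] at this
  have h2 : g.1 = (c * c) • g.1 := by
    conv_lhs => rw [h, h1, smul_smul]
  have h3 : c * c = 1 := by
    by_contra hne
    have h4 : (1 - c * c) • g.1 = 0 := by rw [sub_smul, one_smul, ← h2, sub_self]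
    have h5 : g.1 = 0 := by
      rcases smul_eq_zero.1 h4 with h6 | h6
      · exact absurd (sub_eq_zero.1 h6).symm hne
      · exact h6
    have h7 := gl_mul_inv g
    rw [h5, Matrix.zero_mul] at h7
    have h8 := congrFun (congrFun h7 ⟨0, by omega⟩) ⟨0, by omega⟩
    simp at h8
  have h4 : (c - 1) * (c + 1) = 0 := by linear_combination h3
  rcases mul_eq_zero.1 h4 with h5 | h5
  · left
    rw [h1, sub_eq_zero.1 h5, one_smul]
  · right
    rw [h1, eq_neg_of_add_eq_zero_left h5, neg_smul, one_smul]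

/-- **local balance for `PSU_n(q)`** and a non-inner-diagonal automorphism of prime order
different from the characteristic -/
theorem psu_balance {r : ℕ} [Fact r.Prime] [CharP F r] (hF : Fintype.card F = q ^ 2) (hn : 3 ≤ n)
    (hK : IsSimpleGroup (Cfsg.PSU n F q))
    (A : Subgroup (MulAut (Cfsg.PSU n F q))) (hinn : ∀ k : Cfsg.PSU n F q, MulAut.conj k ∈ A)
    {p : ℕ} [Fact p.Prime] (hpr : p ≠ r) (β : MulAut (Cfsg.PSU n F q)) (hord : orderOf β = p)
    (hnot : ¬ Cfsg.IsInnerDiagonalAutPSU β) :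
    Cfsg.pPrimeCore p ↥(A ⊓ Subgroup.centralizer {β}) ≠ ⊥ ↔
      ((∃ γ φ : MulAut (Cfsg.PSU n F q), Cfsg.IsInnerDiagonalAutPSU γ ∧
          (∃ σ : F ≃+* F, Cfsg.IsFieldAutPSUOf σ φ) ∧ β = φ.trans γ) ∧
        Nat.Coprime p (Nat.card ↥(MonoidHom.eqLocus β.toMonoidHom
          (MonoidHom.id (Cfsg.PSU n F q))))) := by
  classical
  have hp : p.Prime := Fact.out
  have hr : r.Prime := Fact.out
  have hq := not_three_two hF hK
  haveI : Nontrivial (Cfsg.PSU n F q) := IsSimpleGroup.toNontrivial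
  obtain ⟨f, hqf, hFf⟩ := exists_q_pow r hF
  obtain ⟨g, σ, hβ⟩ := exists_GamU_PhiU r hF hn hq β
  have hβp : β ^ p = 1 := by rw [← hord]; exact pow_orderOf_eq_one β
  have hfirst : ∃ γ φ : MulAut (Cfsg.PSU n F q), Cfsg.IsInnerDiagonalAutPSU γ ∧
      (∃ σ : F ≃+* F, Cfsg.IsFieldAutPSUOf σ φ) ∧ β = φ.trans γ :=
    ⟨GamU g, PhiU σ, isInnerDiagonal_GamU g, ⟨σ, isFieldAut_PhiU σ⟩, by rw [hβ]; rfl⟩
  have hσ1 : σ ≠ 1 := by
    rintro rfl
    apply hnot
    rw [hβ, map_one, mul_one]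
    exact isInnerDiagonal_GamU g
  have hσp : σ ^ p = 1 := by
    have e1 := pow_eq_tw (GamU : ↥(Cfsg.GU n F q) →* MulAut (Cfsg.PSU n F q)) (PhiU σ) (guS σ)
      (PhiU_mul_GamU' σ) g p
    rw [← hβ, hβp, PhiU_pow] at e1
    exact (scalar_of_nf_eq_one hF hn e1.symm).1
  have hσord : orderOf σ = p := orderOf_eq_prime hσp hσ1
  have hβInn : β ∉ Cfsg.Inn (Cfsg.PSU n F q) := by
    rintro ⟨k, rfl⟩
    apply hnot
    obtain ⟨s, rfl⟩ := pr_surjective k
    rw [conj_pr]
    exact isInnerDiagonal_GamU _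
  have hZ := conj_injectiveU (n := n) hF hn
  by_cases hp2 : p = 2
  · -- the graph involutions
    subst hp2
    have h2F : (2 : F) ≠ 0 := by
      intro h
      have h1 : ((2 : ℕ) : F) = 0 := by exact_mod_cast h
      have h2 := (CharP.cast_eq_zero_iff F r 2).1 h1
      exact hpr ((Nat.prime_dvd_prime_iff_eq hr Nat.prime_two).1 h2).symm
    obtain ⟨-, hfrob⟩ := frob_of_order_two r (2 * f) hFf σ hσord
    have hσ : ∀ b, σ b = b ^ q := by
      intro b
      rw [hfrob b, Nat.mul_div_cancel_left _ (by norm_num : 0 < 2), hqf]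
    -- `g g^σ` is scalar
    have hsq : (GamU (g * mapGU σ g) : MulAut (Cfsg.PSU n F q)) = 1 := by
      have e := nf_mulU g g σ σ
      rw [← hβ, ← pow_two, hβp, ← pow_two, hσp, map_one, mul_one] at e
      exact e.symm
    obtain ⟨c, hc⟩ := (GamU_eq_one_iff hF hn _).1 hsq
    have hc' : g.1.1 * g.1.1.map σ = c • (1 : Matrix (Fin n) (Fin n) F) := by
      apply mat_eq_smul_of_mulVec
      intro v
      rw [Matrix.one_mulVec]
      exact hc v
    have hgU : g.1.1ᵀ * g.1.1.map σ = 1 := (Cfsg.Agent.Lib.Helper5.AutPSLn.mem_GU_iff_mul σ hσ g.1).1 g.2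
    have hgU' : g.1.1.map σ * g.1.1ᵀ = 1 := mul_eq_one_comm.1 hgU
    have hgc : g.1.1 = c • g.1.1ᵀ := by
      calc g.1.1 = g.1.1 * (g.1.1.map σ * g.1.1ᵀ) := by rw [hgU', Matrix.mul_one]
        _ = (g.1.1 * g.1.1.map σ) * g.1.1ᵀ := by rw [Matrix.mul_assoc]
        _ = c • g.1.1ᵀ := by rw [hc', Matrix.smul_mul, Matrix.one_mul]
    letI : Fintype ↥(fixK σ) := Fintype.ofFinite _
    have h2F₀ : (2 : ↥(fixK σ)) ≠ 0 := by
      intro h
      apply h2F
      have h3 : (((1 : ↥(fixK σ)) + 1 : ↥(fixK σ)) : F) = 0 := by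
        rw [one_add_one_eq_two, h]; rfl
      rw [← one_add_one_eq_two]
      exact h3
    have hj : ∀ b : F, σ b = b → ∃ a₀ : ↥(fixK σ), (fixK σ).subtype a₀ = b :=
      fun b hb => ⟨⟨b, hb⟩, rfl⟩
    have hσ2 : σ ^ 2 = 1 := hσp
    have hGoodE : GoodE 2 (GamU g * PhiU σ : MulAut (Cfsg.PSU n F q)) (LsU n q g.1.1) := by
      rcases symm_or_skew (by omega) g.1 c hgc with hg | hg
      · obtain ⟨a, g₀, hg₀, hiff⟩ := graph_descent_symm hF (by omega) h2F σ hσ g.1 g.2 hg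
        exact goodE_graphU hF hn hq r σ hσ hσ2 hσ1 g (j := (fixK σ).subtype) (a := a)
          (g₀ := g₀.1) ⟨hiff⟩ hj
          (fun M hM hinv hc => LG_simple_orth hn h2F₀ g₀ hg₀ M hM hinv hc)
          (fun k τ h => cent_orth_mat' hn h2F₀ (fixK σ).subtype g₀ hg₀ k τ h)
      · obtain ⟨a, g₀, hg₀, hiff⟩ := graph_descent_skew hF (by omega) h2F σ hσ g.1 g.2 hg
        exact goodE_graphU hF hn hq r σ hσ hσ2 hσ1 g (j := (fixK σ).subtype) (a := a)
          (g₀ := g₀.1) ⟨hiff⟩ hj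
          (fun M hM hinv hc => LG_simple_symp hn h2F₀ g₀ hg₀ M hM hinv hc)
          (fun k τ h => cent_symp_mat' hn h2F₀ (fixK σ).subtype g₀ hg₀ k τ h)
    rw [← hβ] at hGoodE
    have hcore := hGoodE.core_eq_bot hZ A hinn
    have hnc := hGoodE.not_coprime hZ
    constructor
    · intro h
      exact absurd hcore h
    · rintro ⟨-, h⟩
      exact absurd h hnc
  · -- the field automorphisms of odd order
    have hodd : Odd p := hp.odd_of_ne_two hp2
    obtain ⟨-, hcard, hqq⟩ := fixK_card hqf hF σ p hσord hodd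
    obtain ⟨h, hh⟩ := field_caseU hF hn σ p hσord hp.pos (r ^ (f / p)) hcard hqq g
      (by rw [← hβ]; exact hβp)
    rw [← hβ] at hh
    obtain ⟨L, hL⟩ := good_fieldU hF hn hq hpr hp2 σ hσord
    have hGood := hL.conj (GamU h)
    rw [← hh] at hGood
    have hiff := hGood.core_ne_bot_iff hZ A hinn hord hβInn
    rw [hiff]
    exact ⟨fun hc => ⟨hfirst, hc⟩, fun h => h.2⟩

end Cfsg.Agent.Lib.Helper5.BalU
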