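import Mathlib

set_option autoImplicit false

/-!
Generic lemmas on central quotients of perfect groups.
-/

namespace Cfsg.Agent.Lib.Helper5.CQ

open scoped commutatorElement

/-- in a perfect group, an element all of whose commutators are central is central -/
lemma mem_center_of_comm_central {G : Type*} [Group G] (hp : commutator G = ⊤) (s : G)
    (h : ∀ x : G, ⁅s, x⁆ ∈ Subgroup.center G) : s ∈ Subgroup.center G := by
  have hcomm : ∀ x y : G, ⁅x, y⁆ * s = s * ⁅x, y⁆ := by
    intro x y
    have hx := Subgroup.mem_center_iff.1 (h x)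
    have hy := Subgroup.mem_center_iff.1 (h y)
    have e1 : s * x * s⁻¹ = ⁅s, x⁆ * x := by rw [commutatorElement_def]; group
    have e2 : s * y * s⁻¹ = ⁅s, y⁆ * y := by rw [commutatorElement_def]; group
    have e3 : s * ⁅x, y⁆ * s⁻¹ = ⁅s * x * s⁻¹, s * y * s⁻¹⁆ := by
      simp only [commutatorElement_def]; group
    have e4 : ⁅⁅s, x⁆ * x, ⁅s, y⁆ * y⁆ = ⁅x, y⁆ := by
      set a := ⁅s, x⁆ with ha
      set b := ⁅s, y⁆ with hb
      rw [commutatorElement_def, commutatorElement_def]
      have ha' : ∀ g, g * a⁻¹ = a⁻¹ * g := by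
        intro g
        calc g * a⁻¹ = a * (a⁻¹ * g * a⁻¹) := by group
          _ = (a⁻¹ * g * a⁻¹) * a := (hx _).symm
          _ = a⁻¹ * g := by group
      have hb' : ∀ g, g * b⁻¹ = b⁻¹ * g := by
        intro g
        calc g * b⁻¹ = b * (b⁻¹ * g * b⁻¹) := by group
          _ = (b⁻¹ * g * b⁻¹) * b := (hy _).symm
          _ = b⁻¹ * g := by group
      calc a * x * (b * y) * (a * x)⁻¹ * (b * y)⁻¹
          = a * x * (b * y) * (x⁻¹ * a⁻¹) * (y⁻¹ * b⁻¹) := by group
        _ = a * x * (b * y) * (a⁻¹ * x⁻¹) * (b⁻¹ * y⁻¹) := by rw [ha' x⁻¹, hb' y⁻¹]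
        _ = x * a * (y * b) * (a⁻¹ * x⁻¹) * (b⁻¹ * y⁻¹) := by rw [hx x, hy y]
        _ = x * (a * y * (b * a⁻¹) * x⁻¹ * b⁻¹) * y⁻¹ := by group
        _ = x * (y * a * (a⁻¹ * b) * x⁻¹ * b⁻¹) * y⁻¹ := by rw [hx y, ha' b]
        _ = x * y * (b * x⁻¹) * b⁻¹ * y⁻¹ := by group
        _ = x * y * (x⁻¹ * b) * b⁻¹ * y⁻¹ := by rw [hy x⁻¹]
        _ = x * y * x⁻¹ * y⁻¹ := by group
    rw [e1, e2, e4] at e3
    calc ⁅x, y⁆ * s = (s * ⁅x, y⁆ * s⁻¹) * s := by rw [e3]
      _ = s * ⁅x, y⁆ := by group
  have hcent : (⊤ : Subgroup G) ≤ Subgroup.centralizer {s} := by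
    rw [← hp, commutator_eq_closure, Subgroup.closure_le]
    rintro _ ⟨x, y, rfl⟩
    rw [SetLike.mem_coe, Subgroup.mem_centralizer_iff]
    intro t ht
    rw [Set.mem_singleton_iff] at ht
    subst ht
    exact (hcomm x y).symm
  rw [Subgroup.mem_center_iff]
  intro g
  have := hcent (Subgroup.mem_top g)
  rw [Subgroup.mem_centralizer_iff] at this
  exact (this s rfl).symm

/-- the image of `g` under a surjection is central iff all commutators with `g` die -/
lemma map_mem_center_iff_comm {G H : Type*} [Group G] [Group H] (f : G →* H)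
    (hf : Function.Surjective f) (g : G) :
    f g ∈ Subgroup.center H ↔ ∀ x : G, ⁅g, x⁆ ∈ f.ker := by
  rw [Subgroup.mem_center_iff]
  constructor
  · intro h x
    rw [MonoidHom.mem_ker, map_commutatorElement, commutatorElement_eq_one_iff_mul_comm]
    exact (h (f x)).symm
  · intro h y
    obtain ⟨x, rfl⟩ := hf y
    have := h x
    rw [MonoidHom.mem_ker, map_commutatorElement, commutatorElement_eq_one_iff_mul_comm] at this
    exact this.symm

/-- a surjection from a perfect group with central kernel: the preimage of the centre is the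
centre -/
theorem ker_comp_mk_center {G H : Type*} [Group G] [Group H] (f : G →* H)
    (hf : Function.Surjective f) (hp : commutator G = ⊤) (hker : f.ker ≤ Subgroup.center G) :
    ((QuotientGroup.mk' (Subgroup.center H)).comp f).ker = Subgroup.center G := by
  ext s
  rw [MonoidHom.mem_ker, MonoidHom.coe_comp, Function.comp_apply, QuotientGroup.mk'_apply,
    QuotientGroup.eq_one_iff, map_mem_center_iff_comm f hf]
  constructor
  · intro h
    exact mem_center_of_comm_central hp s (fun x => hker (h x))
  · intro h x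
    have : ⁅s, x⁆ = 1 := by
      rw [commutatorElement_eq_one_iff_mul_comm]
      exact ((Subgroup.mem_center_iff.1 h) x).symm
    rw [this]
    exact Subgroup.one_mem _

/-- a surjection from a perfect group with central kernel induces an isomorphism of central
quotients -/
theorem nonempty_quot_center_equiv {G H : Type*} [Group G] [Group H] (f : G →* H)
    (hf : Function.Surjective f) (hp : commutator G = ⊤) (hker : f.ker ≤ Subgroup.center G) :
    Nonempty (H ⧸ Subgroup.center H ≃* G ⧸ Subgroup.center G) := by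
  have hs1 : Function.Surjective ((QuotientGroup.mk' (Subgroup.center H)).comp f) := by
    rw [MonoidHom.coe_comp]
    exact (QuotientGroup.mk'_surjective _).comp hf
  exact ⟨(QuotientGroup.quotientKerEquivOfSurjective _ hs1).symm.trans
    (QuotientGroup.quotientMulEquivOfEq (ker_comp_mk_center f hf hp hker))⟩

end Cfsg.Agent.Lib.Helper5.CQ
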