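import Cfsg.Agent.Lib.Helper75.D4gDefs

/-!
# D4g hive (S2407) : D4G-TOR1 `tA_conj_xS`
-/

set_option autoImplicit false

namespace Cfsg.Agent.Lib.Helper75.D4g

open Cfsg Cfsg.Lie Cfsg.Agent.Lib.Helper36

section stack
variable {K : Type*} [Field K] (φ : K →+* K)

theorem d4gtor1_conj (r s : ℕ) (hr : r < chevD4.nroots) (hs : s < chevD4.nroots) (c : K) (hc : c ≠ 0)
    (t : K) : hg K r c * xg K s t * (hg K r c)⁻¹ = xg K s (c ^ gc chevD4 r s * t) :=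
  hGL_conj_xGL chevD4 hD4 K r s hr hs c hc t

/-- conjugation of a root element by a product of three torus elements -/
theorem d4gtor1_conj3 (r₁ r₂ r₃ s : ℕ) (h₁ : r₁ < chevD4.nroots) (h₂ : r₂ < chevD4.nroots)
    (h₃ : r₃ < chevD4.nroots) (hs : s < chevD4.nroots) (c₁ c₂ c₃ : K) (hc₁ : c₁ ≠ 0) (hc₂ : c₂ ≠ 0)
    (hc₃ : c₃ ≠ 0) (t : K) :
    (hg K r₁ c₁ * hg K r₂ c₂ * hg K r₃ c₃) * xg K s t * (hg K r₁ c₁ * hg K r₂ c₂ * hg K r₃ c₃)⁻¹ =
      xg K s (c₁ ^ gc chevD4 r₁ s * (c₂ ^ gc chevD4 r₂ s * (c₃ ^ gc chevD4 r₃ s * t))) := by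
  have e : ∀ a b c x : GL chevD4.Idx K,
      (a * b * c) * x * (a * b * c)⁻¹ = a * (b * (c * x * c⁻¹) * b⁻¹) * a⁻¹ := by
    intros; group
  rw [e, d4gtor1_conj r₃ s h₃ hs c₃ hc₃, d4gtor1_conj r₂ s h₂ hs c₂ hc₂,
    d4gtor1_conj r₁ s h₁ hs c₁ hc₁]

theorem d4gtor1_conj_mul3 (H a b c : GL chevD4.Idx K) :
    H * (a * b * c) * H⁻¹ = (H * a * H⁻¹) * (H * b * H⁻¹) * (H * c * H⁻¹) := by
  group

theorem tA_conj_xS (z : K) (hz : z ≠ 0) (t : K) :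
    tA K φ z * xS K φ t * (tA K φ z)⁻¹ = xS K φ (z ^ 2 * t) := by
  have hφz : φ z ≠ 0 := (map_ne_zero φ).mpr hz
  have hφφz : φ (φ z) ≠ 0 := (map_ne_zero φ).mpr hφz
  unfold xS
  rw [d4gtor1_conj_mul3]
  unfold tA
  rw [d4gtor1_conj3 18 13 12 18 (by decide) (by decide) (by decide) (by decide) _ _ _ hz hφz hφφz,
    d4gtor1_conj3 18 13 12 13 (by decide) (by decide) (by decide) (by decide) _ _ _ hz hφz hφφz,
    d4gtor1_conj3 18 13 12 12 (by decide) (by decide) (by decide) (by decide) _ _ _ hz hφz hφφz]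
  have g1 : gc chevD4 18 18 = 2 := by decide
  have g2 : gc chevD4 13 18 = 0 := by decide
  have g3 : gc chevD4 12 18 = 0 := by decide
  have g4 : gc chevD4 18 13 = 0 := by decide
  have g5 : gc chevD4 13 13 = 2 := by decide
  have g6 : gc chevD4 12 13 = 0 := by decide
  have g7 : gc chevD4 18 12 = 0 := by decide
  have g8 : gc chevD4 13 12 = 0 := by decide
  have g9 : gc chevD4 12 12 = 2 := by decide
  rw [g1, g2, g3, g4, g5, g6, g7, g8, g9]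
  simp only [zpow_zero, one_mul, map_mul, map_pow]
  norm_cast

end stack

end Cfsg.Agent.Lib.Helper75.D4g
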