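import Cfsg.Agent.Lib.Helper5.D4gTOR1

/-!
# D4g hive (S2407) : D4G-TOR2 `nA_conj_xS`
-/

set_option autoImplicit false

namespace Cfsg.Agent.Lib.Helper75.D4g

open Cfsg Cfsg.Lie Cfsg.Agent.Lib.Helper36

section stack
variable {K : Type*} [Field K] (φ : K →+* K)

/-- `n h_S(z) n⁻¹ = h_17(z) h_20(φ z) h_21(φ² z)` -/
theorem d4gtor2_nA (z : K) (hz : z ≠ 0) :
    nC K * tA K φ z * (nC K)⁻¹ = hg K 17 z * hg K 20 (φ z) * hg K 21 (φ (φ z)) := by
  have hφz : φ z ≠ 0 := (map_ne_zero φ).mpr hz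
  have hφφz : φ (φ z) ≠ 0 := (map_ne_zero φ).mpr hφz
  unfold tA
  rw [d4gtor1_conj_mul3]
  unfold nC
  have hl : ∀ i ∈ cox, i < chevD4.rank := by decide
  rw [nWordGL_conj_hGL chevD4 hD4 K cox hl 18 (by decide) z hz,
    nWordGL_conj_hGL chevD4 hD4 K cox hl 13 (by decide) (φ z) hφz,
    nWordGL_conj_hGL chevD4 hD4 K cox hl 12 (by decide) (φ (φ z)) hφφz]
  have w1 : wRoot chevD4 cox 18 = 17 := by decide
  have w2 : wRoot chevD4 cox 13 = 20 := by decide
  have w3 : wRoot chevD4 cox 12 = 21 := by decide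
  rw [w1, w2, w3]

theorem nA_conj_xS (hφ3 : ∀ t : K, φ (φ (φ t)) = t) (z : K) (hz : z ≠ 0) (t : K) :
    (nC K * tA K φ z * (nC K)⁻¹) * xS K φ t * (nC K * tA K φ z * (nC K)⁻¹)⁻¹ =
      xS K φ (z⁻¹ * φ z * φ (φ z) * t) := by
  have hφz : φ z ≠ 0 := (map_ne_zero φ).mpr hz
  have hφφz : φ (φ z) ≠ 0 := (map_ne_zero φ).mpr hφz
  rw [d4gtor2_nA φ z hz]
  unfold xS
  rw [d4gtor1_conj_mul3,
    d4gtor1_conj3 17 20 21 18 (by decide) (by decide) (by decide) (by decide) _ _ _ hz hφz hφφz,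
    d4gtor1_conj3 17 20 21 13 (by decide) (by decide) (by decide) (by decide) _ _ _ hz hφz hφφz,
    d4gtor1_conj3 17 20 21 12 (by decide) (by decide) (by decide) (by decide) _ _ _ hz hφz hφφz]
  have g1 : gc chevD4 17 18 = -1 := by decide
  have g2 : gc chevD4 20 18 = 1 := by decide
  have g3 : gc chevD4 21 18 = 1 := by decide
  have g4 : gc chevD4 17 13 = 1 := by decide
  have g5 : gc chevD4 20 13 = -1 := by decide
  have g6 : gc chevD4 21 13 = 1 := by decide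
  have g7 : gc chevD4 17 12 = 1 := by decide
  have g8 : gc chevD4 20 12 = 1 := by decide
  have g9 : gc chevD4 21 12 = -1 := by decide
  rw [g1, g2, g3, g4, g5, g6, g7, g8, g9]
  simp only [zpow_neg_one, zpow_one, map_mul, map_inv₀, hφ3]
  congr 1
  · congr 1
    · congr 1
      ring
    · congr 1
      ring
  · congr 1
    ring

end stack

end Cfsg.Agent.Lib.Helper75.D4g
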