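import Cfsg.Agent.Lib.Helper5.D4gTOR2

/-!
# D4g hive (S2407) : D4G-TOR3 `tA_comm_nA`
-/

set_option autoImplicit false

namespace Cfsg.Agent.Lib.Helper75.D4g

open Cfsg Cfsg.Lie Cfsg.Agent.Lib.Helper36

section stack
variable {K : Type*} [Field K] (φ : K →+* K)

/-- torus elements commute (they lie in the image of the commutative torus) -/
theorem d4gtor3_hh (r s : ℕ) (hr : r < chevD4.nroots) (hs : s < chevD4.nroots) (c d : K) (hc : c ≠ 0)
    (hd : d ≠ 0) : Commute (hg K r c) (hg K s d) := by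
  have h1 := hGL_eq_torusHom chevD4 hD4 K r hr (Units.mk0 c hc)
  have h2 := hGL_eq_torusHom chevD4 hD4 K s hs (Units.mk0 d hd)
  rw [Units.val_mk0] at h1 h2
  show hg K r c * hg K s d = hg K s d * hg K r c
  rw [show hg K r c = _ from h1, show hg K s d = _ from h2, ← map_mul, ← map_mul, mul_comm]

theorem tA_comm_nA (z : K) (hz : z ≠ 0) : Commute (tA K φ z) (nC K * tA K φ z * (nC K)⁻¹) := by
  have hφz : φ z ≠ 0 := (map_ne_zero φ).mpr hz
  have hφφz : φ (φ z) ≠ 0 := (map_ne_zero φ).mpr hφz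
  rw [d4gtor2_nA φ z hz]
  unfold tA
  have H : ∀ (r : ℕ) (c : K), r < chevD4.nroots → c ≠ 0 →
      Commute (hg K r c) (hg K 17 z * hg K 20 (φ z) * hg K 21 (φ (φ z))) := by
    intro r c hr hc
    exact ((d4gtor3_hh r 17 hr (by decide) c z hc hz).mul_right
      (d4gtor3_hh r 20 hr (by decide) c (φ z) hc hφz)).mul_right
      (d4gtor3_hh r 21 hr (by decide) c (φ (φ z)) hc hφφz)
  exact ((H 18 z (by decide) hz).mul_left (H 13 (φ z) (by decide) hφz)).mul_left
    (H 12 (φ (φ z)) (by decide) hφφz)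

end stack

end Cfsg.Agent.Lib.Helper75.D4g
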