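import Cfsg.Agent.Lib.Helper72.E6gDefs

/-!
# E6g hive (S2406, helper72) : E6G-TCONJ
-/

set_option autoImplicit false

namespace Cfsg.Agent.Lib.Helper72.E6g

open Cfsg Cfsg.Lie Cfsg.Agent.Lib.Helper36

variable {K : Type*} [Field K]

/-- E6G-TCONJ (general) -/
theorem tor2_conj (r1 r2 s : ℕ) (hr1 : r1 < 72) (hr2 : r2 < 72) (hs : s < 72) (a b : K) (ha : a ≠ 0) (hb : b ≠ 0)
    (t : K) :
    (he K r1 a * he K r2 b) * xe K s t * (he K r1 a * he K r2 b)⁻¹ =
      xe K s (a ^ gc chevE6 r1 s * (b ^ gc chevE6 r2 s * t)) := by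
  have e : ∀ A B x : GL chevE6.Idx K, (A * B) * x * (A * B)⁻¹ = A * (B * x * B⁻¹) * A⁻¹ := by
    intros; group
  rw [e, hGL_conj_xGL chevE6 hE6 K r2 s hr2 hs b hb t, hGL_conj_xGL chevE6 hE6 K r1 s hr1 hs a ha]

theorem e6gtconj_mul2 (H a b : GL chevE6.Idx K) :
    H * (a * b) * H⁻¹ = (H * a * H⁻¹) * (H * b * H⁻¹) := by
  group

/-- E6G-TCONJ (1) -/
theorem hE_conj_y (q : ℕ) (z : K) (hz : z ≠ 0) (t : K) :
    hE K q z * yE K q t * (hE K q z)⁻¹ = yE K q (z ^ 2 * t) := by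
  have hzq : z ^ q ≠ 0 := pow_ne_zero q hz
  unfold yE
  rw [e6gtconj_mul2]
  unfold hE
  rw [tor2_conj 56 36 56 (by decide) (by decide) (by decide) z (z ^ q) hz hzq,
    tor2_conj 56 36 36 (by decide) (by decide) (by decide) z (z ^ q) hz hzq]
  have g1 : gc chevE6 56 56 = 2 := by decide +kernel
  have g2 : gc chevE6 36 56 = 0 := by decide +kernel
  have g3 : gc chevE6 56 36 = 0 := by decide +kernel
  have g4 : gc chevE6 36 36 = 2 := by decide +kernel
  rw [g1, g2, g3, g4]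
  simp only [zpow_zero, one_mul]
  congr 2
  · norm_cast
  · rw [mul_pow]
    congr 1
    rw [← pow_mul, mul_comm 2 q, pow_mul]
    norm_cast

/-- E6G-TCONJ (2) -/
theorem a1_conj_y (q : ℕ) (z : K) (hz : z ≠ 0) (t : K) :
    (he K 42 z * he K 37 (z ^ q)) * yE K q t * (he K 42 z * he K 37 (z ^ q))⁻¹ = yE K q (z⁻¹ * t) := by
  have hzq : z ^ q ≠ 0 := pow_ne_zero q hz
  unfold yE
  rw [e6gtconj_mul2,
    tor2_conj 42 37 56 (by decide) (by decide) (by decide) z (z ^ q) hz hzq,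
    tor2_conj 42 37 36 (by decide) (by decide) (by decide) z (z ^ q) hz hzq]
  have g1 : gc chevE6 42 56 = -1 := by decide +kernel
  have g2 : gc chevE6 37 56 = 0 := by decide +kernel
  have g3 : gc chevE6 42 36 = 0 := by decide +kernel
  have g4 : gc chevE6 37 36 = -1 := by decide +kernel
  rw [g1, g2, g3, g4]
  simp only [zpow_zero, one_mul, zpow_neg_one]
  congr 2
  rw [mul_pow, inv_pow]

/-- E6G-TCONJ (3) -/
theorem hE_comm_46 (q : ℕ) (z : K) (hz : z ≠ 0) (t : K) : Commute (hE K q z) (xe K 46 t) := by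
  have hzq : z ^ q ≠ 0 := pow_ne_zero q hz
  have h := tor2_conj 56 36 46 (by decide) (by decide) (by decide) z (z ^ q) hz hzq t
  have g1 : gc chevE6 56 46 = 0 := by decide +kernel
  have g2 : gc chevE6 36 46 = 0 := by decide +kernel
  rw [g1, g2] at h
  simp only [zpow_zero, one_mul] at h
  show hE K q z * xe K 46 t = xe K 46 t * hE K q z
  unfold hE
  exact mul_inv_eq_iff_eq_mul.1 h

/-- E6G-TCONJ (4) -/
theorem tau_conj_46 (q : ℕ) (z : K) (hz : z ≠ 0) (t : K) :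
    (he K 41 z * he K 58 (z ^ q)) * xe K 46 t * (he K 41 z * he K 58 (z ^ q))⁻¹ = xe K 46 ((z * z ^ q)⁻¹ * t) := by
  have hzq : z ^ q ≠ 0 := pow_ne_zero q hz
  rw [tor2_conj 41 58 46 (by decide) (by decide) (by decide) z (z ^ q) hz hzq]
  have g1 : gc chevE6 41 46 = -1 := by decide +kernel
  have g2 : gc chevE6 58 46 = -1 := by decide +kernel
  rw [g1, g2]
  simp only [zpow_neg_one]
  congr 1
  rw [mul_inv]
  ring

end Cfsg.Agent.Lib.Helper72.E6g
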