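import Cfsg.Agent.Lib.Helper36.ChevHU

/-!
# E6g hive (S2406, helper72) : E6G-TORCOMM `hGL_commute`
-/

set_option autoImplicit false

namespace Cfsg.Agent.Lib.Helper72.E6g

open Cfsg Cfsg.Lie Cfsg.Agent.Lib.Helper36

theorem hGL_commute (D : ChevalleyDatum) (hD : D ∈ [chevG2, chevB2, chevD4, chevF4, chevE6, chevE7, chevE8])
    (F : Type*) [Field F] (r r' : ℕ) (hr : r < D.nroots) (hr' : r' < D.nroots) (c c' : F) (hc : c ≠ 0) (hc' : c' ≠ 0) :
    Commute (hGL D hD F r c) (hGL D hD F r' c') := by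
  show hGL D hD F r c * hGL D hD F r' c' = hGL D hD F r' c' * hGL D hD F r c
  apply Units.ext
  rw [Units.val_mul, Units.val_mul, hGL_coe, hGL_coe, (hMat_all D hD r hr c hc).1,
    (hMat_all D hD r' hr' c' hc').1]
  unfold hDiag
  rw [Matrix.diagonal_mul_diagonal, Matrix.diagonal_mul_diagonal]
  congr 1
  funext x
  exact mul_comm _ _

end Cfsg.Agent.Lib.Helper72.E6g
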