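import Mathlib
import Cfsg.Agent.Lib.Helper5.GLSylowCard

set_option autoImplicit false
set_option linter.unusedSimpArgs false
set_option linter.unusedVariables false
set_option linter.unnecessarySeqFocus false

namespace Cfsg.Agent.Lib.Helper5

open Matrix

variable {F : Type*} [Field F]

/-- The upper unitriangular matrix `[[1,b],[0,1]]` in `GL_2`. -/
def upperU (b : F) : GL (Fin 2) F :=
  ⟨!![1, b; 0, 1], !![1, -b; 0, 1],
    by simp [Matrix.mul_fin_two, Matrix.one_fin_two],
    by simp [Matrix.mul_fin_two, Matrix.one_fin_two]⟩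

@[simp] lemma upperU_val (b : F) : (upperU b : Matrix (Fin 2) (Fin 2) F) = !![1, b; 0, 1] := rfl

lemma upperU_add (a b : F) : upperU (a + b) = upperU a * upperU b := by
  apply Units.ext
  simp [Matrix.mul_fin_two, add_comm]

lemma upperU_zero : upperU (0 : F) = 1 := by
  apply Units.ext
  simp [Matrix.one_fin_two]

lemma upperU_injective : Function.Injective (upperU : F → GL (Fin 2) F) := by
  intro a b h
  have := congrArg (fun g : GL (Fin 2) F ↦ (g : Matrix (Fin 2) (Fin 2) F) 0 1) h
  simpa using this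

/-- The homomorphism `b ↦ [[1,b],[0,1]]`. -/
def upperUHom : Multiplicative F →* GL (Fin 2) F where
  toFun b := upperU (Multiplicative.toAdd b)
  map_one' := upperU_zero
  map_mul' a b := upperU_add _ _

/-- The group of upper unitriangular matrices. -/
def subU : Subgroup (GL (Fin 2) F) := (upperUHom (F := F)).range

lemma mem_subU_iff (g : GL (Fin 2) F) :
    g ∈ subU ↔ (g : Matrix (Fin 2) (Fin 2) F) 0 0 = 1 ∧ (g : Matrix (Fin 2) (Fin 2) F) 1 0 = 0 ∧
      (g : Matrix (Fin 2) (Fin 2) F) 1 1 = 1 := by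
  constructor
  · rintro ⟨b, rfl⟩
    simp [upperUHom]
  · rintro ⟨h00, h10, h11⟩
    refine ⟨Multiplicative.ofAdd ((g : Matrix (Fin 2) (Fin 2) F) 0 1), ?_⟩
    apply Units.ext
    ext i j
    fin_cases i <;> fin_cases j <;> simp [upperUHom, h00, h10, h11]

lemma upperU_mem_subU (b : F) : upperU b ∈ subU := ⟨Multiplicative.ofAdd b, rfl⟩

lemma exists_of_mem_subU {g : GL (Fin 2) F} (h : g ∈ subU) : ∃ b, g = upperU b := by
  obtain ⟨b, rfl⟩ := h
  exact ⟨Multiplicative.toAdd b, rfl⟩

lemma card_subU [Fintype F] : Nat.card (subU (F := F)) = Fintype.card F := by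
  have hinj : Function.Injective (upperUHom (F := F)) := fun a b h ↦
    Multiplicative.toAdd.injective (upperU_injective h)
  rw [subU, ← Nat.card_congr (MonoidHom.ofInjective hinj).toEquiv]
  simp [Nat.card_eq_fintype_card]

lemma GL2_det_ne_zero (g : GL (Fin 2) F) :
    (g : Matrix (Fin 2) (Fin 2) F) 0 0 * (g : Matrix (Fin 2) (Fin 2) F) 1 1 -
      (g : Matrix (Fin 2) (Fin 2) F) 0 1 * (g : Matrix (Fin 2) (Fin 2) F) 1 0 ≠ 0 := by
  have := GeneralLinearGroup.det_ne_zero g
  rwa [Matrix.det_fin_two] at this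

lemma GL2_mul_apply (g h : GL (Fin 2) F) (i j : Fin 2) :
    ((g * h : GL (Fin 2) F) : Matrix (Fin 2) (Fin 2) F) i j =
      (g : Matrix (Fin 2) (Fin 2) F) i 0 * (h : Matrix (Fin 2) (Fin 2) F) 0 j +
      (g : Matrix (Fin 2) (Fin 2) F) i 1 * (h : Matrix (Fin 2) (Fin 2) F) 1 j := by
  rw [Units.val_mul, Matrix.mul_apply, Fin.sum_univ_two]

/-- Key computation: if `g * upperU s = upperU t * g` with `s ≠ 0` then `g` is upper triangular. -/
lemma lower_left_eq_zero_of_conj {g : GL (Fin 2) F} {s t : F} (hs : s ≠ 0)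
    (h : g * upperU s = upperU t * g) : (g : Matrix (Fin 2) (Fin 2) F) 1 0 = 0 := by
  have h11 := congrArg (fun x : GL (Fin 2) F ↦ (x : Matrix (Fin 2) (Fin 2) F) 1 1) h
  simp only [GL2_mul_apply, upperU_val] at h11
  simp at h11
  rcases h11 with h | h
  · exact h
  · exact absurd h hs

lemma conj_upperU_of_upper {g : GL (Fin 2) F} (hg : (g : Matrix (Fin 2) (Fin 2) F) 1 0 = 0)
    (b : F) :
    g * upperU b = upperU ((g : Matrix (Fin 2) (Fin 2) F) 0 0 * b /
      (g : Matrix (Fin 2) (Fin 2) F) 1 1) * g := by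
  have hdet := GL2_det_ne_zero g
  rw [hg, mul_zero, sub_zero] at hdet
  have h11 : (g : Matrix (Fin 2) (Fin 2) F) 1 1 ≠ 0 := right_ne_zero_of_mul hdet
  apply Units.ext
  ext i j
  rw [GL2_mul_apply, GL2_mul_apply]
  fin_cases i <;> fin_cases j <;> simp [hg] <;> field_simp <;> ring

lemma mem_normalizer_subU_iff (g : GL (Fin 2) F) :
    g ∈ Subgroup.normalizer ((subU : Subgroup (GL (Fin 2) F)) : Set (GL (Fin 2) F)) ↔
      (g : Matrix (Fin 2) (Fin 2) F) 1 0 = 0 := by
  constructor
  · intro hg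
    have h1 := (Subgroup.mem_set_normalizer_iff.1 hg (upperU 1)).1 (upperU_mem_subU 1)
    obtain ⟨t, ht⟩ := exists_of_mem_subU h1
    rw [mul_inv_eq_iff_eq_mul] at ht
    exact lower_left_eq_zero_of_conj one_ne_zero ht
  · intro hg
    rw [Subgroup.mem_set_normalizer_iff]
    intro h
    have hdet := GL2_det_ne_zero g
    rw [hg, mul_zero, sub_zero] at hdet
    have h00 : (g : Matrix (Fin 2) (Fin 2) F) 0 0 ≠ 0 := left_ne_zero_of_mul hdet
    have h11 : (g : Matrix (Fin 2) (Fin 2) F) 1 1 ≠ 0 := right_ne_zero_of_mul hdet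
    constructor
    · intro hh
      obtain ⟨b, rfl⟩ := exists_of_mem_subU hh
      rw [conj_upperU_of_upper hg b, mul_inv_cancel_right]
      exact upperU_mem_subU _
    · intro hh
      obtain ⟨t, ht⟩ := exists_of_mem_subU hh
      rw [mul_inv_eq_iff_eq_mul] at ht
      have e00 := congrArg (fun x : GL (Fin 2) F ↦ (x : Matrix (Fin 2) (Fin 2) F) 0 0) ht
      have e10 := congrArg (fun x : GL (Fin 2) F ↦ (x : Matrix (Fin 2) (Fin 2) F) 1 0) ht
      have e11 := congrArg (fun x : GL (Fin 2) F ↦ (x : Matrix (Fin 2) (Fin 2) F) 1 1) ht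
      simp only [GL2_mul_apply, upperU_val] at e00 e10 e11
      simp [hg, h00, h11] at e00 e10 e11
      have h10 : (h : Matrix (Fin 2) (Fin 2) F) 1 0 = 0 := by simpa [h11] using e10
      rw [h10] at e00
      simp [h00] at e00
      exact (mem_subU_iff h).2 ⟨e00, h10, e11⟩

/-- Upper triangular matrices in `GL_2` as a set-level product. -/
noncomputable def upperTriEquiv :
    {g : GL (Fin 2) F // (g : Matrix (Fin 2) (Fin 2) F) 1 0 = 0} ≃ Fˣ × Fˣ × F where
  toFun g :=
    (Units.mk0 ((g.1 : Matrix (Fin 2) (Fin 2) F) 0 0) (by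
        have hdet := GL2_det_ne_zero g.1
        rw [g.2, mul_zero, sub_zero] at hdet
        exact left_ne_zero_of_mul hdet),
      Units.mk0 ((g.1 : Matrix (Fin 2) (Fin 2) F) 1 1) (by
        have hdet := GL2_det_ne_zero g.1
        rw [g.2, mul_zero, sub_zero] at hdet
        exact right_ne_zero_of_mul hdet),
      (g.1 : Matrix (Fin 2) (Fin 2) F) 0 1)
  invFun x :=
    ⟨GeneralLinearGroup.mkOfDetNeZero !![(x.1 : F), x.2.2; 0, (x.2.1 : F)] (by
      simp [Matrix.det_fin_two]), by simp⟩
  left_inv g := by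
    apply Subtype.ext
    apply Units.ext
    ext i j
    fin_cases i <;> fin_cases j <;> simp [g.2]
  right_inv x := by
    obtain ⟨a, d, b⟩ := x
    simp

lemma card_upperTri [Fintype F] :
    Nat.card {g : GL (Fin 2) F // (g : Matrix (Fin 2) (Fin 2) F) 1 0 = 0} =
      Fintype.card F * (Fintype.card F - 1) ^ 2 := by
  classical
  rw [Nat.card_congr upperTriEquiv, Nat.card_prod, Nat.card_prod, Nat.card_eq_fintype_card,
    Fintype.card_units, Nat.card_eq_fintype_card]
  ring


section Sylow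

variable [Fintype F] (p : ℕ) [Fact p.Prime] [CharP F p]

lemma card_GL2 : Nat.card (GL (Fin 2) F) =
    Fintype.card F * (Fintype.card F - 1) ^ 2 * (Fintype.card F + 1) := by
  rw [Matrix.card_GL_field, Fin.prod_univ_two]
  have hq : 1 ≤ Fintype.card F := Fintype.card_pos
  obtain ⟨r, hr⟩ : ∃ r, Fintype.card F = r + 1 := ⟨Fintype.card F - 1, by omega⟩
  rw [hr]
  simp only [Fin.val_zero, Fin.val_one, pow_zero, pow_one, Nat.add_sub_cancel]
  have h1 : (r + 1) ^ 2 - 1 = r * (r + 2) := by
    have : (r + 1) ^ 2 = r * (r + 2) + 1 := by ring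
    omega
  have h2 : (r + 1) ^ 2 - (r + 1) = (r + 1) * r := by
    have : (r + 1) ^ 2 = (r + 1) * r + (r + 1) := by ring
    omega
  rw [h1, h2]
  ring

include p in
lemma card_subU_eq_pow_factorization :
    Nat.card (subU (F := F)) = p ^ (Nat.card (GL (Fin 2) F)).factorization p := by
  have h := card_sylow_char_GL p 2 (default : Sylow p (GL (Fin 2) F))
  rw [Sylow.card_eq_multiplicity] at h
  rw [h, card_subU]
  simp

/-- The upper unitriangular group as a Sylow `p`-subgroup of `GL_2(F)`. -/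
noncomputable def sylowU : Sylow p (GL (Fin 2) F) :=
  Sylow.ofCard subU (card_subU_eq_pow_factorization p)

lemma coe_sylowU : ((sylowU p : Sylow p (GL (Fin 2) F)) : Subgroup (GL (Fin 2) F)) = subU :=
  Sylow.coe_ofCard _ _

lemma card_normalizer_subU :
    Nat.card (Subgroup.normalizer ((subU : Subgroup (GL (Fin 2) F)) : Set (GL (Fin 2) F))) =
      Fintype.card F * (Fintype.card F - 1) ^ 2 := by
  rw [← card_upperTri]
  apply Nat.card_congr
  exact Equiv.subtypeEquivRight (fun g ↦ mem_normalizer_subU_iff g)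

/-- `GL_2(q)` has exactly `q + 1` Sylow `p`-subgroups. -/
theorem card_sylow_GL2 : Nat.card (Sylow p (GL (Fin 2) F)) = Fintype.card F + 1 := by
  rw [Sylow.card_eq_index_normalizer (sylowU p)]
  have h1 := Subgroup.card_mul_index
    (Subgroup.normalizer ((sylowU p : Sylow p (GL (Fin 2) F)) : Set (GL (Fin 2) F)))
  have h2 : Nat.card (Subgroup.normalizer
      ((sylowU p : Sylow p (GL (Fin 2) F)) : Set (GL (Fin 2) F))) =
      Fintype.card F * (Fintype.card F - 1) ^ 2 := by
    rw [← card_normalizer_subU]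
    congr 2
  rw [h2, card_GL2] at h1
  have hq : 2 ≤ Fintype.card F := Fintype.one_lt_card
  have hpos : 0 < Fintype.card F * (Fintype.card F - 1) ^ 2 := by
    apply Nat.mul_pos (by omega)
    apply pow_pos; omega
  exact Nat.eq_of_mul_eq_mul_left hpos h1

/-- The normaliser of any Sylow `p`-subgroup of `GL_2(q)` has order `q (q-1)^2`. -/
theorem card_normalizer_sylow_GL2 (P : Sylow p (GL (Fin 2) F)) :
    Nat.card (Subgroup.normalizer ((P : Subgroup (GL (Fin 2) F)) : Set (GL (Fin 2) F))) =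
      Fintype.card F * (Fintype.card F - 1) ^ 2 := by
  have h1 := Subgroup.card_mul_index
    (Subgroup.normalizer ((P : Subgroup (GL (Fin 2) F)) : Set (GL (Fin 2) F)))
  have hidx : (Subgroup.normalizer
      ((P : Subgroup (GL (Fin 2) F)) : Set (GL (Fin 2) F))).index = Fintype.card F + 1 := by
    rw [← card_sylow_GL2 p]
    exact (Sylow.card_eq_index_normalizer P).symm
  rw [hidx, card_GL2] at h1
  have hpos : 0 < Fintype.card F + 1 := by omega
  exact Nat.eq_of_mul_eq_mul_right hpos h1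

end Sylow

end Cfsg.Agent.Lib.Helper5
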