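import Mathlib
import Cfsg.Agent.Lib.Helper43.OrthPairStruct
import Cfsg.Agent.Lib.Helper43.OrthPairKer

set_option autoImplicit false
set_option linter.unusedSectionVars false
set_option linter.unusedVariables false
set_option linter.style.haveILetI false

/-!
# The field-automorphism quotient of the group of semisimilarity automorphisms of `PΩ(Q)`

A version of `Helper43.OrthPair.PairData.Theta` defined on the subgroup `gammaPOmega F Q` only
(needed for `PΩ⁺₈`, where `gammaPOmega` is a proper subgroup of the automorphism group).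
-/

namespace Cfsg.Agent.Lib.Helper5.GammaCard

open Matrix
open Cfsg.Agent.Lib.Helper37 Cfsg.Agent.Lib.Helper5.AutOrth Cfsg.Agent.Lib.Helper43.OrthField
open Cfsg.Agent.Lib.Helper43.OrthPair

universe u

variable {ι : Type} [Fintype ι] [DecidableEq ι] {F : Type u} [Field F] [Fintype F]

/-- only the trivial field automorphism occurs in a pair acting trivially -/
def HKer (Q : (ι → F) → F) : Prop :=
  ∀ {g : GL ι F} {σ : F ≃+* F} (h : Cfsg.IsSemisimilarityPair Q g σ), semiAut h = 1 → σ = 1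

variable {Q : (ι → F) → F}

theorem sigma_unique (hk : HKer Q) {g g' : GL ι F} {σ σ' : F ≃+* F}
    (h : Cfsg.IsSemisimilarityPair Q g σ)
    (h' : Cfsg.IsSemisimilarityPair Q g' σ') (e : semiAut h = semiAut h') : σ = σ' := by
  have h1 : semiAut (pair_mul (pair_inv h') h) = 1 := by
    rw [← semiAut_mul (pair_inv h') h, ← semiAut_inv h', e, inv_mul_cancel]
  have := hk _ h1
  exact inv_mul_eq_one.1 this |>.symm

theorem exists_pair (β : ↥(Cfsg.gammaPOmega F Q)) :
    ∃ (σ : F ≃+* F) (g : GL ι F) (h : Cfsg.IsSemisimilarityPair Q g σ), β.1 = semiAut h := by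
  obtain ⟨g, σ, h, e⟩ := (mem_gamma_iff β.1).1 β.2
  exact ⟨σ, g, h, e⟩

/-- the field automorphism attached to a semisimilarity automorphism -/
noncomputable def thetaFun (β : ↥(Cfsg.gammaPOmega F Q)) : F ≃+* F :=
  (exists_pair β).choose

theorem thetaFun_spec (β : ↥(Cfsg.gammaPOmega F Q)) :
    ∃ (g : GL ι F) (h : Cfsg.IsSemisimilarityPair Q g (thetaFun β)), β.1 = semiAut h :=
  (exists_pair β).choose_spec

theorem thetaFun_semiAut (hk : HKer Q) {g : GL ι F} {σ : F ≃+* F}
    (h : Cfsg.IsSemisimilarityPair Q g σ) (β : ↥(Cfsg.gammaPOmega F Q)) (hβ : β.1 = semiAut h) :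
    thetaFun β = σ := by
  obtain ⟨g', h', e⟩ := thetaFun_spec β
  exact (sigma_unique hk h h' (by rw [← hβ, e])).symm

/-- the homomorphism `PΓO(Q) → Aut(F)` -/
noncomputable def ThetaG (hk : HKer Q) : ↥(Cfsg.gammaPOmega F Q) →* (F ≃+* F) where
  toFun := thetaFun
  map_one' := by
    apply thetaFun_semiAut hk pair_one
    rw [semiAut_one]
    rfl
  map_mul' α β := by
    obtain ⟨g, hg, e1⟩ := thetaFun_spec α
    obtain ⟨g', hg', e2⟩ := thetaFun_spec β
    apply thetaFun_semiAut hk (pair_mul hg hg')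
    rw [← semiAut_mul hg hg', ← e1, ← e2]
    rfl

theorem ThetaG_semiAut (hk : HKer Q) {g : GL ι F} {σ : F ≃+* F}
    (h : Cfsg.IsSemisimilarityPair Q g σ) :
    ThetaG hk ⟨semiAut h, semiAut_mem_gamma h⟩ = σ :=
  thetaFun_semiAut hk h _ rfl

theorem Phi_range_le : (Phi Q).range ≤ Cfsg.gammaPOmega F Q := by
  rintro _ ⟨g, rfl⟩
  have h : Cfsg.IsSemisimilarityPair Q g.1 (1 : F ≃+* F) := (pair_refl_iff g.1).2 g.2
  have e : Phi Q g = semiAut h := by
    rw [semiAut_eq_Phi]
  rw [e]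
  exact semiAut_mem_gamma h

theorem ThetaG_ker (hk : HKer Q) :
    (ThetaG hk).ker = ((Phi Q).range).subgroupOf (Cfsg.gammaPOmega F Q) := by
  ext α
  rw [MonoidHom.mem_ker, Subgroup.mem_subgroupOf]
  constructor
  · intro h
    obtain ⟨g, hg, e⟩ := thetaFun_spec α
    have h' : thetaFun α = 1 := h
    have hg' : Cfsg.IsSemisimilarityPair Q g (1 : F ≃+* F) := h' ▸ hg
    have e' : α.1 = semiAut hg' := by
      rw [e]
      exact semiAut_congr _ _ rfl h'
    rw [e', semiAut_eq_Phi]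
    exact ⟨_, rfl⟩
  · rintro ⟨g, hg⟩
    have h : Cfsg.IsSemisimilarityPair Q g.1 (1 : F ≃+* F) := (pair_refl_iff g.1).2 g.2
    apply thetaFun_semiAut hk h
    rw [← hg, semiAut_eq_Phi]

theorem ThetaG_surjective (hk : HKer Q)
    (hs : ∀ σ : F ≃+* F, ∃ g : GL ι F, Cfsg.IsSemisimilarityPair Q g σ) :
    Function.Surjective (ThetaG hk) := by
  intro σ
  obtain ⟨g, h⟩ := hs σ
  exact ⟨⟨semiAut h, semiAut_mem_gamma h⟩, ThetaG_semiAut hk h⟩

/-- `|PΓO(Q)| = |Aut(F)| |PGO(Q)|` -/
theorem card_gamma (hk : HKer Q)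
    (hs : ∀ σ : F ≃+* F, ∃ g : GL ι F, Cfsg.IsSemisimilarityPair Q g σ) :
    Nat.card ↥(Cfsg.gammaPOmega F Q) = Nat.card (F ≃+* F) * Nat.card (Phi Q).range := by
  rw [Subgroup.card_eq_card_quotient_mul_card_subgroup (ThetaG hk).ker,
    Nat.card_congr (QuotientGroup.quotientKerEquivOfSurjective (ThetaG hk)
      (ThetaG_surjective hk hs)).toEquiv, ThetaG_ker hk,
    Nat.card_congr (Subgroup.subgroupOfEquivOfLe Phi_range_le).toEquiv]

end Cfsg.Agent.Lib.Helper5.GammaCard
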