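import Mathlib

set_option autoImplicit false

namespace Cfsg.Agent.Lib.Helper5.Hy

/-- HY-AR: powers of an element of `ZMod r` of order `i` at half of a multiple of the block size -/
theorem pow_half (r : ℕ) [Fact r.Prime] (hr2 : r ≠ 2) (a : ZMod r) (i : ℕ) (hi : i = orderOf a)
    (hipos : 0 < i) (m : ℕ) :
    (Odd i → (2 * i) ∣ m → a ^ (m / 2) = 1) ∧
      (Even i → i ∣ m → (a ^ (m / 2) = 1 ↔ Even (m / i))) := by
  constructor
  · rintro - ⟨t, rfl⟩
    have : 2 * i * t / 2 = i * t := by
      rw [Nat.mul_assoc]; exact Nat.mul_div_cancel_left _ (by norm_num)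
    rw [this, pow_mul, hi, pow_orderOf_eq_one, one_pow]
  · rintro ⟨e, he⟩ ⟨t, rfl⟩
    have he' : i = 2 * e := by omega
    have hepos : 0 < e := by omega
    have hneg : a ^ e = -1 := by
      have h1 : (a ^ e) ^ 2 = 1 := by
        rw [← pow_mul, Nat.mul_comm, ← he', hi, pow_orderOf_eq_one]
      have h2 : a ^ e ≠ 1 := by
        intro h
        have := orderOf_dvd_of_pow_eq_one h
        rw [← hi] at this
        have := Nat.le_of_dvd hepos this
        omega
      have h3 : (a ^ e - 1) * (a ^ e + 1) = 0 := by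
        have : (a ^ e - 1) * (a ^ e + 1) = (a ^ e) ^ 2 - 1 := by ring
        rw [this, h1, sub_self]
      rcases mul_eq_zero.1 h3 with h | h
      · exact absurd (sub_eq_zero.1 h) h2
      · exact eq_neg_of_add_eq_zero_left h
    have h1 : i * t / 2 = e * t := by
      rw [he', Nat.mul_assoc]; exact Nat.mul_div_cancel_left _ (by norm_num)
    have h2 : i * t / i = t := Nat.mul_div_cancel_left _ hipos
    rw [h1, h2, pow_mul, hneg]
    constructor
    · intro h
      by_contra hodd
      rw [Nat.not_even_iff_odd] at hodd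
      rw [hodd.neg_one_pow] at h
      -- -1 = 1 in ZMod r, r odd prime
      have h4 : (2 : ZMod r) = 0 := by
        have : (1 : ZMod r) + 1 = 0 := by
          nth_rewrite 1 [← h]; ring
        rw [← this]; norm_num
      have h5 : ((2 : ℕ) : ZMod r) = 0 := by exact_mod_cast h4
      rw [ZMod.natCast_eq_zero_iff] at h5
      have := (Nat.prime_dvd_prime_iff_eq (Fact.out : r.Prime) Nat.prime_two).1 h5
      exact hr2 this
    · intro h
      exact h.neg_one_pow

end Cfsg.Agent.Lib.Helper5.Hy
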