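import Mathlib
import Cfsg.Agent.Lib.Helper75.LoCountDefs

set_option autoImplicit false

/-! # Lo sub-hive (S2347), LO-COUNT sub-split (helper75), leaf COUNT-ORB (helper5): `|Stab| ≤ |level set| * |Stab_v|`. -/

namespace Cfsg.Agent.Lib.Helper21.Lo

open Matrix

variable {F : Type*} [Field F] [Fintype F] [DecidableEq F]

omit [Fintype F] [DecidableEq F] in
theorem countorb_level {n : ℕ} (M : Matrix (Fin n) (Fin n) F) (v : Fin n → F) (g : GL (Fin n) F)
    (hg : g ∈ countStab M) :
    (v ᵥ* (g : Matrix (Fin n) (Fin n) F)) ⬝ᵥ M *ᵥ (v ᵥ* (g : Matrix (Fin n) (Fin n) F))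
      = v ⬝ᵥ M *ᵥ v := by
  rw [mem_countStab] at hg
  conv_rhs => rw [← hg]
  rw [← Matrix.dotProduct_mulVec, ← Matrix.mulVec_transpose (g : Matrix (Fin n) (Fin n) F) v,
    Matrix.mulVec_mulVec, Matrix.mulVec_mulVec]

/-- COUNT-ORB -/
theorem count_stab_card_le (n : ℕ) (M : Matrix (Fin n) (Fin n) F) (v : Fin n → F) :
    Nat.card (countStab M) ≤
      Nat.card {x : Fin n → F // x ⬝ᵥ M *ᵥ x = v ⬝ᵥ M *ᵥ v} * Nat.card (countStabVec M v) := by
  classical
  have : Fintype (countStab M) := Fintype.ofFinite _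
  have : Fintype (countStabVec M v) := Fintype.ofFinite _
  have : Fintype {x : Fin n → F // x ⬝ᵥ M *ᵥ x = v ⬝ᵥ M *ᵥ v} := Fintype.ofFinite _
  rw [Nat.card_eq_fintype_card, Nat.card_eq_fintype_card, Nat.card_eq_fintype_card]
  let φ : countStab M → {x : Fin n → F // x ⬝ᵥ M *ᵥ x = v ⬝ᵥ M *ᵥ v} := fun g =>
    ⟨v ᵥ* ((g : GL (Fin n) F) : Matrix (Fin n) (Fin n) F), countorb_level M v g.1 g.2⟩
  have hfib : ∀ a ∈ (Finset.univ : Finset (countStab M)).image φ,
      ((Finset.univ : Finset (countStab M)).filter (fun g => φ g = a)).card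
        ≤ Fintype.card (countStabVec M v) := by
    intro a ha
    obtain ⟨g0, _, hg0⟩ := Finset.mem_image.mp ha
    rw [← Finset.card_univ]
    have hmem : ∀ g : countStab M, φ g = a →
        (g : GL (Fin n) F) * (g0 : GL (Fin n) F)⁻¹ ∈ countStabVec M v := by
      intro g hga
      refine ⟨(countStab M).mul_mem g.2 ((countStab M).inv_mem g0.2), ?_⟩
      have h1 : v ᵥ* ((g : GL (Fin n) F) : Matrix (Fin n) (Fin n) F)
          = v ᵥ* ((g0 : GL (Fin n) F) : Matrix (Fin n) (Fin n) F) := by
        have := congrArg Subtype.val (hga.trans hg0.symm)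
        exact this
      rw [Units.val_mul, ← Matrix.vecMul_vecMul, h1, Matrix.vecMul_vecMul, ← Units.val_mul,
        mul_inv_cancel, Units.val_one, Matrix.vecMul_one]
    apply Finset.card_le_card_of_injOn
      (fun g => if h : φ g = a then (⟨(g : GL (Fin n) F) * (g0 : GL (Fin n) F)⁻¹, hmem g h⟩ :
        countStabVec M v) else 1)
    · intro g _
      exact Finset.mem_univ _
    · intro g hg g' hg' heq
      have hg1 : φ g = a := (Finset.mem_filter.mp hg).2
      have hg2 : φ g' = a := (Finset.mem_filter.mp hg').2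
      simp only [dif_pos hg1, dif_pos hg2] at heq
      have h3 := congrArg Subtype.val heq
      simp only at h3
      apply Subtype.ext
      exact mul_right_cancel h3
  have h4 := Finset.card_le_mul_card_image (f := φ) (Finset.univ : Finset (countStab M))
    (Fintype.card (countStabVec M v)) hfib
  rw [Finset.card_univ] at h4
  calc Fintype.card (countStab M)
      ≤ Fintype.card (countStabVec M v) * ((Finset.univ : Finset (countStab M)).image φ).card := h4
    _ ≤ Fintype.card (countStabVec M v)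
        * Fintype.card {x : Fin n → F // x ⬝ᵥ M *ᵥ x = v ⬝ᵥ M *ᵥ v} :=
        Nat.mul_le_mul_left _ (Finset.card_le_univ _)
    _ = _ := Nat.mul_comm _ _

end Cfsg.Agent.Lib.Helper21.Lo
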