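import Cfsg.Agent.Lib.Helper21.Lo.Defs

set_option autoImplicit false

/-! # Lo sub-hive (S2347, helper21), leaf LO-ORB (helper5): the assembly, with the statements of LO-DUAL / LO-COUNT / LO-SEP /
LO-LEVI / LO-AGRP as hypotheses. -/

namespace Cfsg.Agent.Lib.Helper21.Lo

open Module Cfsg.Agent.Lib.Helper6.Ls Cfsg.Agent.Lib.Helper13 Cfsg.Agent.Lib.Helper21.Lq

section concrete

variable {F : Type*} [Field F] [Fintype F] [DecidableEq F]

omit [Fintype F] [DecidableEq F] in
theorem orb_uMat_mul {n : ℕ} (S S' : Matrix (Fin n) (Fin n) F) :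
    uMat S * uMat S' = uMat (S + S') := by
  unfold uMat
  rw [Matrix.fromBlocks_multiply]
  simp [add_comm]

omit [Fintype F] [DecidableEq F] in
theorem orb_uMat_zero {n : ℕ} : uMat (0 : Matrix (Fin n) (Fin n) F) = 1 := by
  unfold uMat
  exact Matrix.fromBlocks_one

omit [Fintype F] [DecidableEq F] in
theorem orb_sym_congr {n : ℕ} (h S : Matrix (Fin n) (Fin n) F) (hS : S.transpose = S) :
    (h.transpose * S * h).transpose = h.transpose * S * h := by
  rw [Matrix.transpose_mul, Matrix.transpose_mul, Matrix.transpose_transpose, hS, Matrix.mul_assoc]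

omit [Fintype F] [DecidableEq F] in
theorem orb_sym_congr' {n : ℕ} (h M : Matrix (Fin n) (Fin n) F) (hM : M.transpose = M) :
    (h * M * h.transpose).transpose = h * M * h.transpose := by
  rw [Matrix.transpose_mul, Matrix.transpose_mul, Matrix.transpose_transpose, hM, Matrix.mul_assoc]

/-- LO-ORB with the other leaves as hypotheses. -/
theorem orb_core (n : ℕ)
    (HD : ∃ ψ : AddChar F ℂ, ψ ≠ 1 ∧
      ∀ χ : Matrix (Fin n) (Fin n) F → ℂ, χ 0 = 1 →
        (∀ S S', S.transpose = S → S'.transpose = S' → χ (S + S') = χ S * χ S') →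
        ∃ M : Matrix (Fin n) (Fin n) F, M.transpose = M ∧
          ∀ S, S.transpose = S → χ S = ψ (Matrix.trace (M * S)))
    (HCt : ∀ M : Matrix (Fin n) (Fin n) F, M.transpose = M → M ≠ 0 →
      ∃ g : Fin ((Fintype.card F ^ n - 1) / 2) → GL (Fin n) F, ∀ i j, i ≠ j →
        (g i : Matrix (Fin n) (Fin n) F) * M * (g i : Matrix (Fin n) (Fin n) F).transpose ≠
          (g j : Matrix (Fin n) (Fin n) F) * M * (g j : Matrix (Fin n) (Fin n) F).transpose)
    (HS : ∀ ψ : AddChar F ℂ, ψ ≠ 1 → ∀ N : Matrix (Fin n) (Fin n) F, N.transpose = N → N ≠ 0 →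
      ∃ S : Matrix (Fin n) (Fin n) F, S.transpose = S ∧ ψ (Matrix.trace (N * S)) ≠ 1)
    (HL : ∀ g : GL (Fin n) F, ∃ y : Spg F n, ∀ (S : Matrix (Fin n) (Fin n) F) (a : Spg F n),
      (a : Matrix (Fin n ⊕ Fin n) (Fin n ⊕ Fin n) F) = uMat S →
      ((y⁻¹ * a * y : Spg F n) : Matrix (Fin n ⊕ Fin n) (Fin n ⊕ Fin n) F) =
        uMat (((g⁻¹ : GL (Fin n) F) : Matrix (Fin n) (Fin n) F) * S *
          ((g⁻¹ : GL (Fin n) F) : Matrix (Fin n) (Fin n) F).transpose))
    (HA1 : ∀ a : Spg F n, a ∈ Agrp F n ↔ ∃ S : Matrix (Fin n) (Fin n) F, S.transpose = S ∧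
      (a : Matrix (Fin n ⊕ Fin n) (Fin n ⊕ Fin n) F) = uMat S)
    (HA3 : ∀ S : Matrix (Fin n) (Fin n) F, S.transpose = S →
      uMat S ∈ Matrix.symplecticGroup (Fin n) F)
    (μ : Spg F n → ℂ) (h1 : μ 1 = 1)
    (hmul : ∀ a ∈ Agrp F n, ∀ b ∈ Agrp F n, μ (a * b) = μ a * μ b)
    (hnt : ∃ a ∈ Agrp F n, μ a ≠ 1) :
    ∃ (ι : Type) (_ : Fintype ι) (y : ι → Spg F n),
      Fintype.card ι = (Fintype.card F ^ n - 1) / 2 ∧
      (∀ i, ∀ a ∈ Agrp F n, (y i)⁻¹ * a * y i ∈ Agrp F n) ∧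
      (∀ i j, i ≠ j → ∃ a ∈ Agrp F n, μ ((y i)⁻¹ * a * y i) ≠ μ ((y j)⁻¹ * a * y j)) := by
  classical
  -- the Siegel elements
  let U : ∀ S : Matrix (Fin n) (Fin n) F, S.transpose = S → Spg F n := fun S hS => ⟨uMat S, HA3 S hS⟩
  have hUcoe : ∀ S hS, ((U S hS : Spg F n) : Matrix (Fin n ⊕ Fin n) (Fin n ⊕ Fin n) F) = uMat S :=
    fun _ _ => rfl
  have hUmem : ∀ S hS, U S hS ∈ Agrp F n := fun S hS => (HA1 _).mpr ⟨S, hS, rfl⟩
  have hUeq : ∀ (a : Spg F n) S hS, (a : Matrix (Fin n ⊕ Fin n) (Fin n ⊕ Fin n) F) = uMat S →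
      a = U S hS := fun a S hS h => Subtype.ext h
  -- the character of `Sym_n`
  let χ : Matrix (Fin n) (Fin n) F → ℂ := fun S =>
    if hS : S.transpose = S then μ (U S hS) else 1
  have hχ : ∀ S hS, χ S = μ (U S hS) := fun S hS => dif_pos hS
  have hχ0 : χ 0 = 1 := by
    rw [hχ 0 Matrix.transpose_zero]
    have : U 0 Matrix.transpose_zero = 1 := Subtype.ext orb_uMat_zero
    rw [this, h1]
  have hχadd : ∀ S S', S.transpose = S → S'.transpose = S' → χ (S + S') = χ S * χ S' := by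
    intro S S' hS hS'
    have hSS' : (S + S').transpose = S + S' := by rw [Matrix.transpose_add, hS, hS']
    rw [hχ _ hSS', hχ _ hS, hχ _ hS', ← hmul _ (hUmem S hS) _ (hUmem S' hS')]
    congr 1
    apply Subtype.ext
    show uMat (S + S') = uMat S * uMat S'
    rw [orb_uMat_mul]
  obtain ⟨ψ, hψ, hdual⟩ := HD
  obtain ⟨M, hM, hMχ⟩ := hdual χ hχ0 hχadd
  have hM0 : M ≠ 0 := by
    rintro rfl
    obtain ⟨a, ha, hμa⟩ := hnt
    apply hμa
    obtain ⟨S, hS, haS⟩ := (HA1 a).mp ha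
    rw [hUeq a S hS haS, ← hχ S hS, hMχ S hS, Matrix.zero_mul, Matrix.trace_zero,
      AddChar.map_zero_eq_one]
  obtain ⟨h, hh⟩ := HCt M hM hM0
  -- the conjugating elements
  have hlevi : ∀ i : Fin ((Fintype.card F ^ n - 1) / 2), ∃ y : Spg F n,
      ∀ (S : Matrix (Fin n) (Fin n) F) (a : Spg F n),
      (a : Matrix (Fin n ⊕ Fin n) (Fin n ⊕ Fin n) F) = uMat S →
      ((y⁻¹ * a * y : Spg F n) : Matrix (Fin n ⊕ Fin n) (Fin n ⊕ Fin n) F) =
        uMat ((h i : Matrix (Fin n) (Fin n) F).transpose * S * (h i : Matrix (Fin n) (Fin n) F)) := by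
    intro i
    let ht : GL (Fin n) F :=
      ⟨(h i : Matrix (Fin n) (Fin n) F).transpose,
        ((h i)⁻¹ : GL (Fin n) F).1.transpose,
        by rw [← Matrix.transpose_mul, ← Units.val_mul, inv_mul_cancel]; simp,
        by rw [← Matrix.transpose_mul, ← Units.val_mul, mul_inv_cancel]; simp⟩
    obtain ⟨y, hy⟩ := HL ht⁻¹
    refine ⟨y, fun S a ha => ?_⟩
    rw [hy S a ha, inv_inv]
    show uMat ((h i : Matrix (Fin n) (Fin n) F).transpose * S *
      ((h i : Matrix (Fin n) (Fin n) F).transpose).transpose) = _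
    rw [Matrix.transpose_transpose]
  choose y hy using hlevi
  -- the value of the conjugated character
  have hval : ∀ i S (hS : S.transpose = S),
      μ ((y i)⁻¹ * U S hS * y i) =
        ψ (Matrix.trace ((h i : Matrix (Fin n) (Fin n) F) * M *
          (h i : Matrix (Fin n) (Fin n) F).transpose * S)) := by
    intro i S hS
    have h2 := hy i S (U S hS) rfl
    have hS' := orb_sym_congr (h i : Matrix (Fin n) (Fin n) F) S hS
    rw [hUeq _ _ hS' h2, ← hχ _ hS', hMχ _ hS']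
    congr 1
    rw [← Matrix.mul_assoc, ← Matrix.mul_assoc, Matrix.trace_mul_comm, ← Matrix.mul_assoc,
      ← Matrix.mul_assoc]
  refine ⟨Fin ((Fintype.card F ^ n - 1) / 2), inferInstance, y, Fintype.card_fin _, ?_, ?_⟩
  · intro i a ha
    obtain ⟨S, hS, haS⟩ := (HA1 a).mp ha
    exact (HA1 _).mpr ⟨_, orb_sym_congr (h i : Matrix (Fin n) (Fin n) F) S hS, hy i S a haS⟩
  · intro i j hij
    have hN0 : (h i : Matrix (Fin n) (Fin n) F) * M * (h i : Matrix (Fin n) (Fin n) F).transpose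
        - (h j : Matrix (Fin n) (Fin n) F) * M * (h j : Matrix (Fin n) (Fin n) F).transpose ≠ 0 :=
      sub_ne_zero.mpr (hh i j hij)
    have hNs : ((h i : Matrix (Fin n) (Fin n) F) * M * (h i : Matrix (Fin n) (Fin n) F).transpose
        - (h j : Matrix (Fin n) (Fin n) F) * M * (h j : Matrix (Fin n) (Fin n) F).transpose).transpose
        = (h i : Matrix (Fin n) (Fin n) F) * M * (h i : Matrix (Fin n) (Fin n) F).transpose
        - (h j : Matrix (Fin n) (Fin n) F) * M * (h j : Matrix (Fin n) (Fin n) F).transpose := by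
      rw [Matrix.transpose_sub, orb_sym_congr' _ M hM, orb_sym_congr' _ M hM]
    obtain ⟨S, hS, hSψ⟩ := HS ψ hψ _ hNs hN0
    refine ⟨U S hS, hUmem S hS, ?_⟩
    rw [hval i S hS, hval j S hS]
    intro heq
    apply hSψ
    rw [Matrix.sub_mul, Matrix.trace_sub]
    have h3 : ψ (Matrix.trace ((h i : Matrix (Fin n) (Fin n) F) * M *
          (h i : Matrix (Fin n) (Fin n) F).transpose * S)
        - Matrix.trace ((h j : Matrix (Fin n) (Fin n) F) * M *
          (h j : Matrix (Fin n) (Fin n) F).transpose * S))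
        * ψ (Matrix.trace ((h j : Matrix (Fin n) (Fin n) F) * M *
          (h j : Matrix (Fin n) (Fin n) F).transpose * S))
        = ψ (Matrix.trace ((h i : Matrix (Fin n) (Fin n) F) * M *
          (h i : Matrix (Fin n) (Fin n) F).transpose * S)) := by
      rw [← AddChar.map_add_eq_mul, sub_add_cancel]
    have h4 : ψ (Matrix.trace ((h j : Matrix (Fin n) (Fin n) F) * M *
          (h j : Matrix (Fin n) (Fin n) F).transpose * S)) ≠ 0 := by
      intro h0
      have h5 := AddChar.map_add_eq_mul ψ (Matrix.trace ((h j : Matrix (Fin n) (Fin n) F) * M *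
          (h j : Matrix (Fin n) (Fin n) F).transpose * S))
          (-Matrix.trace ((h j : Matrix (Fin n) (Fin n) F) * M *
          (h j : Matrix (Fin n) (Fin n) F).transpose * S))
      rw [add_neg_cancel, AddChar.map_zero_eq_one, h0, zero_mul] at h5
      exact one_ne_zero h5
    rw [heq] at h3
    exact mul_right_cancel₀ h4 (by rw [h3, one_mul])

end concrete

end Cfsg.Agent.Lib.Helper21.Lo
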