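import Cfsg.Agent.Lib.Helper6.Ls.Defs
import Cfsg.Agent.Lib.Helper13.UnitaryConfig
import Cfsg.Agent.Lib.Helper13.UnitaryLift
import Cfsg.Agent.Lib.Helper5.PSUSimple
import Cfsg.Prelude.Def_Classical

set_option autoImplicit false

/-!
# Ls hive (helper6), leaf C-MOVE: root subgroups with isotropic centres are conjugate (helper5)
-/

namespace Cfsg.Agent.Lib.Helper6.Ls

open Module Cfsg.Agent.Lib.Helper99

section concrete

variable {F : Type*} [Field F] [Fintype F] {q : ℕ}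

/-- conjugation by an isometry `g` with `g e = l e'` maps the root set of `e` onto that of `e'`. -/
theorem cmove_image_rootSet (hF : Fintype.card F = q ^ 2) {n : ℕ} (e e' : Fin n → F)
    (he : Cfsg.hermForm n F q e e = 0) (he' : Cfsg.hermForm n F q e' e' = 0)
    (g : SUg F n q) (l : F) (hl : l ≠ 0)
    (hg : ((g : GL (Fin n) F) : Matrix (Fin n) (Fin n) F).mulVec e = l • e') :
    (MulAut.conj g).toMonoidHom '' (rootSet e : Set (SUg F n q)) = rootSet e' := by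
  have hgGU : (g : GL (Fin n) F) ∈ Cfsg.GU n F q := g.2.1
  have key : ∀ c : F, (g : GL (Fin n) F) * utv q e c * (g : GL (Fin n) F)⁻¹ =
      utv q e' (c * l ^ (q + 1)) := by
    intro c
    rw [conj_utv (g : GL (Fin n) F) hgGU e he c, hg, utv_smul e' he' c l]
  have hne : l ^ (q + 1) ≠ 0 := pow_ne_zero _ hl
  ext z
  constructor
  · rintro ⟨y, ⟨c, hc, hy⟩, rfl⟩
    refine ⟨c * l ^ (q + 1), Cfsg.Agent.Lib.Helper99.SURoot.mul_norm_trace_zero hF c l hc, ?_⟩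
    show ((g * y * g⁻¹ : SUg F n q) : GL (Fin n) F) = _
    rw [Subgroup.coe_mul, Subgroup.coe_mul, Subgroup.coe_inv, hy, key]
  · rintro ⟨c, hc, hz⟩
    have hc' := Cfsg.Agent.Lib.Helper5.PSUS.div_norm_trace_zero hF c l hc
    refine ⟨⟨utv q e (c / l ^ (q + 1)), utv_mem_suGL hF e he _ hc'⟩, ⟨_, hc', rfl⟩, ?_⟩
    apply Subtype.ext
    show ((g * _ * g⁻¹ : SUg F n q) : GL (Fin n) F) = _
    rw [Subgroup.coe_mul, Subgroup.coe_mul, Subgroup.coe_inv]
    simp only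
    rw [key, hz, div_mul_cancel₀ _ hne]

/-- C-MOVE -/
theorem exists_conj_Zgrp (hF : Fintype.card F = q ^ 2) {n : ℕ} (e e' : Fin n → F) (he0 : e ≠ 0)
    (he'0 : e' ≠ 0) (he : Cfsg.hermForm n F q e e = 0) (he' : Cfsg.hermForm n F q e' e' = 0) :
    ∃ g : SUg F n q, (Zgrp e).map (MulAut.conj g).toMonoidHom = Zgrp e' := by
  obtain ⟨g₀, l, hl, hg₀⟩ := Cfsg.Agent.Lib.Helper5.PSUS.exists_move n hF e e' he0 he'0 he he'
  have hmem : Cfsg.Agent.Lib.Helper5.PSUS.toGL n g₀ ∈ suGL (F := F) n q := by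
    rw [← Cfsg.Agent.Lib.Helper5.PSUS.range_toGL]
    exact ⟨g₀, rfl⟩
  refine ⟨⟨Cfsg.Agent.Lib.Helper5.PSUS.toGL n g₀, hmem⟩, ?_⟩
  unfold Zgrp
  rw [MonoidHom.map_closure]
  congr 1
  apply cmove_image_rootSet hF e e' he he' _ l hl
  simp only
  rw [Cfsg.Agent.Lib.Helper5.PSUS.toGL_coe]
  exact hg₀

end concrete

end Cfsg.Agent.Lib.Helper6.Ls
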