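import Cfsg.Agent.Lib.Helper6.Ls.Defs
import Cfsg.Agent.Lib.Helper13.UnitaryConfig
import Cfsg.Agent.Lib.Helper13.UnitaryLift
import Cfsg.Agent.Lib.Helper13.UnitaryGen5
import Cfsg.Agent.Lib.Helper5.PSUSimple
import Cfsg.Prelude.Def_Classical

set_option autoImplicit false

/-!
# Ls hive (helper6), leaf C-TOP: transport to `SUg` and generation by root elements (helper5)
-/

namespace Cfsg.Agent.Lib.Helper6.Ls

open Module Cfsg.Agent.Lib.Helper99

/-- a trivial representation of degree at least two is not irreducible (copied from S2337). -/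
theorem ctop_not_irreducible_of_trivial {H : Type*} [Group H] {k : ℕ} (hk : 2 ≤ k)
    (ρ : Representation ℂ H (Fin k → ℂ)) (htriv : ∀ g, ρ g = 1) : ¬ ρ.IsIrreducible := by
  intro hirr
  obtain ⟨i0, hi0⟩ : ∃ i0 : Fin k, i0 = ⟨0, by omega⟩ := ⟨_, rfl⟩
  obtain ⟨i1, hi1⟩ : ∃ i1 : Fin k, i1 = ⟨1, by omega⟩ := ⟨_, rfl⟩
  have hne : i1 ≠ i0 := by
    rw [hi0, hi1]
    intro h
    have := congrArg Fin.val h
    simp at this
  obtain ⟨S, hS⟩ : ∃ S : Subrepresentation ρ,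
      S.toSubmodule = Submodule.span ℂ {(Pi.single i0 1 : Fin k → ℂ)} := by
    refine ⟨⟨Submodule.span ℂ {(Pi.single i0 1 : Fin k → ℂ)}, ?_⟩, rfl⟩
    intro g v hv
    rw [htriv g]
    exact hv
  have hmem : (Pi.single i0 1 : Fin k → ℂ) ∈ S.toSubmodule := by
    rw [hS]
    exact Submodule.subset_span rfl
  rcases hirr.eq_bot_or_eq_top S with h | h
  · have h1 : S.toSubmodule = ⊥ := congrArg Subrepresentation.toSubmodule h
    rw [h1, Submodule.mem_bot] at hmem
    have := congrFun hmem i0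
    simp at this
  · have h1 : S.toSubmodule = ⊤ := congrArg Subrepresentation.toSubmodule h
    have h2 : (Pi.single i1 1 : Fin k → ℂ) ∈ S.toSubmodule := by rw [h1]; trivial
    rw [hS, Submodule.mem_span_singleton] at h2
    obtain ⟨a, ha⟩ := h2
    have := congrFun ha i1
    simp [hne] at this

section concrete

variable {F : Type*} [Field F] [Fintype F] {q : ℕ}

/-- the isomorphism `SU n F q ≃* SUg F n q` induced by the embedding into `GL`. -/
noncomputable def ctop_equiv (n : ℕ) : ↥(Cfsg.SU n F q) ≃* SUg F n q :=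
  (MonoidHom.ofInjective (Cfsg.Agent.Lib.Helper5.PSUS.toGL_injective (F := F) (q := q) n)).trans
    (MulEquiv.subgroupCongr (Cfsg.Agent.Lib.Helper5.PSUS.range_toGL (F := F) (q := q) n))

/-- a homomorphism from `SUg` killing all root elements is trivial. -/
theorem ctop_ker_top (hF : Fintype.card F = q ^ 2) (n : ℕ) (hn : 3 ≤ n)
    (h32 : ¬ (n = 3 ∧ q = 2)) {M : Type*} [Monoid M] (φ : SUg F n q →* M)
    (hφ : ∀ (e : Fin n → F), Cfsg.hermForm n F q e e = 0 →
      ∀ z ∈ (Zgrp e : Subgroup (SUg F n q)), φ z = 1) : ∀ g, φ g = 1 := by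
  classical
  have hle : utvGroup n q F ≤ (φ.ker).map (Subgroup.subtype _) := by
    unfold utvGroup
    rw [Subgroup.closure_le]
    rintro g ⟨u, c, hu, hc, rfl⟩
    refine ⟨⟨utv q u c, utv_mem_suGL hF u hu c hc⟩, ?_, rfl⟩
    show _ ∈ φ.ker
    rw [MonoidHom.mem_ker]
    apply hφ u hu
    exact Subgroup.subset_closure ⟨c, hc, rfl⟩
  intro g
  have h1 : (g : GL (Fin n) F) ∈ (φ.ker).map (Subgroup.subtype _) :=
    hle (Cfsg.Agent.Lib.Helper13.suGL_le_utvGroup hF n hn h32 g.2)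
  obtain ⟨g', hg', hgg'⟩ := h1
  have : g' = g := Subtype.ext hgg'
  rw [← this]
  exact MonoidHom.mem_ker.mp hg'

/-- C-TOP: transport to `SUg` and generation by root elements. -/
theorem rootNontriv_of_irreducible (hF : Fintype.card F = q ^ 2) (n : ℕ) (hn : 3 ≤ n)
    (h32 : ¬ (n = 3 ∧ q = 2)) (k : ℕ) (ρ : Representation ℂ (Cfsg.SU n F q) (Fin k → ℂ))
    (hirr : ρ.IsIrreducible) (hk : 2 ≤ k) :
    ∃ ρ' : Representation ℂ (SUg F n q) (Fin k → ℂ), RootNontriv ρ' := by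
  classical
  obtain ⟨ψ, hψ⟩ : ∃ ψ : ↥(Cfsg.SU n F q) ≃* SUg F n q, ψ = ctop_equiv n := ⟨_, rfl⟩
  obtain ⟨ρ', hρ'⟩ : ∃ ρ' : Representation ℂ (SUg F n q) (Fin k → ℂ),
      ρ' = ρ.comp ψ.symm.toMonoidHom := ⟨_, rfl⟩
  have hρ'a : ∀ g, ρ' g = ρ (ψ.symm g) := fun g => by rw [hρ']; rfl
  refine ⟨ρ', ?_⟩
  by_contra hcon
  have htriv : ∀ (e : Fin n → F), Cfsg.hermForm n F q e e = 0 →
      ∀ z ∈ (Zgrp e : Subgroup (SUg F n q)), ρ' z = 1 := by
    intro e he z hz
    apply LinearMap.ext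
    intro w
    by_contra hne
    exact hcon ⟨e, he, z, hz, w, Submodule.mem_top, hne⟩
  have hall := ctop_ker_top hF n hn h32 (ρ' : SUg F n q →* Module.End ℂ (Fin k → ℂ)) htriv
  apply ctop_not_irreducible_of_trivial hk ρ _ hirr
  intro g
  have h2 := hall (ψ g)
  rw [hρ'a, ψ.symm_apply_apply] at h2
  exact h2

end concrete

end Cfsg.Agent.Lib.Helper6.Ls
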