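import Mathlib
import Cfsg.Prelude.Def_Balance

/-! # S1305 hive (MC, helper18): leaf MC-ORBG, core lemma (the leaves `orbit` and `comp_sub` as hypotheses) -/

set_option autoImplicit false

open Cfsg

namespace Cfsg.Agent.Lib.Helper18.Mc

open Subgroup

/-- MC-ORBG core: `orbit` in `X = C_G(b)` (with `comp_sub`), mapped to `G` along the subtype. -/
theorem mcorbg_core {G : Type*} [Group G] [Finite G] (a b : G) (ha : a * a = 1)
    (K : Subgroup G)
    (hKa : K ≤ centralizer ({a} : Set G)) (hKb : K ≤ centralizer ({b} : Set G))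
    (hKL : K.subgroupOf (centralizer ({b} : Set G)) ≤ layer ↥(centralizer ({b} : Set G)))
    (haM : a ∈ centralizer ({b} : Set G))
    (hsub : IsComponent ((K.subgroupOf (centralizer ({b} : Set G))).subgroupOf
      (centralizer ({(⟨a, haM⟩ : ↥(centralizer ({b} : Set G)))} : Set ↥(centralizer ({b} : Set G))))))
    (horbit : ∀ (a' : ↥(centralizer ({b} : Set G))) (_ : a' * a' = 1)
      (K' : Subgroup ↥(centralizer ({b} : Set G)))
      (_ : K' ≤ centralizer ({a'} : Set ↥(centralizer ({b} : Set G))))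
      (_ : IsComponent (K'.subgroupOf (centralizer ({a'} : Set ↥(centralizer ({b} : Set G))))))
      (_ : K' ≤ layer ↥(centralizer ({b} : Set G))),
      ∃ J : Subgroup ↥(centralizer ({b} : Set G)), IsComponent J ∧
        (¬ ∀ k ∈ K', ∀ x ∈ J, k * x = x * k) ∧ K' ≤ J ⊔ J.map (MulAut.conj a').toMonoidHom) :
    ∃ J : Subgroup G, J ≤ centralizer ({b} : Set G) ∧ IsComponent (J.subgroupOf (centralizer ({b} : Set G))) ∧
      (¬ ∀ k ∈ K, ∀ x ∈ J, k * x = x * k) ∧ K ≤ J ⊔ J.map (MulAut.conj a).toMonoidHom := by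
  have ha' : (⟨a, haM⟩ : ↥(centralizer ({b} : Set G))) * ⟨a, haM⟩ = 1 := Subtype.ext ha
  have hle : K.subgroupOf (centralizer ({b} : Set G)) ≤
      centralizer ({(⟨a, haM⟩ : ↥(centralizer ({b} : Set G)))} : Set ↥(centralizer ({b} : Set G))) := by
    intro x hx
    rw [mem_centralizer_singleton_iff]
    apply Subtype.ext
    exact mem_centralizer_singleton_iff.mp (hKa (mem_subgroupOf.mp hx))
  obtain ⟨J', hJ', hnc, hKJ⟩ := horbit ⟨a, haM⟩ ha' (K.subgroupOf (centralizer ({b} : Set G))) hle hsub hKL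
  have hcomp : (MulAut.conj a).toMonoidHom.comp (centralizer ({b} : Set G)).subtype =
      (centralizer ({b} : Set G)).subtype.comp
        (MulAut.conj (⟨a, haM⟩ : ↥(centralizer ({b} : Set G)))).toMonoidHom := by
    ext x
    simp
  refine ⟨J'.map (centralizer ({b} : Set G)).subtype, Subgroup.map_subtype_le J', ?_, ?_, ?_⟩
  · have : (J'.map (centralizer ({b} : Set G)).subtype).subgroupOf (centralizer ({b} : Set G)) = J' := by
      rw [Subgroup.subgroupOf,
        Subgroup.comap_map_eq_self_of_injective (centralizer ({b} : Set G)).subtype_injective]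
    rw [this]
    exact hJ'
  · intro hall
    apply hnc
    intro k hk x hx
    apply Subtype.ext
    exact hall k.1 (mem_subgroupOf.mp hk) x.1 ⟨x, hx, rfl⟩
  · intro k hk
    have hk' : (⟨k, hKb hk⟩ : ↥(centralizer ({b} : Set G))) ∈ K.subgroupOf (centralizer ({b} : Set G)) :=
      mem_subgroupOf.mpr hk
    have h1 := hKJ hk'
    have h2 : k ∈ (J' ⊔ J'.map (MulAut.conj (⟨a, haM⟩ : ↥(centralizer ({b} : Set G)))).toMonoidHom).map
        (centralizer ({b} : Set G)).subtype := ⟨_, h1, rfl⟩
    rw [Subgroup.map_sup, Subgroup.map_map, ← hcomp, ← Subgroup.map_map] at h2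
    exact h2

end Cfsg.Agent.Lib.Helper18.Mc
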