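import Mathlib
import Cfsg.Prelude.Def_Balance

/-! # S1305 hive (MC, helper18): leaf MC-ORBIT, core lemma (OEX / OSPLIT / OCOMM / ODICH / PERF as hypotheses) -/

set_option autoImplicit false

open Cfsg

namespace Cfsg.Agent.Lib.Helper18.Mc

open Subgroup

/-- a component (as a subgroup of `C`) is not abelian -/
theorem mcorbit_nonab {X : Type*} [Group X] (C K : Subgroup X) (hK : IsComponent (K.subgroupOf C)) :
    ¬ ∀ k ∈ K, ∀ k' ∈ K, k * k' = k' * k := by
  intro hab
  obtain ⟨_, _, hsimple⟩ := hK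
  have hnt : Nontrivial (↥(K.subgroupOf C) ⧸ center ↥(K.subgroupOf C)) := hsimple.toNontrivial
  have htop : center ↥(K.subgroupOf C) = ⊤ := by
    rw [eq_top_iff]
    intro x _
    rw [mem_center_iff]
    intro y
    apply Subtype.ext
    apply Subtype.ext
    exact hab _ (mem_subgroupOf.mp y.2) _ (mem_subgroupOf.mp x.2)
  have hss : Subsingleton (↥(K.subgroupOf C) ⧸ center ↥(K.subgroupOf C)) := by
    rw [htop]
    exact QuotientGroup.subsingleton_quotient_top
  exact not_subsingleton _ hss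

/-- MC-ORBIT core. -/
theorem mcorbit_core {X : Type*} [Group X] [Finite X] (a : X) (ha : a * a = 1) (K : Subgroup X)
    (hK : IsComponent (K.subgroupOf (centralizer ({a} : Set X))))
    (hKa : K ≤ centralizer ({a} : Set X))
    (hKL : K ≤ layer X)
    (hperf : ⁅K, K⁆ = K)
    (hex : (¬ ∀ k ∈ K, ∀ k' ∈ K, k * k' = k' * k) →
      ∃ J : Subgroup X, IsComponent J ∧ ¬ ∀ k ∈ K, ∀ x ∈ J, k * x = x * k)
    (hsplit : ∀ J : Subgroup X, IsComponent J →
      ∃ M : Subgroup X, M.IsSubnormal ∧ (J ⊔ J.map (MulAut.conj a).toMonoidHom).IsSubnormal ∧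
        layer X ≤ (J ⊔ J.map (MulAut.conj a).toMonoidHom) ⊔ M ∧
        (∀ n ∈ J ⊔ J.map (MulAut.conj a).toMonoidHom, ∀ m ∈ M, n * m = m * n) ∧
        (∀ m ∈ M, a * m * a⁻¹ ∈ M))
    (hcomm : ∀ N M : Subgroup X, (∀ n ∈ N, ∀ m ∈ M, n * m = m * n) → (∀ n ∈ N, a * n * a⁻¹ ∈ N) →
      (∀ m ∈ M, a * m * a⁻¹ ∈ M) → ∀ x y : X, x ∈ N ⊔ M → y ∈ N ⊔ M →
      x ∈ centralizer ({a} : Set X) → y ∈ centralizer ({a} : Set X) →
      x * y * x⁻¹ * y⁻¹ ∈ (N ⊓ centralizer ({a} : Set X)) ⊔ (M ⊓ centralizer ({a} : Set X)))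
    (hdich : ∀ S : Subgroup X, S.IsSubnormal →
      K ≤ S ∨ ∀ k ∈ K, ∀ s ∈ S ⊓ centralizer ({a} : Set X), k * s = s * k) :
    ∃ J : Subgroup X, IsComponent J ∧ (¬ ∀ k ∈ K, ∀ x ∈ J, k * x = x * k) ∧
      K ≤ J ⊔ J.map (MulAut.conj a).toMonoidHom := by
  have hnab := mcorbit_nonab (centralizer ({a} : Set X)) K hK
  obtain ⟨J, hJ, hnc⟩ := hex hnab
  obtain ⟨M, hMsn, hNsn, hlay, hNM, hMa⟩ := hsplit J hJ
  refine ⟨J, hJ, hnc, ?_⟩
  -- `N` is `a`-invariant
  have hNa : ∀ n ∈ J ⊔ J.map (MulAut.conj a).toMonoidHom,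
      a * n * a⁻¹ ∈ J ⊔ J.map (MulAut.conj a).toMonoidHom := by
    intro n hn
    have h1 : a * n * a⁻¹ ∈ (J ⊔ J.map (MulAut.conj a).toMonoidHom).map (MulAut.conj a).toMonoidHom :=
      ⟨n, hn, rfl⟩
    rw [Subgroup.map_sup, Subgroup.map_map] at h1
    have h2 : (MulAut.conj a).toMonoidHom.comp (MulAut.conj a).toMonoidHom = MonoidHom.id X := by
      ext x
      simp only [MonoidHom.comp_apply, MulEquiv.coe_toMonoidHom, MulAut.conj_apply, MonoidHom.id_apply]
      have hainv : a⁻¹ = a := inv_eq_of_mul_eq_one_right ha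
      rw [hainv]
      calc a * (a * x * a) * a = (a * a) * x * (a * a) := by simp only [mul_assoc]
        _ = x := by rw [ha, one_mul, mul_one]
    rw [h2, Subgroup.map_id, sup_comm] at h1
    exact h1
  -- `K ≤ C_N(a) C_M(a)`
  have hKD : K ≤ ((J ⊔ J.map (MulAut.conj a).toMonoidHom) ⊓ centralizer ({a} : Set X)) ⊔
      (M ⊓ centralizer ({a} : Set X)) := by
    rw [← hperf, Subgroup.commutator_le]
    intro x hx y hy
    rw [commutatorElement_def]
    exact hcomm _ M hNM hNa hMa x y (hlay (hKL hx)) (hlay (hKL hy)) (hKa hx) (hKa hy)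
  rcases hdich _ hNsn with h1 | h1
  · exact h1
  · exfalso
    rcases hdich M hMsn with h2 | h2
    · apply hnc
      intro k hk x hx
      exact (hNM x (le_sup_left (a := J) hx) k (h2 hk)).symm
    · apply hnab
      have hle : ((J ⊔ J.map (MulAut.conj a).toMonoidHom) ⊓ centralizer ({a} : Set X)) ⊔
          (M ⊓ centralizer ({a} : Set X)) ≤ centralizer (K : Set X) := by
        refine sup_le ?_ ?_
        · intro s hs
          rw [mem_centralizer_iff]
          intro k hk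
          exact h1 k hk s hs
        · intro s hs
          rw [mem_centralizer_iff]
          intro k hk
          exact h2 k hk s hs
      intro k hk k' hk'
      have := mem_centralizer_iff.mp (hle (hKD hk')) k hk
      exact this

end Cfsg.Agent.Lib.Helper18.Mc
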