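import Mathlib
import Cfsg.Prelude.Def_Balance
import Cfsg.Agent.Lib.Helper5.McORBITcore
import Cfsg.Agent.Lib.Helper34.McOEX
import Cfsg.Agent.Lib.Helper97.McOSPLIT
import Cfsg.Agent.Lib.Helper27.McOCOMM
import Cfsg.Agent.Lib.Helper91.McODICH
import Cfsg.Agent.Lib.Helper11.McPERF

/-! # S1305 hive (MC, helper18): leaf MC-ORBIT `orbit` (wrapper of `mcorbit_core` over the landed leaves
OEX (Helper34), OSPLIT (Helper97), OCOMM (Helper27), ODICH (Helper91), PERF (Helper11)) -/

set_option autoImplicit false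

open Cfsg

namespace Cfsg.Agent.Lib.Helper18.Mc

open Subgroup

/-- MC-ORBIT (assembly of OEX, OSPLIT, OCOMM, ODICH). -/
theorem orbit {X : Type*} [Group X] [Finite X] (a : X) (ha : a * a = 1) (K : Subgroup X)
    (hKa : K ≤ centralizer ({a} : Set X)) (hK : IsComponent (K.subgroupOf (centralizer ({a} : Set X))))
    (hKL : K ≤ layer X) :
    ∃ J : Subgroup X, IsComponent J ∧ (¬ ∀ k ∈ K, ∀ x ∈ J, k * x = x * k) ∧
      K ≤ J ⊔ J.map (MulAut.conj a).toMonoidHom :=
  mcorbit_core a ha K hK hKa hKL (perf_of_comp _ K hKa hK)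
    (fun hnab => exists_noncomm K hKL hnab)
    (fun J hJ => split a ha J hJ)
    (fun N M hNM hNa hMa x y hx hy hxa hya => comm_split a N M hNM hNa hMa x y hx hy hxa hya)
    (fun S hS => dich a K S hKa hK hS)

end Cfsg.Agent.Lib.Helper18.Mc
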