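import Mathlib

set_option autoImplicit false
set_option linter.unusedVariables false
set_option linter.unusedSectionVars false
set_option linter.style.haveILetI false

/-!
# Frobenius on the quadratic algebra of an anisotropic binary form

For a finite field `F` with `q` elements and an anisotropic form `z₁² + a z₁ z₂ + b z₂²`, in the
quadratic algebra `E = F[ω]/(ω² = -b + a ω)` one has `ω ^ q = star ω = a - ω`.
-/

namespace Cfsg.Agent.Lib.Helper5.QuadFrob

open QuadraticAlgebra

variable {F : Type*} [Field F] [Fintype F] (a b : F)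

theorem fact_of_aniso
    (hab : ∀ z₁ z₂ : F, z₁ ^ 2 + a * z₁ * z₂ + b * z₂ ^ 2 = 0 → z₁ = 0 ∧ z₂ = 0) :
    Fact (∀ r : F, r ^ 2 ≠ -b + a * r) := by
  constructor
  intro r hr
  have h := hab r (-1) (by rw [hr]; ring)
  have : (-1 : F) = 0 := h.2
  exact one_ne_zero (neg_eq_zero.1 this)

/-- decomposition of an element along `1, ω` -/
theorem decomp (z : QuadraticAlgebra F (-b) a) :
    z = algebraMap F _ z.re + algebraMap F _ z.im * ω := by
  ext <;> simp

variable {a b}

/-- the `p^n`-th power map on the quadratic algebra in coordinates -/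
theorem pow_char_pow (p : ℕ) [Fact p.Prime] [CharP F p] (n : ℕ) (z : QuadraticAlgebra F (-b) a) :
    z ^ (p ^ n) = algebraMap F _ (z.re ^ (p ^ n)) +
      algebraMap F _ (z.im ^ (p ^ n)) * (ω : QuadraticAlgebra F (-b) a) ^ (p ^ n) := by
  haveI : CharP (QuadraticAlgebra F (-b) a) p :=
    charP_of_injective_algebraMap (QuadraticAlgebra.algebraMap_injective) p
  conv_lhs => rw [decomp a b z]
  rw [add_pow_char_pow, mul_pow, ← map_pow, ← map_pow]

theorem omega_pow_card
    (hab : ∀ z₁ z₂ : F, z₁ ^ 2 + a * z₁ * z₂ + b * z₂ ^ 2 = 0 → z₁ = 0 ∧ z₂ = 0)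
    (p : ℕ) [Fact p.Prime] [CharP F p] {f : ℕ} (hF : Fintype.card F = p ^ f) :
    (ω : QuadraticAlgebra F (-b) a) ^ (p ^ f) = star (ω : QuadraticAlgebra F (-b) a) := by
  classical
  haveI := fact_of_aniso a b hab
  haveI : CharP (QuadraticAlgebra F (-b) a) p :=
    charP_of_injective_algebraMap (QuadraticAlgebra.algebraMap_injective) p
  obtain ⟨y, hy⟩ : ∃ y : QuadraticAlgebra F (-b) a, y = (ω : QuadraticAlgebra F (-b) a) ^ (p ^ f) :=
    ⟨_, rfl⟩
  rw [← hy]
  have hq : ∀ c : F, c ^ (p ^ f) = c := by
    intro c; rw [← hF]; exact FiniteField.pow_card c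
  -- every element: `z ^ q = re + im * y`
  have hz : ∀ z : QuadraticAlgebra F (-b) a, z ^ (p ^ f) = algebraMap F (QuadraticAlgebra F (-b) a) z.re + algebraMap F (QuadraticAlgebra F (-b) a) z.im * y := by
    intro z
    rw [pow_char_pow p f z, hq, hq, hy]
  -- `y` is a root of `T² - aT + b`
  have hroot : (y - ω) * (y - star (ω : QuadraticAlgebra F (-b) a)) = 0 := by
    have h1 : (ω : QuadraticAlgebra F (-b) a) * ω = algebraMap F (QuadraticAlgebra F (-b) a) (-b) + algebraMap F (QuadraticAlgebra F (-b) a) a * ω := by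
      rw [omega_mul_omega_eq_mk]
      ext
      · simp only [re_add, re_mul, algebraMap_re, algebraMap_im, omega_re, omega_im, map_neg,
          re_neg]
        ring
      · simp only [im_add, im_mul, algebraMap_re, algebraMap_im, omega_re, omega_im, map_neg,
          im_neg]
        ring
    have h2 : y * y = algebraMap F (QuadraticAlgebra F (-b) a) (-b) + algebraMap F (QuadraticAlgebra F (-b) a) a * y := by
      have : y * y = ((ω : QuadraticAlgebra F (-b) a) * ω) ^ (p ^ f) := by rw [mul_pow, hy]
      rw [this, hz]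
      rw [omega_mul_omega_eq_mk]
    have h3 : (ω : QuadraticAlgebra F (-b) a) + star (ω : QuadraticAlgebra F (-b) a) = algebraMap F (QuadraticAlgebra F (-b) a) a := by
      rw [← algebraMap_trace_eq_add_star, trace_omega]
    have h4 : (ω : QuadraticAlgebra F (-b) a) * star (ω : QuadraticAlgebra F (-b) a) = algebraMap F (QuadraticAlgebra F (-b) a) b := by
      rw [← algebraMap_norm_eq_mul_star]
      congr 1
      rw [norm_def]
      simp
    have : (y - ω) * (y - star (ω : QuadraticAlgebra F (-b) a)) = y * y - (ω + star (ω : QuadraticAlgebra F (-b) a)) * y + ω * star (ω : QuadraticAlgebra F (-b) a) := by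
      ring
    rw [this, h2, h3, h4, map_neg]
    ring
  rcases mul_eq_zero.1 hroot with h | h
  · -- `y = ω` is impossible
    exfalso
    have hyω : y = ω := sub_eq_zero.1 h
    have hall : ∀ z : QuadraticAlgebra F (-b) a, z ^ (p ^ f) = z := by
      intro z
      rw [hz, hyω]
      exact (decomp a b z).symm
    haveI : Fintype (QuadraticAlgebra F (-b) a) := Fintype.ofEquiv _ (equivProd (-b) a).symm
    have hcardE : Fintype.card (QuadraticAlgebra F (-b) a) = (p ^ f) ^ 2 := by
      rw [Fintype.card_congr (equivProd (-b) a), Fintype.card_prod, hF, sq]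
    obtain ⟨g, hg⟩ := IsCyclic.exists_generator (α := (QuadraticAlgebra F (-b) a)ˣ)
    have hord : orderOf g = (p ^ f) ^ 2 - 1 := by
      rw [orderOf_eq_card_of_forall_mem_zpowers hg, Nat.card_eq_fintype_card, Fintype.card_units,
        hcardE]
    have h1 : p ^ f ≥ 2 := by
      have hp : 2 ≤ p := (Fact.out : p.Prime).two_le
      have hf : 1 ≤ f := by
        by_contra hf0
        have : f = 0 := by omega
        rw [this, pow_zero] at hF
        have : 1 < Fintype.card F := Fintype.one_lt_card
        omega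
      calc p ^ f ≥ p ^ 1 := Nat.pow_le_pow_right (by omega) hf
        _ = p := pow_one p
        _ ≥ 2 := hp
    have hg1 : g ^ (p ^ f - 1) = 1 := by
      have h2 := hall (g : QuadraticAlgebra F (-b) a)
      apply Units.ext
      rw [Units.val_pow_eq_pow_val, Units.val_one]
      have h3 : (g : QuadraticAlgebra F (-b) a) ^ (p ^ f - 1) * (g : QuadraticAlgebra F (-b) a) = (g : QuadraticAlgebra F (-b) a) := by
        rw [← pow_succ, Nat.sub_add_cancel (by omega)]
        exact h2
      have h4 : (g : QuadraticAlgebra F (-b) a) ≠ 0 := g.ne_zero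
      exact mul_right_cancel₀ h4 (by rw [h3, one_mul])
    have hdvd := orderOf_dvd_of_pow_eq_one hg1
    rw [hord] at hdvd
    have hle := Nat.le_of_dvd (by omega) hdvd
    have : (p ^ f) ^ 2 ≥ 2 * p ^ f := by
      rw [sq]; exact Nat.mul_le_mul_right _ h1
    omega
  · exact sub_eq_zero.1 h

theorem star_omega_re : (star (ω : QuadraticAlgebra F (-b) a)).re = a := by
  rw [re_star]; simp

theorem star_omega_im : (star (ω : QuadraticAlgebra F (-b) a)).im = -1 := by
  rw [im_star]; simp

end Cfsg.Agent.Lib.Helper5.QuadFrob
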