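import Cfsg.Agent.Lib.Helper43.MinusAutCard
import Cfsg.Agent.Lib.Helper5.QuadFrob

set_option autoImplicit false
set_option linter.unusedVariables false
set_option linter.unusedSectionVars false
set_option linter.unusedSimpArgs false
set_option linter.style.haveILetI false

/-!
# The Frobenius semisimilarity of the minus-type form and its powers

`frobE p` is the Frobenius automorphism `x ↦ x ^ p` of `F`; `pairN n` is the semisimilarity pair
`(gGL n, frobE ^ n)` of `quadFormMinus m F a b` acting as `y ↦ y ^ (p ^ n)` on the anisotropic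
plane (identified with the quadratic algebra `F[ω]`, `ω² = -b + a ω`).  The induced automorphisms
satisfy `semiAut (pairN 1) ^ n = semiAut (pairN n)`, and for `|F| = p ^ f` the `f`-th one is induced
by the isometry `1 ⊕ (y ↦ a - y)`.
-/

namespace Cfsg.Agent.Lib.Helper5.MinusFrobPow

open Matrix QuadraticAlgebra
open Cfsg.Agent.Lib.Helper37 Cfsg.Agent.Lib.Helper5.AutOrth Cfsg.Agent.Lib.Helper43.OrthField
  Cfsg.Agent.Lib.Helper43.OrthPair Cfsg.Agent.Lib.Helper5.QuadFrob

universe u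

variable {F : Type u} [Field F] [Fintype F] (p : ℕ) [Fact p.Prime] [CharP F p]

/-- the Frobenius automorphism of `F` -/
noncomputable def frobE : F ≃+* F := frobeniusEquiv F p

theorem frobE_apply (x : F) : frobE p x = x ^ p := by
  unfold frobE
  rw [frobeniusEquiv_apply, frobenius_def]

theorem frobE_pow_apply (n : ℕ) (x : F) : (frobE p ^ n) x = x ^ (p ^ n) := by
  induction n generalizing x with
  | zero => simp
  | succ n ih =>
    rw [pow_succ', RingAut.mul_apply, ih, frobE_apply, ← pow_mul, pow_succ]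

theorem frobE_pow_card {f : ℕ} (hF : Fintype.card F = p ^ f) : (frobE (F := F) p) ^ f = 1 := by
  ext x
  rw [frobE_pow_apply, ← hF, FiniteField.pow_card]
  rfl

theorem orderOf_frobE {f : ℕ} (hF : Fintype.card F = p ^ f) : orderOf (frobE (F := F) p) = f := by
  letI : Algebra (ZMod p) F := ZMod.algebra F p
  have h1 := FiniteField.orderOf_frobeniusAlgEquivOfAlgebraic (ZMod p) F
  have h2 : Module.finrank (ZMod p) F = f := by
    have h := FiniteField.pow_finrank_eq_card p F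
    rw [hF] at h
    exact Nat.pow_right_injective (Fact.out : p.Prime).two_le h
  have h3 : Cfsg.Agent.Lib.Helper43.RingAutFin.algEquivRingAut (F := F) p
      (FiniteField.frobeniusAlgEquivOfAlgebraic (ZMod p) F) = frobE p := by
    ext x
    show (FiniteField.frobeniusAlgEquivOfAlgebraic (ZMod p) F) x = _
    rw [FiniteField.coe_frobeniusAlgEquivOfAlgebraic, frobE_apply, ZMod.card]
  rw [← h3, MulEquiv.orderOf_eq, h1, h2]

variable (m : ℕ) (a b : F)

/-- `ω ^ (p ^ n)` -/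
noncomputable def W (n : ℕ) : QuadraticAlgebra F (-b) a := (ω : QuadraticAlgebra F (-b) a) ^ (p ^ n)

theorem W_zero : W p a b 0 = (ω : QuadraticAlgebra F (-b) a) := by
  unfold W; simp

theorem W_succ (n : ℕ) :
    W p a b (n + 1) = algebraMap F _ ((W p a b n).re ^ p) +
      algebraMap F _ ((W p a b n).im ^ p) * W p a b 1 := by
  have h1 : W p a b (n + 1) = (W p a b n) ^ (p ^ 1) := by
    unfold W
    rw [← pow_mul, pow_one, ← pow_succ]
  rw [h1, pow_char_pow p 1 (W p a b n)]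
  unfold W
  simp

theorem W_succ_re (n : ℕ) :
    (W p a b (n + 1)).re = (W p a b n).re ^ p + (W p a b 1).re * (W p a b n).im ^ p := by
  rw [W_succ]
  simp only [re_add, re_mul, algebraMap_re, algebraMap_im]
  ring

theorem W_succ_im (n : ℕ) :
    (W p a b (n + 1)).im = (W p a b 1).im * (W p a b n).im ^ p := by
  rw [W_succ]
  simp only [im_add, im_mul, algebraMap_re, algebraMap_im]
  ring

/-- the binary identity: `y ↦ y ^ (p ^ n)` is compatible with the norm -/
theorem binary_frob (n : ℕ) (z₁ z₂ : F) :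
    (z₁ ^ (p ^ n) + (W p a b n).re * z₂ ^ (p ^ n)) ^ 2 +
        a * (z₁ ^ (p ^ n) + (W p a b n).re * z₂ ^ (p ^ n)) * ((W p a b n).im * z₂ ^ (p ^ n)) +
        b * ((W p a b n).im * z₂ ^ (p ^ n)) ^ 2
      = (z₁ ^ 2 + a * z₁ * z₂ + b * z₂ ^ 2) ^ (p ^ n) := by
  obtain ⟨y, hy⟩ : ∃ y : QuadraticAlgebra F (-b) a, y = ⟨z₁, z₂⟩ := ⟨_, rfl⟩
  have hpow := pow_char_pow p n y
  have hy1 : y.re = z₁ := by rw [hy]
  have hy2 : y.im = z₂ := by rw [hy]
  rw [hy1, hy2] at hpow
  have hre : (y ^ (p ^ n)).re = z₁ ^ (p ^ n) + (W p a b n).re * z₂ ^ (p ^ n) := by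
    rw [hpow]
    unfold W
    simp only [re_add, re_mul, algebraMap_re, algebraMap_im]
    ring
  have him : (y ^ (p ^ n)).im = (W p a b n).im * z₂ ^ (p ^ n) := by
    rw [hpow]
    unfold W
    simp only [im_add, im_mul, algebraMap_re, algebraMap_im]
    ring
  have hnorm : QuadraticAlgebra.norm (y ^ (p ^ n)) = (QuadraticAlgebra.norm y) ^ (p ^ n) :=
    map_pow _ _ _
  rw [QuadraticAlgebra.norm_def, QuadraticAlgebra.norm_def, hre, him, hy1, hy2] at hnorm
  have e2 : z₁ * z₁ + a * z₁ * z₂ - -b * z₂ * z₂ = z₁ ^ 2 + a * z₁ * z₂ + b * z₂ ^ 2 := by ring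
  rw [e2] at hnorm
  rw [← hnorm]
  ring

variable (hab : ∀ z₁ z₂ : F, z₁ ^ 2 + a * z₁ * z₂ + b * z₂ ^ 2 = 0 → z₁ = 0 ∧ z₂ = 0)

include hab in
theorem W_im_ne_zero (n : ℕ) : (W p a b n).im ≠ 0 := by
  intro hβ0
  have h1 := binary_frob p a b n ((frobE p ^ n).symm (-(W p a b n).re)) 1
  rw [← frobE_pow_apply, RingEquiv.apply_symm_apply, hβ0] at h1
  have h2 : ((frobE p ^ n).symm (-(W p a b n).re) ^ 2 +
      a * (frobE p ^ n).symm (-(W p a b n).re) * 1 + b * 1 ^ 2) ^ (p ^ n) = 0 := by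
    rw [← h1]; ring
  have hpn : p ^ n ≠ 0 := pow_ne_zero n (Fact.out : p.Prime).ne_zero
  have h3 := (pow_eq_zero_iff hpn).1 h2
  exact one_ne_zero (hab _ _ h3).2

/-- the matrix of `y ↦ y ^ (p ^ n)` (linear part) -/
noncomputable def gN (n : ℕ) : Matrix ((Fin m ⊕ Fin m) ⊕ Fin 2) ((Fin m ⊕ Fin m) ⊕ Fin 2) F :=
  Matrix.fromBlocks 1 0 0 !![1, (W p a b n).re; 0, (W p a b n).im]

theorem gN_det (n : ℕ) : (gN p m a b n).det = (W p a b n).im := by
  unfold gN
  rw [Matrix.det_fromBlocks_zero₂₁, Matrix.det_one, one_mul, Matrix.det_fin_two_of]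
  ring

/-- the invertible matrix -/
noncomputable def gGL (n : ℕ) : GL ((Fin m ⊕ Fin m) ⊕ Fin 2) F :=
  Matrix.GeneralLinearGroup.mkOfDetNeZero (gN p m a b n)
    (by rw [gN_det]; exact W_im_ne_zero p a b hab n)

theorem gGL_val (n : ℕ) : ((gGL p m a b hab n : GL ((Fin m ⊕ Fin m) ⊕ Fin 2) F) :
    Matrix ((Fin m ⊕ Fin m) ⊕ Fin 2) ((Fin m ⊕ Fin m) ⊕ Fin 2) F) = gN p m a b n := rfl

theorem gN_mulVec (n : ℕ) (w : (Fin m ⊕ Fin m) ⊕ Fin 2 → F) :
    (∀ x : Fin m ⊕ Fin m, (gN p m a b n *ᵥ w) (Sum.inl x) = w (Sum.inl x)) ∧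
    (gN p m a b n *ᵥ w) (Sum.inr 0) = w (Sum.inr 0) + (W p a b n).re * w (Sum.inr 1) ∧
    (gN p m a b n *ᵥ w) (Sum.inr 1) = (W p a b n).im * w (Sum.inr 1) := by
  refine ⟨?_, ?_, ?_⟩
  · intro x
    unfold gN
    rw [Matrix.fromBlocks_mulVec]
    simp
  · unfold gN
    rw [Matrix.fromBlocks_mulVec]
    simp [Matrix.mulVec, dotProduct, Fin.sum_univ_two]
  · unfold gN
    rw [Matrix.fromBlocks_mulVec]
    simp [Matrix.mulVec, dotProduct, Fin.sum_univ_two]

/-- the Frobenius pairs -/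
theorem pairN (n : ℕ) :
    Cfsg.IsSemisimilarityPair (Cfsg.quadFormMinus m F a b) (gGL p m a b hab n) (frobE p ^ n) := by
  refine ⟨1, fun v => ?_⟩
  rw [gGL_val, Units.val_one, one_mul]
  obtain ⟨w, hw⟩ : ∃ w : (Fin m ⊕ Fin m) ⊕ Fin 2 → F, w = fun i => (frobE p ^ n) (v i) := ⟨_, rfl⟩
  rw [← hw]
  obtain ⟨e1, e2, e3⟩ := gN_mulVec p m a b n w
  unfold Cfsg.quadFormMinus
  simp only [e1, e2, e3]
  rw [map_add, map_sum]
  congr 1
  · apply Finset.sum_congr rfl
    intro i _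
    rw [map_mul, hw]
  · have h1 := binary_frob p a b n (v (Sum.inr 0)) (v (Sum.inr 1))
    rw [hw]
    simp only [frobE_pow_apply]
    rw [h1]

theorem gN_zero : gN p m a b 0 = 1 := by
  unfold gN
  rw [W_zero]
  have : (!![1, (ω : QuadraticAlgebra F (-b) a).re; 0, (ω : QuadraticAlgebra F (-b) a).im] :
      Matrix (Fin 2) (Fin 2) F) = 1 := by
    ext i j
    fin_cases i <;> fin_cases j <;> simp
  rw [this, Matrix.fromBlocks_one]

theorem gN_succ (n : ℕ) :
    gN p m a b (n + 1) = gN p m a b 1 * (gN p m a b n).map (frobE p) := by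
  unfold gN
  rw [Matrix.fromBlocks_map, Matrix.fromBlocks_multiply]
  congr 1
  · simp
  · simp
  · simp
  · rw [W_succ_re, W_succ_im]
    have hp0 : p ≠ 0 := (Fact.out : p.Prime).ne_zero
    ext i j
    fin_cases i <;> fin_cases j <;>
      simp [Matrix.mul_apply, Fin.sum_univ_two, frobE_apply, Matrix.map_apply,
        Matrix.vecMul, dotProduct, hp0]

theorem gGL_succ (n : ℕ) :
    gGL p m a b hab (n + 1) = gGL p m a b hab 1 * glMap (frobE p) (gGL p m a b hab n) := by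
  apply Units.ext
  rw [Units.val_mul, glMap_val, gGL_val, gGL_val, gGL_val, gN_succ]

theorem gGL_zero : gGL p m a b hab 0 = 1 := by
  apply Units.ext
  rw [gGL_val, gN_zero]
  rfl

/-- powers of the Frobenius automorphism of `PΩ⁻` -/
theorem semiAut_pow (n : ℕ) :
    semiAut (pairN p m a b hab 1) ^ n = semiAut (pairN p m a b hab n) := by
  induction n with
  | zero =>
    rw [pow_zero, ← semiAut_one]
    apply semiAut_congr
    · exact (gGL_zero p m a b hab).symm
    · rw [pow_zero]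
  | succ n ih =>
    rw [pow_succ', ih, semiAut_mul]
    apply semiAut_congr
    · exact (gGL_succ p m a b hab n).symm
    · rw [pow_one, pow_succ']

include hab in
/-- the isometry `1 ⊕ (y ↦ a - y)` -/
theorem gN_card {f : ℕ} (hF : Fintype.card F = p ^ f) :
    gN p m a b f = Matrix.fromBlocks 1 0 0 !![1, a; 0, -1] := by
  unfold gN W
  rw [omega_pow_card hab p hF, star_omega_re, star_omega_im]

theorem gGL_card_mem {f : ℕ} (hF : Fintype.card F = p ^ f) :
    gGL p m a b hab f ∈ Cfsg.Geo.quadSimilarityGroup (F := F) (Cfsg.quadFormMinus m F a b) := by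
  have h := pairN p m a b hab f
  rw [frobE_pow_card p hF] at h
  exact (pair_refl_iff (gGL p m a b hab f)).1 h

/-- the `f`-th power of the Frobenius automorphism is induced by the conjugation isometry -/
theorem semiAut_pow_card {f : ℕ} (hF : Fintype.card F = p ^ f) :
    semiAut (pairN p m a b hab 1) ^ f =
      Phi (Cfsg.quadFormMinus m F a b) ⟨gGL p m a b hab f, gGL_card_mem p m a b hab hF⟩ := by
  rw [semiAut_pow]
  have h1 : Cfsg.IsSemisimilarityPair (Cfsg.quadFormMinus m F a b) (gGL p m a b hab f)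
      (1 : F ≃+* F) := (pair_refl_iff (gGL p m a b hab f)).2 (gGL_card_mem p m a b hab hF)
  rw [← semiAut_eq_Phi h1]
  apply semiAut_congr
  · rfl
  · exact frobE_pow_card p hF

theorem gGL_card_det {f : ℕ} (hF : Fintype.card F = p ^ f) :
    ((gGL p m a b hab f : GL ((Fin m ⊕ Fin m) ⊕ Fin 2) F) :
      Matrix ((Fin m ⊕ Fin m) ⊕ Fin 2) ((Fin m ⊕ Fin m) ⊕ Fin 2) F).det = -1 := by
  rw [gGL_val, gN_det]
  unfold W
  rw [omega_pow_card hab p hF, star_omega_im]

theorem gGL_card_mult {f : ℕ} (hF : Fintype.card F = p ^ f)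
    (v : (Fin m ⊕ Fin m) ⊕ Fin 2 → F) :
    Cfsg.quadFormMinus m F a b (((gGL p m a b hab f : GL ((Fin m ⊕ Fin m) ⊕ Fin 2) F) :
      Matrix ((Fin m ⊕ Fin m) ⊕ Fin 2) ((Fin m ⊕ Fin m) ⊕ Fin 2) F) *ᵥ v) =
      Cfsg.quadFormMinus m F a b v := by
  obtain ⟨c, hc⟩ := pairN p m a b hab f
  have h := (pairN p m a b hab f)
  have key : ∀ v, Cfsg.quadFormMinus m F a b (((gGL p m a b hab f :
      GL ((Fin m ⊕ Fin m) ⊕ Fin 2) F) :
      Matrix ((Fin m ⊕ Fin m) ⊕ Fin 2) ((Fin m ⊕ Fin m) ⊕ Fin 2) F) *ᵥ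
      (fun i => (frobE p ^ f) (v i))) = (frobE p ^ f) (Cfsg.quadFormMinus m F a b v) := by
    intro v
    rw [gGL_val]
    obtain ⟨w, hw⟩ : ∃ w : (Fin m ⊕ Fin m) ⊕ Fin 2 → F, w = fun i => (frobE p ^ f) (v i) :=
      ⟨_, rfl⟩
    rw [← hw]
    obtain ⟨e1, e2, e3⟩ := gN_mulVec p m a b f w
    unfold Cfsg.quadFormMinus
    simp only [e1, e2, e3]
    rw [map_add, map_sum]
    congr 1
    · apply Finset.sum_congr rfl
      intro i _
      rw [map_mul, hw]
    · have h1 := binary_frob p a b f (v (Sum.inr 0)) (v (Sum.inr 1))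
      rw [hw]
      simp only [frobE_pow_apply]
      rw [h1]
  have := key v
  rw [frobE_pow_card p hF] at this
  exact this

end Cfsg.Agent.Lib.Helper5.MinusFrobPow
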