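import Mathlib
import Cfsg.Prelude.Def_Classical
import Cfsg.Agent.Lib.Helper5.PSL2Center
import Cfsg.Agent.Lib.Helper37.OmegaIndex
import Cfsg.Agent.Lib.Helper43.Gram
import Cfsg.Agent.S0286
import Cfsg.Agent.S0243

set_option autoImplicit false
set_option linter.unusedSimpArgs false
set_option linter.unusedVariables false
set_option linter.unnecessarySeqFocus false
set_option linter.unusedSectionVars false

namespace Cfsg.Agent.Lib.Helper5.Om3

open Matrix

abbrev I3 := Unit ⊕ (Fin 1 ⊕ Fin 1)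

variable {F : Type*} [Field F]

/-- the trace-zero matrix of a vector -/
def toM (v : I3 → F) : Matrix (Fin 2) (Fin 2) F :=
  !![v (.inl ()), v (.inr (.inl 0)); v (.inr (.inr 0)), - v (.inl ())]

/-- the vector of a matrix -/
def ofM (M : Matrix (Fin 2) (Fin 2) F) : I3 → F :=
  Sum.elim (fun _ => M 0 0) (Sum.elim (fun _ => M 0 1) (fun _ => M 1 0))

lemma ofM_toM (v : I3 → F) : ofM (toM v) = v := by
  funext i
  rcases i with ⟨⟩ | i | i
  · simp [ofM, toM]
  · fin_cases i; simp [ofM, toM]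
  · fin_cases i; simp [ofM, toM]

lemma toM_ofM (M : Matrix (Fin 2) (Fin 2) F) (h : M.trace = 0) : toM (ofM M) = M := by
  rw [Matrix.trace_fin_two] at h
  ext i j
  fin_cases i <;> fin_cases j <;> simp [ofM, toM]
  linear_combination -h

lemma trace_toM (v : I3 → F) : (toM v).trace = 0 := by
  simp [Matrix.trace_fin_two, toM]

lemma det_toM (v : I3 → F) : (toM v).det = - Cfsg.quadFormOdd 1 F v := by
  simp [Matrix.det_fin_two, toM, Cfsg.quadFormOdd]
  ring

lemma toM_add (u v : I3 → F) : toM (u + v) = toM u + toM v := by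
  ext i j
  fin_cases i <;> fin_cases j <;> simp [toM] <;> ring

lemma toM_smul (a : F) (v : I3 → F) : toM (a • v) = a • toM v := by
  ext i j
  fin_cases i <;> fin_cases j <;> simp [toM]

lemma ofM_add (M N : Matrix (Fin 2) (Fin 2) F) : ofM (M + N) = ofM M + ofM N := by
  funext i
  rcases i with ⟨⟩ | i | i <;> simp [ofM]

lemma ofM_smul (a : F) (M : Matrix (Fin 2) (Fin 2) F) : ofM (a • M) = a • ofM M := by
  funext i
  rcases i with ⟨⟩ | i | i <;> simp [ofM]

/-- the adjoint action as a linear map -/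
noncomputable def adjLin (g : GL (Fin 2) F) : (I3 → F) →ₗ[F] (I3 → F) where
  toFun v := ofM ((g : Matrix (Fin 2) (Fin 2) F) * toM v * ((g⁻¹ : GL (Fin 2) F) : Matrix (Fin 2) (Fin 2) F))
  map_add' u v := by
    rw [toM_add, mul_add, add_mul, ofM_add]
  map_smul' a v := by
    rw [toM_smul, Matrix.mul_smul, Matrix.smul_mul, ofM_smul]
    rfl

lemma adjLin_apply (g : GL (Fin 2) F) (v : I3 → F) :
    adjLin g v = ofM ((g : Matrix (Fin 2) (Fin 2) F) * toM v *
      ((g⁻¹ : GL (Fin 2) F) : Matrix (Fin 2) (Fin 2) F)) := rfl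

lemma trace_conj (g : GL (Fin 2) F) (M : Matrix (Fin 2) (Fin 2) F) :
    ((g : Matrix (Fin 2) (Fin 2) F) * M * ((g⁻¹ : GL (Fin 2) F) : Matrix (Fin 2) (Fin 2) F)).trace =
      M.trace := by
  rw [Matrix.trace_mul_comm, ← Matrix.mul_assoc, ← Units.val_mul, inv_mul_cancel, Units.val_one,
    Matrix.one_mul]

lemma toM_adjLin (g : GL (Fin 2) F) (v : I3 → F) :
    toM (adjLin g v) = (g : Matrix (Fin 2) (Fin 2) F) * toM v *
      ((g⁻¹ : GL (Fin 2) F) : Matrix (Fin 2) (Fin 2) F) := by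
  rw [adjLin_apply, toM_ofM]
  rw [trace_conj, trace_toM]

lemma adjLin_one : adjLin (1 : GL (Fin 2) F) = 1 := by
  apply LinearMap.ext
  intro v
  rw [adjLin_apply]
  simp [ofM_toM]

lemma adjLin_mul (g h : GL (Fin 2) F) : adjLin (g * h) = adjLin g * adjLin h := by
  apply LinearMap.ext
  intro v
  rw [Module.End.mul_apply, adjLin_apply g, toM_adjLin, adjLin_apply]
  congr 1
  rw [_root_.mul_inv_rev, Units.val_mul, Units.val_mul]
  simp only [Matrix.mul_assoc]

/-- the adjoint action as a monoid hom to endomorphisms -/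
noncomputable def adjEnd : GL (Fin 2) F →* Module.End F (I3 → F) where
  toFun := adjLin
  map_one' := adjLin_one
  map_mul' := adjLin_mul

/-- the adjoint action as a monoid hom to `GL₃` -/
noncomputable def adjGL : GL (Fin 2) F →* GL I3 F :=
  (((LinearMap.toMatrixAlgEquiv' (R := F) (n := I3)).toMulEquiv.toMonoidHom).comp adjEnd).toHomUnits

lemma adjGL_mulVec (g : GL (Fin 2) F) (v : I3 → F) :
    ((adjGL g : GL I3 F) : Matrix I3 I3 F) *ᵥ v = adjLin g v := by
  unfold adjGL
  rw [MonoidHom.coe_toHomUnits]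
  simp only [MonoidHom.coe_comp, Function.comp_apply]
  change (LinearMap.toMatrix' (adjLin g)) *ᵥ v = _
  rw [LinearMap.toMatrix'_mulVec]

lemma quadFormOdd_adjLin (g : GL (Fin 2) F) (v : I3 → F) :
    Cfsg.quadFormOdd 1 F (adjLin g v) = Cfsg.quadFormOdd 1 F v := by
  have h1 := det_toM (adjLin g v)
  rw [toM_adjLin, Matrix.det_mul, Matrix.det_mul, det_toM] at h1
  have h2 : ((g : Matrix (Fin 2) (Fin 2) F)).det *
      (((g⁻¹ : GL (Fin 2) F) : Matrix (Fin 2) (Fin 2) F)).det = 1 := by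
    rw [← Matrix.det_mul, ← Units.val_mul, mul_inv_cancel, Units.val_one, Matrix.det_one]
  linear_combination h1 + (Cfsg.quadFormOdd 1 F v) * h2

lemma adjGL_mem (g : GL (Fin 2) F) : adjGL g ∈ Cfsg.isometryGroup F (Cfsg.quadFormOdd 1 F) := by
  intro u v
  change Cfsg.quadFormOdd 1 F (((adjGL g : GL I3 F) : Matrix I3 I3 F) *ᵥ u) = _
  rw [adjGL_mulVec, quadFormOdd_adjLin]

/-- the adjoint action as a hom to the isometry group -/
noncomputable def adjO : GL (Fin 2) F →* Cfsg.isometryGroup F (Cfsg.quadFormOdd 1 F) :=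
  adjGL.codRestrict _ adjGL_mem

/-- the Gram matrix of `quadFormOdd 1` -/
def gram3 (F : Type*) [Field F] : Matrix I3 I3 F :=
  Matrix.fromBlocks ((2 : F) • (1 : Matrix Unit Unit F)) 0 0
    (Matrix.fromBlocks (0 : Matrix (Fin 1) (Fin 1) F) 1 1 0)

lemma gram3_det : (gram3 F).det = -2 := by
  unfold gram3
  rw [Matrix.det_fromBlocks_zero₂₁, Cfsg.Agent.Lib.Helper43.det_fromBlocks_zero_one_one_zero]
  simp

lemma gram3_isGram (h2 : (2 : F) ≠ 0) :
    Cfsg.Agent.Lib.Helper37.IsGram (Cfsg.quadFormOdd 1 F) (gram3 F) where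
  two_ne := h2
  symm := by
    unfold gram3
    rw [Matrix.IsSymm, Matrix.fromBlocks_transpose]
    simp [Matrix.fromBlocks_transpose]
  self := by
    intro u
    rw [Matrix.toBilin'_apply']
    unfold gram3 Cfsg.quadFormOdd
    simp [dotProduct, Matrix.mulVec, Fintype.sum_sum_type, Matrix.fromBlocks_apply₁₁,
      Matrix.fromBlocks_apply₁₂, Matrix.fromBlocks_apply₂₁, Matrix.fromBlocks_apply₂₂]
    ring

/-- the adjoint action of `SL₂` lands in `Ω₃` -/
lemma adjO_mem_Omega (h3 : ∃ a : F, a ≠ 0 ∧ a ≠ 1) (s : Matrix.SpecialLinearGroup (Fin 2) F) :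
    adjO (Matrix.SpecialLinearGroup.toGL s) ∈ Cfsg.Omega F (Cfsg.quadFormOdd 1 F) := by
  have h1 := toGL_mem_commutator h3 s
  have h2 : (commutator (GL (Fin 2) F)).map (adjO (F := F)) ≤
      commutator (Cfsg.isometryGroup F (Cfsg.quadFormOdd 1 F)) := by
    rw [commutator_def, Subgroup.map_commutator, commutator_def]
    exact Subgroup.commutator_mono le_top le_top
  exact h2 (Subgroup.mem_map_of_mem _ h1)

/-- the adjoint action `SL₂ → Ω₃` -/
noncomputable def adjOmega (h3 : ∃ a : F, a ≠ 0 ∧ a ≠ 1) :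
    Matrix.SpecialLinearGroup (Fin 2) F →* Cfsg.Omega F (Cfsg.quadFormOdd 1 F) :=
  (adjO.comp Matrix.SpecialLinearGroup.toGL).codRestrict _ (adjO_mem_Omega h3)

lemma adjOmega_eq_one_iff (h3 : ∃ a : F, a ≠ 0 ∧ a ≠ 1) (s : Matrix.SpecialLinearGroup (Fin 2) F) :
    adjOmega h3 s = 1 ↔ ∀ v, adjLin (Matrix.SpecialLinearGroup.toGL s) v = v := by
  constructor
  · intro h v
    have h1 : adjGL (Matrix.SpecialLinearGroup.toGL s) = 1 := by
      have := congrArg (fun x => ((x : Cfsg.Omega F (Cfsg.quadFormOdd 1 F)) :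
        Cfsg.isometryGroup F (Cfsg.quadFormOdd 1 F)).1) h
      exact this
    rw [← adjGL_mulVec, h1, Units.val_one, Matrix.one_mulVec]
  · intro h
    apply Subtype.ext
    apply Subtype.ext
    apply Units.ext
    change ((adjGL (Matrix.SpecialLinearGroup.toGL s) : GL I3 F) : Matrix I3 I3 F) = 1
    apply Matrix.toLin'.injective
    apply LinearMap.ext
    intro v
    rw [Matrix.toLin'_apply, adjGL_mulVec, h, Matrix.toLin'_one, LinearMap.id_apply]

lemma ker_adjOmega (h3 : ∃ a : F, a ≠ 0 ∧ a ≠ 1) :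
    (adjOmega h3).ker = Subgroup.center (Matrix.SpecialLinearGroup (Fin 2) F) := by
  ext s
  rw [MonoidHom.mem_ker, adjOmega_eq_one_iff]
  constructor
  · intro h
    have key : ∀ v : I3 → F, (s.1 * toM v) = toM v * s.1 := by
      intro v
      have h1 := congrArg toM (h v)
      rw [toM_adjLin] at h1
      have h1' : s.1 * toM v * ((Matrix.SpecialLinearGroup.toGL s)⁻¹ : GL (Fin 2) F).1 =
          toM v := h1
      have h2 : (s.1 * toM v * ((Matrix.SpecialLinearGroup.toGL s)⁻¹ : GL (Fin 2) F).1) * s.1 =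
          toM v * s.1 := by
        rw [h1']
      rw [Matrix.mul_assoc] at h2
      have h3 : ((Matrix.SpecialLinearGroup.toGL s)⁻¹ : GL (Fin 2) F).1 * s.1 = 1 := by
        have : s.1 = (Matrix.SpecialLinearGroup.toGL s : GL (Fin 2) F).1 := rfl
        rw [this, ← Units.val_mul, inv_mul_cancel, Units.val_one]
      rw [h3, Matrix.mul_one] at h2
      exact h2
    obtain ⟨a, b, c, d, hg⟩ : ∃ a b c d : F, s.1 = !![a, b; c, d] :=
      ⟨_, _, _, _, Matrix.eta_fin_two s.1⟩
    have k1 := key (Pi.single (.inr (.inl 0)) 1)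
    have k2 := key (Pi.single (.inr (.inr 0)) 1)
    rw [hg] at k1 k2
    have e1 := congrFun (congrFun k1 0) 0
    have e2 := congrFun (congrFun k1 0) 1
    have e3 := congrFun (congrFun k2 0) 0
    simp [toM, Matrix.mul_apply, Fin.sum_univ_two] at e1 e2 e3
    rw [Matrix.SpecialLinearGroup.mem_center_iff]
    have hdet := s.2
    rw [hg, Matrix.det_fin_two] at hdet
    simp at hdet
    refine ⟨a, ?_, ?_⟩
    · simp only [Fintype.card_fin]
      rw [← e1] at hdet
      rw [e3] at hdet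
      rw [← e2] at hdet
      linear_combination hdet
    · rw [hg]
      ext i j
      fin_cases i <;> fin_cases j <;> simp [Matrix.scalar_apply, Matrix.diagonal_apply]
      · exact e3.symm
      · exact e1
      · exact e2
  · intro h v
    obtain ⟨r, hr, hr2⟩ := Matrix.SpecialLinearGroup.mem_center_iff.1 h
    rw [adjLin_apply]
    have hc : (Matrix.SpecialLinearGroup.toGL s : GL (Fin 2) F).1 * toM v =
        toM v * (Matrix.SpecialLinearGroup.toGL s : GL (Fin 2) F).1 := by
      change s.1 * toM v = toM v * s.1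
      rw [← hr2]
      exact (Matrix.scalar_commute r (fun _ => Commute.all _ _) (toM v)).eq
    rw [hc, Matrix.mul_assoc, ← Units.val_mul, mul_inv_cancel, Units.val_one, Matrix.mul_one,
      ofM_toM]

/-- `Ω₃(q) ≅ PSL₂(q)` for `q` odd. -/
theorem omega3_equiv [Fintype F] (hodd : Odd (Fintype.card F)) :
    Nonempty (Matrix.ProjectiveSpecialLinearGroup (Fin 2) F ≃*
      Cfsg.Omega F (Cfsg.quadFormOdd 1 F)) := by
  have h2 : (2 : F) ≠ 0 :=
    Cfsg.Agent.Lib.Helper43.two_ne_zero_iff_odd_card.mpr (Nat.odd_iff.mp hodd)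
  have h3 : ∃ a : F, a ≠ 0 ∧ a ≠ 1 := by
    refine ⟨2, h2, ?_⟩
    intro h
    have : (1 : F) = 0 := by linear_combination h
    exact one_ne_zero this
  obtain ⟨q, hq⟩ : ∃ q, Fintype.card F = q := ⟨_, rfl⟩
  have hq2 : 2 ≤ q := by rw [← hq]; exact Fintype.one_lt_card
  rw [hq] at hodd
  let f := adjOmega h3
  let e1 : Matrix.ProjectiveSpecialLinearGroup (Fin 2) F ≃*
      Matrix.SpecialLinearGroup (Fin 2) F ⧸ f.ker :=
    QuotientGroup.quotientMulEquivOfEq (ker_adjOmega h3).symm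
  let φ : Matrix.ProjectiveSpecialLinearGroup (Fin 2) F →*
      Cfsg.Omega F (Cfsg.quadFormOdd 1 F) := (QuotientGroup.kerLift f).comp e1.toMonoidHom
  have hinj : Function.Injective φ := by
    intro x y hxy
    exact e1.injective (QuotientGroup.kerLift_injective f hxy)
  -- cardinalities
  have hidx := Cfsg.Agent.Lib.Helper37.index_omega_eq_four (gram3_isGram h2)
    (by rw [gram3_det]; exact neg_ne_zero.2 h2) (by simp)
  have hO := Cfsg.Agent.S0286.result (F := F) (q := q) hq hodd 1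
  have hmul := Subgroup.card_mul_index (Cfsg.Omega F (Cfsg.quadFormOdd 1 F))
  rw [hidx, hO] at hmul
  have hP := Cfsg.Agent.S0243.result (F := F) (q := q) hq 2 le_rfl
  rw [Fin.prod_univ_two] at hP
  simp only [Fin.val_zero, Fin.val_one, pow_zero, pow_one, one_pow, Finset.prod_range_one,
    zero_add, mul_one] at hP hmul
  have hgcd : Nat.gcd 2 (q - 1) = 2 := by
    apply Nat.gcd_eq_left
    obtain ⟨k, hk⟩ := hodd
    omega
  rw [hgcd] at hP
  have hcard : Nat.card (Cfsg.Omega F (Cfsg.quadFormOdd 1 F)) ≤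
      Nat.card (Matrix.ProjectiveSpecialLinearGroup (Fin 2) F) := by
    have e3 : q ^ 2 - q = q * (q - 1) := by
      obtain ⟨k, rfl⟩ : ∃ k, q = k + 1 := ⟨q - 1, by omega⟩
      simp only [Nat.add_sub_cancel]
      apply Nat.sub_eq_of_eq_add; ring
    rw [e3] at hP
    have h5 : (q - 1) * (2 * Nat.card (Matrix.ProjectiveSpecialLinearGroup (Fin 2) F)) =
        (q - 1) * (q * (q ^ 2 - 1)) := by
      calc (q - 1) * (2 * Nat.card (Matrix.ProjectiveSpecialLinearGroup (Fin 2) F))
          = 2 * ((q - 1) * Nat.card (Matrix.ProjectiveSpecialLinearGroup (Fin 2) F)) := by ring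
        _ = (q ^ 2 - 1) * (q * (q - 1)) := hP
        _ = _ := by ring
    have h6 := Nat.eq_of_mul_eq_mul_left (by omega) h5
    have h7 : 4 * Nat.card (Cfsg.Omega F (Cfsg.quadFormOdd 1 F)) =
        4 * Nat.card (Matrix.ProjectiveSpecialLinearGroup (Fin 2) F) := by
      rw [mul_comm, hmul]
      calc 2 * q * (q ^ 2 - 1) = 2 * (q * (q ^ 2 - 1)) := by ring
        _ = 2 * (2 * Nat.card (Matrix.ProjectiveSpecialLinearGroup (Fin 2) F)) := by rw [h6]
        _ = _ := by ring
    omega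
  have hbij : Function.Bijective φ := hinj.bijective_of_nat_card_le hcard
  exact ⟨MulEquiv.ofBijective φ hbij⟩

/-- `PΩ₃(q) ≅ PSL₂(q)` for `q` odd. -/
theorem pomega3_equiv [Fintype F] (hodd : Odd (Fintype.card F)) :
    Nonempty (Cfsg.POmega F (Cfsg.quadFormOdd 1 F) ≃*
      Matrix.ProjectiveSpecialLinearGroup (Fin 2) F) := by
  obtain ⟨e⟩ := omega3_equiv hodd
  exact ⟨(quotCenterCongr e.symm).trans (quotCenterOfBot center_PSL2_eq_bot)⟩

end Cfsg.Agent.Lib.Helper5.Om3
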