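import Mathlib
import Cfsg.Prelude.Def_Classical
import Cfsg.Agent.Lib.Helper5.Omega6Base
import Cfsg.Agent.Lib.Helper5.Omega4
import Cfsg.Agent.S0242

set_option autoImplicit false
set_option linter.unusedSimpArgs false
set_option linter.unusedVariables false
set_option linter.unnecessarySeqFocus false
set_option linter.unusedSectionVars false

namespace Cfsg.Agent.Lib.Helper5.Om6

open Matrix
open scoped commutatorElement

variable {F : Type*} [Field F]

lemma index_omega6_even [Fintype F] (h2 : (2 : F) = 0) :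
    (Cfsg.Omega F (Cfsg.quadFormPlus 3 F)).index = 2 := by
  have := Cfsg.Agent.Lib.Helper8.commutator_index_two_char2 h2
    (Cfsg.Agent.Lib.Helper8.plusForm 3 F) (Cfsg.Agent.Lib.Helper8.plusForm_nondegenerate 3 F)
    (Or.inr (by simp)) (Cfsg.Agent.Lib.Helper8.plusForm_exists_ne_zero 3 F (by omega))
  rw [← Cfsg.Agent.Lib.Helper8.plusForm_coe] at this
  exact this

section Final

variable [Fintype F]

lemma wOmega_surjective : Function.Surjective (wOmega (F := F)) := by
  classical
  obtain ⟨q, hF⟩ : ∃ q, Fintype.card F = q := ⟨_, rfl⟩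
  have hq : 2 ≤ q := by rw [← hF]; exact Fintype.one_lt_card
  have hS := Cfsg.Agent.S0242.result (F := F) (q := q) hF 4 (by omega)
  rw [Fin.prod_univ_four] at hS
  simp only [Fin.val_zero, Fin.val_one, Fin.val_two, pow_zero, pow_one,
    show ((3 : Fin 4) : ℕ) = 3 from rfl] at hS
  have hO := Cfsg.Agent.S0287.result (F := F) (q := q) hF 3 (by omega)
  simp only [show (3 : ℕ) - 1 = 2 from rfl, Finset.prod_range_succ, Finset.prod_range_zero,
    zero_add, mul_one, one_mul] at hO
  have hidx := Subgroup.card_mul_index (Cfsg.Omega F (Cfsg.quadFormPlus 3 F))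
  have hker : Nat.card (wOmega (F := F)).ker = Nat.card {ε : F // ε ^ 2 = 1} :=
    Nat.card_congr kerEquiv
  have hrange := Subgroup.card_mul_index (wOmega (F := F)).ker
  rw [Subgroup.index_ker, hker] at hrange
  set S := Nat.card (Matrix.SpecialLinearGroup (Fin 4) F) with hSdef
  set R := Nat.card (wOmega (F := F)).range with hR
  set W := Nat.card (Cfsg.Omega F (Cfsg.quadFormPlus 3 F)) with hW
  -- |O| = 2 |SL₄|
  have hOS : Nat.card (Cfsg.isometryGroup F (Cfsg.quadFormPlus 3 F)) = 2 * S := by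
    have hq1 : 0 < q - 1 := by omega
    apply Nat.eq_of_mul_eq_mul_left hq1
    rw [hO]
    have e1 : q ^ 4 - q = q * (q ^ 3 - 1) := by
      have : 1 ≤ q ^ 3 := Nat.one_le_pow _ _ (by omega)
      zify [this, show q ≤ q ^ 4 by nlinarith [Nat.one_le_pow 3 q (by omega)]]
      ring
    have e2 : q ^ 4 - q ^ 2 = q ^ 2 * (q ^ 2 - 1) := by
      have : 1 ≤ q ^ 2 := Nat.one_le_pow _ _ (by omega)
      zify [this, show q ^ 2 ≤ q ^ 4 by nlinarith [Nat.one_le_pow 2 q (by omega)]]
      ring
    have e3 : q ^ 4 - q ^ 3 = q ^ 3 * (q - 1) := by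
      zify [show 1 ≤ q by omega, show q ^ 3 ≤ q ^ 4 by nlinarith [Nat.one_le_pow 3 q (by omega)]]
      ring
    rw [e1, e2, e3] at hS
    calc (q - 1) * (2 * q ^ (3 * 2) * (q ^ 3 - 1) * ((q ^ 2 - 1) * (q ^ (2 * (1 + 1)) - 1)))
        = 2 * ((q ^ 4 - 1) * (q * (q ^ 3 - 1)) * (q ^ 2 * (q ^ 2 - 1)) * (q ^ 3 * (q - 1))) := by
          ring
      _ = 2 * ((q - 1) * S) := by rw [hS]
      _ = _ := by ring
  rw [hOS] at hidx
  have hRW : R = W := by
    by_cases h2 : (2 : F) = 0
    · rw [index_omega6_even h2] at hidx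
      rw [card_sq_eq_one_even h2, one_mul] at hrange
      omega
    · rw [index_omega6_odd h2] at hidx
      rw [card_sq_eq_one_odd h2] at hrange
      omega
  have htop : (wOmega (F := F)).range = ⊤ := Subgroup.eq_top_of_card_eq _ hRW
  exact MonoidHom.range_eq_top.1 htop

/-- the map to `PΩ⁺₆` -/
noncomputable def toPOmega : Matrix.SpecialLinearGroup (Fin 4) F →*
    Cfsg.POmega F (Cfsg.quadFormPlus 3 F) :=
  (QuotientGroup.mk' _).comp wOmega

lemma ker_toPOmega : (toPOmega (F := F)).ker =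
    Subgroup.center (Matrix.SpecialLinearGroup (Fin 4) F) := by
  ext s
  rw [MonoidHom.mem_ker]
  unfold toPOmega
  rw [MonoidHom.coe_comp, Function.comp_apply, QuotientGroup.mk'_apply, QuotientGroup.eq_one_iff,
    Om4.map_mem_center_iff _ wOmega_surjective]
  have hle : (wOmega (F := F)).ker ≤ Subgroup.center (Matrix.SpecialLinearGroup (Fin 4) F) := by
    rcases normal_le_center_or_top (wOmega (F := F)).ker with h | h
    · exact h
    · exact absurd h ker_wOmega_ne_top
  constructor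
  · intro h
    -- `s` centralises every commutator, hence everything
    have hcomm : ∀ x y : Matrix.SpecialLinearGroup (Fin 4) F, ⁅x, y⁆ * s = s * ⁅x, y⁆ := by
      intro x y
      have hx := Subgroup.mem_center_iff.1 (hle (h x))
      have hy := Subgroup.mem_center_iff.1 (hle (h y))
      -- s x s⁻¹ = ⁅s,x⁆ x
      have e1 : s * x * s⁻¹ = ⁅s, x⁆ * x := by rw [commutatorElement_def]; group
      have e2 : s * y * s⁻¹ = ⁅s, y⁆ * y := by rw [commutatorElement_def]; group
      have e3 : s * ⁅x, y⁆ * s⁻¹ = ⁅s * x * s⁻¹, s * y * s⁻¹⁆ := by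
        simp only [commutatorElement_def]; group
      have e4 : ⁅⁅s, x⁆ * x, ⁅s, y⁆ * y⁆ = ⁅x, y⁆ := by
        set a := ⁅s, x⁆ with ha
        set b := ⁅s, y⁆ with hb
        rw [commutatorElement_def, commutatorElement_def]
        have ha' : ∀ g, g * a⁻¹ = a⁻¹ * g := by
          intro g
          have := hx (a⁻¹ * g * a⁻¹)
          calc g * a⁻¹ = a * (a⁻¹ * g * a⁻¹) := by group
            _ = (a⁻¹ * g * a⁻¹) * a := (hx _).symm
            _ = a⁻¹ * g := by group
        have hb' : ∀ g, g * b⁻¹ = b⁻¹ * g := by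
          intro g
          calc g * b⁻¹ = b * (b⁻¹ * g * b⁻¹) := by group
            _ = (b⁻¹ * g * b⁻¹) * b := (hy _).symm
            _ = b⁻¹ * g := by group
        calc a * x * (b * y) * (a * x)⁻¹ * (b * y)⁻¹
            = a * x * (b * y) * (x⁻¹ * a⁻¹) * (y⁻¹ * b⁻¹) := by group
          _ = a * x * (b * y) * (a⁻¹ * x⁻¹) * (b⁻¹ * y⁻¹) := by rw [ha' x⁻¹, hb' y⁻¹]
          _ = x * a * (y * b) * (a⁻¹ * x⁻¹) * (b⁻¹ * y⁻¹) := by rw [hx x, hy y]
          _ = x * (a * y * (b * a⁻¹) * x⁻¹ * b⁻¹) * y⁻¹ := by group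
          _ = x * (y * a * (a⁻¹ * b) * x⁻¹ * b⁻¹) * y⁻¹ := by rw [hx y, ha' b]
          _ = x * y * (b * x⁻¹) * b⁻¹ * y⁻¹ := by group
          _ = x * y * (x⁻¹ * b) * b⁻¹ * y⁻¹ := by rw [hy x⁻¹]
          _ = x * y * x⁻¹ * y⁻¹ := by group
      rw [e1, e2, e4] at e3
      calc ⁅x, y⁆ * s = (s * ⁅x, y⁆ * s⁻¹) * s := by rw [e3]
        _ = s * ⁅x, y⁆ := by group
    have hcent : (⊤ : Subgroup (Matrix.SpecialLinearGroup (Fin 4) F)) ≤
        Subgroup.centralizer {s} := by
      rw [← commutator_SL_eq_top (F := F) (ι := Fin 4) (by simp), commutator_eq_closure,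
        Subgroup.closure_le]
      rintro _ ⟨x, y, rfl⟩
      rw [SetLike.mem_coe, Subgroup.mem_centralizer_iff]
      intro t ht
      rw [Set.mem_singleton_iff] at ht
      subst ht
      exact (hcomm x y).symm
    rw [Subgroup.mem_center_iff]
    intro g
    have := hcent (Subgroup.mem_top g)
    rw [Subgroup.mem_centralizer_iff] at this
    exact (this s rfl).symm
  · intro h x
    have : ⁅s, x⁆ = 1 := by
      rw [commutatorElement_eq_one_iff_mul_comm]
      exact ((Subgroup.mem_center_iff.1 h) x).symm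
    rw [this]
    exact Subgroup.one_mem _

/-- `PΩ⁺₆(q) ≅ PSL₄(q)`. -/
theorem pomega6_equiv :
    Nonempty (Cfsg.POmega F (Cfsg.quadFormPlus 3 F) ≃*
      Matrix.ProjectiveSpecialLinearGroup (Fin 4) F) := by
  have hs1 : Function.Surjective (toPOmega (F := F)) := by
    unfold toPOmega
    rw [MonoidHom.coe_comp]
    exact (QuotientGroup.mk'_surjective _).comp wOmega_surjective
  exact ⟨(QuotientGroup.quotientKerEquivOfSurjective _ hs1).symm.trans
    (QuotientGroup.quotientMulEquivOfEq ker_toPOmega)⟩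

end Final

end Cfsg.Agent.Lib.Helper5.Om6
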