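import Mathlib
import Cfsg.Prelude.Def_Classical
import Cfsg.Agent.Lib.Helper5.Omega6Base

set_option autoImplicit false
set_option linter.unusedSimpArgs false
set_option linter.unusedVariables false
set_option linter.unnecessarySeqFocus false
set_option linter.unusedSectionVars false
set_option linter.style.haveILetI false

/-!
`PΩ⁻₆(q) ≅ PSU₄(q)`: the group `SU₄(K)`, `|K| = q²`, acts on the exterior square of `K⁴`
(alternating `4 × 4` matrices, `X ↦ g X gᵀ`), commuting with the semilinear involution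
`X ↦ *(X^σ)`; the fixed points form a six-dimensional `F`-space on which the Pfaffian is a
quadratic form of minus type.
-/

namespace Cfsg.Agent.Lib.Helper5.Om6m

open Matrix Cfsg.Agent.Lib.Helper5.Om6
open scoped commutatorElement

/-- the index type of `quadFormMinus 2` -/
abbrev I6m := (Fin 2 ⊕ Fin 2) ⊕ Fin 2

section star

variable {K : Type*} [Field K]

/-- the Hodge star on `4 × 4` alternating matrices -/
def star (Z : Matrix (Fin 4) (Fin 4) K) : Matrix (Fin 4) (Fin 4) K :=
  altM (Z 2 3) (-Z 1 3) (Z 1 2) (Z 0 3) (-Z 0 2) (Z 0 1)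

set_option maxHeartbeats 4000000 in
lemma star_identity (A : Matrix (Fin 4) (Fin 4) K) (p12 p13 p14 p23 p24 p34 : K) :
    Aᵀ * star (A * altM p12 p13 p14 p23 p24 p34 * Aᵀ) * A =
      A.det • star (altM p12 p13 p14 p23 p24 p34) := by
  rw [det4]
  ext k l
  fin_cases k <;> fin_cases l <;>
  · simp only [star, altM, Matrix.mul_apply, Fin.sum_univ_four, Matrix.transpose_apply,
      Matrix.smul_apply, smul_eq_mul]
    simp
    ring

lemma altM_map (σ : K →+* K) (p12 p13 p14 p23 p24 p34 : K) :
    (altM p12 p13 p14 p23 p24 p34).map σ =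
      altM (σ p12) (σ p13) (σ p14) (σ p23) (σ p24) (σ p34) := by
  ext i j
  fin_cases i <;> fin_cases j <;> simp [altM]

lemma eq_altM {Y : Matrix (Fin 4) (Fin 4) K} (h : IsAlt Y) :
    Y = altM (Y 0 1) (Y 0 2) (Y 0 3) (Y 1 2) (Y 1 3) (Y 2 3) := by
  obtain ⟨h1, h2⟩ := h
  have h3 : ∀ i j, Y j i = - Y i j := fun i j => by
    have := congrFun (congrFun h1 i) j
    simpa using this
  ext i j
  fin_cases i <;> fin_cases j <;> simp [altM] <;> first | exact h2 _ | exact h3 _ _

lemma isAlt_altM (p12 p13 p14 p23 p24 p34 : K) : IsAlt (altM p12 p13 p14 p23 p24 p34) := by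
  constructor
  · ext i j
    fin_cases i <;> fin_cases j <;> simp [altM]
  · intro i
    fin_cases i <;> simp [altM]

/-- the star operation commutes with the action of a unitary matrix of determinant one -/
lemma star_conj (σ : K →+* K) (g : Matrix (Fin 4) (Fin 4) K) (hg : gᵀ * g.map σ = 1)
    (hdet : g.det = 1) (p12 p13 p14 p23 p24 p34 : K) :
    star ((g * altM p12 p13 p14 p23 p24 p34 * gᵀ).map σ) =
      g * star ((altM p12 p13 p14 p23 p24 p34).map σ) * gᵀ := by
  have h1 : g.map σ * gᵀ = 1 := mul_eq_one_comm.mp hg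
  have h2 : g * (g.map σ)ᵀ = 1 := by
    have := congrArg Matrix.transpose hg
    rw [Matrix.transpose_mul, Matrix.transpose_transpose, Matrix.transpose_one] at this
    exact mul_eq_one_comm.mp this
  have hdet' : (g.map σ).det = 1 := by
    have : (g.map σ).det = σ g.det := (RingHom.map_det σ g).symm
    rw [this, hdet, map_one]
  have e1 : (g * altM p12 p13 p14 p23 p24 p34 * gᵀ).map σ =
      g.map σ * altM (σ p12) (σ p13) (σ p14) (σ p23) (σ p24) (σ p34) * (g.map σ)ᵀ := by
    rw [Matrix.map_mul, Matrix.map_mul, altM_map, Matrix.transpose_map]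
  have e2 := star_identity (g.map σ) (σ p12) (σ p13) (σ p14) (σ p23) (σ p24) (σ p34)
  rw [hdet', one_smul] at e2
  rw [e1, altM_map, ← e2]
  set S := star (g.map σ * altM (σ p12) (σ p13) (σ p14) (σ p23) (σ p24) (σ p34) * (g.map σ)ᵀ)
  calc S = (g * (g.map σ)ᵀ) * S * (g.map σ * gᵀ) := by rw [h1, h2, Matrix.one_mul, Matrix.mul_one]
    _ = g * ((g.map σ)ᵀ * S * g.map σ) * gᵀ := by simp only [Matrix.mul_assoc]

end star

end Cfsg.Agent.Lib.Helper5.Om6m
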