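import Mathlib
import Cfsg.Prelude.Def_Classical
import Cfsg.Agent.Lib.Helper5.Omega6Star
import Cfsg.Agent.Lib.Helper5.SUCard
import Cfsg.Agent.Lib.Helper44.OmegaMinus4
import Cfsg.Agent.Lib.Helper44.NormForm

set_option autoImplicit false
set_option linter.unusedSimpArgs false
set_option linter.unusedVariables false
set_option linter.unnecessarySeqFocus false
set_option linter.unusedSectionVars false
set_option linter.style.haveILetI false

/-!
`PΩ⁻₆(q) ≅ PSU₄(q)`, the construction: the fixed points of `X ↦ *(X^σ)` on alternating matrices.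
-/

namespace Cfsg.Agent.Lib.Helper5.Om6m

open Matrix Cfsg.Agent.Lib.Helper5.Om6 Cfsg.Agent.Lib.Helper44.Om4m
open scoped commutatorElement

section transport

variable {F : Type*} [Field F] {V : Type*} [AddCommGroup V] [Module F V] {G : Type*} [Group G]
  {ι : Type} [Fintype ι] [DecidableEq ι]

/-- transport of a representation along a linear equivalence -/
def transEnd (Θ : V ≃ₗ[F] (ι → F)) (ρ : G →* Module.End F V) : G →* Module.End F (ι → F) where
  toFun g := (Θ : V →ₗ[F] (ι → F)) ∘ₗ (ρ g) ∘ₗ (Θ.symm : (ι → F) →ₗ[F] V)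
  map_one' := by
    apply LinearMap.ext
    intro x
    simp
  map_mul' g h := by
    apply LinearMap.ext
    intro x
    simp

lemma transEnd_apply (Θ : V ≃ₗ[F] (ι → F)) (ρ : G →* Module.End F V) (g : G) (u : ι → F) :
    transEnd Θ ρ g u = Θ (ρ g (Θ.symm u)) := rfl

/-- the transported representation, with values in `GL` -/
noncomputable def transGL (Θ : V ≃ₗ[F] (ι → F)) (ρ : G →* Module.End F V) : G →* GL ι F :=
  (((LinearMap.toMatrixAlgEquiv' (R := F) (n := ι)).toMulEquiv.toMonoidHom).comp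
    (transEnd Θ ρ)).toHomUnits

lemma transGL_mulVec (Θ : V ≃ₗ[F] (ι → F)) (ρ : G →* Module.End F V) (g : G) (u : ι → F) :
    ((transGL Θ ρ g : GL ι F) : Matrix ι ι F) *ᵥ u = Θ (ρ g (Θ.symm u)) := by
  unfold transGL
  rw [MonoidHom.coe_toHomUnits]
  simp only [MonoidHom.coe_comp, Function.comp_apply]
  change (LinearMap.toMatrix' (transEnd Θ ρ g)) *ᵥ u = _
  rw [LinearMap.toMatrix'_mulVec, transEnd_apply]

lemma transGL_mem (Q : (ι → F) → F) (Θ : V ≃ₗ[F] (ι → F)) (ρ : G →* Module.End F V)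
    (hρ : ∀ g v, Q (Θ (ρ g v)) = Q (Θ v)) (g : G) :
    transGL Θ ρ g ∈ Cfsg.isometryGroup F Q := by
  intro u v
  change Q (((transGL Θ ρ g : GL ι F) : Matrix ι ι F) *ᵥ u) = Q u
  rw [transGL_mulVec, hρ, LinearEquiv.apply_symm_apply]

/-- the transported representation, with values in the isometry group -/
noncomputable def transO (Q : (ι → F) → F) (Θ : V ≃ₗ[F] (ι → F)) (ρ : G →* Module.End F V)
    (hρ : ∀ g v, Q (Θ (ρ g v)) = Q (Θ v)) : G →* Cfsg.isometryGroup F Q :=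
  (transGL Θ ρ).codRestrict _ (transGL_mem Q Θ ρ hρ)

lemma transO_eq_one_iff (Q : (ι → F) → F) (Θ : V ≃ₗ[F] (ι → F)) (ρ : G →* Module.End F V)
    (hρ : ∀ g v, Q (Θ (ρ g v)) = Q (Θ v)) (g : G) :
    transO Q Θ ρ hρ g = 1 ↔ ∀ v, ρ g v = v := by
  constructor
  · intro h v
    have h1 : transGL Θ ρ g = 1 := congrArg Subtype.val h
    have h2 := transGL_mulVec Θ ρ g (Θ v)
    rw [h1, Units.val_one, Matrix.one_mulVec, LinearEquiv.symm_apply_apply] at h2
    exact (Θ.injective h2).symm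
  · intro h
    apply Subtype.ext
    apply Units.ext
    change ((transGL Θ ρ g : GL ι F) : Matrix ι ι F) = 1
    apply Matrix.toLin'.injective
    apply LinearMap.ext
    intro u
    rw [Matrix.toLin'_apply, transGL_mulVec, h, LinearEquiv.apply_symm_apply, Matrix.toLin'_one,
      LinearMap.id_apply]

end transport

section construction

variable {F K : Type*} [Field F] [Field K] [Algebra F K] {a b : F} (D : Data F K a b)

/-- the alternating matrix of a vector of `K³` -/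
def X (w : Fin 3 → K) : Matrix (Fin 4) (Fin 4) K :=
  altM (w 0) (w 1) (w 2) (D.frob (w 2)) (- D.frob (w 1)) (D.frob (w 0))

/-- the first row of a matrix -/
def row (Y : Matrix (Fin 4) (Fin 4) K) : Fin 3 → K := ![Y 0 1, Y 0 2, Y 0 3]

lemma row_X (w : Fin 3 → K) : row (X D w) = w := by
  funext i
  fin_cases i <;> simp [row, X, altM]

lemma isAlt_X (w : Fin 3 → K) : IsAlt (X D w) := isAlt_altM _ _ _ _ _ _

lemma pf_X (w : Fin 3 → K) :
    pf (X D w) = w 0 * D.frob (w 0) + w 1 * D.frob (w 1) + w 2 * D.frob (w 2) := by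
  simp [pf, X, altM]

lemma X_add (u w : Fin 3 → K) : X D (u + w) = X D u + X D w := by
  ext i j
  fin_cases i <;> fin_cases j <;> simp [X, altM, map_add] <;> ring

lemma frob_smul (c : F) (x : K) : D.frob (c • x) = c • D.frob x := by
  rw [Algebra.smul_def, map_mul, D.frobF, Algebra.smul_def]

lemma X_smul (c : F) (w : Fin 3 → K) : X D (c • w) = c • X D w := by
  ext i j
  fin_cases i <;> fin_cases j <;> simp [X, altM, frob_smul]

lemma row_add (Y Z : Matrix (Fin 4) (Fin 4) K) : row (Y + Z) = row Y + row Z := by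
  funext i
  fin_cases i <;> simp [row]

lemma row_smul (c : F) (Y : Matrix (Fin 4) (Fin 4) K) : row (c • Y) = c • row Y := by
  funext i
  fin_cases i <;> simp [row]

/-- the semilinear involution `X ↦ *(X^σ)` -/
def tau (Y : Matrix (Fin 4) (Fin 4) K) : Matrix (Fin 4) (Fin 4) K := star (Y.map D.frob)

lemma tau_X (w : Fin 3 → K) : tau D (X D w) = X D w := by
  unfold tau X
  rw [altM_map]
  simp [star, altM, D.frob2]

lemma X_row {Y : Matrix (Fin 4) (Fin 4) K} (hY : IsAlt Y) (ht : tau D Y = Y) :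
    X D (row Y) = Y := by
  have e := eq_altM hY
  have h01 := congrFun (congrFun ht 0) 1
  have h02 := congrFun (congrFun ht 0) 2
  have h03 := congrFun (congrFun ht 0) 3
  simp [tau, star, altM] at h01 h02 h03
  -- h01 : frob (Y 2 3) = Y 0 1, h02 : - frob (Y 1 3) = Y 0 2, h03 : frob (Y 1 2) = Y 0 3
  have k01 : D.frob (Y 0 1) = Y 2 3 := by rw [← h01, D.frob2]
  have k02 : D.frob (Y 0 2) = - Y 1 3 := by rw [← h02, map_neg, D.frob2]
  have k03 : D.frob (Y 0 3) = Y 1 2 := by rw [← h03, D.frob2]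
  rw [e]
  unfold X row
  simp only [Matrix.cons_val_zero, Matrix.cons_val_one, Matrix.cons_val_two]
  simp [altM, k01, k02, k03]

/-- the action commutes with `tau` -/
lemma tau_conj (g : Matrix (Fin 4) (Fin 4) K) (hg : gᵀ * g.map D.frob = 1) (hdet : g.det = 1)
    (w : Fin 3 → K) : tau D (g * X D w * gᵀ) = g * X D w * gᵀ := by
  have h1 := star_conj D.frob g hg hdet (w 0) (w 1) (w 2) (D.frob (w 2)) (- D.frob (w 1))
    (D.frob (w 0))
  have h2 := tau_X D w
  unfold tau at h2 ⊢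
  unfold X at h2 ⊢
  rw [h1, h2]

/-- the action on `K³` -/
def rhoFun (g : Matrix (Fin 4) (Fin 4) K) (w : Fin 3 → K) : Fin 3 → K := row (g * X D w * gᵀ)

lemma X_rhoFun (g : Matrix (Fin 4) (Fin 4) K) (hg : gᵀ * g.map D.frob = 1) (hdet : g.det = 1)
    (w : Fin 3 → K) : X D (rhoFun D g w) = g * X D w * gᵀ :=
  X_row D (isAlt_conj _ (isAlt_X D w)) (tau_conj D g hg hdet w)

end construction

section coords

variable {F K : Type*} [Field F] [Field K] [Algebra F K] {a b : F} (D : Data F K a b)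
  (Θ₂ : (Fin 2 → K) ≃ₗ[F] (Fin 2 ⊕ Fin 2 → F))

lemma vec2_add (x y x' y' : K) : ![x + x', y + y'] = ![x, y] + ![x', y'] := by
  funext i
  fin_cases i <;> simp

lemma vec2_smul (c : F) (x y : K) : ![c • x, c • y] = c • ![x, y] := by
  funext i
  fin_cases i <;> simp

/-- coordinates on `K³` -/
def theta : (Fin 3 → K) ≃ₗ[F] (I6m → F) where
  toFun w := Sum.elim (Θ₂ ![w 0, w 1]) (D.ψ.symm (w 2))
  map_add' u w := by
    funext i
    rcases i with i | i
    · simp only [Sum.elim_inl, Pi.add_apply]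
      rw [vec2_add, map_add]
      rfl
    · simp only [Sum.elim_inr, Pi.add_apply, map_add]
  map_smul' c w := by
    funext i
    rcases i with i | i
    · simp only [Sum.elim_inl, Pi.smul_apply, RingHom.id_apply]
      rw [vec2_smul, map_smul]
      rfl
    · simp only [Sum.elim_inr, Pi.smul_apply, RingHom.id_apply, map_smul]
  invFun u := ![(Θ₂.symm (u ∘ Sum.inl)) 0, (Θ₂.symm (u ∘ Sum.inl)) 1, D.ψ (u ∘ Sum.inr)]
  left_inv w := by
    have e1 : (Sum.elim (Θ₂ ![w 0, w 1]) (D.ψ.symm (w 2)) : I6m → F) ∘ Sum.inl = Θ₂ ![w 0, w 1] :=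
      rfl
    have e2 : (Sum.elim (Θ₂ ![w 0, w 1]) (D.ψ.symm (w 2)) : I6m → F) ∘ Sum.inr = D.ψ.symm (w 2) :=
      rfl
    funext i
    fin_cases i
    · show (Θ₂.symm ((Sum.elim (Θ₂ ![w 0, w 1]) (D.ψ.symm (w 2)) : I6m → F) ∘ Sum.inl)) 0 = w 0
      rw [e1, LinearEquiv.symm_apply_apply]
      rfl
    · show (Θ₂.symm ((Sum.elim (Θ₂ ![w 0, w 1]) (D.ψ.symm (w 2)) : I6m → F) ∘ Sum.inl)) 1 = w 1
      rw [e1, LinearEquiv.symm_apply_apply]
      rfl
    · show D.ψ ((Sum.elim (Θ₂ ![w 0, w 1]) (D.ψ.symm (w 2)) : I6m → F) ∘ Sum.inr) = w 2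
      rw [e2, LinearEquiv.apply_symm_apply]
  right_inv u := by
    have e : ![(Θ₂.symm (u ∘ Sum.inl)) 0, (Θ₂.symm (u ∘ Sum.inl)) 1] = Θ₂.symm (u ∘ Sum.inl) := by
      funext i
      fin_cases i <;> rfl
    funext i
    rcases i with i | i
    · show Θ₂ ![(Θ₂.symm (u ∘ Sum.inl)) 0, (Θ₂.symm (u ∘ Sum.inl)) 1] i = u (Sum.inl i)
      rw [e, LinearEquiv.apply_symm_apply]
      rfl
    · show D.ψ.symm (D.ψ (u ∘ Sum.inr)) i = u (Sum.inr i)
      rw [LinearEquiv.symm_apply_apply]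
      rfl

lemma theta_apply (w : Fin 3 → K) :
    theta D Θ₂ w = Sum.elim (Θ₂ ![w 0, w 1]) (D.ψ.symm (w 2)) := rfl

lemma quadFormMinus_elim (A : Fin 2 ⊕ Fin 2 → F) (B : Fin 2 → F) :
    Cfsg.quadFormMinus 2 F a b (Sum.elim A B) =
      Cfsg.quadFormPlus 2 F A + (B 0 ^ 2 + a * B 0 * B 1 + b * B 1 ^ 2) := rfl

lemma quadFormMinus_theta
    (hΘ₂ : ∀ v, algebraMap F K (Cfsg.quadFormPlus 2 F (Θ₂ v)) =
      v 0 * D.frob (v 0) + v 1 * D.frob (v 1)) (w : Fin 3 → K) :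
    algebraMap F K (Cfsg.quadFormMinus 2 F a b (theta D Θ₂ w)) = pf (X D w) := by
  rw [theta_apply, quadFormMinus_elim, map_add, hΘ₂, D.hψ, LinearEquiv.apply_symm_apply, pf_X]
  rfl

end coords

section action

variable {F K : Type*} [Field F] [Field K] [Fintype K] [Algebra F K] {a b : F} (D : Data F K a b)
  {q : ℕ}

lemma su_unitary (hK : Fintype.card K = q ^ 2) (hσ : ∀ x, D.frob x = x ^ q)
    (g : ↥(Cfsg.SU 4 K q)) : (g.1.1)ᵀ * (g.1.1).map D.frob = 1 := by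
  have h : IsHermIso 4 K q g.1.1 := fun u v => g.2 u v
  have h1 := h.transpose_mul_map hK
  have e : (g.1.1).map D.frob = (g.1.1).map (frobQ hK) := by
    ext i j
    simp only [Matrix.map_apply, hσ, frobQ_apply]
  rw [e]
  exact h1

/-- the action of `SU₄` on `K³` as an `F`-linear map -/
def rhoLin (g : ↥(Cfsg.SU 4 K q)) : (Fin 3 → K) →ₗ[F] (Fin 3 → K) where
  toFun := rhoFun D g.1.1
  map_add' u w := by
    unfold rhoFun
    rw [X_add, mul_add, add_mul, row_add]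
  map_smul' c w := by
    unfold rhoFun
    rw [X_smul, Matrix.mul_smul, Matrix.smul_mul, row_smul]
    rfl

lemma rhoLin_apply (g : ↥(Cfsg.SU 4 K q)) (w : Fin 3 → K) :
    rhoLin D g w = rhoFun D g.1.1 w := rfl

lemma X_rhoLin (hK : Fintype.card K = q ^ 2) (hσ : ∀ x, D.frob x = x ^ q)
    (g : ↥(Cfsg.SU 4 K q)) (w : Fin 3 → K) :
    X D (rhoLin D g w) = g.1.1 * X D w * (g.1.1)ᵀ :=
  X_rhoFun D g.1.1 (su_unitary D hK hσ g) g.1.2 w

/-- the action of `SU₄` on `K³` as a monoid hom -/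
def rhoEnd (hK : Fintype.card K = q ^ 2) (hσ : ∀ x, D.frob x = x ^ q) :
    ↥(Cfsg.SU 4 K q) →* Module.End F (Fin 3 → K) where
  toFun := rhoLin D
  map_one' := by
    apply LinearMap.ext
    intro w
    rw [rhoLin_apply]
    unfold rhoFun
    simp [row_X]
  map_mul' g h := by
    apply LinearMap.ext
    intro w
    rw [Module.End.mul_apply, rhoLin_apply D g, rhoFun, X_rhoLin D hK hσ h, rhoLin_apply, rhoFun]
    congr 1
    rw [Subgroup.coe_mul, Matrix.SpecialLinearGroup.coe_mul, Matrix.transpose_mul]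
    simp only [Matrix.mul_assoc]

lemma rhoEnd_apply (hK : Fintype.card K = q ^ 2) (hσ : ∀ x, D.frob x = x ^ q)
    (g : ↥(Cfsg.SU 4 K q)) (w : Fin 3 → K) : rhoEnd D hK hσ g w = rhoLin D g w := rfl

lemma pf_X_rho (hK : Fintype.card K = q ^ 2) (hσ : ∀ x, D.frob x = x ^ q)
    (g : ↥(Cfsg.SU 4 K q)) (w : Fin 3 → K) : pf (X D (rhoLin D g w)) = pf (X D w) := by
  rw [X_rhoLin D hK hσ]
  unfold X
  rw [pf_conj, g.1.2, one_mul]

end action

section phi

variable {F K : Type*} [Field F] [Field K] [Fintype K] [Algebra F K] {a b : F} (D : Data F K a b)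
  (Θ₂ : (Fin 2 → K) ≃ₗ[F] (Fin 2 ⊕ Fin 2 → F)) {q : ℕ}

lemma quadFormMinus_rho (hK : Fintype.card K = q ^ 2) (hσ : ∀ x, D.frob x = x ^ q)
    (hΘ₂ : ∀ v, algebraMap F K (Cfsg.quadFormPlus 2 F (Θ₂ v)) =
      v 0 * D.frob (v 0) + v 1 * D.frob (v 1)) (g : ↥(Cfsg.SU 4 K q)) (v : Fin 3 → K) :
    Cfsg.quadFormMinus 2 F a b (theta D Θ₂ (rhoEnd D hK hσ g v)) =
      Cfsg.quadFormMinus 2 F a b (theta D Θ₂ v) := by
  apply (algebraMap F K).injective
  rw [quadFormMinus_theta D Θ₂ hΘ₂, quadFormMinus_theta D Θ₂ hΘ₂, rhoEnd_apply,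
    pf_X_rho D hK hσ]

/-- the action as a hom `SU₄(K) → O⁻₆(F)` -/
noncomputable def phiO (hK : Fintype.card K = q ^ 2) (hσ : ∀ x, D.frob x = x ^ q)
    (hΘ₂ : ∀ v, algebraMap F K (Cfsg.quadFormPlus 2 F (Θ₂ v)) =
      v 0 * D.frob (v 0) + v 1 * D.frob (v 1)) :
    ↥(Cfsg.SU 4 K q) →* Cfsg.isometryGroup F (Cfsg.quadFormMinus 2 F a b) :=
  transO (Cfsg.quadFormMinus 2 F a b) (theta D Θ₂) (rhoEnd D hK hσ)
    (quadFormMinus_rho D Θ₂ hK hσ hΘ₂)

lemma phiO_eq_one_iff (hK : Fintype.card K = q ^ 2) (hσ : ∀ x, D.frob x = x ^ q)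
    (hΘ₂ : ∀ v, algebraMap F K (Cfsg.quadFormPlus 2 F (Θ₂ v)) =
      v 0 * D.frob (v 0) + v 1 * D.frob (v 1)) (g : ↥(Cfsg.SU 4 K q)) :
    phiO D Θ₂ hK hσ hΘ₂ g = 1 ↔ ∀ w, g.1.1 * X D w * (g.1.1)ᵀ = X D w := by
  unfold phiO
  rw [transO_eq_one_iff]
  constructor
  · intro h w
    rw [← X_rhoLin D hK hσ g w, ← rhoEnd_apply D hK hσ, h]
  · intro h w
    rw [rhoEnd_apply, rhoLin_apply]
    unfold rhoFun
    rw [h, row_X]

/-- the `K`-span of the matrices `X w` is the space of all alternating matrices -/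
lemma altM_eq_comb (p12 p13 p14 p23 p24 p34 : K) :
    ∃ (c : Fin 6 → K) (w : Fin 6 → (Fin 3 → K)),
      altM p12 p13 p14 p23 p24 p34 = ∑ i, c i • X D (w i) := by
  have hd0 : D.θ - D.frob D.θ ≠ 0 := sub_ne_zero.2 (Ne.symm D.hθ)
  obtain ⟨d, hdd⟩ : ∃ d : K, d = D.θ - D.frob D.θ := ⟨_, rfl⟩
  have hd : d ≠ 0 := by rw [hdd]; exact hd0
  refine ⟨![p12 - (p12 - p34) / d * D.θ, (p12 - p34) / d,
      p13 - (p13 + p24) / d * D.θ, (p13 + p24) / d,
      p14 - (p14 - p23) / d * D.θ, (p14 - p23) / d],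
    ![![1, 0, 0], ![D.θ, 0, 0], ![0, 1, 0], ![0, D.θ, 0], ![0, 0, 1], ![0, 0, D.θ]], ?_⟩
  have e12 : p12 - (p12 - p34) / d * D.θ + (p12 - p34) / d * D.frob D.θ = p34 := by
    field_simp
    rw [hdd]
    ring
  have e13 : p13 - (p13 + p24) / d * D.θ + (p13 + p24) / d * D.frob D.θ = - p24 := by
    field_simp
    rw [hdd]
    ring
  have e14 : p14 - (p14 - p23) / d * D.θ + (p14 - p23) / d * D.frob D.θ = p23 := by
    field_simp
    rw [hdd]
    ring
  ext i j
  fin_cases i <;> fin_cases j <;>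
    simp [Fin.sum_univ_succ, X, altM, Matrix.add_apply, Matrix.smul_apply] <;>
    first
      | done
      | ring1
      | linear_combination e12
      | linear_combination e13
      | linear_combination e14
      | linear_combination -e12
      | linear_combination -e13
      | linear_combination -e14

lemma conj_fix_all (g : Matrix (Fin 4) (Fin 4) K) (h : ∀ w, g * X D w * gᵀ = X D w)
    (p12 p13 p14 p23 p24 p34 : K) :
    g * altM p12 p13 p14 p23 p24 p34 * gᵀ = altM p12 p13 p14 p23 p24 p34 := by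
  obtain ⟨c, w, e⟩ := altM_eq_comb D p12 p13 p14 p23 p24 p34
  rw [e, Finset.mul_sum, Finset.sum_mul]
  apply Finset.sum_congr rfl
  intro i _
  rw [Matrix.mul_smul, Matrix.smul_mul, h]

/-- the kernel of the action consists of scalars `±1` -/
lemma scalar_of_phiO_eq_one (hK : Fintype.card K = q ^ 2) (hσ : ∀ x, D.frob x = x ^ q)
    (hΘ₂ : ∀ v, algebraMap F K (Cfsg.quadFormPlus 2 F (Θ₂ v)) =
      v 0 * D.frob (v 0) + v 1 * D.frob (v 1)) (g : ↥(Cfsg.SU 4 K q))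
    (hg : phiO D Θ₂ hK hσ hΘ₂ g = 1) :
    ∃ ε : K, ε ^ 2 = 1 ∧ g.1.1 = Matrix.scalar (Fin 4) ε := by
  rw [phiO_eq_one_iff] at hg
  have h1 : wOmega (F := K) g.1 = 1 := by
    rw [wOmega_eq_one_iff]
    intro v
    rw [wLin_apply]
    unfold toA
    have := conj_fix_all D g.1.1 hg (v (.inl 0)) (v (.inl 1)) (v (.inl 2)) (v (.inr 2))
      (- v (.inr 1)) (v (.inr 0))
    rw [Matrix.SpecialLinearGroup.coe_GL_coe_matrix, this]
    exact ofA_toA v
  exact (mem_ker_wOmega g.1).1 h1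

end phi

section cyc

variable {F K : Type*} [Field F] [Field K] [Fintype K] [Algebra F K] {a b : F} (D : Data F K a b)
  (Θ₂ : (Fin 2 → K) ≃ₗ[F] (Fin 2 ⊕ Fin 2 → F)) {q : ℕ}

/-- the permutation matrix of a 3-cycle -/
def cyc (K : Type*) [Field K] : Matrix (Fin 4) (Fin 4) K :=
  !![0, 1, 0, 0; 0, 0, 1, 0; 1, 0, 0, 0; 0, 0, 0, 1]

lemma cyc_det : (cyc K).det = 1 := by
  rw [det4]
  simp [cyc]

lemma cyc_mulVec (u : Fin 4 → K) : cyc K *ᵥ u = ![u 1, u 2, u 0, u 3] := by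
  funext i
  fin_cases i <;> simp [cyc, Matrix.mulVec, dotProduct, Fin.sum_univ_four]

/-- the 3-cycle as an element of `SU₄` -/
def cycSU (K : Type*) [Field K] [Fintype K] (q : ℕ) : ↥(Cfsg.SU 4 K q) := ⟨⟨cyc K, cyc_det⟩, by
  intro u v
  change Cfsg.hermForm 4 K q (cyc K *ᵥ u) (cyc K *ᵥ v) = Cfsg.hermForm 4 K q u v
  rw [cyc_mulVec, cyc_mulVec]
  unfold Cfsg.hermForm
  simp [Fin.sum_univ_four]
  ring⟩

lemma phiO_cycSU_ne_one (hK : Fintype.card K = q ^ 2) (hσ : ∀ x, D.frob x = x ^ q)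
    (hΘ₂ : ∀ v, algebraMap F K (Cfsg.quadFormPlus 2 F (Θ₂ v)) =
      v 0 * D.frob (v 0) + v 1 * D.frob (v 1)) :
    phiO D Θ₂ hK hσ hΘ₂ (cycSU K q) ≠ 1 := by
  intro h
  rw [phiO_eq_one_iff] at h
  have h1 := congrFun (congrFun (h ![0, 0, 1]) 0) 1
  simp [cycSU, cyc, X, altM, Matrix.mul_apply, Fin.sum_univ_four] at h1

end cyc

end Cfsg.Agent.Lib.Helper5.Om6m
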