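import Mathlib
import Cfsg.Prelude.Def_Classical
import Cfsg.Agent.Lib.Helper5.Omega6Minus
import Cfsg.Agent.Lib.Helper5.CentralQuot
import Cfsg.Agent.Lib.Helper5.PSUSimple
import Cfsg.Agent.Lib.Helper8.Dickson
import Cfsg.Agent.Lib.Helper8.OrthFormsMinus
import Cfsg.Agent.Lib.Helper37.MinusType
import Cfsg.Agent.Lib.Helper37.OmegaIndex
import Cfsg.Agent.S0780
import Cfsg.Agent.S0288

set_option autoImplicit false
set_option linter.unusedSimpArgs false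
set_option linter.unusedVariables false
set_option linter.unnecessarySeqFocus false
set_option linter.unusedSectionVars false
set_option linter.style.haveILetI false

/-!
`PΩ⁻₆(q) ≅ PSU₄(q)`: counting and the final isomorphism.
-/

namespace Cfsg.Agent.Lib.Helper5.Om6m

open Matrix Cfsg.Agent.Lib.Helper5.Om6 Cfsg.Agent.Lib.Helper44.Om4m Cfsg.Agent.Lib.Helper44
open scoped commutatorElement

section index

variable {F : Type*} [Field F] [Fintype F] {a b : F}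

lemma index_omega6m_odd (h2 : (2 : F) ≠ 0)
    (hab : ∀ z₁ z₂ : F, z₁ ^ 2 + a * z₁ * z₂ + b * z₂ ^ 2 = 0 → z₁ = 0 ∧ z₂ = 0) :
    (Cfsg.Omega F (Cfsg.quadFormMinus 2 F a b)).index = 4 := by
  apply Cfsg.Agent.Lib.Helper37.index_omega_eq_four
    (G := Cfsg.Agent.Lib.Helper37.gramM 2 F a b)
    ⟨h2, Cfsg.Agent.Lib.Helper37.gramM_isSymm 2 F a b, Cfsg.Agent.Lib.Helper37.gramM_self 2 F a b⟩
  · rw [Cfsg.Agent.Lib.Helper37.gramM_det]
    have hns := Cfsg.Agent.Lib.Helper37.disc_nonsquare h2 a b hab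
    intro h0
    apply hns
    have : a ^ 2 - 4 * b = 0 := by
      have h1 : ((-1 : F)) ^ (2 + 1) = -1 := by norm_num
      rw [h1] at h0
      linear_combination -h0
    rw [this]
    exact ⟨0, by simp⟩
  · simp

lemma a_ne_zero_of_char_two (h2 : (2 : F) = 0)
    (hab : ∀ z₁ z₂ : F, z₁ ^ 2 + a * z₁ * z₂ + b * z₂ ^ 2 = 0 → z₁ = 0 ∧ z₂ = 0) : a ≠ 0 := by
  rintro rfl
  obtain ⟨c, hc⟩ := Cfsg.Agent.Lib.Helper8.exists_sq_char2 h2 b
  have := hab c 1 (by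
    rw [zero_mul, zero_mul, add_zero, one_pow, mul_one, ← hc]
    linear_combination (c ^ 2) * h2)
  exact one_ne_zero this.2

lemma index_omega6m_even (h2 : (2 : F) = 0)
    (hab : ∀ z₁ z₂ : F, z₁ ^ 2 + a * z₁ * z₂ + b * z₂ ^ 2 = 0 → z₁ = 0 ∧ z₂ = 0) :
    (Cfsg.Omega F (Cfsg.quadFormMinus 2 F a b)).index = 2 := by
  have := Cfsg.Agent.Lib.Helper8.commutator_index_two_char2 h2
    (Cfsg.Agent.Lib.Helper8.minusForm 2 F a b)
    (Cfsg.Agent.Lib.Helper8.minusForm_nondegenerate 2 F a b h2 (a_ne_zero_of_char_two h2 hab))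
    (Or.inr (by simp)) (Cfsg.Agent.Lib.Helper8.minusForm_exists_ne_zero 2 F a b)
  rw [← Cfsg.Agent.Lib.Helper8.minusForm_coe] at this
  exact this

end index

section omega

variable {F K : Type*} [Field F] [Field K] [Fintype K] [Algebra F K] {a b : F} (D : Data F K a b)
  (Θ₂ : (Fin 2 → K) ≃ₗ[F] (Fin 2 ⊕ Fin 2 → F)) {q : ℕ}

lemma su4_perfect (hK : Fintype.card K = q ^ 2) : commutator ↥(Cfsg.SU 4 K q) = ⊤ :=
  Cfsg.Agent.Lib.Helper5.PSUS.commutator_eq_top 4 hK (Or.inl le_rfl)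
    (Cfsg.Agent.S0780.result hK 4 (by norm_num) (by simp))

lemma su4_normal_le_center_or_top (hK : Fintype.card K = q ^ 2) (N : Subgroup ↥(Cfsg.SU 4 K q))
    (hN : N.Normal) : N ≤ Subgroup.center ↥(Cfsg.SU 4 K q) ∨ N = ⊤ :=
  Cfsg.Agent.Lib.Helper5.PSUS.normal_le_center_or_top 4 hK (Or.inl le_rfl)
    (Cfsg.Agent.S0780.result hK 4 (by norm_num) (by simp)) N hN

/-- the action `SU₄(K) → Ω⁻₆(F)` -/
noncomputable def phiOmega (hK : Fintype.card K = q ^ 2) (hσ : ∀ x, D.frob x = x ^ q)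
    (hΘ₂ : ∀ v, algebraMap F K (Cfsg.quadFormPlus 2 F (Θ₂ v)) =
      v 0 * D.frob (v 0) + v 1 * D.frob (v 1)) :
    ↥(Cfsg.SU 4 K q) →* Cfsg.Omega F (Cfsg.quadFormMinus 2 F a b) :=
  (phiO D Θ₂ hK hσ hΘ₂).codRestrict _ (fun g => by
    apply map_mem_commutator
    rw [su4_perfect hK]
    trivial)

lemma phiOmega_eq_one_iff (hK : Fintype.card K = q ^ 2) (hσ : ∀ x, D.frob x = x ^ q)
    (hΘ₂ : ∀ v, algebraMap F K (Cfsg.quadFormPlus 2 F (Θ₂ v)) =
      v 0 * D.frob (v 0) + v 1 * D.frob (v 1)) (g : ↥(Cfsg.SU 4 K q)) :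
    phiOmega D Θ₂ hK hσ hΘ₂ g = 1 ↔ phiO D Θ₂ hK hσ hΘ₂ g = 1 := by
  constructor
  · intro h
    exact congrArg Subtype.val h
  · intro h
    exact Subtype.ext h

lemma ker_phiOmega_le_center (hK : Fintype.card K = q ^ 2) (hσ : ∀ x, D.frob x = x ^ q)
    (hΘ₂ : ∀ v, algebraMap F K (Cfsg.quadFormPlus 2 F (Θ₂ v)) =
      v 0 * D.frob (v 0) + v 1 * D.frob (v 1)) :
    (phiOmega D Θ₂ hK hσ hΘ₂).ker ≤ Subgroup.center ↥(Cfsg.SU 4 K q) := by
  rcases su4_normal_le_center_or_top hK (phiOmega D Θ₂ hK hσ hΘ₂).ker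
    (MonoidHom.normal_ker _) with h | h
  · exact h
  · exfalso
    have h1 : cycSU K q ∈ (phiOmega D Θ₂ hK hσ hΘ₂).ker := by rw [h]; trivial
    rw [MonoidHom.mem_ker, phiOmega_eq_one_iff] at h1
    exact phiO_cycSU_ne_one D Θ₂ hK hσ hΘ₂ h1

/-- the kernel injects into the square roots of one -/
lemma card_ker_phiOmega_le (hK : Fintype.card K = q ^ 2) (hσ : ∀ x, D.frob x = x ^ q)
    (hΘ₂ : ∀ v, algebraMap F K (Cfsg.quadFormPlus 2 F (Θ₂ v)) =
      v 0 * D.frob (v 0) + v 1 * D.frob (v 1)) :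
    Nat.card (phiOmega D Θ₂ hK hσ hΘ₂).ker ≤ Nat.card {ε : K // ε ^ 2 = 1} := by
  have hsc : ∀ g : (phiOmega D Θ₂ hK hσ hΘ₂).ker,
      ∃ ε : K, ε ^ 2 = 1 ∧ g.1.1.1 = Matrix.scalar (Fin 4) ε := by
    intro g
    apply scalar_of_phiO_eq_one D Θ₂ hK hσ hΘ₂
    rw [← phiOmega_eq_one_iff]
    exact g.2
  apply Nat.card_le_card_of_injective
    (fun g : (phiOmega D Θ₂ hK hσ hΘ₂).ker => (⟨g.1.1.1 0 0, by
      obtain ⟨ε, hε, hs⟩ := hsc g
      rw [hs]
      simpa using hε⟩ : {ε : K // ε ^ 2 = 1}))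
  intro g h hgh
  have hgh' : g.1.1.1 0 0 = h.1.1.1 0 0 := congrArg Subtype.val hgh
  obtain ⟨ε, _, hs⟩ := hsc g
  obtain ⟨ε', _, hs'⟩ := hsc h
  apply Subtype.ext
  apply Subtype.ext
  apply Subtype.ext
  rw [hs, hs'] at hgh' ⊢
  have : ε = ε' := by simpa using hgh'
  rw [this]

end omega

section count

variable {F K : Type*} [Field F] [Fintype F] [Field K] [Fintype K] [Algebra F K] {a b : F}
  (D : Data F K a b) (Θ₂ : (Fin 2 → K) ≃ₗ[F] (Fin 2 ⊕ Fin 2 → F)) {q : ℕ}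

lemma card_O_eq (hF : Fintype.card F = q) (hK : Fintype.card K = q ^ 2)
    (hab : ∀ z₁ z₂ : F, z₁ ^ 2 + a * z₁ * z₂ + b * z₂ ^ 2 = 0 → z₁ = 0 ∧ z₂ = 0) :
    Nat.card (Cfsg.isometryGroup F (Cfsg.quadFormMinus 2 F a b)) =
      2 * Nat.card ↥(Cfsg.SU 4 K q) := by
  have hO := Cfsg.Agent.S0288.result hF 3 (by norm_num) a b hab
  simp only [show (3 : ℕ) - 1 = 2 from rfl, Finset.prod_range_succ, Finset.prod_range_zero,
    zero_add, mul_one, one_mul] at hO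
  have hS := Cfsg.Agent.Lib.Helper5.card_SU hK 4 (by norm_num)
  rw [Cfsg.Agent.Lib.Helper5.card_GU hK 4] at hS
  simp only [Finset.prod_range_succ, Finset.prod_range_zero, one_mul, zero_add,
    show (4 : ℕ) * (4 - 1) / 2 = 6 from rfl] at hS
  norm_num [Nat.even_add_one] at hS
  have hq1 : 0 < q + 1 := by omega
  apply Nat.eq_of_mul_eq_mul_left hq1
  rw [hO]
  calc (q + 1) * (2 * q ^ (3 * 2) * (q ^ 3 + 1) * ((q ^ 2 - 1) * (q ^ (2 * (1 + 1)) - 1)))
      = 2 * (q ^ 6 * ((q + 1) * (q ^ 2 - 1) * (q ^ 3 + 1) * (q ^ 4 - 1))) := by ring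
    _ = 2 * ((q + 1) * Nat.card ↥(Cfsg.SU 4 K q)) := by rw [hS]
    _ = _ := by ring

end count

section surj

variable {F K : Type*} [Field F] [Fintype F] [Field K] [Fintype K] [Algebra F K] {a b : F}
  (D : Data F K a b) (Θ₂ : (Fin 2 → K) ≃ₗ[F] (Fin 2 ⊕ Fin 2 → F)) {q : ℕ}

lemma phiOmega_surjective (hF : Fintype.card F = q) (hK : Fintype.card K = q ^ 2)
    (hab : ∀ z₁ z₂ : F, z₁ ^ 2 + a * z₁ * z₂ + b * z₂ ^ 2 = 0 → z₁ = 0 ∧ z₂ = 0)
    (hσ : ∀ x, D.frob x = x ^ q)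
    (hΘ₂ : ∀ v, algebraMap F K (Cfsg.quadFormPlus 2 F (Θ₂ v)) =
      v 0 * D.frob (v 0) + v 1 * D.frob (v 1)) :
    Function.Surjective (phiOmega D Θ₂ hK hσ hΘ₂) := by
  classical
  have hOS := card_O_eq (K := K) hF hK hab
  have hidx := Subgroup.card_mul_index (Cfsg.Omega F (Cfsg.quadFormMinus 2 F a b))
  rw [hOS] at hidx
  have hrange := Subgroup.card_mul_index (phiOmega D Θ₂ hK hσ hΘ₂).ker
  rw [Subgroup.index_ker] at hrange
  have hkle := card_ker_phiOmega_le D Θ₂ hK hσ hΘ₂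
  have hkpos : 0 < Nat.card (phiOmega D Θ₂ hK hσ hΘ₂).ker := Nat.card_pos
  have hRle : Nat.card (phiOmega D Θ₂ hK hσ hΘ₂).range ≤
      Nat.card (Cfsg.Omega F (Cfsg.quadFormMinus 2 F a b)) := Subgroup.card_le_card_group _
  set S := Nat.card ↥(Cfsg.SU 4 K q) with hSdef
  set k := Nat.card (phiOmega D Θ₂ hK hσ hΘ₂).ker with hk
  set R := Nat.card (phiOmega D Θ₂ hK hσ hΘ₂).range with hR
  set W := Nat.card (Cfsg.Omega F (Cfsg.quadFormMinus 2 F a b)) with hW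
  have hRW : R = W := by
    by_cases h2 : (2 : F) = 0
    · have h2K : (2 : K) = 0 := by
        have := congrArg (algebraMap F K) h2
        rwa [map_ofNat, map_zero] at this
      rw [index_omega6m_even h2 hab] at hidx
      rw [card_sq_eq_one_even h2K] at hkle
      have hk1 : k = 1 := by omega
      rw [hk1, one_mul] at hrange
      omega
    · have h2K : (2 : K) ≠ 0 := by
        intro h
        apply h2
        apply (algebraMap F K).injective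
        rw [map_ofNat, map_zero]
        exact h
      rw [index_omega6m_odd h2 hab] at hidx
      rw [card_sq_eq_one_odd h2K] at hkle
      have h3 : S ≤ 2 * R := by
        rw [← hrange]
        exact Nat.mul_le_mul_right R hkle
      omega
  have htop : (phiOmega D Θ₂ hK hσ hΘ₂).range = ⊤ := Subgroup.eq_top_of_card_eq _ hRW
  exact MonoidHom.range_eq_top.1 htop

end surj

section final

variable {F K : Type*} [Field F] [Fintype F] [Field K] [Fintype K]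

/-- existence of the algebraic data, with the Frobenius given by the `q`-th power -/
theorem exists_data' [Algebra F K] {q : ℕ} (hF : Fintype.card F = q) (hK : Fintype.card K = q ^ 2)
    (a b : F) (hab : ∀ z₁ z₂ : F, z₁ ^ 2 + a * z₁ * z₂ + b * z₂ ^ 2 = 0 → z₁ = 0 ∧ z₂ = 0) :
    ∃ D : Data F K a b, ∀ x, D.frob x = x ^ q := by
  classical
  have hq : 2 ≤ q := by rw [← hF]; exact Fintype.one_lt_card
  obtain ⟨frob, hfrob⟩ := exists_frob hK
  obtain ⟨ψ, hψ⟩ := exists_binary_coords hF hK a b hab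
  have hfixed : ∀ x : K, frob x = x → ∃ f : F, algebraMap F K f = x := by
    intro x hx
    have h1 : x ^ Fintype.card F = x := by rw [hF, ← hfrob, hx]
    exact mem_range_of_pow_card_eq x h1
  obtain ⟨π, hπ⟩ := LinearMap.exists_leftInverse_of_injective (Algebra.linearMap F K)
    (LinearMap.ker_eq_bot.mpr (algebraMap F K).injective)
  obtain ⟨θ, hθ⟩ : ∃ θ : K, frob θ ≠ θ := by
    by_contra hcon
    push Not at hcon
    have hsurj : Function.Surjective (algebraMap F K) := fun x => hfixed x (hcon x)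
    have h1 := Fintype.card_le_of_surjective _ hsurj
    rw [hF, hK] at h1
    nlinarith
  refine ⟨⟨frob, ?_, ?_, hfixed, ψ, ?_, π, ?_, θ, hθ⟩, hfrob⟩
  · intro x
    rw [hfrob, hfrob, pow_q_sq hK]
  · intro f
    rw [hfrob, algebraMap_pow_card hF]
  · intro z
    rw [← hψ z, norm_eq_mul_pow hF hK, hfrob]
  · intro f
    have := congrArg (fun g => g f) hπ
    exact this

/-- `PΩ⁻₆(q) ≅ PSU₄(q)`. -/
theorem pomega6m_equiv {q : ℕ} (hF : Fintype.card F = q) (hK : Fintype.card K = q ^ 2) (a b : F)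
    (hab : ∀ z₁ z₂ : F, z₁ ^ 2 + a * z₁ * z₂ + b * z₂ ^ 2 = 0 → z₁ = 0 ∧ z₂ = 0) :
    Nonempty (Cfsg.POmega F (Cfsg.quadFormMinus 2 F a b) ≃* Cfsg.PSU 4 K q) := by
  classical
  obtain ⟨j⟩ := exists_ringHom_of_card_sq hF hK
  letI : Algebra F K := j.toAlgebra
  obtain ⟨D, hσ⟩ := exists_data' hF hK a b hab
  obtain ⟨Θ₂, hΘ⟩ := normQ_hyperbolic hF hK 2 1 rfl
  have hΘ₂ : ∀ v, algebraMap F K (Cfsg.quadFormPlus 2 F (Θ₂ v)) =
      v 0 * D.frob (v 0) + v 1 * D.frob (v 1) := by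
    intro v
    rw [hΘ, normQ_apply, Fin.sum_univ_two, map_add, norm_eq_mul_pow hF hK, norm_eq_mul_pow hF hK,
      hσ, hσ]
  exact Cfsg.Agent.Lib.Helper5.CQ.nonempty_quot_center_equiv (phiOmega D Θ₂ hK hσ hΘ₂)
    (phiOmega_surjective D Θ₂ hF hK hab hσ hΘ₂) (su4_perfect hK)
    (ker_phiOmega_le_center D Θ₂ hK hσ hΘ₂)

end final

end Cfsg.Agent.Lib.Helper5.Om6m
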