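import Mathlib
import Cfsg.Prelude.Def_Classical

set_option autoImplicit false
set_option linter.unusedSimpArgs false
set_option linter.unusedVariables false
set_option linter.unusedSectionVars false
set_option linter.unnecessarySeqFocus false

namespace Cfsg.Agent.Lib.Helper5

open Matrix

variable {F : Type*} [Field F]

/-- A `2 × 2` matrix indexed by `Fin 1 ⊕ Fin 1`. -/
def mk2 (a b c d : F) : Matrix (Fin 1 ⊕ Fin 1) (Fin 1 ⊕ Fin 1) F :=
  Matrix.fromBlocks (Matrix.of fun _ _ => a) (Matrix.of fun _ _ => b) (Matrix.of fun _ _ => c)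
    (Matrix.of fun _ _ => d)

lemma mk2_mul (a b c d a' b' c' d' : F) :
    mk2 a b c d * mk2 a' b' c' d' =
      mk2 (a * a' + b * c') (a * b' + b * d') (c * a' + d * c') (c * b' + d * d') := by
  unfold mk2
  rw [Matrix.fromBlocks_multiply]
  congr 1 <;> (ext i j; simp [Matrix.mul_apply])

lemma mk2_one : mk2 (1:F) 0 0 1 = 1 := by
  unfold mk2
  rw [← Matrix.fromBlocks_one]
  congr 1 <;> (ext i j; simp [Matrix.one_apply, Subsingleton.elim i j])

lemma eq_mk2 (M : Matrix (Fin 1 ⊕ Fin 1) (Fin 1 ⊕ Fin 1) F) :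
    M = mk2 (M (Sum.inl 0) (Sum.inl 0)) (M (Sum.inl 0) (Sum.inr 0))
      (M (Sum.inr 0) (Sum.inl 0)) (M (Sum.inr 0) (Sum.inr 0)) := by
  unfold mk2
  ext i j
  rcases i with i | i <;> rcases j with j | j <;>
    simp [Subsingleton.elim i 0, Subsingleton.elim j 0]

lemma mk2_inj {a b c d a' b' c' d' : F} (h : mk2 a b c d = mk2 a' b' c' d') :
    a = a' ∧ b = b' ∧ c = c' ∧ d = d' := by
  refine ⟨?_, ?_, ?_, ?_⟩
  · simpa [mk2] using congrFun (congrFun h (Sum.inl 0)) (Sum.inl 0)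
  · simpa [mk2] using congrFun (congrFun h (Sum.inl 0)) (Sum.inr 0)
  · simpa [mk2] using congrFun (congrFun h (Sum.inr 0)) (Sum.inl 0)
  · simpa [mk2] using congrFun (congrFun h (Sum.inr 0)) (Sum.inr 0)

lemma quadFormPlus_one (v : Fin 1 ⊕ Fin 1 → F) :
    Cfsg.quadFormPlus 1 F v = v (Sum.inl 0) * v (Sum.inr 0) := by
  simp [Cfsg.quadFormPlus]

lemma quadFormPlus_mk2_mulVec (a b c d : F) (v : Fin 1 ⊕ Fin 1 → F) :
    Cfsg.quadFormPlus 1 F (mk2 a b c d *ᵥ v) =
      (a * v (Sum.inl 0) + b * v (Sum.inr 0)) * (c * v (Sum.inl 0) + d * v (Sum.inr 0)) := by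
  rw [quadFormPlus_one]
  simp [mk2, Matrix.mulVec, dotProduct, Matrix.fromBlocks]

lemma mk2_isometry_iff (a b c d : F) :
    (∀ v, Cfsg.quadFormPlus 1 F (mk2 a b c d *ᵥ v) = Cfsg.quadFormPlus 1 F v) ↔
      a * c = 0 ∧ b * d = 0 ∧ a * d + b * c = 1 := by
  constructor
  · intro h
    have h1 := h (Sum.elim (fun _ => 1) (fun _ => 0))
    have h2 := h (Sum.elim (fun _ => 0) (fun _ => 1))
    have h3 := h (Sum.elim (fun _ => 1) (fun _ => 1))
    rw [quadFormPlus_mk2_mulVec, quadFormPlus_one] at h1 h2 h3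
    simp only [Sum.elim_inl, Sum.elim_inr, mul_one, mul_zero, add_zero, zero_add] at h1 h2 h3
    refine ⟨h1, h2, ?_⟩
    linear_combination h3 - h1 - h2
  · rintro ⟨h1, h2, h3⟩ v
    rw [quadFormPlus_mk2_mulVec, quadFormPlus_one]
    linear_combination (v (Sum.inl 0)) ^ 2 * h1 + (v (Sum.inr 0)) ^ 2 * h2 +
      (v (Sum.inl 0) * v (Sum.inr 0)) * h3



section Dih

variable {n : ℕ} (φ : Multiplicative (ZMod n) ≃* Fˣ)

/-- the parametrisation of `Fˣ` by `ZMod n` -/
def uu (i : ZMod n) : F := ((φ (Multiplicative.ofAdd i) : Fˣ) : F)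

lemma uu_add (i j : ZMod n) : uu φ (i + j) = uu φ i * uu φ j := by
  unfold uu
  rw [ofAdd_add, map_mul, Units.val_mul]

lemma uu_zero : uu φ 0 = 1 := by
  unfold uu
  rw [ofAdd_zero, map_one, Units.val_one]

lemma uu_ne_zero (i : ZMod n) : uu φ i ≠ 0 := Units.ne_zero _

lemma uu_sub (i j : ZMod n) : uu φ (j - i) = uu φ j * (uu φ i)⁻¹ := by
  rw [eq_mul_inv_iff_mul_eq₀ (uu_ne_zero φ i), ← uu_add, sub_add_cancel]

lemma uu_inj {i j : ZMod n} (h : uu φ i = uu φ j) : i = j := by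
  have := φ.injective (Units.ext h)
  exact Multiplicative.ofAdd.injective this

lemma uu_surj {a : F} (ha : a ≠ 0) : ∃ i, uu φ i = a := by
  obtain ⟨x, hx⟩ := φ.surjective (Units.mk0 a ha)
  refine ⟨Multiplicative.toAdd x, ?_⟩
  unfold uu
  rw [ofAdd_toAdd, hx, Units.val_mk0]

/-- the matrix of a dihedral group element -/
def dihMat : DihedralGroup n → Matrix (Fin 1 ⊕ Fin 1) (Fin 1 ⊕ Fin 1) F
  | .r i => mk2 (uu φ i) 0 0 (uu φ i)⁻¹
  | .sr i => mk2 0 (uu φ i)⁻¹ (uu φ i) 0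

/-- the matrix representation of the dihedral group -/
def dihHom : DihedralGroup n →* Matrix (Fin 1 ⊕ Fin 1) (Fin 1 ⊕ Fin 1) F where
  toFun := dihMat φ
  map_one' := by
    rw [DihedralGroup.one_def]
    simp only [dihMat, uu_zero, inv_one]
    exact mk2_one
  map_mul' := by
    rintro (i | i) (j | j)
    · rw [DihedralGroup.r_mul_r]
      simp only [dihMat, mk2_mul, uu_add, mul_inv]
      congr 1 <;> ring
    · rw [DihedralGroup.r_mul_sr]
      simp only [dihMat, mk2_mul, uu_sub, mul_inv, inv_inv]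
      congr 1 <;> ring
    · rw [DihedralGroup.sr_mul_r]
      simp only [dihMat, mk2_mul, uu_add, mul_inv]
      congr 1 <;> ring
    · rw [DihedralGroup.sr_mul_sr]
      simp only [dihMat, mk2_mul, uu_sub, mul_inv, inv_inv]
      congr 1 <;> ring

lemma dihMat_isometry (x : DihedralGroup n) (v : Fin 1 ⊕ Fin 1 → F) :
    Cfsg.quadFormPlus 1 F (dihMat φ x *ᵥ v) = Cfsg.quadFormPlus 1 F v := by
  rcases x with i | i
  · exact (mk2_isometry_iff _ _ _ _).2 ⟨by simp, by simp, by simp [uu_ne_zero]⟩ v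
  · exact (mk2_isometry_iff _ _ _ _).2 ⟨by simp, by simp, by simp [uu_ne_zero]⟩ v

/-- the dihedral group into the isometry group of the hyperbolic plane -/
def dihToIso : DihedralGroup n →* Cfsg.isometryGroup F (Cfsg.quadFormPlus 1 F) :=
  (dihHom φ).toHomUnits.codRestrict _ (fun x u v => dihMat_isometry φ x u)

lemma dihToIso_val (x : DihedralGroup n) : Units.val (dihToIso φ x).1 = dihMat φ x := rfl

lemma dihToIso_injective : Function.Injective (dihToIso φ) := by
  intro x y h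
  have h' : dihMat φ x = dihMat φ y := by
    rw [← dihToIso_val, ← dihToIso_val, h]
  rcases x with i | i <;> rcases y with j | j
  · have := (mk2_inj h').1
    rw [uu_inj φ this]
  · exact absurd (mk2_inj h').1 (uu_ne_zero φ i)
  · exact absurd (mk2_inj h').1.symm (uu_ne_zero φ j)
  · have := (mk2_inj h').2.2.1
    rw [uu_inj φ this]

lemma dihToIso_surjective : Function.Surjective (dihToIso φ) := by
  intro g
  have hg : ∀ v, Cfsg.quadFormPlus 1 F (Units.val g.1 *ᵥ v) = Cfsg.quadFormPlus 1 F v :=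
    fun v => g.2 v v
  rw [eq_mk2 (Units.val g.1)] at hg
  obtain ⟨h1, h2, h3⟩ := (mk2_isometry_iff _ _ _ _).1 hg
  set a := (Units.val g.1) (Sum.inl 0) (Sum.inl 0)
  set b := (Units.val g.1) (Sum.inl 0) (Sum.inr 0)
  set c := (Units.val g.1) (Sum.inr 0) (Sum.inl 0)
  set d := (Units.val g.1) (Sum.inr 0) (Sum.inr 0)
  by_cases ha : a = 0
  · rw [ha, zero_mul, zero_add] at h3
    have hb : b ≠ 0 := left_ne_zero_of_mul_eq_one h3
    have hc : c ≠ 0 := right_ne_zero_of_mul_eq_one h3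
    have hd : d = 0 := by
      rcases mul_eq_zero.1 h2 with h | h
      · exact absurd h hb
      · exact h
    obtain ⟨i, hi⟩ := uu_surj φ hc
    refine ⟨DihedralGroup.sr i, ?_⟩
    apply Subtype.ext
    apply Units.ext
    rw [dihToIso_val, eq_mk2 (Units.val g.1)]
    show mk2 0 (uu φ i)⁻¹ (uu φ i) 0 = mk2 a b c d
    rw [hi, ha, hd, eq_inv_of_mul_eq_one_left h3]
  · have hc : c = 0 := by
      rcases mul_eq_zero.1 h1 with h | h
      · exact absurd h ha
      · exact h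
    rw [hc, mul_zero, add_zero] at h3
    have hd : d ≠ 0 := right_ne_zero_of_mul_eq_one h3
    have hb : b = 0 := by
      rcases mul_eq_zero.1 h2 with h | h
      · exact h
      · exact absurd h hd
    obtain ⟨i, hi⟩ := uu_surj φ ha
    refine ⟨DihedralGroup.r i, ?_⟩
    apply Subtype.ext
    apply Units.ext
    rw [dihToIso_val, eq_mk2 (Units.val g.1)]
    show mk2 (uu φ i) 0 0 (uu φ i)⁻¹ = mk2 a b c d
    rw [hi, hb, hc, eq_inv_of_mul_eq_one_right h3]

end Dih

theorem isometryGroup_plus_one_equiv_dihedral [Fintype F] {q : ℕ} (hF : Fintype.card F = q) :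
    Nonempty (Cfsg.isometryGroup F (Cfsg.quadFormPlus 1 F) ≃* DihedralGroup (q - 1)) := by
  classical
  have hn : Nat.card Fˣ = q - 1 := by
    rw [Nat.card_eq_fintype_card, Fintype.card_units, hF]
  obtain ⟨g, hg⟩ := IsCyclic.exists_generator (α := Fˣ)
  let φ : Multiplicative (ZMod (q - 1)) ≃* Fˣ := zmodMulEquivOfGenerator hg hn
  exact ⟨(MulEquiv.ofBijective (dihToIso φ) ⟨dihToIso_injective φ, dihToIso_surjective φ⟩).symm⟩

end Cfsg.Agent.Lib.Helper5
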