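import Cfsg.Agent.Lib.Helper5.OutPlus
import Cfsg.Agent.Lib.Helper37.POmegaSimpleMain

set_option autoImplicit false
set_option linter.unusedVariables false
set_option linter.unusedSectionVars false
set_option linter.unusedSimpArgs false
set_option linter.style.haveILetI false

/-!
# `PΓO⁺_{2m}(q)` modulo the inner automorphisms, `q` even
-/

namespace Cfsg.Agent.Lib.Helper5.OutPlus

open Matrix
open scoped Classical
open Cfsg.Agent.Lib.Helper37 Cfsg.Agent.Lib.Helper5.AutOrth Cfsg.Agent.Lib.Helper43.OrthField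
  Cfsg.Agent.Lib.Helper43.OrthPair Cfsg.Agent.Lib.Helper5.OutMinus
  Cfsg.Agent.Lib.Helper5.OutExt Cfsg.Agent.Lib.Helper5.PlusAutCard
  Cfsg.Agent.Lib.Helper5.GammaCard Cfsg.Agent.Lib.Helper5.MinusFrobPow
  Cfsg.Agent.Lib.Helper5.OutGen Cfsg.Agent.Lib.Helper8 Cfsg.Agent.Lib.Helper43

universe u

variable {F : Type u} [Field F] [Fintype F] {m : ℕ}

/-- a simple perfect group has trivial centre, so it is isomorphic to its inner automorphism
group -/
theorem card_inn_of_simple {G : Type*} [Group G] [IsSimpleGroup G] (hperf : commutator G = ⊤) :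
    Nat.card (Cfsg.Inn G) = Nat.card G := by
  have hcen : Subgroup.center G = ⊥ := by
    rcases (Subgroup.center G).normal_of_characteristic.eq_bot_or_eq_top with h | h
    · exact h
    · exfalso
      rw [← commutator_eq_bot_iff_center_eq_top, hperf] at h
      exact top_ne_bot h
  have hinj : Function.Injective (MulAut.conj : G →* MulAut G) := by
    rw [injective_iff_map_eq_one]
    intro a ha
    have : a ∈ Subgroup.center G := by
      rw [Subgroup.mem_center_iff]
      intro g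
      have h1 := congrArg (fun φ : MulAut G => φ g) ha
      simp only [MulAut.conj_apply, MulAut.one_apply] at h1
      calc g * a = (a * g * a⁻¹) * a := by rw [h1]
        _ = a * g := by group
    rw [hcen] at this
    exact this
  exact (Nat.card_congr (MonoidHom.ofInjective hinj).toEquiv).symm

theorem pomega_plus_perfect (hm : 4 ≤ m) :
    commutator (Cfsg.POmega F (Cfsg.quadFormPlus m F)) = ⊤ := by
  rw [plusForm_coe]
  have hperf := omega_perfect (plusForm m F) (plusForm_nondegenerate m F)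
    (plus_hypFam F m) (by omega) (Or.inr (by
      rw [Module.finrank_fintype_fun_eq_card]; simp; omega))
  rw [commutator_def] at hperf ⊢
  have h1 := Subgroup.map_commutator (⊤ : Subgroup ↥(Cfsg.Omega F ⇑(plusForm m F))) ⊤
    (QuotientGroup.mk' (Subgroup.center ↥(Cfsg.Omega F ⇑(plusForm m F))))
  rw [hperf, Subgroup.map_top_of_surjective _ (QuotientGroup.mk'_surjective _)] at h1
  exact h1.symm

theorem card_inn_plus (hm : 4 ≤ m) :
    Nat.card (Cfsg.Inn (Cfsg.POmega F (Cfsg.quadFormPlus m F))) =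
      Nat.card (Cfsg.POmega F (Cfsg.quadFormPlus m F)) := by
  haveI : IsSimpleGroup (Cfsg.POmega F (Cfsg.quadFormPlus m F)) := by
    rw [plusForm_coe]
    exact pomega_simple (plusForm m F) (plusForm_nondegenerate m F) (plus_hypFam F m) (by omega)
      (Or.inr (by rw [Module.finrank_fintype_fun_eq_card]; simp; omega))
  exact card_inn_of_simple (pomega_plus_perfect hm)

theorem inn_le_pgo : Cfsg.Inn (Cfsg.POmega F (Cfsg.quadFormPlus m F)) ≤
    Cfsg.pgoAut F (Cfsg.quadFormPlus m F) := by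
  rw [pgoAut_eq, inn_eq]
  exact Subgroup.map_le_range _ _

/-- in characteristic two, `PGO⁺/Inn` has order `2` -/
theorem exists_psi_even {f : ℕ} (hf : 1 ≤ f) (hF : Fintype.card F = 2 ^ f) (hm : 4 ≤ m) :
    ∃ ψ : ↥(Cfsg.pgoAut F (Cfsg.quadFormPlus m F)) →* Multiplicative (ZMod 2),
      Function.Surjective ψ ∧
      ψ.ker = (Cfsg.Inn (Cfsg.POmega F (Cfsg.quadFormPlus m F))).subgroupOf
        (Cfsg.pgoAut F (Cfsg.quadFormPlus m F)) := by
  haveI : Fact (Nat.Prime 2) := ⟨Nat.prime_two⟩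
  have hP : Nat.card ↥(Cfsg.pgoAut F (Cfsg.quadFormPlus m F)) =
      2 * Nat.card (Cfsg.POmega F (Cfsg.quadFormPlus m F)) := by
    rw [pgoAut_eq, card_range_Phi_plus hm, card_GO_plus hm hf hF, if_pos rfl]
  have hIP := inn_le_pgo (F := F) (m := m)
  have hI : Nat.card ↥((Cfsg.Inn (Cfsg.POmega F (Cfsg.quadFormPlus m F))).subgroupOf
      (Cfsg.pgoAut F (Cfsg.quadFormPlus m F))) =
      Nat.card (Cfsg.POmega F (Cfsg.quadFormPlus m F)) := by
    rw [Nat.card_congr (Subgroup.subgroupOfEquivOfLe hIP).toEquiv, card_inn_plus hm]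
  have hfinG : 0 < Nat.card (Cfsg.POmega F (Cfsg.quadFormPlus m F)) := by
    have h := card_GO_plus (F := F) hm hf hF
    rw [if_pos rfl] at h
    have : 0 < Nat.card ↥(Cfsg.isometryGroup F (Cfsg.quadFormPlus m F)) := Nat.card_pos
    omega
  have hq : Nat.card (↥(Cfsg.pgoAut F (Cfsg.quadFormPlus m F)) ⧸
      (Cfsg.Inn (Cfsg.POmega F (Cfsg.quadFormPlus m F))).subgroupOf
        (Cfsg.pgoAut F (Cfsg.quadFormPlus m F))) = 2 := by
    have h := Subgroup.card_eq_card_quotient_mul_card_subgroup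
      ((Cfsg.Inn (Cfsg.POmega F (Cfsg.quadFormPlus m F))).subgroupOf
        (Cfsg.pgoAut F (Cfsg.quadFormPlus m F)))
    rw [hP, hI] at h
    exact (Nat.eq_of_mul_eq_mul_right hfinG h).symm
  have hz : Nat.card (Multiplicative (ZMod 2)) = 2 := by
    show Nat.card (ZMod 2) = 2
    rw [Nat.card_eq_fintype_card, ZMod.card]
  let E := mulEquivOfPrimeCardEq (p := 2) hq hz
  refine ⟨E.toMonoidHom.comp (QuotientGroup.mk' _), ?_, ?_⟩
  · exact E.surjective.comp (QuotientGroup.mk'_surjective _)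
  · ext x
    rw [MonoidHom.mem_ker, MonoidHom.comp_apply]
    rw [show E.toMonoidHom (QuotientGroup.mk' _ x) = 1 ↔ QuotientGroup.mk' _ x = 1 from
      E.map_eq_one_iff]
    rw [QuotientGroup.mk'_apply, QuotientGroup.eq_one_iff]

/-- **`PΓO⁺_{2m}(q)` modulo the inner automorphisms**, `q` even, `m ≥ 4` -/
theorem gamma_mod_inn_even {f : ℕ} (hf : 1 ≤ f) (hF : Fintype.card F = 2 ^ f) (hm : 4 ≤ m) :
    Nonempty (↥(Cfsg.gammaPOmega F (Cfsg.quadFormPlus m F)) ⧸
      (Cfsg.Inn (Cfsg.POmega F (Cfsg.quadFormPlus m F))).subgroupOf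
        (Cfsg.gammaPOmega F (Cfsg.quadFormPlus m F)) ≃*
      Multiplicative (ZMod 2) × Multiplicative (ZMod f)) := by
  haveI : Fact (Nat.Prime 2) := ⟨Nat.prime_two⟩
  haveI : CharP F 2 := charP_of_card_eq_prime_pow hF
  haveI : NeZero f := ⟨by omega⟩
  haveI := gamma_finite (F := F) hm
  obtain ⟨Θ, hΘs, hΘk, hΘφ⟩ := exists_Theta (p := 2) hf hF hm
  obtain ⟨ψ, hψs, hψk⟩ := exists_psi_even hf hF hm
  have hφf : fieldHom m F (frobE 2) ^ f ∈ Cfsg.Inn (Cfsg.POmega F (Cfsg.quadFormPlus m F)) := by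
    rw [fieldHom_frob_pow hF]
    exact Subgroup.one_mem _
  have hIP := inn_le_pgo (F := F) (m := m)
  -- index two
  have hidx : ((Cfsg.Inn (Cfsg.POmega F (Cfsg.quadFormPlus m F))).subgroupOf
      (Cfsg.pgoAut F (Cfsg.quadFormPlus m F))).index = 2 := by
    rw [← hψk, Subgroup.index_ker, MonoidHom.range_eq_top.2 hψs, Subgroup.card_top]
    show Nat.card (ZMod 2) = 2
    rw [Nat.card_eq_fintype_card, ZMod.card]
  refine ext_central_rel _ _ _ hIP pgo_le_gamma Θ hΘs hΘk ψ hψs hψk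
    (fieldHom m F (frobE 2)) (fieldHom_mem_gamma _) hΘφ hφf ?_
  intro x hx
  have hxc : fieldHom m F (frobE 2) * x * (fieldHom m F (frobE 2))⁻¹ ∈
      Cfsg.pgoAut F (Cfsg.quadFormPlus m F) := by
    have hx' := hx
    rw [pgoAut_eq] at hx' ⊢
    obtain ⟨s, rfl⟩ := hx'
    obtain ⟨t, ht1, -, -⟩ := fieldHom_conj_Phi (frobE (F := F) 2) s
    rw [ht1]
    exact ⟨t, rfl⟩
  have h1 := Subgroup.mul_mem_iff_of_index_two hidx
    (a := (⟨_, hxc⟩ : ↥(Cfsg.pgoAut F (Cfsg.quadFormPlus m F))))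
    (b := (⟨x, hx⟩ : ↥(Cfsg.pgoAut F (Cfsg.quadFormPlus m F)))⁻¹)
  rw [Subgroup.mem_subgroupOf, Subgroup.mem_subgroupOf, Subgroup.inv_mem_iff,
    Subgroup.mem_subgroupOf] at h1
  apply h1.2
  show fieldHom m F (frobE 2) * x * (fieldHom m F (frobE 2))⁻¹ ∈ _ ↔ x ∈ _
  constructor
  · intro h
    have := (Cfsg.innNormal _).conj_mem _ h (fieldHom m F (frobE 2))⁻¹
    have e : (fieldHom m F (frobE 2))⁻¹ *
        (fieldHom m F (frobE 2) * x * (fieldHom m F (frobE 2))⁻¹) *
        (fieldHom m F (frobE 2))⁻¹⁻¹ = x := by group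
    rwa [e] at this
  · intro h
    exact (Cfsg.innNormal _).conj_mem _ h _

end Cfsg.Agent.Lib.Helper5.OutPlus
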