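import Cfsg.Agent.Lib.Helper5.Recog
import Cfsg.Agent.Lib.Helper5.OutPlusEven
import Cfsg.Agent.Lib.Helper5.AutOrthD4Inst
import Cfsg.Agent.Lib.Helper43.Tri.Extra

set_option autoImplicit false
set_option linter.unusedVariables false
set_option linter.unusedSectionVars false
set_option linter.unusedSimpArgs false
set_option linter.style.haveILetI false

/-!
# The outer automorphism group of `PΩ⁺₈(q)`
-/

namespace Cfsg.Agent.Lib.Helper5.OutD4

open Matrix
open scoped Classical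
open Cfsg.Agent.Lib.Helper37 Cfsg.Agent.Lib.Helper5.AutOrth Cfsg.Agent.Lib.Helper43.OrthField
  Cfsg.Agent.Lib.Helper43.OrthPair Cfsg.Agent.Lib.Helper5.OutMinus
  Cfsg.Agent.Lib.Helper5.OutExt Cfsg.Agent.Lib.Helper5.PlusAutCard
  Cfsg.Agent.Lib.Helper5.GammaCard Cfsg.Agent.Lib.Helper5.MinusFrobPow
  Cfsg.Agent.Lib.Helper5.OutGen Cfsg.Agent.Lib.Helper5.OutPlus Cfsg.Agent.Lib.Helper5.Recog
  Cfsg.Agent.Lib.Helper43.Tri

universe u

variable {F : Type u} [Field F] [Fintype F]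

/-- my standard field automorphisms are helper43's -/
theorem fieldHom_eq_PhiF (σ : F ≃+* F) :
    fieldHom 4 F σ = PhiF (fieldEquivariant_plus8 (F := F)) σ := by
  ext x
  induction x using QuotientGroup.induction_on with
  | H s =>
    rw [fieldHom_apply, semiAut_mk, PhiF_mk]
    congr 1
    apply omega_ext
    rw [PhiF_mk_val, twAutOmega_val, twGL_val, Units.val_one, inv_one, Units.val_one,
      Matrix.one_mul, Matrix.mul_one]

theorem fieldHom_comm_rho (σ : F ≃+* F) :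
    fieldHom 4 F σ * rho F = rho F * fieldHom 4 F σ := by
  rw [fieldHom_eq_PhiF, rho_PhiF]

theorem fieldHom_comm_kap (σ : F ≃+* F) :
    fieldHom 4 F σ * kap F = kap F * fieldHom 4 F σ := by
  rw [fieldHom_eq_PhiF, kap_PhiF]

theorem index_three : (Cfsg.gammaPOmega F (Cfsg.quadFormPlus 4 F)).index = 3 := by
  have hidx := index_gamma_plus4 F
  exact index_eq_three _ hidx.1 hidx.2 (rho F) (rho_not_mem_gamma F)
    (by rw [rho_pow_three]; exact Subgroup.one_mem _)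

theorem kap_mem_pgo : kap F ∈ Cfsg.pgoAut F (Cfsg.quadFormPlus 4 F) := by
  rw [pgoAut_eq, kap_eq_Phi]
  exact ⟨_, rfl⟩

theorem inn_le_gamma : Cfsg.Inn (Cfsg.POmega F (Cfsg.quadFormPlus 4 F)) ≤
    Cfsg.gammaPOmega F (Cfsg.quadFormPlus 4 F) :=
  inn_le_pgo.trans pgo_le_gamma

theorem rho_not_mem_inn : rho F ∉ Cfsg.Inn (Cfsg.POmega F (Cfsg.quadFormPlus 4 F)) :=
  fun h => rho_not_mem_gamma F (inn_le_gamma h)

/-- `κ` is not inner, since it inverts the non-inner `ρ` of order three -/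
theorem kap_not_mem_inn : kap F ∉ Cfsg.Inn (Cfsg.POmega F (Cfsg.quadFormPlus 4 F)) := by
  intro h
  set I := Cfsg.Inn (Cfsg.POmega F (Cfsg.quadFormPlus 4 F)) with hI
  have h1 : rho F * (kap F)⁻¹ * (rho F)⁻¹ ∈ I :=
    (Cfsg.innNormal _).conj_mem _ (I.inv_mem h) _
  have h2 : kap F * (rho F * (kap F)⁻¹ * (rho F)⁻¹) ∈ I := I.mul_mem h h1
  have h3 : kap F * (rho F * (kap F)⁻¹ * (rho F)⁻¹) = (rho F)⁻¹ * (rho F)⁻¹ := by
    rw [← kap_rho_kap]; group
  rw [h3] at h2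
  have h4 : (rho F)⁻¹ * (rho F)⁻¹ = rho F := by
    have := rho_pow_three F
    rw [pow_succ, pow_succ, pow_one] at this
    calc (rho F)⁻¹ * (rho F)⁻¹ = (rho F)⁻¹ * (rho F)⁻¹ * (rho F * rho F * rho F) := by
          rw [this, mul_one]
      _ = rho F := by group
  rw [h4] at h2
  exact rho_not_mem_inn h2

/-- the order of the outer automorphism group -/
theorem card_out {p f : ℕ} [Fact p.Prime] (hf : 1 ≤ f) (hF : Fintype.card F = p ^ f) :
    Nat.card (Cfsg.Out (Cfsg.POmega F (Cfsg.quadFormPlus 4 F))) =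
      3 * (if p = 2 then 2 else 8) * f := by
  have h1 := card_aut_plus_four hf hF index_three
  have h2 := Subgroup.card_eq_card_quotient_mul_card_subgroup
    (Cfsg.Inn (Cfsg.POmega F (Cfsg.quadFormPlus 4 F)))
  rw [card_inn_plus le_rfl, h1] at h2
  have hev : Even (4 * (p ^ f - 1) / 2) := ⟨p ^ f - 1, by omega⟩
  rw [if_pos hev] at h2
  have hpos : 0 < Nat.card (Cfsg.POmega F (Cfsg.quadFormPlus 4 F)) := by
    have h := card_GO_plus (F := F) (m := 4) le_rfl hf hF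
    have : 0 < Nat.card ↥(Cfsg.isometryGroup F (Cfsg.quadFormPlus 4 F)) := Nat.card_pos
    by_contra h0
    push Not at h0
    have h0' : Nat.card (Cfsg.POmega F (Cfsg.quadFormPlus 4 F)) = 0 := by omega
    rw [h0', mul_zero] at h
    omega
  exact (Nat.eq_of_mul_eq_mul_right hpos h2).symm

/-- the generation argument common to both characteristics -/
theorem gen_of_pgo_le {p f : ℕ} [Fact p.Prime] [CharP F p] (hf : 1 ≤ f)
    (hF : Fintype.card F = p ^ f)
    (Y : Subgroup (MulAut (Cfsg.POmega F (Cfsg.quadFormPlus 4 F))))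
    (hPY : Cfsg.pgoAut F (Cfsg.quadFormPlus 4 F) ≤ Y) (hρY : rho F ∈ Y)
    (hφY : fieldHom 4 F (frobE p) ∈ Y) : Y = ⊤ := by
  haveI : NeZero f := ⟨by omega⟩
  obtain ⟨Θ, hΘs, hΘk, hΘφ⟩ := exists_Theta hf hF (m := 4) le_rfl
  exact gen_top _ _ Y pgo_le_gamma Θ hΘk _ (fieldHom_mem_gamma _) hΘφ index_three (rho F)
    (rho_not_mem_gamma F) hPY hφY hρY

/-- **`Out(PΩ⁺₈(2^f)) ≅ S₃ × C_f`** -/
theorem out_even {f : ℕ} (hf : 1 ≤ f) (hF : Fintype.card F = 2 ^ f) :
    Nonempty (Cfsg.Out (Cfsg.POmega F (Cfsg.quadFormPlus 4 F)) ≃*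
      Equiv.Perm (Fin 3) × Multiplicative (ZMod f)) := by
  haveI : Fact (Nat.Prime 2) := ⟨Nat.prime_two⟩
  haveI : CharP F 2 := charP_of_card_eq_prime_pow hF
  have hcard := card_out (p := 2) hf hF
  rw [if_pos rfl] at hcard
  haveI : Finite (MulAut (Cfsg.POmega F (Cfsg.quadFormPlus 4 F)) ⧸
      Cfsg.Inn (Cfsg.POmega F (Cfsg.quadFormPlus 4 F))) := by
    apply Nat.finite_of_card_ne_zero
    show Nat.card (Cfsg.Out (Cfsg.POmega F (Cfsg.quadFormPlus 4 F))) ≠ 0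
    rw [hcard]
    omega
  obtain ⟨ψ, hψs, hψk⟩ := exists_psi_even hf hF (m := 4) le_rfl
  refine recog3_quot (Cfsg.Inn (Cfsg.POmega F (Cfsg.quadFormPlus 4 F))) (by omega)
    (by rw [show (6 : ℕ) * f = 3 * 2 * f by ring]; exact hcard)
    (rho F) (kap F) (fieldHom 4 F (frobE 2)) (fieldHom_frob_pow hF) (rho_pow_three F)
    kap_mul_kap kap_rho_kap (fieldHom_comm_rho _) (fieldHom_comm_kap _) ?_
  intro Y hIY hρY hκY hφY
  refine gen_of_pgo_le (p := 2) hf hF Y ?_ hρY hφY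
  exact P_le_of_two _ _ Y ψ hψk (kap F) kap_mem_pgo kap_not_mem_inn hIY hκY

end Cfsg.Agent.Lib.Helper5.OutD4
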