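import Cfsg.Agent.Lib.Helper5.OutD4

set_option autoImplicit false
set_option linter.unusedVariables false
set_option linter.unusedSectionVars false
set_option linter.unusedSimpArgs false
set_option linter.style.haveILetI false

/-!
# The outer automorphism group of `PΩ⁺₈(q)`, `q` odd: `S₄ × C_f`
-/

namespace Cfsg.Agent.Lib.Helper5.OutD4

open Matrix
open scoped Classical
open Cfsg.Agent.Lib.Helper37 Cfsg.Agent.Lib.Helper5.AutOrth Cfsg.Agent.Lib.Helper43.OrthField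
  Cfsg.Agent.Lib.Helper43.OrthPair Cfsg.Agent.Lib.Helper5.OutMinus
  Cfsg.Agent.Lib.Helper5.OutExt Cfsg.Agent.Lib.Helper5.PlusAutCard
  Cfsg.Agent.Lib.Helper5.GammaCard Cfsg.Agent.Lib.Helper5.MinusFrobPow
  Cfsg.Agent.Lib.Helper5.OutGen Cfsg.Agent.Lib.Helper5.OutPlus Cfsg.Agent.Lib.Helper5.Recog
  Cfsg.Agent.Lib.Helper43.Tri

universe u

variable {F : Type u} [Field F] [Fintype F]

local notation "InnG" => Cfsg.Inn (Cfsg.POmega F (Cfsg.quadFormPlus 4 F))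

/-- similarities differing by a scalar induce the same automorphism -/
theorem Phi_eq_of_smul
    (x y : ↥(Cfsg.Geo.quadSimilarityGroup (F := F) (Cfsg.quadFormPlus 4 F))) (c : F)
    (h : ((x.1 : GL I8 F) : Matrix I8 I8 F) = c • ((y.1 : GL I8 F) : Matrix I8 I8 F)) :
    Phi (Cfsg.quadFormPlus 4 F) x = Phi (Cfsg.quadFormPlus 4 F) y := by
  rw [← mul_inv_eq_one, ← map_inv, ← map_mul, plus_hker le_rfl]
  refine ⟨c, ?_⟩
  rw [Subgroup.coe_mul, Units.val_mul, h, Subgroup.coe_inv, Matrix.smul_mul, ← Units.val_mul,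
    mul_inv_cancel, Units.val_one]

/-- the hyperbolic form takes every value -/
theorem exists_Q8_eq (c : F) : ∃ a : I8 → F, Cfsg.quadFormPlus 4 F a = c := by
  refine ⟨Pi.single (Sum.inl 0) c + Pi.single (Sum.inr 0) 1, ?_⟩
  simp [Cfsg.quadFormPlus, Fin.sum_univ_four, Pi.single_apply]

section odd

variable (hodd : Odd (Fintype.card F))
include hodd

theorem exists_nonsquare_Q8 : ∃ a : I8 → F, ¬ IsSquare (Cfsg.quadFormPlus 4 F a) := by
  have h2 := two_ne_zero_of_odd_card hodd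
  obtain ⟨α, hα⟩ := FiniteField.exists_nonsquare (ringChar_ne_two_of_two_ne_zero h2) (F := F)
  obtain ⟨a, ha⟩ := exists_Q8_eq α
  exact ⟨a, by rw [ha]; exact hα⟩

/-- elements of `PSO` outside `Inn` multiply into `Inn` -/
theorem mul_mem_inn_of_not_mem
    (x y : MulAut (Cfsg.POmega F (Cfsg.quadFormPlus 4 F)))
    (hx : x ∈ Cfsg.psoAut F (Cfsg.quadFormPlus 4 F))
    (hy : y ∈ Cfsg.psoAut F (Cfsg.quadFormPlus 4 F))
    (hxI : x ∉ Cfsg.Inn (Cfsg.POmega F (Cfsg.quadFormPlus 4 F)))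
    (hyI : y ∉ Cfsg.Inn (Cfsg.POmega F (Cfsg.quadFormPlus 4 F))) :
    x * y ∈ Cfsg.Inn (Cfsg.POmega F (Cfsg.quadFormPlus 4 F)) := by
  have hnot : ¬ (Odd 4 ∧ Fintype.card F % 4 = 3) := by
    rintro ⟨h1, -⟩
    exact absurd h1 (by decide)
  have hSI := (Cfsg.Agent.S2723.result hodd (m := 4) le_rfl).2 hnot
  have h := Subgroup.mul_mem_iff_of_index_two (H := (Cfsg.Inn
    (Cfsg.POmega F (Cfsg.quadFormPlus 4 F))).subgroupOf (Cfsg.psoAut F (Cfsg.quadFormPlus 4 F)))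
    hSI (a := ⟨x, hx⟩) (b := ⟨y, hy⟩)
  rw [Subgroup.mem_subgroupOf, Subgroup.mem_subgroupOf, Subgroup.mem_subgroupOf] at h
  exact h.2 (iff_of_false hxI hyI)

/-- **`Out(PΩ⁺₈(q)) ≅ S₄ × C_f`** for odd `q` -/
theorem out_odd {p f : ℕ} [Fact p.Prime] (hf : 1 ≤ f) (hF : Fintype.card F = p ^ f)
    (hp : p ≠ 2) :
    Nonempty (Cfsg.Out (Cfsg.POmega F (Cfsg.quadFormPlus 4 F)) ≃*
      Equiv.Perm (Fin 4) × Multiplicative (ZMod f)) := by
  haveI : CharP F p := charP_of_card_eq_prime_pow hF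
  have h2 := two_ne_zero_of_odd_card hodd
  have hcard := card_out hf hF
  rw [if_neg hp] at hcard
  haveI : Finite (MulAut (Cfsg.POmega F (Cfsg.quadFormPlus 4 F)) ⧸
      Cfsg.Inn (Cfsg.POmega F (Cfsg.quadFormPlus 4 F))) := by
    apply Nat.finite_of_card_ne_zero
    show Nat.card (Cfsg.Out (Cfsg.POmega F (Cfsg.quadFormPlus 4 F))) ≠ 0
    rw [hcard]
    omega
  have hG := plus_isGram h2 4
  have hdet := gramP_det_ne_zero (F := F) 4
  have hne := plus_hne (F := F) (m := 4) (by omega)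
  have hN := plus_card_two_mul 4
  have hker := plus_hker (F := F) (m := 4) le_rfl
  have hnot : ¬ (Odd 4 ∧ Fintype.card F % 4 = 3) := by
    rintro ⟨h1, -⟩
    exact absurd h1 (by decide)
  obtain ⟨ψ, hψs, hψk⟩ := (Cfsg.Agent.S2724.result hodd (m := 4) le_rfl).2 hnot
  have hIS : Cfsg.Inn (Cfsg.POmega F (Cfsg.quadFormPlus 4 F)) ≤
      Cfsg.psoAut F (Cfsg.quadFormPlus 4 F) := inn_le_psoAut hG hdet
  -- the octonion of non-square norm
  obtain ⟨a, hasq⟩ := exists_nonsquare_Q8 hodd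
  have ha : Cfsg.quadFormPlus 4 F a ≠ 0 := by
    intro h0
    apply hasq
    rw [h0]
    exact ⟨0, by ring⟩
  have hca : Cfsg.quadFormPlus 4 F (cj a) ≠ 0 := by rw [Q_cj]; exact ha
  obtain ⟨gLR, hgLR⟩ : ∃ g : ↥(Cfsg.Geo.quadSimilarityGroup (F := F) (Cfsg.quadFormPlus 4 F)),
      g = ⟨Lg a ha * Rg a ha, Subgroup.mul_mem _ (Lg_mem a ha) (Rg_mem a ha)⟩ := ⟨_, rfl⟩
  obtain ⟨gR, hgR⟩ : ∃ g : ↥(Cfsg.Geo.quadSimilarityGroup (F := F) (Cfsg.quadFormPlus 4 F)),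
      g = ⟨Rg (cj a) hca, Rg_mem _ _⟩ := ⟨_, rfl⟩
  obtain ⟨gK, hgK⟩ : ∃ g : ↥(Cfsg.Geo.quadSimilarityGroup (F := F) (Cfsg.quadFormPlus 4 F)),
      g = ⟨Kg, Kg_mem_GO8⟩ := ⟨_, rfl⟩
  have hgLRv : (gLR : GL I8 F) = Lg a ha * Rg a ha := by rw [hgLR]
  have hgRv : (gR : GL I8 F) = Rg (cj a) hca := by rw [hgR]
  have hgKv : (gK : GL I8 F) = Kg := by rw [hgK]
  obtain ⟨z, hz⟩ : ∃ z, z = Phi (Cfsg.quadFormPlus 4 F) gLR := ⟨_, rfl⟩
  obtain ⟨z₁, hz₁⟩ : ∃ z₁, z₁ = Phi (Cfsg.quadFormPlus 4 F) gR := ⟨_, rfl⟩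
  have hκ : kap F = Phi (Cfsg.quadFormPlus 4 F) gK := by rw [hgK]; exact kap_eq_Phi
  -- `ρ z ρ⁻¹ = z₁`
  have hρz : rho F * z * (rho F)⁻¹ = z₁ := by
    have h : rho F * Phi (Cfsg.quadFormPlus 4 F) gLR =
        Phi (Cfsg.quadFormPlus 4 F) gR * rho F := by
      rw [hgLR, hgR]; exact rho_Phi_moufang a ha
    rw [hz, hz₁, h]
    group
  -- `z z₁ = κ z₁ κ⁻¹`
  have hE : z * z₁ = kap F * z₁ * (kap F)⁻¹ := by
    rw [hκ, hz, hz₁, ← map_mul, ← map_inv, ← map_mul, ← map_mul]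
    apply Phi_eq_of_smul _ _ (Cfsg.quadFormPlus 4 F a)
    have e1 : ((gK * gR * gK⁻¹ : ↥(Cfsg.Geo.quadSimilarityGroup (F := F)
        (Cfsg.quadFormPlus 4 F))) : GL I8 F) = Lg a ha := by
      rw [Subgroup.coe_mul, Subgroup.coe_mul, Subgroup.coe_inv, hgKv, hgRv, ← hatG_eq,
        ← hatG_Lg a ha, hatG_hatG]
    rw [e1, Subgroup.coe_mul, hgLRv, hgRv]
    rw [Units.val_mul, Units.val_mul, Lg_val, Rg_val, Rg_val, Matrix.mul_assoc, RM_mul_cj,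
      Matrix.mul_smul, Matrix.mul_one]
  -- `z₁ ∉ PSO`
  have hz₁S : z₁ ∉ Cfsg.psoAut F (Cfsg.quadFormPlus 4 F) := by
    intro hmem
    rw [hz₁] at hmem
    have h1 := simPsi_of_Phi_mem_pso_gen hG hdet hne hN hker gR hmem
    rw [simPsi_eq_one_iff] at h1
    have h3 : simMult (Cfsg.quadFormPlus 4 F) gR = Units.mk0 _ ha := by
      apply simMult_unique hne
      intro v
      rw [hgRv, Q_Rg, Q_cj]
      rfl
    rw [h3] at h1
    exact hasq h1.1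
  have hz₁P : z₁ ∈ Cfsg.pgoAut F (Cfsg.quadFormPlus 4 F) := by
    rw [pgoAut_eq, hz₁]; exact ⟨_, rfl⟩
  have hzP : z ∈ Cfsg.pgoAut F (Cfsg.quadFormPlus 4 F) := by
    rw [pgoAut_eq, hz]; exact ⟨_, rfl⟩
  -- `z ∈ PSO`, as a commutator
  have hzcomm : z = kap F * z₁ * (kap F)⁻¹ * z₁⁻¹ := by
    rw [← hE]; group
  have hzS : z ∈ Cfsg.psoAut F (Cfsg.quadFormPlus 4 F) := by
    rw [hzcomm, hκ, hz₁, ← map_inv, ← map_inv, ← map_mul, ← map_mul, ← map_mul]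
    apply Phi_mem_pso_of_simPsi_gen hG hdet hne hN hker
    simp only [map_mul, map_inv]
    rw [mul_inv_cancel_comm, mul_inv_cancel]
  have hInorm : ∀ (x y : MulAut (Cfsg.POmega F (Cfsg.quadFormPlus 4 F))), y ∈ InnG →
      x * y * x⁻¹ ∈ InnG := fun x y hy => (Cfsg.innNormal _).conj_mem y hy x
  have hzI : z ∉ InnG := by
    intro h
    apply hz₁S
    rw [← hρz]
    exact hIS (hInorm _ _ h)
  have hzinvS : z⁻¹ ∈ Cfsg.psoAut F (Cfsg.quadFormPlus 4 F) := Subgroup.inv_mem _ hzS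
  have hzinvI : z⁻¹ ∉ InnG := fun h => hzI (by simpa using Subgroup.inv_mem _ h)
  have hconjI : ∀ x : MulAut (Cfsg.POmega F (Cfsg.quadFormPlus 4 F)), x * z * x⁻¹ ∉ InnG := by
    intro x h
    apply hzI
    have := hInorm x⁻¹ _ h
    have e : x⁻¹ * (x * z * x⁻¹) * x⁻¹⁻¹ = z := by group
    rwa [e] at this
  refine recog4_quot InnG (by omega) (by rw [show (24 : ℕ) * f = 3 * 8 * f by ring]; exact hcard)
    z (rho F) (kap F) (fieldHom 4 F (frobE p)) (fieldHom_frob_pow hF) (rho_pow_three F)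
    kap_mul_kap kap_rho_kap (fieldHom_comm_rho _) (fieldHom_comm_kap _) ?_ ?_ ?_ ?_ ?_
  · exact mul_mem_inn_of_not_mem hodd z z hzS hzS hzI hzI
  · exact mul_mem_inn_of_not_mem hodd _ _ (pso_normal hodd le_rfl _ kap_mem_pgo _ hzS) hzinvS
      (hconjI _) hzinvI
  · have h1 := comm_mem_pso hodd (m := 4) le_rfl (frobE p) z hzP
    have h3 : fieldHom 4 F (frobE p) * z * (fieldHom 4 F (frobE p))⁻¹ ∈
        Cfsg.psoAut F (Cfsg.quadFormPlus 4 F) := by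
      have := Subgroup.mul_mem _ h1 hzS
      have e : fieldHom 4 F (frobE p) * z * (fieldHom 4 F (frobE p))⁻¹ * z⁻¹ * z =
          fieldHom 4 F (frobE p) * z * (fieldHom 4 F (frobE p))⁻¹ := by group
      rwa [e] at this
    exact mul_mem_inn_of_not_mem hodd _ _ h3 hzinvS (hconjI _) hzinvI
  · rw [hρz]; exact hE
  · intro Y hIY hzY hρY hκY hφY
    refine gen_of_pgo_le hf hF Y ?_ hρY hφY
    have hz₁Y : z₁ ∈ Y := by
      rw [← hρz]
      exact Y.mul_mem (Y.mul_mem hρY hzY) (Y.inv_mem hρY)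
    refine P_le_of_d4 InnG _ Y ψ hψk (kap F) z₁ kap_mem_pgo hz₁P ?_ hIY hκY hz₁Y
    rw [← hzcomm]
    exact hzI

end odd

end Cfsg.Agent.Lib.Helper5.OutD4
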