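import Mathlib

set_option autoImplicit false
set_option linter.unusedVariables false
set_option linter.unusedSectionVars false

/-!
# Abstract extension lemmas used for outer automorphism groups

* `zmodHom n c hc` : the homomorphism `Multiplicative (ZMod n) →* G` sending the generator to `c`.
* `dihedral4_aut_odd` : an automorphism of odd order of the dihedral group of order 8 is trivial.
* `ext_dihedral` : `A/I ≅ D₈ × C_f` for `f` odd.
* `ext_klein` : `A/I ≅ C₂ × C_{2f}`.
-/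

namespace Cfsg.Agent.Lib.Helper5.OutExt

open Function

section zmodHom

variable {G : Type*} [Group G]

/-- the homomorphism from the cyclic group of order `n` sending the generator to `c` -/
noncomputable def zmodHom (n : ℕ) (c : G) (hc : c ^ n = 1) : Multiplicative (ZMod n) →* G :=
  AddMonoidHom.toMultiplicativeLeft
    (ZMod.lift n ⟨zmultiplesHom (Additive G) (Additive.ofMul c), by
      show (n : ℤ) • Additive.ofMul c = 0
      rw [natCast_zsmul]
      exact congrArg Additive.ofMul hc⟩)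

theorem zmodHom_intCast (n : ℕ) (c : G) (hc : c ^ n = 1) (j : ℤ) :
    zmodHom n c hc (Multiplicative.ofAdd (j : ZMod n)) = c ^ j := by
  unfold zmodHom
  show Additive.toMul (ZMod.lift n _ (j : ZMod n)) = c ^ j
  rw [ZMod.lift_coe]
  show Additive.toMul (j • Additive.ofMul c) = c ^ j
  rfl

theorem zmodHom_apply (n : ℕ) (c : G) (hc : c ^ n = 1) (x : Multiplicative (ZMod n)) :
    ∃ j : ℤ, x = Multiplicative.ofAdd (j : ZMod n) ∧ zmodHom n c hc x = c ^ j := by
  obtain ⟨j, hj⟩ := ZMod.intCast_surjective (Multiplicative.toAdd x)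
  refine ⟨j, ?_, ?_⟩
  · rw [hj]; rfl
  · have : x = Multiplicative.ofAdd (j : ZMod n) := by rw [hj]; rfl
    rw [this, zmodHom_intCast]

end zmodHom

section dihedral

open DihedralGroup

/-- elements of order four of the dihedral group of order eight -/
theorem d4_order_four (x : DihedralGroup 4) (hx : orderOf x = 4) : x = r 1 ∨ x = r 3 := by
  rcases x with i | i
  · have h2 : (r i : DihedralGroup 4) ^ 2 ≠ 1 := by
      intro h
      have := orderOf_dvd_of_pow_eq_one h
      rw [hx] at this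
      omega
    revert h2
    fin_cases i
    · intro h2; exact absurd (by decide) h2
    · intro _; left; rfl
    · intro h2; exact absurd (by decide) h2
    · intro _; right; rfl
  · rw [orderOf_sr] at hx
    omega

/-- an automorphism of odd order of the dihedral group of order eight is trivial -/
theorem dihedral4_aut_odd (φ : MulAut (DihedralGroup 4)) (k : ℕ) (hk : Odd k) (hφ : φ ^ k = 1) :
    φ = 1 := by
  -- `φ²` fixes `r 1`
  have hr1 : orderOf (φ (r 1)) = 4 := by
    have := orderOf_injective φ.toMonoidHom φ.injective (r 1 : DihedralGroup 4)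
    rw [orderOf_r_one] at this
    exact this
  have h2 : (φ ^ 2) (r 1) = r 1 := by
    show φ (φ (r 1)) = r 1
    rcases d4_order_four _ hr1 with h | h
    · rw [h, h]
    · rw [h]
      have : (r 3 : DihedralGroup 4) = (r 1) ^ 3 := by decide
      rw [this, map_pow, h]
      decide
  obtain ⟨j, rfl⟩ := hk
  have hφ' : φ = (φ ^ 2) ^ (j + 1) * (φ ^ (2 * j + 1))⁻¹ := by
    rw [← pow_mul, eq_mul_inv_iff_mul_eq, ← pow_succ']
    congr 1
  have hpow : ∀ n : ℕ, ((φ ^ 2) ^ n) (r 1) = r 1 := by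
    intro n
    induction n with
    | zero => rfl
    | succ n ih =>
      rw [pow_succ]
      show ((φ ^ 2) ^ n) ((φ ^ 2) (r 1)) = r 1
      rw [h2, ih]
  have hr : φ (r 1) = r 1 := by
    rw [hφ'] at hr1 ⊢
    rw [hφ, inv_one, mul_one]
    exact hpow _
  -- `φ` fixes all rotations
  have hrot : ∀ i : ZMod 4, φ (r i) = r i := by
    intro i
    have : (r i : DihedralGroup 4) = (r 1) ^ (i.val) := by
      rw [r_one_pow]
      congr 1
      exact (ZMod.natCast_zmod_val i).symm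
    rw [this, map_pow, hr]
  -- `φ (sr 0)` is a reflection
  obtain ⟨i, hi⟩ : ∃ i : ZMod 4, φ (sr 0) = sr i := by
    rcases h : φ (sr 0) with i | i
    · exfalso
      have : φ (sr 0) = φ (r i) := by rw [h, hrot]
      have := φ.injective this
      exact absurd this (by simp)
    · exact ⟨i, rfl⟩
  have hsr : ∀ n : ℕ, (φ ^ n) (sr 0) = sr ((n : ZMod 4) * i) := by
    intro n
    induction n with
    | zero => simp
    | succ n ih =>
      rw [pow_succ']
      show φ ((φ ^ n) (sr 0)) = _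
      rw [ih]
      have : (sr ((n : ZMod 4) * i) : DihedralGroup 4) = sr 0 * r ((n : ZMod 4) * i) := by
        simp
      rw [this, map_mul, hi, hrot]
      simp only [sr_mul_r]
      congr 1
      push_cast
      ring
  have hi0 : i = 0 := by
    have h1 := hsr (2 * j + 1)
    rw [hφ] at h1
    have h3 : ((2 * j + 1 : ℕ) : ZMod 4) * i = 0 := by
      have : (sr 0 : DihedralGroup 4) = sr (((2 * j + 1 : ℕ) : ZMod 4) * i) := h1
      exact (sr.inj this).symm
    have hu : IsUnit ((2 * j + 1 : ℕ) : ZMod 4) := by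
      rw [ZMod.isUnit_iff_coprime]
      have : Nat.Coprime (2 * j + 1) 2 := by
        rw [Nat.coprime_comm, Nat.Prime.coprime_iff_not_dvd Nat.prime_two]
        omega
      exact Nat.Coprime.pow_right 2 this
    exact (hu.mul_right_eq_zero).1 h3
  ext x
  rcases x with a | a
  · rw [hrot]; rfl
  · have : (sr a : DihedralGroup 4) = sr 0 * r a := by simp
    rw [this, map_mul, hi, hi0, hrot]
    rfl

end dihedral

section ext

variable {A : Type*} [Group A] [Finite A]

/-- the order of `A/I` in the common setting -/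
theorem card_quot (I P : Subgroup A) [I.Normal] (hIP : I ≤ P) {f : ℕ} [NeZero f]
    (Θ : A →* Multiplicative (ZMod f)) (hΘs : Surjective Θ) (hΘk : Θ.ker = P)
    {D : Type*} [Group D] [Finite D] (ψ : ↥P →* D) (hψs : Surjective ψ)
    (hψk : ψ.ker = I.subgroupOf P) : Nat.card (A ⧸ I) = Nat.card D * f := by
  have h1 : Nat.card A = Nat.card (A ⧸ I) * Nat.card ↥I :=
    Subgroup.card_eq_card_quotient_mul_card_subgroup I
  have h2 : Nat.card ↥P * f = Nat.card A := by
    have h := Subgroup.card_mul_index Θ.ker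
    rw [Subgroup.index_ker, MonoidHom.range_eq_top.2 hΘs, hΘk] at h
    rw [← h]
    congr 1
    rw [Nat.card_congr (Subgroup.topEquiv (G := Multiplicative (ZMod f))).toEquiv]
    show f = Nat.card (ZMod f)
    rw [Nat.card_eq_fintype_card, ZMod.card]
  have h3 : Nat.card ↥P = Nat.card ↥I * Nat.card D := by
    have h := Subgroup.card_mul_index ψ.ker
    rw [Subgroup.index_ker, MonoidHom.range_eq_top.2 hψs, hψk] at h
    rw [← h]
    congr 1
    · exact Nat.card_congr (Subgroup.subgroupOfEquivOfLe hIP).toEquiv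
    · exact (Nat.card_congr (Subgroup.topEquiv (G := D)).toEquiv)
  have hI : 0 < Nat.card ↥I := Nat.card_pos
  have : Nat.card (A ⧸ I) * Nat.card ↥I = (Nat.card D * f) * Nat.card ↥I := by
    rw [← h1, ← h2, h3]; ring
  exact Nat.eq_of_mul_eq_mul_right hI this

/-- the embedding of `D ≅ P/I` into `A/I` -/
theorem exists_embed (I P : Subgroup A) [I.Normal] (hIP : I ≤ P)
    {D : Type*} [Group D] (ψ : ↥P →* D) (hψs : Surjective ψ)
    (hψk : ψ.ker = I.subgroupOf P) :
    ∃ ι : D →* A ⧸ I, Injective ι ∧ ∀ x : ↥P, ι (ψ x) = QuotientGroup.mk' I (x : A) := by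
  have hl : ∀ x : ↥P, x ∈ ψ.ker → x ∈ ((QuotientGroup.mk' I).comp P.subtype).ker := by
    intro x hx
    rw [hψk, Subgroup.mem_subgroupOf] at hx
    rw [MonoidHom.mem_ker]
    show QuotientGroup.mk' I (x : A) = 1
    rw [QuotientGroup.mk'_apply, QuotientGroup.eq_one_iff]
    exact hx
  let j : ↥P ⧸ ψ.ker →* A ⧸ I :=
    QuotientGroup.lift ψ.ker ((QuotientGroup.mk' I).comp P.subtype) hl
  let eD : ↥P ⧸ ψ.ker ≃* D := QuotientGroup.quotientKerEquivOfSurjective ψ hψs
  refine ⟨j.comp eD.symm.toMonoidHom, ?_, ?_⟩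
  · have hj : Injective j := by
      rw [injective_iff_map_eq_one]
      intro y hy
      obtain ⟨x, rfl⟩ := QuotientGroup.mk_surjective y
      have h1 : QuotientGroup.mk' I (x : A) = 1 := hy
      rw [QuotientGroup.mk'_apply, QuotientGroup.eq_one_iff] at h1
      rw [QuotientGroup.eq_one_iff, hψk, Subgroup.mem_subgroupOf]
      exact h1
    exact hj.comp eD.symm.injective
  · intro x
    have : eD.symm (ψ x) = QuotientGroup.mk x := by
      rw [MulEquiv.symm_apply_eq]
      rfl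
    show j (eD.symm (ψ x)) = _
    rw [this]
    rfl

/-- the homomorphism induced by `Θ` on `A/I` -/
theorem exists_bar (I P : Subgroup A) [I.Normal] (hIP : I ≤ P) {f : ℕ}
    (Θ : A →* Multiplicative (ZMod f)) (hΘk : Θ.ker = P) :
    ∃ Θb : A ⧸ I →* Multiplicative (ZMod f), ∀ a : A, Θb (QuotientGroup.mk' I a) = Θ a := by
  refine ⟨QuotientGroup.lift I Θ ?_, fun a => rfl⟩
  intro x hx
  rw [hΘk]
  exact hIP hx

theorem d4_pow_eight (d : DihedralGroup 4) : d ^ 8 = 1 := by
  revert d; decide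

/-- `A/I ≅ D₈ × C_f` for odd `f` -/
theorem ext_dihedral (I P : Subgroup A) [I.Normal] (hIP : I ≤ P) {f : ℕ} [NeZero f]
    (hf : Odd f)
    (Θ : A →* Multiplicative (ZMod f)) (hΘs : Surjective Θ) (hΘk : Θ.ker = P)
    (ψ : ↥P →* DihedralGroup 4) (hψs : Surjective ψ) (hψk : ψ.ker = I.subgroupOf P) :
    Nonempty (A ⧸ I ≃* DihedralGroup 4 × Multiplicative (ZMod f)) := by
  classical
  have hcard := card_quot I P hIP Θ hΘs hΘk ψ hψs hψk
  obtain ⟨ι, hιi, hι⟩ := exists_embed I P hIP ψ hψs hψk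
  obtain ⟨Θb, hΘb⟩ := exists_bar I P hIP Θ hΘk
  have hPn : P.Normal := hΘk ▸ Θ.normal_ker
  obtain ⟨c0, hc0⟩ := hΘs (Multiplicative.ofAdd (1 : ZMod f))
  have hΘι : ∀ d, Θb (ι d) = 1 := by
    intro d
    obtain ⟨x, rfl⟩ := hψs d
    rw [hι, hΘb]
    have : (x : A) ∈ Θ.ker := hΘk ▸ x.2
    exact this
  -- the element `c`
  obtain ⟨c, hcdef⟩ : ∃ c : A ⧸ I, c = (QuotientGroup.mk' I c0) ^ 8 := ⟨_, rfl⟩
  have hc0f : c0 ^ f ∈ P := by
    rw [← hΘk, MonoidHom.mem_ker, map_pow, hc0, ← ofAdd_nsmul]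
    simp
  have hcf : c ^ f = 1 := by
    rw [hcdef, ← pow_mul, mul_comm, pow_mul, ← map_pow]
    have := hι ⟨c0 ^ f, hc0f⟩
    rw [← this, ← map_pow, d4_pow_eight, map_one]
  have hΘc : Θb c = Multiplicative.ofAdd (8 : ZMod f) := by
    rw [hcdef, map_pow, hΘb, hc0, ← ofAdd_nsmul]
    simp
  -- the range of `ι` is normal
  have hrange : ι.range = P.map (QuotientGroup.mk' I) := by
    ext y
    constructor
    · rintro ⟨d, rfl⟩
      obtain ⟨x, rfl⟩ := hψs d
      exact ⟨x, x.2, (hι x).symm⟩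
    · rintro ⟨x, hx, rfl⟩
      exact ⟨ψ ⟨x, hx⟩, hι ⟨x, hx⟩⟩
  have hN : ι.range.Normal := by
    rw [hrange]
    exact Subgroup.Normal.map hPn _ (QuotientGroup.mk'_surjective I)
  -- `c` centralises the range of `ι`
  let eN : DihedralGroup 4 ≃* ↥ι.range := MonoidHom.ofInjective hιi
  let K : A ⧸ I →* MulAut (DihedralGroup 4) :=
    (MulAut.congr eN.symm).toMonoidHom.comp (MulAut.conjNormal (H := ι.range))
  have hK : K c = 1 := by
    apply dihedral4_aut_odd _ f hf
    rw [← map_pow, hcf, map_one]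
  have hcomm : ∀ d, Commute (ι d) c := by
    intro d
    have h1 : K c d = d := by rw [hK]; rfl
    have h2 : K c d = eN.symm (MulAut.conjNormal (H := ι.range) c (eN d)) := rfl
    rw [h2, MulEquiv.symm_apply_eq] at h1
    have h3 := congrArg Subtype.val h1
    rw [MulAut.conjNormal_apply] at h3
    have h4 : ((eN d : ↥ι.range) : A ⧸ I) = ι d := rfl
    rw [h4] at h3
    show ι d * c = c * ι d
    nth_rewrite 1 [← h3]
    group
  let Φ : DihedralGroup 4 × Multiplicative (ZMod f) →* A ⧸ I :=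
    MonoidHom.noncommCoprod ι (zmodHom f c hcf) (by
      intro d x
      obtain ⟨j, -, hj⟩ := zmodHom_apply f c hcf x
      rw [hj]
      exact (hcomm d).zpow_right j)
  have hΦi : Injective Φ := by
    rw [injective_iff_map_eq_one]
    rintro ⟨d, x⟩ hdx
    have h1 : ι d * zmodHom f c hcf x = 1 := hdx
    obtain ⟨j, hxj, hj⟩ := zmodHom_apply f c hcf x
    rw [hj] at h1
    have h2 := congrArg Θb h1
    rw [map_mul, hΘι, one_mul, map_zpow, hΘc, map_one, ← ofAdd_zsmul] at h2
    have h3 : (j : ZMod f) * 8 = 0 := by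
      have : j • (8 : ZMod f) = 0 := h2
      rwa [zsmul_eq_mul] at this
    have hu : IsUnit (8 : ZMod f) := by
      have : (8 : ZMod f) = ((8 : ℕ) : ZMod f) := by norm_num
      rw [this, ZMod.isUnit_iff_coprime]
      have h2f : Nat.Coprime 2 f := by
        rw [Nat.Prime.coprime_iff_not_dvd Nat.prime_two]
        obtain ⟨k, rfl⟩ := hf
        omega
      exact Nat.Coprime.pow_left 3 h2f
    have h4 : (j : ZMod f) = 0 := (hu.mul_left_eq_zero).1 h3
    have hx1 : x = 1 := by rw [hxj, h4]; rfl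
    have hcj : c ^ j = 1 := by
      rw [← zmodHom_intCast f c hcf j, h4]
      exact map_one _
    rw [hcj, mul_one] at h1
    have hd1 : d = 1 := hιi (by rw [h1, map_one])
    rw [hd1, hx1]
    rfl
  have hbij : Bijective Φ := by
    rw [Nat.bijective_iff_injective_and_card]
    refine ⟨hΦi, ?_⟩
    rw [hcard, Nat.card_prod]
    congr 1
    show Nat.card (ZMod f) = f
    rw [Nat.card_eq_fintype_card, ZMod.card]
  exact ⟨(MulEquiv.ofBijective Φ hbij).symm⟩

/-- facts on the Klein four-group -/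
theorem k4_sq (d : Multiplicative (ZMod 2 × ZMod 2)) : d * d = 1 := by
  revert d; decide

theorem k4_exists_third (d0 : Multiplicative (ZMod 2 × ZMod 2)) :
    ∃ d1 : Multiplicative (ZMod 2 × ZMod 2), d1 ≠ 1 ∧ d1 ≠ d0 := by
  revert d0; decide

theorem zpow_of_sq {G : Type*} [Group G] (d : G) (hd : d * d = 1) (i : ℤ) :
    (d ^ i = 1 ∧ Even i) ∨ (d ^ i = d ∧ Odd i) := by
  rcases Int.even_or_odd i with ⟨k, rfl⟩ | ⟨k, rfl⟩
  · left
    refine ⟨?_, ⟨k, rfl⟩⟩
    rw [← two_mul, zpow_mul, zpow_two, hd, one_zpow]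
  · right
    refine ⟨?_, ⟨k, rfl⟩⟩
    rw [zpow_add, zpow_one, zpow_mul, zpow_two, hd, one_zpow, one_mul]

/-- `A/I ≅ C₂ × C_{2f}` -/
theorem ext_klein (I P : Subgroup A) [I.Normal] (hIP : I ≤ P) {f : ℕ} [NeZero f]
    (Θ : A →* Multiplicative (ZMod f)) (hΘs : Surjective Θ) (hΘk : Θ.ker = P)
    (ψ : ↥P →* Multiplicative (ZMod 2 × ZMod 2)) (hψs : Surjective ψ)
    (hψk : ψ.ker = I.subgroupOf P)
    (hcen : ∀ a : A, ∀ x ∈ P, a * x * a⁻¹ * x⁻¹ ∈ I)
    (c0 : A) (hc0 : Θ c0 = Multiplicative.ofAdd (1 : ZMod f)) (hc0I : c0 ^ f ∉ I) :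
    Nonempty (A ⧸ I ≃* Multiplicative (ZMod 2 × ZMod (2 * f))) := by
  classical
  have hf0 : f ≠ 0 := NeZero.ne f
  have : NeZero (2 * f) := ⟨by omega⟩
  have hcard := card_quot I P hIP Θ hΘs hΘk ψ hψs hψk
  obtain ⟨ι, hιi, hι⟩ := exists_embed I P hIP ψ hψs hψk
  obtain ⟨Θb, hΘb⟩ := exists_bar I P hIP Θ hΘk
  have hΘι : ∀ d, Θb (ι d) = 1 := by
    intro d
    obtain ⟨x, rfl⟩ := hψs d
    rw [hι, hΘb]
    have : (x : A) ∈ Θ.ker := hΘk ▸ x.2
    exact this
  obtain ⟨c, hcdef⟩ : ∃ c : A ⧸ I, c = QuotientGroup.mk' I c0 := ⟨_, rfl⟩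
  have hc0f : c0 ^ f ∈ P := by
    rw [← hΘk, MonoidHom.mem_ker, map_pow, hc0, ← ofAdd_nsmul]
    simp
  obtain ⟨d0, hd0def⟩ : ∃ d0, d0 = ψ ⟨c0 ^ f, hc0f⟩ := ⟨_, rfl⟩
  have hcf : c ^ f = ι d0 := by
    rw [hcdef, ← map_pow, hd0def, hι]
  have hd0 : d0 ≠ 1 := by
    intro h
    have h1 : (⟨c0 ^ f, hc0f⟩ : ↥P) ∈ ψ.ker := by rw [MonoidHom.mem_ker, ← hd0def, h]
    rw [hψk, Subgroup.mem_subgroupOf] at h1
    exact hc0I h1
  have hc2f : c ^ (2 * f) = 1 := by
    rw [mul_comm, pow_mul, hcf, pow_two, ← map_mul, k4_sq, map_one]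
  have hΘc : Θb c = Multiplicative.ofAdd (1 : ZMod f) := by
    rw [hcdef, hΘb, hc0]
  obtain ⟨d1, hd11, hd10⟩ := k4_exists_third d0
  -- centrality
  have hcomm : ∀ d, ∀ y : A ⧸ I, Commute (ι d) y := by
    intro d y
    obtain ⟨x, rfl⟩ := hψs d
    obtain ⟨a, rfl⟩ := QuotientGroup.mk'_surjective I y
    rw [hι]
    have h := hcen a x x.2
    have h1 : QuotientGroup.mk' I (a * x * a⁻¹ * (x : A)⁻¹) = 1 := by
      rw [QuotientGroup.mk'_apply, QuotientGroup.eq_one_iff]; exact h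
    rw [map_mul, map_mul, map_mul, map_inv, map_inv, mul_inv_eq_one, mul_inv_eq_iff_eq_mul] at h1
    exact h1.symm
  have hdd : ι d1 ^ 2 = 1 := by rw [pow_two, ← map_mul, k4_sq, map_one]
  let Φ : Multiplicative (ZMod 2) × Multiplicative (ZMod (2 * f)) →* A ⧸ I :=
    MonoidHom.noncommCoprod (zmodHom 2 (ι d1) hdd) (zmodHom (2 * f) c hc2f) (by
      intro x y
      obtain ⟨i, -, hi⟩ := zmodHom_apply 2 (ι d1) hdd x
      rw [hi, ← map_zpow]
      exact hcomm _ _)
  have hΦi : Injective Φ := by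
    rw [injective_iff_map_eq_one]
    rintro ⟨x, y⟩ hxy
    have h1 : zmodHom 2 (ι d1) hdd x * zmodHom (2 * f) c hc2f y = 1 := hxy
    obtain ⟨i, hxi, hi⟩ := zmodHom_apply 2 (ι d1) hdd x
    obtain ⟨j, hyj, hj⟩ := zmodHom_apply (2 * f) c hc2f y
    rw [hi, hj] at h1
    have h2 := congrArg Θb h1
    rw [map_mul, map_zpow, hΘι, one_zpow, one_mul, map_zpow, hΘc, ← ofAdd_zsmul, map_one] at h2
    have h3 : (j : ZMod f) = 0 := by
      have : j • (1 : ZMod f) = 0 := h2
      rwa [zsmul_eq_mul, mul_one] at this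
    rw [ZMod.intCast_zmod_eq_zero_iff_dvd] at h3
    obtain ⟨t, rfl⟩ := h3
    have h4 : c ^ ((f : ℤ) * t) = ι (d0 ^ t) := by
      rw [zpow_mul, zpow_natCast, hcf, map_zpow]
    rw [h4, ← map_zpow, ← map_mul] at h1
    have h5 : d1 ^ i * d0 ^ t = 1 := hιi (by rw [h1, map_one])
    have hieven : Even i ∧ Even t := by
      rcases zpow_of_sq d1 (k4_sq d1) i with ⟨hi1, hie⟩ | ⟨hi1, hio⟩ <;>
        rcases zpow_of_sq d0 (k4_sq d0) t with ⟨ht1, hte⟩ | ⟨ht1, hto⟩
      · exact ⟨hie, hte⟩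
      · rw [hi1, ht1, one_mul] at h5; exact absurd h5 hd0
      · rw [hi1, ht1, mul_one] at h5; exact absurd h5 hd11
      · rw [hi1, ht1] at h5
        have : d1 = d0 := by
          have h6 := k4_sq d0
          rw [← h5] at h6
          exact mul_right_cancel h6.symm |>.symm ▸ rfl
        exact absurd this hd10
    obtain ⟨⟨k, rfl⟩, ⟨l, rfl⟩⟩ := hieven
    have hx1 : x = 1 := by
      rw [hxi]
      have : ((k + k : ℤ) : ZMod 2) = 0 := by
        rw [ZMod.intCast_zmod_eq_zero_iff_dvd]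
        exact ⟨k, by push_cast; ring⟩
      rw [this]; rfl
    have hy1 : y = 1 := by
      rw [hyj]
      have : (((f : ℤ) * (l + l) : ℤ) : ZMod (2 * f)) = 0 := by
        rw [ZMod.intCast_zmod_eq_zero_iff_dvd]
        exact ⟨l, by push_cast; ring⟩
      rw [this]; rfl
    rw [hx1, hy1]
    rfl
  have hbij : Bijective Φ := by
    rw [Nat.bijective_iff_injective_and_card]
    refine ⟨hΦi, ?_⟩
    rw [hcard, Nat.card_prod]
    have h1 : Nat.card (Multiplicative (ZMod 2)) = 2 := by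
      show Nat.card (ZMod 2) = 2
      rw [Nat.card_eq_fintype_card, ZMod.card]
    have h2 : Nat.card (Multiplicative (ZMod (2 * f))) = 2 * f := by
      show Nat.card (ZMod (2 * f)) = 2 * f
      rw [Nat.card_eq_fintype_card, ZMod.card]
    have h3 : Nat.card (Multiplicative (ZMod 2 × ZMod 2)) = 4 := by
      show Nat.card (ZMod 2 × ZMod 2) = 4
      rw [Nat.card_prod, Nat.card_eq_fintype_card, ZMod.card]
    rw [h1, h2, h3]
    ring
  exact ⟨(MulEquiv.ofBijective Φ hbij).symm.trans (MulEquiv.prodMultiplicative _ _).symm⟩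

end ext

end Cfsg.Agent.Lib.Helper5.OutExt
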