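import Mathlib
import Cfsg.Agent.Lib.Helper5.OutExt

set_option autoImplicit false
set_option linter.unusedVariables false
set_option linter.unusedSectionVars false
set_option linter.style.haveILetI false

/-!
# More abstract extension lemmas for outer automorphism groups

* `ext_central` : `A/I ≅ D × C_f` when an element over the generator of `C_f` centralises `P/I`
  and has `f`-th power in `I`.
* `ext_dihedral_gen` : `A/I ≅ D₈ × C_f` in the presence of a "reflection" fixed by the "field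
  automorphism".
-/

namespace Cfsg.Agent.Lib.Helper5.OutExt

open Function

section ext2

variable {A : Type*} [Group A] [Finite A]

/-- `A/I ≅ D × C_f` when some element over the generator of `C_f` centralises `P/I` and has
`f`-th power in `I` -/
theorem ext_central (I P : Subgroup A) [I.Normal] (hIP : I ≤ P) {f : ℕ} [NeZero f]
    (Θ : A →* Multiplicative (ZMod f)) (hΘs : Surjective Θ) (hΘk : Θ.ker = P)
    {D : Type*} [Group D] [Finite D] (ψ : ↥P →* D) (hψs : Surjective ψ)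
    (hψk : ψ.ker = I.subgroupOf P)
    (c0 : A) (hc0 : Θ c0 = Multiplicative.ofAdd (1 : ZMod f)) (hc0f : c0 ^ f ∈ I)
    (hcen : ∀ x ∈ P, c0 * x * c0⁻¹ * x⁻¹ ∈ I) :
    Nonempty (A ⧸ I ≃* D × Multiplicative (ZMod f)) := by
  classical
  have hcard := card_quot I P hIP Θ hΘs hΘk ψ hψs hψk
  obtain ⟨ι, hιi, hι⟩ := exists_embed I P hIP ψ hψs hψk
  obtain ⟨Θb, hΘb⟩ := exists_bar I P hIP Θ hΘk
  have hΘι : ∀ d, Θb (ι d) = 1 := by
    intro d
    obtain ⟨x, rfl⟩ := hψs d
    rw [hι, hΘb]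
    have : (x : A) ∈ Θ.ker := hΘk ▸ x.2
    exact this
  obtain ⟨c, hcdef⟩ : ∃ c : A ⧸ I, c = QuotientGroup.mk' I c0 := ⟨_, rfl⟩
  have hcf : c ^ f = 1 := by
    rw [hcdef, ← map_pow, QuotientGroup.mk'_apply, QuotientGroup.eq_one_iff]
    exact hc0f
  have hΘc : Θb c = Multiplicative.ofAdd (1 : ZMod f) := by
    rw [hcdef, hΘb, hc0]
  have hcomm : ∀ d, Commute (ι d) c := by
    intro d
    obtain ⟨x, rfl⟩ := hψs d
    rw [hι, hcdef]
    show QuotientGroup.mk' I (x : A) * QuotientGroup.mk' I c0 =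
      QuotientGroup.mk' I c0 * QuotientGroup.mk' I (x : A)
    rw [← map_mul, ← map_mul, QuotientGroup.mk'_apply, QuotientGroup.mk'_apply]
    symm
    rw [QuotientGroup.eq]
    have h1 := hcen x x.2
    have h2 : (c0 * ↑x)⁻¹ * (↑x * c0) =
        (c0 * ↑x)⁻¹ * (c0 * ↑x * c0⁻¹ * (↑x)⁻¹)⁻¹ * (c0 * ↑x)⁻¹⁻¹ := by group
    rw [h2]
    exact Subgroup.Normal.conj_mem ‹I.Normal› _ (Subgroup.inv_mem _ h1) (c0 * ↑x)⁻¹
  let Φ : D × Multiplicative (ZMod f) →* A ⧸ I :=
    MonoidHom.noncommCoprod ι (zmodHom f c hcf) (by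
      intro d x
      obtain ⟨j, -, hj⟩ := zmodHom_apply f c hcf x
      rw [hj]
      exact (hcomm d).zpow_right j)
  have hΦi : Injective Φ := by
    rw [injective_iff_map_eq_one]
    rintro ⟨d, x⟩ hdx
    have h1 : ι d * zmodHom f c hcf x = 1 := hdx
    obtain ⟨j, hxj, hj⟩ := zmodHom_apply f c hcf x
    rw [hj] at h1
    have h2 := congrArg Θb h1
    rw [map_mul, hΘι, one_mul, map_zpow, hΘc, map_one Θb, ← ofAdd_zsmul] at h2
    have h4 : (j : ZMod f) = 0 := by
      have : j • (1 : ZMod f) = 0 := h2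
      rwa [zsmul_eq_mul, mul_one] at this
    have hx1 : x = 1 := by rw [hxj, h4]; rfl
    have hcj : c ^ j = 1 := by
      rw [← zmodHom_intCast f c hcf j, h4]
      exact map_one _
    rw [hcj, mul_one] at h1
    have hd1 : d = 1 := hιi (by rw [h1, map_one])
    rw [hd1, hx1]
    rfl
  have hbij : Bijective Φ := by
    rw [Nat.bijective_iff_injective_and_card]
    refine ⟨hΦi, ?_⟩
    rw [hcard, Nat.card_prod]
    congr 1
    show Nat.card (ZMod f) = f
    rw [Nat.card_eq_fintype_card, ZMod.card]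
  exact ⟨(MulEquiv.ofBijective Φ hbij).symm⟩

end ext2

section d4

open DihedralGroup

theorem d4_central_of_conj (d : DihedralGroup 4) (h : ∀ x : DihedralGroup 4, x * d * x⁻¹ = d) :
    d = 1 ∨ d = r 2 := by
  revert d; decide

/-- a normal subgroup of `D₈` with a unique nontrivial element is the centre -/
theorem d4_normal_two (T : Subgroup (DihedralGroup 4)) [hTn : T.Normal]
    (hne : ∃ t ∈ T, t ≠ 1) (huniq : ∀ x ∈ T, ∀ y ∈ T, x ≠ 1 → y ≠ 1 → x = y)
    (d : DihedralGroup 4) : d ∈ T ↔ (d = 1 ∨ d = r 2) := by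
  have hfwd : ∀ d ∈ T, d = 1 ∨ d = r 2 := by
    intro d hd
    by_cases hd1 : d = 1
    · exact Or.inl hd1
    · apply d4_central_of_conj
      intro x
      have h1 : x * d * x⁻¹ ∈ T := hTn.conj_mem d hd x
      have h2 : x * d * x⁻¹ ≠ 1 := by
        intro h
        apply hd1
        have : d = x⁻¹ * (x * d * x⁻¹) * x := by group
        rw [this, h]; group
      exact huniq _ h1 _ hd h2 hd1
  constructor
  · exact hfwd d
  · rintro (rfl | rfl)
    · exact T.one_mem
    · obtain ⟨t, ht, ht1⟩ := hne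
      rcases hfwd t ht with h | h
      · exact absurd h ht1
      · exact h ▸ ht

/-- evaluation of a word in the images of the generators -/
def d4ev (x y : DihedralGroup 4) : DihedralGroup 4 → DihedralGroup 4
  | r i => x ^ i.val
  | sr i => y * x ^ i.val

theorem d4ev_spec (a : DihedralGroup 4 →* DihedralGroup 4) (g : DihedralGroup 4) :
    a g = d4ev (a (r 1)) (a (sr 0)) g := by
  rcases g with i | i
  · show a (r i) = a (r 1) ^ i.val
    rw [← map_pow, r_one_pow, ZMod.natCast_zmod_val]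
  · show a (sr i) = a (sr 0) * a (r 1) ^ i.val
    rw [← map_pow, ← map_mul, r_one_pow, ZMod.natCast_zmod_val, sr_mul_r, zero_add]

theorem d4_aut_ext (a b : MulAut (DihedralGroup 4)) (h1 : a (r 1) = b (r 1))
    (h2 : a (sr 0) = b (sr 0)) : a = b := by
  ext g
  have ha := d4ev_spec a.toMonoidHom g
  have hb := d4ev_spec b.toMonoidHom g
  show a g = b g
  calc a g = d4ev (a (r 1)) (a (sr 0)) g := ha
    _ = d4ev (b (r 1)) (b (sr 0)) g := by rw [h1, h2]
    _ = b g := hb.symm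

theorem d4_dich_aux : ∀ x y s : DihedralGroup 4, (x * (r 1)⁻¹ = 1 ∨ x * (r 1)⁻¹ = r 2) →
    (y * (sr 0)⁻¹ = 1 ∨ y * (sr 0)⁻¹ = r 2) → s * s = 1 → s ≠ 1 → s ≠ r 2 → d4ev x y s = s →
    (x = r 1 ∧ y = sr 0) ∨ (x = s * r 1 * s⁻¹ ∧ y = s * sr 0 * s⁻¹) := by
  decide

/-- an automorphism of `D₈` which is trivial modulo the centre and fixes a noncentral involution
`s` is trivial or conjugation by `s` -/
theorem d4_aut_dichotomy (a : MulAut (DihedralGroup 4)) (s : DihedralGroup 4) (hs2 : s * s = 1)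
    (hs1 : s ≠ 1) (hsr : s ≠ r 2) (has : a s = s)
    (hcen : ∀ d, a d * d⁻¹ = 1 ∨ a d * d⁻¹ = r 2) : a = 1 ∨ a = MulAut.conj s := by
  have h := d4_dich_aux (a (r 1)) (a (sr 0)) s (hcen _) (hcen _) hs2 hs1 hsr
    (by
      have := d4ev_spec a.toMonoidHom s
      exact this.symm.trans has)
  rcases h with ⟨h1, h2⟩ | ⟨h1, h2⟩
  · left
    apply d4_aut_ext
    · rw [h1]; rfl
    · rw [h2]; rfl
  · right
    apply d4_aut_ext
    · rw [h1, MulAut.conj_apply]
    · rw [h2, MulAut.conj_apply]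

theorem d4_conj_ne_one : ∀ s : DihedralGroup 4, s * s = 1 → s ≠ 1 → s ≠ r 2 →
    s * r 1 * s⁻¹ ≠ r 1 := by
  decide

end d4

end Cfsg.Agent.Lib.Helper5.OutExt
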