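import Mathlib
import Cfsg.Agent.Lib.Helper5.OutExt2

set_option autoImplicit false
set_option linter.unusedVariables false
set_option linter.unusedSectionVars false
set_option linter.style.haveILetI false

/-!
# `A/I ≅ D₈ × C_f` in the presence of a reflection fixed by the field automorphism
-/

namespace Cfsg.Agent.Lib.Helper5.OutExt

open Function DihedralGroup

section ext3

variable {A : Type*} [Group A] [Finite A]

/-- `A/I ≅ D₈ × C_f`: here `I ≤ S ≤ P`, `P/I ≅ D₈`, `S/I` has order `2` and is normal in `P/I`,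
`A/P ≅ C_f` is generated by the image of `φ` with `φ ^ f ∈ I`, `φ` centralises `P/S`, and there is
`r ∈ P ∖ S` with `r² ∈ I` commuting with `φ` modulo `I`. -/
theorem ext_dihedral_gen (I S P : Subgroup A) [I.Normal] (hIS : I ≤ S) (hSP : S ≤ P) {f : ℕ}
    [NeZero f]
    (Θ : A →* Multiplicative (ZMod f)) (hΘs : Surjective Θ) (hΘk : Θ.ker = P)
    (ψ : ↥P →* DihedralGroup 4) (hψs : Surjective ψ) (hψk : ψ.ker = I.subgroupOf P)
    (hSn : (S.subgroupOf P).Normal) (hSI : I.relIndex S = 2)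
    (φ : A) (hφ : Θ φ = Multiplicative.ofAdd (1 : ZMod f)) (hφf : φ ^ f ∈ I)
    (w : A) (hrP : w ∈ P) (hr2 : w * w ∈ I) (hrS : w ∉ S) (hφr : φ * w * φ⁻¹ * w⁻¹ ∈ I)
    (hcen : ∀ x ∈ P, φ * x * φ⁻¹ * x⁻¹ ∈ S) :
    Nonempty (A ⧸ I ≃* DihedralGroup 4 × Multiplicative (ZMod f)) := by
  classical
  have hIP : I ≤ P := hIS.trans hSP
  have hPn : P.Normal := hΘk ▸ Θ.normal_ker
  obtain ⟨ι, hιi, hι⟩ := exists_embed I P hIP ψ hψs hψk
  -- membership in the kernel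
  have hker : ∀ (x : A) (hx : x ∈ P), ψ ⟨x, hx⟩ = 1 ↔ x ∈ I := by
    intro x hx
    rw [← MonoidHom.mem_ker, hψk, Subgroup.mem_subgroupOf]
  have hψeq : ∀ (x y : A) (hx : x ∈ P) (hy : y ∈ P), ψ ⟨x, hx⟩ = ψ ⟨y, hy⟩ ↔ x * y⁻¹ ∈ I := by
    intro x y hx hy
    rw [← hker (x * y⁻¹) (P.mul_mem hx (P.inv_mem hy))]
    have : (⟨x * y⁻¹, P.mul_mem hx (P.inv_mem hy)⟩ : ↥P) = ⟨x, hx⟩ * ⟨y, hy⟩⁻¹ := rfl
    rw [this, map_mul, map_inv, mul_inv_eq_one]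
  have hconjP : ∀ x ∈ P, φ * x * φ⁻¹ ∈ P := fun x hx => hPn.conj_mem x hx φ
  -- the range of `ι` is normal
  have hrange : ι.range = P.map (QuotientGroup.mk' I) := by
    ext y
    constructor
    · rintro ⟨d, rfl⟩
      obtain ⟨x, rfl⟩ := hψs d
      exact ⟨x, x.2, (hι x).symm⟩
    · rintro ⟨x, hx, rfl⟩
      exact ⟨ψ ⟨x, hx⟩, hι ⟨x, hx⟩⟩
  have hN : ι.range.Normal := by
    rw [hrange]
    exact Subgroup.Normal.map hPn _ (QuotientGroup.mk'_surjective I)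
  let eN : DihedralGroup 4 ≃* ↥ι.range := MonoidHom.ofInjective hιi
  let K : A ⧸ I →* MulAut (DihedralGroup 4) :=
    (MulAut.congr eN.symm).toMonoidHom.comp (MulAut.conjNormal (H := ι.range))
  have hKι : ∀ (c : A ⧸ I) (d : DihedralGroup 4), ι (K c d) = c * ι d * c⁻¹ := by
    intro c d
    have h2 : K c d = eN.symm (MulAut.conjNormal (H := ι.range) c (eN d)) := rfl
    have h3 : eN (K c d) = MulAut.conjNormal (H := ι.range) c (eN d) := by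
      rw [h2, MulEquiv.apply_symm_apply]
    have h4 := congrArg Subtype.val h3
    rw [MulAut.conjNormal_apply] at h4
    exact h4
  obtain ⟨a, hadef⟩ : ∃ a : MulAut (DihedralGroup 4), a = K (QuotientGroup.mk' I φ) := ⟨_, rfl⟩
  have haψ : ∀ (x : A) (hx : x ∈ P), a (ψ ⟨x, hx⟩) = ψ ⟨φ * x * φ⁻¹, hconjP x hx⟩ := by
    intro x hx
    apply hιi
    rw [hadef, hKι, hι, hι, ← map_inv, ← map_mul, ← map_mul]
  have haf : a ^ f = 1 := by
    rw [hadef, ← map_pow, ← map_pow]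
    have : (QuotientGroup.mk' I) (φ ^ f) = 1 := by
      rw [QuotientGroup.mk'_apply, QuotientGroup.eq_one_iff]; exact hφf
    rw [this, map_one]
  -- the image of `S`
  obtain ⟨T, hTdef⟩ : ∃ T : Subgroup (DihedralGroup 4), T = (S.subgroupOf P).map ψ := ⟨_, rfl⟩
  have hTn : T.Normal := by
    rw [hTdef]
    exact Subgroup.Normal.map hSn ψ hψs
  have hmemT : ∀ d, d ∈ T ↔ ∃ (y : A) (hy : y ∈ S), ψ ⟨y, hSP hy⟩ = d := by
    intro d
    rw [hTdef, Subgroup.mem_map]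
    constructor
    · rintro ⟨x, hx, rfl⟩
      exact ⟨x.1, Subgroup.mem_subgroupOf.1 hx, rfl⟩
    · rintro ⟨y, hy, rfl⟩
      exact ⟨⟨y, hSP hy⟩, Subgroup.mem_subgroupOf.2 hy, rfl⟩
  have hTne : ∃ t ∈ T, t ≠ 1 := by
    have h1 : ¬ S ≤ I := by
      intro h
      have := (Subgroup.relIndex_eq_one (H := I) (K := S)).2 h
      omega
    obtain ⟨y, hyS, hyI⟩ := SetLike.not_le_iff_exists.1 h1
    refine ⟨ψ ⟨y, hSP hyS⟩, (hmemT _).2 ⟨y, hyS, rfl⟩, ?_⟩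
    intro h
    exact hyI ((hker y (hSP hyS)).1 h)
  have hTuniq : ∀ x ∈ T, ∀ y ∈ T, x ≠ 1 → y ≠ 1 → x = y := by
    intro x hx y hy hx1 hy1
    obtain ⟨x', hx'S, rfl⟩ := (hmemT x).1 hx
    obtain ⟨y', hy'S, rfl⟩ := (hmemT y).1 hy
    rw [hψeq]
    have hx'I : x' ∉ I := fun h => hx1 ((hker x' (hSP hx'S)).2 h)
    have hy'I : y' ∉ I := fun h => hy1 ((hker y' (hSP hy'S)).2 h)
    have hidx : (I.subgroupOf S).index = 2 := hSI
    have h1 := Subgroup.mul_mem_iff_of_index_two hidx (a := (⟨x', hx'S⟩ : ↥S))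
      (b := (⟨y', hy'S⟩ : ↥S)⁻¹)
    have h2 : ((⟨x', hx'S⟩ : ↥S) * (⟨y', hy'S⟩ : ↥S)⁻¹ ∈ I.subgroupOf S) ↔ x' * y'⁻¹ ∈ I := by
      rw [Subgroup.mem_subgroupOf]; rfl
    rw [← h2, h1, Subgroup.inv_mem_iff, Subgroup.mem_subgroupOf, Subgroup.mem_subgroupOf]
    exact iff_of_false hx'I hy'I
  have hT := d4_normal_two T hTne hTuniq
  -- the involution `s`
  obtain ⟨s, hsdef⟩ : ∃ s, s = ψ ⟨w, hrP⟩ := ⟨_, rfl⟩
  have hs2 : s * s = 1 := by
    rw [hsdef, ← map_mul]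
    exact (hker (w * w) (P.mul_mem hrP hrP)).2 hr2
  have hsT : s ∉ T := by
    intro h
    obtain ⟨y, hyS, hy⟩ := (hmemT s).1 h
    rw [hsdef, hψeq] at hy
    apply hrS
    have : w = (y * w⁻¹)⁻¹ * y := by group
    rw [this]
    exact S.mul_mem (S.inv_mem (hIS hy)) hyS
  have hs1 : s ≠ 1 := fun h => hsT ((hT s).2 (Or.inl h))
  have hsr : s ≠ r 2 := fun h => hsT ((hT s).2 (Or.inr h))
  have has : a s = s := by
    rw [hsdef, haψ, hψeq]
    exact hφr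
  have hcenD : ∀ d, a d * d⁻¹ = 1 ∨ a d * d⁻¹ = r 2 := by
    intro d
    obtain ⟨⟨x, hx⟩, rfl⟩ := hψs d
    rw [← hT]
    have e1 : a (ψ ⟨x, hx⟩) * (ψ ⟨x, hx⟩)⁻¹ = ψ ⟨φ * x * φ⁻¹ * x⁻¹,
        P.mul_mem (hconjP x hx) (P.inv_mem hx)⟩ := by
      rw [haψ, ← map_inv, ← map_mul]
      rfl
    rw [e1, hmemT]
    exact ⟨_, hcen x hx, rfl⟩
  have hdich := d4_aut_dichotomy a s hs2 hs1 hsr has hcenD
  -- parity
  have hcase : a = 1 ∨ (a = MulAut.conj s ∧ Even f) := by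
    rcases hdich with h | h
    · exact Or.inl h
    · rcases Nat.even_or_odd f with hf | hf
      · exact Or.inr ⟨h, hf⟩
      · left
        obtain ⟨k, hk⟩ := hf
        have ha2 : a ^ 2 = 1 := by
          rw [h, ← map_pow, pow_two, hs2, map_one]
        have : a ^ f = a := by
          rw [hk, pow_succ, pow_mul, ha2, one_pow, one_mul]
        rw [← this, haf]
  rcases hcase with ha1 | ⟨hconj, hfe⟩
  · -- `φ` itself centralises
    apply ext_central I P hIP Θ hΘs hΘk ψ hψs hψk φ hφ hφf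
    intro x hx
    rw [← hker _ (P.mul_mem (hconjP x hx) (P.inv_mem hx))]
    have : (⟨φ * x * φ⁻¹ * x⁻¹, P.mul_mem (hconjP x hx) (P.inv_mem hx)⟩ : ↥P) =
        ⟨φ * x * φ⁻¹, hconjP x hx⟩ * ⟨x, hx⟩⁻¹ := rfl
    rw [this, map_mul, map_inv, ← haψ, ha1]
    exact mul_inv_cancel _
  · -- `φ r⁻¹` centralises
    have hrI : Θ w = 1 := by
      have : w ∈ Θ.ker := hΘk ▸ hrP
      exact this
    apply ext_central I P hIP Θ hΘs hΘk ψ hψs hψk (φ * w⁻¹)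
    · rw [map_mul, map_inv, hrI, inv_one, mul_one, hφ]
    · -- `(φ r⁻¹)^f ∈ I`
      rw [← QuotientGroup.eq_one_iff, QuotientGroup.mk_pow, QuotientGroup.mk_mul,
        QuotientGroup.mk_inv]
      have hcomm : Commute (QuotientGroup.mk φ : A ⧸ I) (QuotientGroup.mk w)⁻¹ := by
        apply Commute.inv_right
        show (QuotientGroup.mk φ : A ⧸ I) * QuotientGroup.mk w =
          QuotientGroup.mk w * QuotientGroup.mk φ
        rw [← QuotientGroup.mk_mul, ← QuotientGroup.mk_mul]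
        symm
        rw [QuotientGroup.eq]
        have h2 : (w * φ)⁻¹ * (φ * w) = φ⁻¹ * (w⁻¹ * (φ * w * φ⁻¹ * w⁻¹) * w⁻¹⁻¹) * φ⁻¹⁻¹ := by
          group
        rw [h2]
        exact Subgroup.Normal.conj_mem ‹I.Normal› _
          (Subgroup.Normal.conj_mem ‹I.Normal› _ hφr w⁻¹) φ⁻¹
      rw [hcomm.mul_pow, ← QuotientGroup.mk_pow, (QuotientGroup.eq_one_iff (φ ^ f)).2 hφf, one_mul]
      obtain ⟨k, hk⟩ := hfe
      have hr2' : (QuotientGroup.mk w : A ⧸ I) * QuotientGroup.mk w = 1 := by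
        rw [← QuotientGroup.mk_mul]
        exact (QuotientGroup.eq_one_iff _).2 hr2
      rw [hk, ← two_mul, pow_mul, inv_pow, pow_two, hr2', inv_one, one_pow]
    · intro x hx
      have hy : w⁻¹ * x * w⁻¹⁻¹ ∈ P := hPn.conj_mem x hx w⁻¹
      have e0 : φ * w⁻¹ * x * (φ * w⁻¹)⁻¹ = φ * (w⁻¹ * x * w⁻¹⁻¹) * φ⁻¹ := by group
      rw [e0, ← hker _ (P.mul_mem (hconjP _ hy) (P.inv_mem hx))]
      have : (⟨φ * (w⁻¹ * x * w⁻¹⁻¹) * φ⁻¹ * x⁻¹,
          P.mul_mem (hconjP _ hy) (P.inv_mem hx)⟩ : ↥P) =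
          ⟨φ * (w⁻¹ * x * w⁻¹⁻¹) * φ⁻¹, hconjP _ hy⟩ * ⟨x, hx⟩⁻¹ := rfl
      rw [this, map_mul, map_inv, ← haψ _ hy, hconj, MulAut.conj_apply]
      have e1 : (⟨w⁻¹ * x * w⁻¹⁻¹, hy⟩ : ↥P) = ⟨w, hrP⟩⁻¹ * ⟨x, hx⟩ * ⟨w, hrP⟩ := by
        apply Subtype.ext
        show w⁻¹ * x * w⁻¹⁻¹ = w⁻¹ * x * w
        rw [inv_inv]
      have e2 : ψ ⟨w⁻¹ * x * w⁻¹⁻¹, hy⟩ = s⁻¹ * ψ ⟨x, hx⟩ * s := by
        rw [e1, map_mul, map_mul, map_inv, ← hsdef]
      rw [e2]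
      group

end ext3

end Cfsg.Agent.Lib.Helper5.OutExt
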