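import Mathlib
import Cfsg.Agent.Lib.Helper5.OutExt3

set_option autoImplicit false
set_option linter.unusedVariables false
set_option linter.unusedSectionVars false
set_option linter.style.haveILetI false

/-!
# Relative versions of the extension lemmas (inside a subgroup `Γ` of an ambient group)
-/

namespace Cfsg.Agent.Lib.Helper5.OutExt

open Function DihedralGroup

section rel

variable {𝔸 : Type*} [Group 𝔸]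

/-- the restriction of a homomorphism on `P` to `P.subgroupOf Γ` -/
noncomputable def relHom (Γ P : Subgroup 𝔸) (hPΓ : P ≤ Γ) {D : Type*} [Group D] (ψ : ↥P →* D) :
    ↥(P.subgroupOf Γ) →* D :=
  ψ.comp (Subgroup.subgroupOfEquivOfLe hPΓ).toMonoidHom

theorem relHom_apply (Γ P : Subgroup 𝔸) (hPΓ : P ≤ Γ) {D : Type*} [Group D] (ψ : ↥P →* D)
    (x : 𝔸) (hx : x ∈ P) :
    relHom Γ P hPΓ ψ ⟨⟨x, hPΓ hx⟩, Subgroup.mem_subgroupOf.2 hx⟩ = ψ ⟨x, hx⟩ := rfl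

theorem relHom_surjective (Γ P : Subgroup 𝔸) (hPΓ : P ≤ Γ) {D : Type*} [Group D] (ψ : ↥P →* D)
    (hψs : Surjective ψ) : Surjective (relHom Γ P hPΓ ψ) :=
  hψs.comp (Subgroup.subgroupOfEquivOfLe hPΓ).surjective

theorem relHom_ker (Γ I P : Subgroup 𝔸) (hPΓ : P ≤ Γ) {D : Type*} [Group D] (ψ : ↥P →* D)
    (hψk : ψ.ker = I.subgroupOf P) :
    (relHom Γ P hPΓ ψ).ker = (I.subgroupOf Γ).subgroupOf (P.subgroupOf Γ) := by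
  ext x
  obtain ⟨⟨x, hxΓ⟩, hxP⟩ := x
  have hxP' : x ∈ P := Subgroup.mem_subgroupOf.1 hxP
  rw [MonoidHom.mem_ker]
  have e1 : relHom Γ P hPΓ ψ ⟨⟨x, hxΓ⟩, hxP⟩ = ψ ⟨x, hxP'⟩ := rfl
  rw [e1, ← MonoidHom.mem_ker, hψk, Subgroup.mem_subgroupOf, Subgroup.mem_subgroupOf,
    Subgroup.mem_subgroupOf]

/-- relative version of `ext_central` -/
theorem ext_central_rel (Γ : Subgroup 𝔸) [Finite ↥Γ] (I P : Subgroup 𝔸) [I.Normal]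
    (hIP : I ≤ P) (hPΓ : P ≤ Γ) {f : ℕ} [NeZero f]
    (Θ : ↥Γ →* Multiplicative (ZMod f)) (hΘs : Surjective Θ) (hΘk : Θ.ker = P.subgroupOf Γ)
    {D : Type*} [Group D] [Finite D] (ψ : ↥P →* D) (hψs : Surjective ψ)
    (hψk : ψ.ker = I.subgroupOf P)
    (c0 : 𝔸) (hc0Γ : c0 ∈ Γ) (hc0 : Θ ⟨c0, hc0Γ⟩ = Multiplicative.ofAdd (1 : ZMod f))
    (hc0f : c0 ^ f ∈ I) (hcen : ∀ x ∈ P, c0 * x * c0⁻¹ * x⁻¹ ∈ I) :
    Nonempty (↥Γ ⧸ I.subgroupOf Γ ≃* D × Multiplicative (ZMod f)) := by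
  apply ext_central (I.subgroupOf Γ) (P.subgroupOf Γ)
    (fun x hx => Subgroup.mem_subgroupOf.2 (hIP (Subgroup.mem_subgroupOf.1 hx))) Θ hΘs hΘk
    (relHom Γ P hPΓ ψ) (relHom_surjective Γ P hPΓ ψ hψs) (relHom_ker Γ I P hPΓ ψ hψk)
    ⟨c0, hc0Γ⟩ hc0
  · rw [Subgroup.mem_subgroupOf]
    exact hc0f
  · rintro ⟨x, hxΓ⟩ hx
    rw [Subgroup.mem_subgroupOf] at hx ⊢
    exact hcen x hx

/-- relative version of `ext_dihedral_gen` -/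
theorem ext_dihedral_rel (Γ : Subgroup 𝔸) [Finite ↥Γ] (I S P : Subgroup 𝔸) [I.Normal]
    (hIS : I ≤ S) (hSP : S ≤ P) (hPΓ : P ≤ Γ) {f : ℕ} [NeZero f]
    (Θ : ↥Γ →* Multiplicative (ZMod f)) (hΘs : Surjective Θ) (hΘk : Θ.ker = P.subgroupOf Γ)
    (ψ : ↥P →* DihedralGroup 4) (hψs : Surjective ψ) (hψk : ψ.ker = I.subgroupOf P)
    (hSn : ∀ x ∈ P, ∀ y ∈ S, x * y * x⁻¹ ∈ S) (hSI : I.relIndex S = 2)
    (φ : 𝔸) (hφΓ : φ ∈ Γ) (hφ : Θ ⟨φ, hφΓ⟩ = Multiplicative.ofAdd (1 : ZMod f))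
    (hφf : φ ^ f ∈ I)
    (w : 𝔸) (hwP : w ∈ P) (hw2 : w * w ∈ I) (hwS : w ∉ S) (hφw : φ * w * φ⁻¹ * w⁻¹ ∈ I)
    (hcen : ∀ x ∈ P, φ * x * φ⁻¹ * x⁻¹ ∈ S) :
    Nonempty (↥Γ ⧸ I.subgroupOf Γ ≃* DihedralGroup 4 × Multiplicative (ZMod f)) := by
  have hSΓ : S ≤ Γ := hSP.trans hPΓ
  apply ext_dihedral_gen (I.subgroupOf Γ) (S.subgroupOf Γ) (P.subgroupOf Γ)
    (fun x hx => Subgroup.mem_subgroupOf.2 (hIS (Subgroup.mem_subgroupOf.1 hx)))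
    (fun x hx => Subgroup.mem_subgroupOf.2 (hSP (Subgroup.mem_subgroupOf.1 hx))) Θ hΘs hΘk
    (relHom Γ P hPΓ ψ) (relHom_surjective Γ P hPΓ ψ hψs) (relHom_ker Γ I P hPΓ ψ hψk)
    ?_ ?_ ⟨φ, hφΓ⟩ hφ ?_ ⟨w, hPΓ hwP⟩ ?_ ?_ ?_ ?_ ?_
  · constructor
    rintro ⟨⟨y, hyΓ⟩, hyP⟩ hy ⟨⟨x, hxΓ⟩, hxP⟩
    rw [Subgroup.mem_subgroupOf, Subgroup.mem_subgroupOf] at hy ⊢
    exact hSn x (Subgroup.mem_subgroupOf.1 hxP) y hy
  · rw [Subgroup.relIndex_subgroupOf hSΓ]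
    exact hSI
  · rw [Subgroup.mem_subgroupOf]; exact hφf
  · rw [Subgroup.mem_subgroupOf]; exact hwP
  · rw [Subgroup.mem_subgroupOf]; exact hw2
  · rw [Subgroup.mem_subgroupOf]; exact hwS
  · rw [Subgroup.mem_subgroupOf]; exact hφw
  · rintro ⟨x, hxΓ⟩ hx
    rw [Subgroup.mem_subgroupOf] at hx ⊢
    exact hcen x hx

/-- the quotient of the full group by `I` is the quotient of `⊤` by `I` -/
theorem quot_top_equiv (Γ I : Subgroup 𝔸) [I.Normal] (hΓ : Γ = ⊤) :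
    Nonempty ((𝔸 ⧸ I) ≃* (↥Γ ⧸ I.subgroupOf Γ)) := by
  subst hΓ
  refine ⟨(QuotientGroup.congr (I.subgroupOf ⊤) I Subgroup.topEquiv ?_).symm⟩
  ext x
  constructor
  · rintro ⟨y, hy, rfl⟩
    exact Subgroup.mem_subgroupOf.1 hy
  · intro hx
    exact ⟨⟨x, Subgroup.mem_top x⟩, Subgroup.mem_subgroupOf.2 hx, rfl⟩

end rel

end Cfsg.Agent.Lib.Helper5.OutExt
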