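import Cfsg.Agent.Lib.Helper5.OutMinus
import Cfsg.Agent.Lib.Helper5.OutExt3

set_option autoImplicit false
set_option linter.unusedVariables false
set_option linter.unusedSectionVars false
set_option linter.unusedSimpArgs false
set_option linter.style.haveILetI false

/-!
# Generic facts on the characters `simPsi` under semilinear conjugation
-/

namespace Cfsg.Agent.Lib.Helper5.OutGen

open Matrix
open Cfsg.Agent.Lib.Helper37 Cfsg.Agent.Lib.Helper5.AutOrth Cfsg.Agent.Lib.Helper43.OrthField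
  Cfsg.Agent.Lib.Helper43.OrthPair Cfsg.Agent.Lib.Helper5.OutMinus
  Cfsg.Agent.Lib.Helper5.OutExt

universe u

variable {κ : Type} [Fintype κ] [DecidableEq κ] {F : Type u} [Field F] [Fintype F] [DecidableEq F]
  {Q : (κ → F) → F} {G : Matrix κ κ F}

/-- `simPsi` is invariant under conjugation by semisimilarities -/
theorem simPsi_conj_gen (hG : IsGram Q G) (hdet : G.det ≠ 0) (hne : ∃ v, Q v ≠ 0) {N : ℕ}
    (hN : Fintype.card κ = 2 * N) {g : GL κ F} {σ : F ≃+* F}
    (h : Cfsg.IsSemisimilarityPair Q g σ)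
    (s t : ↥(Cfsg.Geo.quadSimilarityGroup (F := F) Q))
    (ht : t.1 = g * glMap σ s.1 * g⁻¹) :
    simPsi hG hdet hne hN t = simPsi hG hdet hne hN s := by
  have hmult : simMult Q t = Units.map (σ : F →* F) (simMult Q s) :=
    simMult_unique hne t _ (conj_mult h s t ht)
  have hmultv : ((simMult Q t : Fˣ) : F) = σ (simMult Q s : F) := by
    rw [hmult]; rfl
  have hdett : ((t.1 : GL κ F) : Matrix κ κ F).det =
      σ (((s.1 : GL κ F) : Matrix κ κ F).det) := by
    rw [ht, Units.val_mul, Units.val_mul, Matrix.det_mul, Matrix.det_mul, glMap_val]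
    have h3 : ((g : Matrix κ κ F)).det * ((g⁻¹ : GL κ F) : Matrix κ κ F).det = 1 := by
      rw [← Matrix.det_mul, ← Units.val_mul, mul_inv_cancel, Units.val_one, Matrix.det_one]
    have h4 : (((s.1 : GL κ F) : Matrix κ κ F).map σ).det =
        σ (((s.1 : GL κ F) : Matrix κ κ F).det) :=
      (RingHom.map_det (σ : F →+* F) _).symm
    rw [h4, mul_right_comm, h3, one_mul]
  have hA : simA hne t = simA hne s := by
    have hiff : simA hne t = 1 ↔ simA hne s = 1 := by
      rw [simA_eq_one_iff, simA_eq_one_iff, hmultv]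
      constructor
      · rintro ⟨r, hr⟩
        refine ⟨σ.symm r, ?_⟩
        rw [← map_mul, ← hr, RingEquiv.symm_apply_apply]
      · rintro ⟨r, hr⟩
        exact ⟨σ r, by rw [hr, map_mul]⟩
    rcases Int.units_eq_one_or (simA hne t) with h1 | h1 <;>
      rcases Int.units_eq_one_or (simA hne s) with h3 | h3
    · rw [h1, h3]
    · exact absurd (hiff.1 h1) (by rw [h3]; decide)
    · exact absurd (hiff.2 h3) (by rw [h1]; decide)
    · rw [h1, h3]
  have hD : simD hG hdet hne hN t = simD hG hdet hne hN s := by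
    have hiff : simD hG hdet hne hN t = 1 ↔ simD hG hdet hne hN s = 1 := by
      rw [simD_eq_one_iff, simD_eq_one_iff, hdett, hmultv, ← map_pow]
      exact σ.injective.eq_iff
    rcases Int.units_eq_one_or (simD hG hdet hne hN t) with h1 | h1 <;>
      rcases Int.units_eq_one_or (simD hG hdet hne hN s) with h3 | h3
    · rw [h1, h3]
    · exact absurd (hiff.1 h1) (by rw [h3]; decide)
    · exact absurd (hiff.2 h3) (by rw [h1]; decide)
    · rw [h1, h3]
  show ((simA hne t, simD hG hdet hne hN t) : ℤˣ × ℤˣ) = (simA hne s, simD hG hdet hne hN s)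
  rw [hA, hD]

/-- a similarity with trivial `simPsi` induces an element of `psoAut` -/
theorem Phi_mem_pso_of_simPsi_gen (hG : IsGram Q G) (hdet : G.det ≠ 0) (hne : ∃ v, Q v ≠ 0)
    {N : ℕ} (hN : Fintype.card κ = 2 * N)
    (hker : ∀ g : ↥(Cfsg.Geo.quadSimilarityGroup (F := F) Q),
      Phi Q g = 1 ↔ ∃ c : F, ((g.1 : GL κ F) : Matrix κ κ F) = c • (1 : Matrix κ κ F))
    (t : ↥(Cfsg.Geo.quadSimilarityGroup (F := F) Q))
    (ht : simPsi hG hdet hne hN t = 1) : Phi Q t ∈ Cfsg.psoAut F Q := by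
  obtain ⟨c, k, hk, rfl⟩ := exists_of_simPsi_eq_one _ _ _ _ t ht
  rw [map_mul, Phi_scalarGO hG hker, one_mul, mem_psoAut_iff]
  exact ⟨k, hk, rfl⟩

/-- an element of `psoAut` induced by a similarity has trivial `simPsi` -/
theorem simPsi_of_Phi_mem_pso_gen (hG : IsGram Q G) (hdet : G.det ≠ 0) (hne : ∃ v, Q v ≠ 0)
    {N : ℕ} (hN : Fintype.card κ = 2 * N)
    (hker : ∀ g : ↥(Cfsg.Geo.quadSimilarityGroup (F := F) Q),
      Phi Q g = 1 ↔ ∃ c : F, ((g.1 : GL κ F) : Matrix κ κ F) = c • (1 : Matrix κ κ F))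
    (t : ↥(Cfsg.Geo.quadSimilarityGroup (F := F) Q))
    (ht : Phi Q t ∈ Cfsg.psoAut F Q) : simPsi hG hdet hne hN t = 1 := by
  rw [mem_psoAut_iff] at ht
  obtain ⟨k, hk, hβ⟩ := ht
  obtain ⟨c, hc⟩ := Phi_eq_imp hG hne hker _ _ hβ
  rw [hc, map_mul, simPsi_scalarGO, one_mul, simPsi_isoGO]
  exact hk

end Cfsg.Agent.Lib.Helper5.OutGen
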