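import Cfsg.Agent.Lib.Helper5.MinusFrobPow
import Cfsg.Agent.Lib.Helper5.OutExt
import Cfsg.Agent.Lib.Helper37.SimDihedral
import Cfsg.Agent.S2727
import Cfsg.Agent.S2728

set_option autoImplicit false
set_option linter.unusedVariables false
set_option linter.unusedSectionVars false
set_option linter.unusedSimpArgs false
set_option linter.style.haveILetI false

/-!
# The outer automorphism group of `PΩ⁻_{2m+2}(q)`, `q` odd
-/

namespace Cfsg.Agent.Lib.Helper5.OutMinus

open Matrix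
open Cfsg.Agent.Lib.Helper37 Cfsg.Agent.Lib.Helper5.AutOrth Cfsg.Agent.Lib.Helper43.OrthField
  Cfsg.Agent.Lib.Helper43.OrthPair Cfsg.Agent.Lib.Helper5.MinusFrobPow
  Cfsg.Agent.Lib.Helper5.OutExt

universe u

section generic

variable {κ : Type} [Fintype κ] [DecidableEq κ] {F : Type u} [Field F] [Fintype F]
  {Q : (κ → F) → F}

/-- a cyclic group with a chosen generator is `ZMod f` with the generator going to `1` -/
theorem exists_equiv_zmod {Γ : Type*} [Group Γ] [Finite Γ] (τ : Γ) {f : ℕ} [NeZero f]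
    (hord : orderOf τ = f) (hcard : Nat.card Γ = f) :
    ∃ e : Γ ≃* Multiplicative (ZMod f), e τ = Multiplicative.ofAdd (1 : ZMod f) := by
  have hτ : τ ^ f = 1 := by rw [← hord]; exact pow_orderOf_eq_one τ
  have hinj : Function.Injective (zmodHom f τ hτ) := by
    rw [injective_iff_map_eq_one]
    intro x hx
    obtain ⟨j, hxj, hj⟩ := zmodHom_apply f τ hτ x
    rw [hj] at hx
    have h1 := orderOf_dvd_iff_zpow_eq_one.2 hx
    rw [hord] at h1
    rw [hxj, (ZMod.intCast_zmod_eq_zero_iff_dvd j f).2 h1]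
    rfl
  have hbij : Function.Bijective (zmodHom f τ hτ) := by
    rw [Nat.bijective_iff_injective_and_card]
    refine ⟨hinj, ?_⟩
    rw [hcard]
    show Nat.card (ZMod f) = f
    rw [Nat.card_eq_fintype_card, ZMod.card]
  refine ⟨(MulEquiv.ofBijective _ hbij).symm, ?_⟩
  rw [MulEquiv.symm_apply_eq]
  show τ = zmodHom f τ hτ (Multiplicative.ofAdd (1 : ZMod f))
  have := zmodHom_intCast f τ hτ 1
  rw [Int.cast_one, zpow_one] at this
  exact this.symm

/-- conjugating a similarity-induced automorphism by a semisimilarity-induced one -/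
theorem conj_Phi {g : GL κ F} {σ : F ≃+* F} (h : Cfsg.IsSemisimilarityPair Q g σ)
    (s : ↥(Cfsg.Geo.quadSimilarityGroup (F := F) Q)) :
    ∃ t : ↥(Cfsg.Geo.quadSimilarityGroup (F := F) Q),
      semiAut h * Phi Q s * (semiAut h)⁻¹ = Phi Q t ∧ t.1 = g * glMap σ s.1 * g⁻¹ := by
  have hs : Cfsg.IsSemisimilarityPair Q s.1 (1 : F ≃+* F) := (pair_refl_iff s.1).2 s.2
  have h1 : Phi Q s = semiAut hs := by
    rw [semiAut_eq_Phi hs]
  have hp := pair_mul (pair_mul h hs) (pair_inv h)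
  have e1 : g * glMap σ s.1 * glMap (σ * 1) (glMap σ⁻¹ g⁻¹) = g * glMap σ s.1 * g⁻¹ := by
    rw [mul_one, glMap_glMap_inv]
  have e2 : σ * 1 * σ⁻¹ = 1 := by rw [mul_one, mul_inv_cancel]
  have hp' : Cfsg.IsSemisimilarityPair Q (g * glMap σ s.1 * g⁻¹) (1 : F ≃+* F) := by
    rw [e1, e2] at hp
    exact hp
  refine ⟨⟨g * glMap σ s.1 * g⁻¹, (pair_refl_iff _).1 hp'⟩, ?_, rfl⟩
  rw [h1, semiAut_inv, semiAut_mul, semiAut_mul, ← semiAut_eq_Phi hp']
  exact semiAut_congr _ _ e1 e2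

/-- the multiplier of the conjugate -/
theorem conj_mult {g : GL κ F} {σ : F ≃+* F} (h : Cfsg.IsSemisimilarityPair Q g σ)
    (s t : ↥(Cfsg.Geo.quadSimilarityGroup (F := F) Q)) (ht : t.1 = g * glMap σ s.1 * g⁻¹)
    (v : κ → F) :
    Q ((t.1 : Matrix κ κ F) *ᵥ v) = σ (simMult Q s : F) * Q v := by
  obtain ⟨c, hc⟩ := h
  obtain ⟨x, rfl⟩ := semiMap_surj g σ v
  have h1 : ((t.1 : GL κ F) : Matrix κ κ F) *ᵥ semiMap g σ x =
      semiMap g σ ((s.1 : Matrix κ κ F) *ᵥ x) := by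
    rw [ht, ← twGL_eq, twGL_mulVec]
  rw [h1]
  unfold semiMap
  rw [hc, hc, simMult_spec Q s x, map_mul]
  ring

end generic

section minus

variable {F : Type u} [Field F] [Fintype F] (hodd : Odd (Fintype.card F)) {m : ℕ} (hm : 3 ≤ m)
  (a b : F) (hab : ∀ z₁ z₂ : F, z₁ ^ 2 + a * z₁ * z₂ + b * z₂ ^ 2 = 0 → z₁ = 0 ∧ z₂ = 0)

include hodd hm hab

/-- `simPsi` is invariant under conjugation by semisimilarities -/
theorem simPsi_conj [DecidableEq F] {g : GL ((Fin m ⊕ Fin m) ⊕ Fin 2) F} {σ : F ≃+* F}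
    (h : Cfsg.IsSemisimilarityPair (Cfsg.quadFormMinus m F a b) g σ)
    (s t : ↥(Cfsg.Geo.quadSimilarityGroup (F := F) (Cfsg.quadFormMinus m F a b)))
    (ht : t.1 = g * glMap σ s.1 * g⁻¹) :
    simPsi (minus_isGram (two_ne_zero_of_odd_card hodd) m a b)
      (gramM_det_ne_zero (two_ne_zero_of_odd_card hodd) m a b hab)
      (Cfsg.Agent.Lib.Helper43.MinusAutCard.minus_hne hm a b hab) (minus_card_two_mul m) t =
    simPsi (minus_isGram (two_ne_zero_of_odd_card hodd) m a b)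
      (gramM_det_ne_zero (two_ne_zero_of_odd_card hodd) m a b hab)
      (Cfsg.Agent.Lib.Helper43.MinusAutCard.minus_hne hm a b hab) (minus_card_two_mul m) s := by
  have h2 := two_ne_zero_of_odd_card hodd
  have hne := Cfsg.Agent.Lib.Helper43.MinusAutCard.minus_hne hm a b hab
  have hG := minus_isGram h2 m a b
  have hdet := gramM_det_ne_zero h2 m a b hab
  have hmult : simMult (Cfsg.quadFormMinus m F a b) t =
      Units.map (σ : F →* F) (simMult (Cfsg.quadFormMinus m F a b) s) :=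
    simMult_unique hne t _ (conj_mult h s t ht)
  have hmultv : ((simMult (Cfsg.quadFormMinus m F a b) t : Fˣ) : F) =
      σ (simMult (Cfsg.quadFormMinus m F a b) s : F) := by
    rw [hmult]; rfl
  have hdett : ((t.1 : GL ((Fin m ⊕ Fin m) ⊕ Fin 2) F) :
      Matrix ((Fin m ⊕ Fin m) ⊕ Fin 2) ((Fin m ⊕ Fin m) ⊕ Fin 2) F).det =
      σ (((s.1 : GL ((Fin m ⊕ Fin m) ⊕ Fin 2) F) :
        Matrix ((Fin m ⊕ Fin m) ⊕ Fin 2) ((Fin m ⊕ Fin m) ⊕ Fin 2) F).det) := by
    rw [ht, Units.val_mul, Units.val_mul, Matrix.det_mul, Matrix.det_mul, glMap_val]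
    have h3 : ((g : Matrix ((Fin m ⊕ Fin m) ⊕ Fin 2) ((Fin m ⊕ Fin m) ⊕ Fin 2) F)).det *
        ((g⁻¹ : GL ((Fin m ⊕ Fin m) ⊕ Fin 2) F) :
          Matrix ((Fin m ⊕ Fin m) ⊕ Fin 2) ((Fin m ⊕ Fin m) ⊕ Fin 2) F).det = 1 := by
      rw [← Matrix.det_mul, ← Units.val_mul, mul_inv_cancel, Units.val_one, Matrix.det_one]
    have h4 : (((s.1 : GL ((Fin m ⊕ Fin m) ⊕ Fin 2) F) :
        Matrix ((Fin m ⊕ Fin m) ⊕ Fin 2) ((Fin m ⊕ Fin m) ⊕ Fin 2) F).map σ).det =
        σ (((s.1 : GL ((Fin m ⊕ Fin m) ⊕ Fin 2) F) :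
          Matrix ((Fin m ⊕ Fin m) ⊕ Fin 2) ((Fin m ⊕ Fin m) ⊕ Fin 2) F).det) :=
      (RingHom.map_det (σ : F →+* F) _).symm
    rw [h4, mul_right_comm, h3, one_mul]
  have hA : simA hne t = simA hne s := by
    have hiff : simA hne t = 1 ↔ simA hne s = 1 := by
      rw [simA_eq_one_iff, simA_eq_one_iff, hmultv]
      constructor
      · rintro ⟨r, hr⟩
        refine ⟨σ.symm r, ?_⟩
        rw [← map_mul, ← hr, RingEquiv.symm_apply_apply]
      · rintro ⟨r, hr⟩
        exact ⟨σ r, by rw [hr, map_mul]⟩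
    rcases Int.units_eq_one_or (simA hne t) with h1 | h1 <;>
      rcases Int.units_eq_one_or (simA hne s) with h3 | h3
    · rw [h1, h3]
    · exact absurd (hiff.1 h1) (by rw [h3]; decide)
    · exact absurd (hiff.2 h3) (by rw [h1]; decide)
    · rw [h1, h3]
  have hD : simD hG hdet hne (minus_card_two_mul m) t = simD hG hdet hne (minus_card_two_mul m) s := by
    have hiff : simD hG hdet hne (minus_card_two_mul m) t = 1 ↔
        simD hG hdet hne (minus_card_two_mul m) s = 1 := by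
      rw [simD_eq_one_iff, simD_eq_one_iff, hdett, hmultv, ← map_pow]
      exact σ.injective.eq_iff
    rcases Int.units_eq_one_or (simD hG hdet hne (minus_card_two_mul m) t) with h1 | h1 <;>
      rcases Int.units_eq_one_or (simD hG hdet hne (minus_card_two_mul m) s) with h3 | h3
    · rw [h1, h3]
    · exact absurd (hiff.1 h1) (by rw [h3]; decide)
    · exact absurd (hiff.2 h3) (by rw [h1]; decide)
    · rw [h1, h3]
  show ((simA hne t, simD hG hdet hne (minus_card_two_mul m) t) : ℤˣ × ℤˣ) =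
    (simA hne s, simD hG hdet hne (minus_card_two_mul m) s)
  rw [hA, hD]

/-- a similarity with trivial `simPsi` induces an element of `psoAut` -/
theorem Phi_mem_pso_of_simPsi [DecidableEq F]
    (t : ↥(Cfsg.Geo.quadSimilarityGroup (F := F) (Cfsg.quadFormMinus m F a b)))
    (ht : simPsi (minus_isGram (two_ne_zero_of_odd_card hodd) m a b)
      (gramM_det_ne_zero (two_ne_zero_of_odd_card hodd) m a b hab)
      (Cfsg.Agent.Lib.Helper43.MinusAutCard.minus_hne hm a b hab) (minus_card_two_mul m) t = 1) :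
    Phi (Cfsg.quadFormMinus m F a b) t ∈ Cfsg.psoAut F (Cfsg.quadFormMinus m F a b) := by
  have h2 := two_ne_zero_of_odd_card hodd
  obtain ⟨c, k, hk, rfl⟩ := exists_of_simPsi_eq_one _ _ _ _ t ht
  rw [map_mul, Phi_scalarGO (minus_isGram h2 m a b) (minus_hker hm a b hab), one_mul,
    mem_psoAut_iff]
  exact ⟨k, hk, rfl⟩

/-- an inner automorphism induced by a similarity has trivial `simPsi` -/
theorem simPsi_of_Phi_mem_inn [DecidableEq F]
    (t : ↥(Cfsg.Geo.quadSimilarityGroup (F := F) (Cfsg.quadFormMinus m F a b)))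
    (ht : Phi (Cfsg.quadFormMinus m F a b) t ∈ Cfsg.Inn (Cfsg.POmega F (Cfsg.quadFormMinus m F a b))) :
    simPsi (minus_isGram (two_ne_zero_of_odd_card hodd) m a b)
      (gramM_det_ne_zero (two_ne_zero_of_odd_card hodd) m a b hab)
      (Cfsg.Agent.Lib.Helper43.MinusAutCard.minus_hne hm a b hab) (minus_card_two_mul m) t = 1 := by
  have h2 := two_ne_zero_of_odd_card hodd
  have hne := Cfsg.Agent.Lib.Helper43.MinusAutCard.minus_hne hm a b hab
  have hG := minus_isGram h2 m a b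
  have hdet := gramM_det_ne_zero h2 m a b hab
  have hpso := inn_le_psoAut hG hdet ht
  rw [mem_psoAut_iff] at hpso
  obtain ⟨k, hk, hβ⟩ := hpso
  obtain ⟨c, hc⟩ := Phi_eq_imp hG hne (minus_hker hm a b hab) _ _ hβ
  rw [hc, map_mul, simPsi_scalarGO, one_mul, simPsi_isoGO]
  exact hk

end minus

section main

variable {F : Type u} [Field F] [Fintype F]

theorem odd_of_pow_mod_four {p f : ℕ} (h : p ^ f % 4 = 3) : Odd f := by
  by_contra hf
  rw [Nat.not_odd_iff_even] at hf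
  obtain ⟨k, rfl⟩ := hf
  rw [← two_mul, pow_mul] at h
  have h1 : (p ^ 2) % 4 = 0 ∨ (p ^ 2) % 4 = 1 := by
    have : p % 4 = 0 ∨ p % 4 = 1 ∨ p % 4 = 2 ∨ p % 4 = 3 := by omega
    rcases this with h0 | h0 | h0 | h0 <;> simp [Nat.pow_mod, h0]
  have h2 : (p ^ 2) ^ k % 4 = 0 ∨ (p ^ 2) ^ k % 4 = 1 := by
    rcases h1 with h1 | h1
    · rcases Nat.eq_zero_or_pos k with rfl | hk
      · right; simp
      · left
        rw [Nat.pow_mod, h1, zero_pow (by omega)]; rfl
    · right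
      rw [Nat.pow_mod, h1, one_pow]; rfl
  omega

/-- the outer automorphism group of `PΩ⁻_{2m+2}(q)`, `q` odd -/
theorem out_minus {p f : ℕ} [Fact p.Prime] (hf : 1 ≤ f) (hF : Fintype.card F = p ^ f)
    (hp : p ≠ 2) {m : ℕ} (hm : 3 ≤ m) (a b : F)
    (hab : ∀ z₁ z₂ : F, z₁ ^ 2 + a * z₁ * z₂ + b * z₂ ^ 2 = 0 → z₁ = 0 ∧ z₂ = 0) :
    if p ^ f % 4 = 3 ∧ Even m then
      Nonempty (Cfsg.Out (Cfsg.POmega F (Cfsg.quadFormMinus m F a b)) ≃*
        DihedralGroup 4 × Multiplicative (ZMod f))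
    else
      Nonempty (Cfsg.Out (Cfsg.POmega F (Cfsg.quadFormMinus m F a b)) ≃*
        Multiplicative (ZMod 2 × ZMod (2 * f))) := by
  classical
  haveI : CharP F p := charP_of_card_eq_prime_pow hF
  haveI : NeZero f := ⟨by omega⟩
  have hpodd : Odd p := (Fact.out : p.Prime).odd_of_ne_two hp
  have hodd : Odd (Fintype.card F) := by rw [hF]; exact hpodd.pow
  have h2 : (2 : F) ≠ 0 := two_ne_zero_of_odd_card hodd
  have hne := Cfsg.Agent.Lib.Helper43.MinusAutCard.minus_hne hm a b hab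
  have hG := minus_isGram h2 m a b
  have hdet := gramM_det_ne_zero h2 m a b hab
  have D := Cfsg.Agent.Lib.Helper43.MinusAutCard.pairData_minus hm a b hab
  haveI : Finite (F ≃+* F) := by
    apply Nat.finite_of_card_ne_zero
    rw [Cfsg.Agent.Lib.Helper43.RingAutFin.card_ringAut' hF]
    omega
  obtain ⟨e, he⟩ := exists_equiv_zmod (frobE (F := F) p) (orderOf_frobE p hF)
    (Cfsg.Agent.Lib.Helper43.RingAutFin.card_ringAut' hF)
  obtain ⟨Θ, hΘdef⟩ : ∃ Θ : MulAut (Cfsg.POmega F (Cfsg.quadFormMinus m F a b)) →*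
      Multiplicative (ZMod f), Θ = e.toMonoidHom.comp D.Theta := ⟨_, rfl⟩
  have hΘs : Function.Surjective Θ := by
    rw [hΘdef]
    exact e.surjective.comp (Cfsg.Agent.Lib.Helper43.MinusAutCard.theta_surjective hm a b hab)
  have hΘk : Θ.ker = Cfsg.pgoAut F (Cfsg.quadFormMinus m F a b) := by
    rw [pgoAut_eq, ← D.Theta_ker, hΘdef]
    ext x
    rw [MonoidHom.mem_ker, MonoidHom.mem_ker, MonoidHom.comp_apply]
    exact e.map_eq_one_iff
  have hIP : Cfsg.Inn (Cfsg.POmega F (Cfsg.quadFormMinus m F a b)) ≤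
      Cfsg.pgoAut F (Cfsg.quadFormMinus m F a b) := by
    rw [pgoAut_eq, ← D.Theta_ker]
    exact D.inn_le_ker
  haveI : Finite (MulAut (Cfsg.POmega F (Cfsg.quadFormMinus m F a b))) := by
    have hfin : Nat.card (MulAut (Cfsg.POmega F (Cfsg.quadFormMinus m F a b))) ≠ 0 := by
      rw [Cfsg.Agent.Lib.Helper43.MinusAutCard.card_mulAut_minus hm a b hab hF]
      have : 0 < Nat.card ↥(Cfsg.isometryGroup F (Cfsg.quadFormMinus m F a b)) := Nat.card_pos
      positivity
    exact Nat.finite_of_card_ne_zero hfin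
  split_ifs with hc
  · -- dihedral case
    obtain ⟨ψ, hψs, hψk⟩ := (Cfsg.Agent.S2728.result hodd hm a b hab).1
      ⟨hc.2, by rw [hF]; exact hc.1⟩
    exact ext_dihedral _ _ hIP (odd_of_pow_mod_four hc.1) Θ hΘs hΘk ψ hψs hψk
  · -- Klein case
    have hnot : ¬ (Even m ∧ Fintype.card F % 4 = 3) := by
      rintro ⟨h1, h3⟩
      exact hc ⟨by rw [← hF]; exact h3, h1⟩
    obtain ⟨ψ, hψs, hψk⟩ := (Cfsg.Agent.S2728.result hodd hm a b hab).2 hnot
    have hpso : Cfsg.psoAut F (Cfsg.quadFormMinus m F a b) ≤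
        Cfsg.Inn (Cfsg.POmega F (Cfsg.quadFormMinus m F a b)) := by
      have := (Cfsg.Agent.S2727.result hodd hm a b hab).2 hnot
      rwa [Subgroup.relIndex_eq_one] at this
    -- centrality
    have hcen : ∀ α : MulAut (Cfsg.POmega F (Cfsg.quadFormMinus m F a b)),
        ∀ x ∈ Cfsg.pgoAut F (Cfsg.quadFormMinus m F a b),
        α * x * α⁻¹ * x⁻¹ ∈ Cfsg.Inn (Cfsg.POmega F (Cfsg.quadFormMinus m F a b)) := by
      intro α x hx
      obtain ⟨σ, g, h, rfl⟩ := D.exists_pair α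
      rw [pgoAut_eq] at hx
      obtain ⟨s, rfl⟩ := hx
      obtain ⟨t, ht1, ht2⟩ := conj_Phi h s
      rw [ht1, ← map_inv, ← map_mul]
      apply hpso
      apply Phi_mem_pso_of_simPsi hodd hm a b hab
      rw [map_mul, map_inv, simPsi_conj hodd hm a b hab h s t ht2, mul_inv_cancel]
    -- the Frobenius element
    have hc0 : Θ (semiAut (pairN p m a b hab 1)) = Multiplicative.ofAdd (1 : ZMod f) := by
      rw [hΘdef, MonoidHom.comp_apply, D.Theta_semiAut, pow_one]
      exact he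
    have hc0I : semiAut (pairN p m a b hab 1) ^ f ∉
        Cfsg.Inn (Cfsg.POmega F (Cfsg.quadFormMinus m F a b)) := by
      rw [semiAut_pow_card p m a b hab hF]
      intro hin
      have h1 := simPsi_of_Phi_mem_inn hodd hm a b hab _ hin
      rw [simPsi_eq_one_iff] at h1
      have h3 : simMult (Cfsg.quadFormMinus m F a b)
          ⟨gGL p m a b hab f, gGL_card_mem p m a b hab hF⟩ = 1 := by
        apply simMult_unique hne
        intro v
        rw [Units.val_one, one_mul]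
        exact gGL_card_mult p m a b hab hF v
      have h4 := h1.2
      rw [h3, Units.val_one, one_pow] at h4
      have h5 := gGL_card_det p m a b hab hF
      rw [h5] at h4
      have : (2 : F) = 0 := by linear_combination -h4
      exact h2 this
    exact ext_klein _ _ hIP Θ hΘs hΘk ψ hψs hψk hcen _ hc0 hc0I

end main

end Cfsg.Agent.Lib.Helper5.OutMinus
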