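import Cfsg.Agent.Lib.Helper5.OutPlusBasic
import Cfsg.Agent.Lib.Helper5.OutExt4
import Cfsg.Agent.S2723
import Cfsg.Agent.S2724

set_option autoImplicit false
set_option linter.unusedVariables false
set_option linter.unusedSectionVars false
set_option linter.unusedSimpArgs false
set_option linter.style.haveILetI false

/-!
# `PΓO⁺_{2m}(q)` modulo the inner automorphisms, `q` odd
-/

namespace Cfsg.Agent.Lib.Helper5.OutPlus

open Matrix
open scoped Classical
open Cfsg.Agent.Lib.Helper37 Cfsg.Agent.Lib.Helper5.AutOrth Cfsg.Agent.Lib.Helper43.OrthField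
  Cfsg.Agent.Lib.Helper43.OrthPair Cfsg.Agent.Lib.Helper5.OutMinus
  Cfsg.Agent.Lib.Helper5.OutExt Cfsg.Agent.Lib.Helper5.PlusAutCard
  Cfsg.Agent.Lib.Helper5.GammaCard Cfsg.Agent.Lib.Helper5.MinusFrobPow
  Cfsg.Agent.Lib.Helper5.OutGen

universe u

variable {F : Type u} [Field F] [Fintype F] {m : ℕ}

theorem gamma_finite (hm : 4 ≤ m) : Finite ↥(Cfsg.gammaPOmega F (Cfsg.quadFormPlus m F)) := by
  obtain ⟨p, hp⟩ := CharP.exists F
  have := hp
  have : Fact p.Prime := ⟨CharP.char_is_prime F p⟩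
  obtain ⟨f, hf, hF⟩ : ∃ f : ℕ, 0 < f ∧ Fintype.card F = p ^ f := by
    obtain ⟨n, hn⟩ := FiniteField.card F p
    exact ⟨n, n.2, hn.2⟩
  apply Nat.finite_of_card_ne_zero
  rw [card_gamma_plus hm hF]
  have : 0 < Nat.card ↥(Cfsg.isometryGroup F (Cfsg.quadFormPlus m F)) := Nat.card_pos
  positivity

theorem pgo_le_gamma : Cfsg.pgoAut F (Cfsg.quadFormPlus m F) ≤
    Cfsg.gammaPOmega F (Cfsg.quadFormPlus m F) := by
  rw [pgoAut_eq]
  exact Phi_range_le

theorem pso_le_pgo : Cfsg.psoAut F (Cfsg.quadFormPlus m F) ≤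
    Cfsg.pgoAut F (Cfsg.quadFormPlus m F) := by
  intro β hβ
  rw [mem_psoAut_iff] at hβ
  obtain ⟨k, -, rfl⟩ := hβ
  rw [pgoAut_eq]
  exact ⟨_, rfl⟩

/-- the field-automorphism quotient of `PΓO⁺`, with values in `ZMod f` -/
theorem exists_Theta {p f : ℕ} [Fact p.Prime] [CharP F p] (hf : 1 ≤ f)
    (hF : Fintype.card F = p ^ f) (hm : 4 ≤ m) :
    ∃ Θ : ↥(Cfsg.gammaPOmega F (Cfsg.quadFormPlus m F)) →* Multiplicative (ZMod f),
      Function.Surjective Θ ∧
      Θ.ker = (Cfsg.pgoAut F (Cfsg.quadFormPlus m F)).subgroupOf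
        (Cfsg.gammaPOmega F (Cfsg.quadFormPlus m F)) ∧
      Θ ⟨fieldHom m F (frobE p), fieldHom_mem_gamma _⟩ = Multiplicative.ofAdd (1 : ZMod f) := by
  haveI : NeZero f := ⟨by omega⟩
  haveI : Finite (F ≃+* F) := by
    apply Nat.finite_of_card_ne_zero
    rw [Cfsg.Agent.Lib.Helper43.RingAutFin.card_ringAut' hF]
    omega
  obtain ⟨e, he⟩ := exists_equiv_zmod (frobE (F := F) p) (orderOf_frobE p hF)
    (Cfsg.Agent.Lib.Helper43.RingAutFin.card_ringAut' hF)
  have hk : HKer (Cfsg.quadFormPlus m F) := plus_hKer hm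
  refine ⟨e.toMonoidHom.comp (ThetaG hk), ?_, ?_, ?_⟩
  · exact e.surjective.comp (ThetaG_surjective hk (exists_pair_plus m))
  · rw [pgoAut_eq, ← ThetaG_ker hk]
    ext x
    rw [MonoidHom.mem_ker, MonoidHom.mem_ker, MonoidHom.comp_apply]
    exact e.map_eq_one_iff
  · rw [MonoidHom.comp_apply]
    have : ThetaG hk ⟨fieldHom m F (frobE p), fieldHom_mem_gamma _⟩ = frobE p :=
      ThetaG_semiAut hk (pair_plus m (frobE p))
    rw [this]
    exact he

theorem fieldHom_frob_pow {p f : ℕ} [Fact p.Prime] [CharP F p]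
    (hF : Fintype.card F = p ^ f) : fieldHom m F (frobE p) ^ f = 1 := by
  rw [← map_pow]
  have h := pow_orderOf_eq_one (frobE (F := F) p)
  rw [orderOf_frobE p hF] at h
  rw [h, map_one]

section odd

variable (hodd : Odd (Fintype.card F))
include hodd

/-- commutators of `PΓO⁺` with `PGO⁺` lie in `PSO⁺` (in the field direction) -/
theorem comm_mem_pso (hm : 4 ≤ m) (σ : F ≃+* F)
    (x : MulAut (Cfsg.POmega F (Cfsg.quadFormPlus m F)))
    (hx : x ∈ Cfsg.pgoAut F (Cfsg.quadFormPlus m F)) :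
    fieldHom m F σ * x * (fieldHom m F σ)⁻¹ * x⁻¹ ∈ Cfsg.psoAut F (Cfsg.quadFormPlus m F) := by
  have h2 := two_ne_zero_of_odd_card hodd
  rw [pgoAut_eq] at hx
  obtain ⟨s, rfl⟩ := hx
  obtain ⟨t, ht1, -, ht3⟩ := fieldHom_conj_Phi σ s
  rw [ht1, ← map_inv, ← map_mul]
  apply Phi_mem_pso_of_simPsi_gen (plus_isGram h2 m) (gramP_det_ne_zero m)
    (plus_hne (by omega)) (plus_card_two_mul m) (plus_hker hm)
  rw [map_mul, map_inv, simPsi_conj_gen (plus_isGram h2 m) (gramP_det_ne_zero m)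
    (plus_hne (by omega)) (plus_card_two_mul m) (pair_plus m σ) s t ht3, mul_inv_cancel]

/-- the reflection does not induce an element of `PSO⁺` -/
theorem swap_not_mem_pso (hm : 4 ≤ m) :
    Phi (Cfsg.quadFormPlus m F) (swapSim m F (by omega)) ∉
      Cfsg.psoAut F (Cfsg.quadFormPlus m F) := by
  have h2 := two_ne_zero_of_odd_card hodd
  intro hmem
  have h1 := simPsi_of_Phi_mem_pso_gen (plus_isGram h2 m) (gramP_det_ne_zero m)
    (plus_hne (by omega)) (plus_card_two_mul m) (plus_hker hm) _ hmem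
  rw [simPsi_eq_one_iff] at h1
  have h3 := h1.2
  rw [simMult_swapSim, Units.val_one, one_pow] at h3
  have h4 : ((swapSim m F (by omega : 1 ≤ m)).1 : Matrix (Fin m ⊕ Fin m) (Fin m ⊕ Fin m) F) =
      swapMat m F (by omega) := rfl
  rw [h4, swapMat_det] at h3
  have : (2 : F) = 0 := by linear_combination -h3
  exact h2 this

/-- `PSO⁺` is normalised by `PGO⁺` -/
theorem pso_normal (hm : 4 ≤ m)
    (x : MulAut (Cfsg.POmega F (Cfsg.quadFormPlus m F)))
    (hx : x ∈ Cfsg.pgoAut F (Cfsg.quadFormPlus m F))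
    (y : MulAut (Cfsg.POmega F (Cfsg.quadFormPlus m F)))
    (hy : y ∈ Cfsg.psoAut F (Cfsg.quadFormPlus m F)) :
    x * y * x⁻¹ ∈ Cfsg.psoAut F (Cfsg.quadFormPlus m F) := by
  have h2 := two_ne_zero_of_odd_card hodd
  rw [pgoAut_eq] at hx
  obtain ⟨s, rfl⟩ := hx
  have hy' := pso_le_pgo hy
  rw [pgoAut_eq] at hy'
  obtain ⟨t, rfl⟩ := hy'
  have h1 := simPsi_of_Phi_mem_pso_gen (plus_isGram h2 m) (gramP_det_ne_zero m)
    (plus_hne (by omega)) (plus_card_two_mul m) (plus_hker hm) _ hy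
  rw [← map_inv, ← map_mul, ← map_mul]
  apply Phi_mem_pso_of_simPsi_gen (plus_isGram h2 m) (gramP_det_ne_zero m)
    (plus_hne (by omega)) (plus_card_two_mul m) (plus_hker hm)
  rw [map_mul, map_mul, map_inv, h1, mul_one, mul_inv_cancel]

end odd

/-- **`PΓO⁺_{2m}(q)` modulo the inner automorphisms**, `q` odd, `m ≥ 4` -/
theorem gamma_mod_inn_odd {p f : ℕ} [Fact p.Prime] (hf : 1 ≤ f) (hF : Fintype.card F = p ^ f)
    (hp : p ≠ 2) (hm : 4 ≤ m) :
    if p ^ f % 4 = 3 ∧ Odd m then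
      Nonempty (↥(Cfsg.gammaPOmega F (Cfsg.quadFormPlus m F)) ⧸
        (Cfsg.Inn (Cfsg.POmega F (Cfsg.quadFormPlus m F))).subgroupOf
          (Cfsg.gammaPOmega F (Cfsg.quadFormPlus m F)) ≃*
        Multiplicative (ZMod 2 × ZMod 2) × Multiplicative (ZMod f))
    else
      Nonempty (↥(Cfsg.gammaPOmega F (Cfsg.quadFormPlus m F)) ⧸
        (Cfsg.Inn (Cfsg.POmega F (Cfsg.quadFormPlus m F))).subgroupOf
          (Cfsg.gammaPOmega F (Cfsg.quadFormPlus m F)) ≃*
        DihedralGroup 4 × Multiplicative (ZMod f)) := by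
  classical
  haveI : CharP F p := charP_of_card_eq_prime_pow hF
  haveI : NeZero f := ⟨by omega⟩
  have hpodd : Odd p := (Fact.out : p.Prime).odd_of_ne_two hp
  have hodd : Odd (Fintype.card F) := by rw [hF]; exact hpodd.pow
  have h2 : (2 : F) ≠ 0 := two_ne_zero_of_odd_card hodd
  haveI := gamma_finite (F := F) hm
  obtain ⟨Θ, hΘs, hΘk, hΘφ⟩ := exists_Theta hf hF hm
  have hIS : Cfsg.Inn (Cfsg.POmega F (Cfsg.quadFormPlus m F)) ≤
      Cfsg.psoAut F (Cfsg.quadFormPlus m F) :=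
    inn_le_psoAut (plus_isGram h2 m) (gramP_det_ne_zero m)
  have hφf : fieldHom m F (frobE p) ^ f ∈ Cfsg.Inn (Cfsg.POmega F (Cfsg.quadFormPlus m F)) := by
    rw [fieldHom_frob_pow hF]
    exact Subgroup.one_mem _
  split_ifs with hc
  · -- Klein case
    obtain ⟨ψ, hψs, hψk⟩ := (Cfsg.Agent.S2724.result hodd hm).1 ⟨hc.2, by rw [hF]; exact hc.1⟩
    have hpso : Cfsg.psoAut F (Cfsg.quadFormPlus m F) ≤
        Cfsg.Inn (Cfsg.POmega F (Cfsg.quadFormPlus m F)) := by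
      have := (Cfsg.Agent.S2723.result hodd hm).1 ⟨hc.2, by rw [hF]; exact hc.1⟩
      rwa [Subgroup.relIndex_eq_one] at this
    exact ext_central_rel _ _ _ (hIS.trans pso_le_pgo) pgo_le_gamma Θ hΘs hΘk ψ hψs hψk
      (fieldHom m F (frobE p)) (fieldHom_mem_gamma _) hΘφ hφf
      (fun x hx => hpso (comm_mem_pso hodd hm _ x hx))
  · -- dihedral case
    have hnot : ¬ (Odd m ∧ Fintype.card F % 4 = 3) := by
      rintro ⟨h1, h3⟩
      exact hc ⟨by rw [← hF]; exact h3, h1⟩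
    obtain ⟨ψ, hψs, hψk⟩ := (Cfsg.Agent.S2724.result hodd hm).2 hnot
    have hSI := (Cfsg.Agent.S2723.result hodd hm).2 hnot
    refine ext_dihedral_rel _ _ _ _ hIS pso_le_pgo pgo_le_gamma Θ hΘs hΘk ψ hψs hψk
      (fun x hx y hy => pso_normal hodd hm x hx y hy) hSI
      (fieldHom m F (frobE p)) (fieldHom_mem_gamma _) hΘφ hφf
      (Phi (Cfsg.quadFormPlus m F) (swapSim m F (by omega))) ?_ ?_
      (swap_not_mem_pso hodd hm) ?_ (fun x hx => comm_mem_pso hodd hm _ x hx)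
    · rw [pgoAut_eq]; exact ⟨_, rfl⟩
    · rw [← map_mul, swapSim_mul_self, map_one]
      exact Subgroup.one_mem _
    · rw [fieldHom_comm_swap, mul_inv_cancel]
      exact Subgroup.one_mem _

end Cfsg.Agent.Lib.Helper5.OutPlus
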