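import Mathlib
import Cfsg.Agent.Lib.Helper5.GammaCard
import Cfsg.Agent.Lib.Helper5.AutOrthD4Inst
import Cfsg.Agent.Lib.Helper43.EvenOrthAut
import Cfsg.Agent.Lib.Helper43.RingAutFin
import Cfsg.Agent.Lib.Helper37.PlusAut
import Cfsg.Agent.Lib.Helper37.POmegaCard
import Cfsg.Agent.S0790
import Cfsg.Agent.S0818
import Cfsg.Agent.S2695

set_option autoImplicit false
set_option linter.unusedSectionVars false
set_option linter.unusedVariables false
set_option linter.style.haveILetI false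

/-!
# The order of `PΓO⁺_{2m}(q)` acting on `PΩ⁺_{2m}(q)`
-/

namespace Cfsg.Agent.Lib.Helper5.PlusAutCard

open Matrix Module
open Cfsg.Agent.Lib.Helper8 Cfsg.Agent.Lib.Helper37 Cfsg.Agent.Lib.Helper43
open Cfsg.Agent.Lib.Helper5.AutOrth Cfsg.Agent.Lib.Helper43.OrthPair
open Cfsg.Agent.Lib.Helper5.GammaCard

universe u

variable {F : Type u} [Field F] [Fintype F] {m : ℕ}

theorem plus_hKer (hm : 4 ≤ m) : HKer (Cfsg.quadFormPlus m F) := by
  intro g σ h h1
  have hfr : Module.finrank F (Fin m ⊕ Fin m → F) = m + m := by simp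
  have key : ∀ {g : GL (Fin m ⊕ Fin m) F} {σ : F ≃+* F}
      (h : Cfsg.IsSemisimilarityPair (⇑(plusForm m F)) g σ), semiAut h = 1 → σ = 1 := by
    intro g σ h h1
    exact sigma_eq_one_of_semiAut_eq_one (plusForm m F) (plusForm_nondegenerate m F)
      (plus_hypFam F m) (by omega) (by omega) (fun _ => by omega) h h1
  revert g σ h h1
  rw [plusForm_coe]
  intro g σ h h1
  exact key h h1

/-- every field automorphism occurs in a semisimilarity pair of the hyperbolic form -/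
theorem exists_pair_plus (m : ℕ) (σ : F ≃+* F) :
    ∃ g : GL (Fin m ⊕ Fin m) F, Cfsg.IsSemisimilarityPair (Cfsg.quadFormPlus m F) g σ := by
  refine ⟨1, 1, fun v => ?_⟩
  rw [Units.val_one, Matrix.one_mulVec, Units.val_one, one_mul]
  unfold Cfsg.quadFormPlus
  rw [map_sum]
  apply Finset.sum_congr rfl
  intro i _
  rw [map_mul]

theorem plus_hne (hm : 1 ≤ m) : ∃ v, Cfsg.quadFormPlus m F v ≠ 0 := by
  rw [plusForm_coe]
  exact plusForm_exists_ne_zero m F hm

theorem plus_mult_surj (hm : 1 ≤ m) (c : Fˣ) :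
    ∃ g : ↥(Cfsg.Geo.quadSimilarityGroup (F := F) (Cfsg.quadFormPlus m F)),
      simMult (Cfsg.quadFormPlus m F) g = c := by
  refine ⟨plusSim m c, ?_⟩
  apply simMult_unique (plus_hne hm)
  intro v
  show Cfsg.quadFormPlus m F (Matrix.diagonal (Sum.elim (fun _ => (c : F)) (fun _ => 1)) *ᵥ v)
    = (c : F) * Cfsg.quadFormPlus m F v
  unfold Cfsg.quadFormPlus
  rw [Finset.mul_sum]
  apply Finset.sum_congr rfl
  intro i _
  rw [Matrix.mulVec_diagonal, Matrix.mulVec_diagonal]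
  simp only [Sum.elim_inl, Sum.elim_inr]
  ring

/-- the image of the conformal group in `Aut(PΩ⁺)` has the order of the orthogonal group -/
theorem card_range_Phi_plus (hm : 4 ≤ m) :
    Nat.card (Phi (Cfsg.quadFormPlus m F)).range =
      Nat.card ↥(Cfsg.isometryGroup F (Cfsg.quadFormPlus m F)) := by
  have h1 := plus_hne (F := F) (m := m) (by omega)
  have h2 := plus_hker (F := F) hm
  have h3 := plus_mult_surj (F := F) (m := m) (by omega)
  haveI : Nonempty (Fin m ⊕ Fin m) := ⟨Sum.inl ⟨0, by omega⟩⟩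
  rw [plusForm_coe] at h1 h2 h3 ⊢
  exact EvenOrthAut.card_range_Phi_eq (plusForm m F) h1 h2 h3

/-- `|PΓO⁺| = f |O⁺|` -/
theorem card_gamma_plus (hm : 4 ≤ m) {p f : ℕ} [Fact p.Prime] (hF : Fintype.card F = p ^ f) :
    Nat.card ↥(Cfsg.gammaPOmega F (Cfsg.quadFormPlus m F)) =
      f * Nat.card ↥(Cfsg.isometryGroup F (Cfsg.quadFormPlus m F)) := by
  rw [card_gamma (plus_hKer hm) (exists_pair_plus m),
    Cfsg.Agent.Lib.Helper43.RingAutFin.card_ringAut' hF, card_range_Phi_plus hm]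

/-- `|O⁺_{2m}(q)| = d |PΩ⁺_{2m}(q)|` -/
theorem card_GO_plus (hm : 4 ≤ m) {p f : ℕ} [Fact p.Prime] (hf : 1 ≤ f)
    (hF : Fintype.card F = p ^ f) :
    Nat.card ↥(Cfsg.isometryGroup F (Cfsg.quadFormPlus m F)) =
      (if p = 2 then 2 else (if Even (m * (p ^ f - 1) / 2) then 8 else 4)) *
        Nat.card (Cfsg.POmega F (Cfsg.quadFormPlus m F)) := by
  obtain ⟨k, rfl⟩ : ∃ k, m = k + 1 := ⟨m - 1, by omega⟩
  have hO := card_isometryGroup_plus (F := F) k
  rw [mul_assoc, mul_assoc] at hO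
  have hcrit := fun hodd => Cfsg.Agent.S0790.result (F := F) hF hodd (k + 1) (by omega)
  rw [plusForm_coe] at hO hcrit ⊢
  obtain ⟨hA, hB, hC⟩ := card_pomega_generic (plusForm (k + 1) F)
    (plusForm_nondegenerate (k + 1) F) (plus_hypFam F (k + 1)) (by omega) (by simp; omega) _ hO
  rw [hO]
  by_cases h2 : (2 : F) = 0
  · have hev : Even (p ^ f) := by rw [← hF]; exact two_eq_zero_iff_even_card.mp h2
    have hp2 : p = 2 := by
      have h1 : Even p := (Nat.even_pow.1 hev).1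
      exact ((Fact.out : p.Prime).even_iff).1 h1
    rw [if_pos hp2, ← hA h2]
  · have hodd : Odd (p ^ f) := by
      rw [← Nat.not_even_iff_odd, ← hF]
      exact fun h => h2 (two_eq_zero_iff_even_card.mpr h)
    have hp2 : p ≠ 2 := by
      rintro rfl
      have : Even (2 ^ f) := (Nat.even_pow.2 ⟨even_two, by omega⟩)
      exact (Nat.not_even_iff_odd.2 hodd) this
    have hcrit' := hcrit hodd
    rw [if_neg hp2]
    have hoddm : Odd ((p ^ f) ^ (k + 1)) := hodd.pow
    have h13 : (p ^ f) ^ (k + 1) % 4 = 1 ∨ (p ^ f) ^ (k + 1) % 4 = 3 := by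
      have := Nat.odd_iff.1 hoddm
      omega
    by_cases hq : (p ^ f) ^ (k + 1) % 4 = 1
    · have hev : Even ((k + 1) * (p ^ f - 1) / 2) := by
        by_contra hne
        have := (Cfsg.Agent.S0818.pow_mod_four_iff _ _ hodd).2 hne
        omega
      rw [if_pos hev, ← hB h2 (hcrit'.mpr hq)]
      ring
    · have h3 : (p ^ f) ^ (k + 1) % 4 = 3 := by omega
      have hne : ¬ Even ((k + 1) * (p ^ f - 1) / 2) :=
        (Cfsg.Agent.S0818.pow_mod_four_iff _ _ hodd).1 h3
      rw [if_neg hne, ← hC h2 (fun h => hq (hcrit'.mp h))]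
      ring

/-- a subgroup of index at most `3` avoiding an element whose cube it contains has index `3` -/
theorem index_eq_three {A : Type*} [Group A] (P : Subgroup A) (hle : P.index ≤ 3)
    (h0 : P.index ≠ 0) (τ : A) (h1 : τ ∉ P) (h3 : τ ^ 3 ∈ P) : P.index = 3 := by
  have hne1 : P.index ≠ 1 := by
    intro h
    rw [Subgroup.index_eq_one] at h
    exact h1 (h ▸ Subgroup.mem_top τ)
  have hne2 : P.index ≠ 2 := by
    intro h
    have e1 : τ * τ ∈ P := (Subgroup.mul_mem_iff_of_index_two h).2 (iff_of_false h1 h1)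
    have e2 : τ ^ 3 = (τ * τ) * τ := by rw [pow_succ, pow_two]
    rw [e2, Subgroup.mul_mem_iff_of_index_two h] at h3
    exact h1 (h3.1 e1)
  omega

/-- `|Aut(PΩ⁺_{2m}(q))|` for `m ≥ 5` -/
theorem card_aut_plus_ge5 (hm : 5 ≤ m) {p f : ℕ} [Fact p.Prime] (hf : 1 ≤ f)
    (hF : Fintype.card F = p ^ f) :
    Nat.card (MulAut (Cfsg.POmega F (Cfsg.quadFormPlus m F))) =
      (if p = 2 then 2 else (if Even (m * (p ^ f - 1) / 2) then 8 else 4)) * f *
        Nat.card (Cfsg.POmega F (Cfsg.quadFormPlus m F)) := by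
  have h1 := card_gamma_plus (F := F) (m := m) (by omega) hF
  rw [Cfsg.Agent.S2695.result hm, Subgroup.card_top, card_GO_plus (by omega) hf hF] at h1
  rw [h1]
  ring

/-- `|Aut(PΩ⁺₈(q))|`, given that `PΓO⁺₈(q)` has index `3` -/
theorem card_aut_plus_four {p f : ℕ} [Fact p.Prime] (hf : 1 ≤ f)
    (hF : Fintype.card F = p ^ f)
    (h3 : (Cfsg.gammaPOmega F (Cfsg.quadFormPlus 4 F)).index = 3) :
    Nat.card (MulAut (Cfsg.POmega F (Cfsg.quadFormPlus 4 F))) =
      3 * (if p = 2 then 2 else (if Even (4 * (p ^ f - 1) / 2) then 8 else 4)) * f *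
        Nat.card (Cfsg.POmega F (Cfsg.quadFormPlus 4 F)) := by
  have h1 := card_gamma_plus (F := F) (m := 4) le_rfl hF
  rw [card_GO_plus le_rfl hf hF] at h1
  rw [← Subgroup.index_mul_card (Cfsg.gammaPOmega F (Cfsg.quadFormPlus 4 F)), h3, h1]
  ring

end Cfsg.Agent.Lib.Helper5.PlusAutCard
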