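import Cfsg.Agent.Lib.Helper5.OutGen
import Cfsg.Agent.Lib.Helper5.PlusAutCard

set_option autoImplicit false
set_option linter.unusedVariables false
set_option linter.unusedSectionVars false
set_option linter.unusedSimpArgs false
set_option linter.style.haveILetI false

/-!
# Field automorphisms and the standard reflection acting on `PΩ⁺_{2m}(F)`
-/

namespace Cfsg.Agent.Lib.Helper5.OutPlus

open Matrix
open Cfsg.Agent.Lib.Helper37 Cfsg.Agent.Lib.Helper5.AutOrth Cfsg.Agent.Lib.Helper43.OrthField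
  Cfsg.Agent.Lib.Helper43.OrthPair Cfsg.Agent.Lib.Helper5.OutMinus
  Cfsg.Agent.Lib.Helper5.OutExt Cfsg.Agent.Lib.Helper5.PlusAutCard
  Cfsg.Agent.Lib.Helper5.GammaCard

universe u

variable {F : Type u} [Field F] [Fintype F] {m : ℕ}

/-- the hyperbolic form commutes with field automorphisms -/
theorem pair_plus (m : ℕ) (σ : F ≃+* F) :
    Cfsg.IsSemisimilarityPair (Cfsg.quadFormPlus m F) (1 : GL (Fin m ⊕ Fin m) F) σ := by
  refine ⟨1, fun v => ?_⟩
  rw [Units.val_one, Matrix.one_mulVec, Units.val_one, one_mul]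
  unfold Cfsg.quadFormPlus
  rw [map_sum]
  apply Finset.sum_congr rfl
  intro i _
  rw [map_mul]

/-- the standard field automorphisms of `PΩ⁺_{2m}(F)` -/
noncomputable def fieldHom (m : ℕ) (F : Type u) [Field F] [Fintype F] :
    (F ≃+* F) →* MulAut (Cfsg.POmega F (Cfsg.quadFormPlus m F)) where
  toFun σ := semiAut (pair_plus m σ)
  map_one' := by
    rw [← semiAut_one]
  map_mul' σ τ := by
    rw [semiAut_mul]
    apply semiAut_congr
    · rw [map_one, mul_one]
    · rfl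

theorem fieldHom_apply (σ : F ≃+* F) : fieldHom m F σ = semiAut (pair_plus m σ) := rfl

theorem fieldHom_mem_gamma (σ : F ≃+* F) :
    fieldHom m F σ ∈ Cfsg.gammaPOmega F (Cfsg.quadFormPlus m F) :=
  semiAut_mem_gamma _

/-- conjugating a similarity-induced automorphism by a standard field automorphism -/
theorem fieldHom_conj_Phi (σ : F ≃+* F)
    (s : ↥(Cfsg.Geo.quadSimilarityGroup (F := F) (Cfsg.quadFormPlus m F))) :
    ∃ t : ↥(Cfsg.Geo.quadSimilarityGroup (F := F) (Cfsg.quadFormPlus m F)),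
      fieldHom m F σ * Phi (Cfsg.quadFormPlus m F) s * (fieldHom m F σ)⁻¹ =
        Phi (Cfsg.quadFormPlus m F) t ∧ t.1 = glMap σ s.1 ∧
        t.1 = (1 : GL (Fin m ⊕ Fin m) F) * glMap σ s.1 * (1 : GL (Fin m ⊕ Fin m) F)⁻¹ := by
  obtain ⟨t, ht1, ht2⟩ := conj_Phi (pair_plus m σ) s
  refine ⟨t, ht1, ?_, ht2⟩
  rw [ht2, one_mul, inv_one, mul_one]

/-- the permutation matrix swapping the first hyperbolic pair -/
noncomputable def swapMat (m : ℕ) (F : Type u) [Field F] (hm : 1 ≤ m) :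
    Matrix (Fin m ⊕ Fin m) (Fin m ⊕ Fin m) F :=
  (Equiv.swap (Sum.inl (⟨0, hm⟩ : Fin m)) (Sum.inr (⟨0, hm⟩ : Fin m))).toPEquiv.toMatrix

theorem swapMat_mulVec (hm : 1 ≤ m) (v : Fin m ⊕ Fin m → F) :
    swapMat m F hm *ᵥ v =
      v ∘ (Equiv.swap (Sum.inl (⟨0, hm⟩ : Fin m)) (Sum.inr (⟨0, hm⟩ : Fin m))) :=
  PEquiv.toMatrix_toPEquiv_mulVec _ _

theorem swapMat_mul_self (hm : 1 ≤ m) : swapMat m F hm * swapMat m F hm = 1 := by
  unfold swapMat
  rw [← PEquiv.toMatrix_trans, ← Equiv.toPEquiv_trans]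
  have : (Equiv.swap (Sum.inl (⟨0, hm⟩ : Fin m)) (Sum.inr (⟨0, hm⟩ : Fin m))).trans
      (Equiv.swap (Sum.inl (⟨0, hm⟩ : Fin m)) (Sum.inr (⟨0, hm⟩ : Fin m))) = Equiv.refl _ := by
    ext x
    simp
  rw [this, Equiv.toPEquiv_refl, PEquiv.toMatrix_refl]

theorem swapMat_det (hm : 1 ≤ m) : (swapMat m F hm).det = -1 := by
  have h := Matrix.det_permutation (R := F)
    (Equiv.swap (Sum.inl (⟨0, hm⟩ : Fin m)) (Sum.inr (⟨0, hm⟩ : Fin m)))
  unfold swapMat
  unfold Equiv.Perm.permMatrix at h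
  rw [h, Equiv.Perm.sign_swap (by simp)]
  simp

theorem swapMat_map (hm : 1 ≤ m) (σ : F ≃+* F) : (swapMat m F hm).map σ = swapMat m F hm := by
  ext i j
  unfold swapMat
  simp only [Matrix.map_apply, PEquiv.toMatrix_apply]
  split_ifs <;> simp

theorem swapMat_Q (hm : 1 ≤ m) (v : Fin m ⊕ Fin m → F) :
    Cfsg.quadFormPlus m F (swapMat m F hm *ᵥ v) = Cfsg.quadFormPlus m F v := by
  rw [swapMat_mulVec]
  unfold Cfsg.quadFormPlus
  apply Finset.sum_congr rfl
  intro i _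
  by_cases hi : i = ⟨0, hm⟩
  · subst hi
    simp only [Function.comp_apply, Equiv.swap_apply_left, Equiv.swap_apply_right]
    ring
  · have h1 : (Sum.inl i : Fin m ⊕ Fin m) ≠ Sum.inl ⟨0, hm⟩ := fun h => hi (Sum.inl.inj h)
    have h2 : (Sum.inr i : Fin m ⊕ Fin m) ≠ Sum.inr ⟨0, hm⟩ := fun h => hi (Sum.inr.inj h)
    simp only [Function.comp_apply]
    rw [Equiv.swap_apply_of_ne_of_ne h1 (by simp), Equiv.swap_apply_of_ne_of_ne (by simp) h2]

/-- the reflection as an element of `GL` -/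
noncomputable def swapGL (m : ℕ) (F : Type u) [Field F] [Fintype F] (hm : 1 ≤ m) :
    GL (Fin m ⊕ Fin m) F :=
  ⟨swapMat m F hm, swapMat m F hm, swapMat_mul_self hm, swapMat_mul_self hm⟩

/-- the reflection as a similarity -/
noncomputable def swapSim (m : ℕ) (F : Type u) [Field F] [Fintype F] (hm : 1 ≤ m) :
    ↥(Cfsg.Geo.quadSimilarityGroup (F := F) (Cfsg.quadFormPlus m F)) :=
  ⟨swapGL m F hm, 1, fun v => by
    rw [Units.val_one, one_mul]
    exact swapMat_Q hm v⟩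

theorem swapSim_mul_self (hm : 1 ≤ m) : swapSim m F hm * swapSim m F hm = 1 := by
  apply Subtype.ext
  apply Units.ext
  exact swapMat_mul_self hm

theorem simMult_swapSim (hm : 1 ≤ m) : simMult (Cfsg.quadFormPlus m F) (swapSim m F hm) = 1 := by
  apply simMult_unique (plus_hne hm)
  intro v
  rw [Units.val_one, one_mul]
  exact swapMat_Q hm v

theorem glMap_swapGL (hm : 1 ≤ m) (σ : F ≃+* F) : glMap σ (swapGL m F hm) = swapGL m F hm := by
  apply Units.ext
  rw [glMap_val]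
  exact swapMat_map hm σ

/-- the standard field automorphisms commute with the reflection -/
theorem fieldHom_comm_swap (hm : 1 ≤ m) (σ : F ≃+* F) :
    fieldHom m F σ * Phi (Cfsg.quadFormPlus m F) (swapSim m F hm) * (fieldHom m F σ)⁻¹ =
      Phi (Cfsg.quadFormPlus m F) (swapSim m F hm) := by
  obtain ⟨t, ht1, ht2, -⟩ := fieldHom_conj_Phi σ (swapSim m F hm)
  rw [ht1]
  congr 1
  apply Subtype.ext
  rw [ht2]
  exact glMap_swapGL hm σ

end Cfsg.Agent.Lib.Helper5.OutPlus
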