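import Cfsg.Agent.Lib.Helper16.LocalS
import Mathlib

/-!
# S4427 hive (helper56) : P3-L1 `p3_L1_root_mem`
-/

set_option autoImplicit false

namespace Cfsg.Agent.Lib.P3

open Cfsg Cfsg.Agent.Lib.Helper77 Cfsg.Agent.Lib.Helper16 Cfsg.Agent.Lib.Helper81
open scoped ComplexConjugate
open Polynomial

universe u

/-- common denominator: finitely many elements of the local ring have a common denominator outside `M` -/
theorem p3_L1_common_denom {M : Ideal AlgInt} (hM : M.IsPrime) (n : ℕ) (c : ℕ → ℂ)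
    (hc : ∀ i, MemLocalRing M (c i)) :
    ∃ b : AlgInt, b ∉ M ∧ ∀ i < n, ∃ a : AlgInt, (a : ℂ) = (b : ℂ) * c i := by
  induction n with
  | zero => exact ⟨1, one_not_mem_of_isPrime hM, fun i hi => absurd hi (Nat.not_lt_zero i)⟩
  | succ n ih =>
    obtain ⟨b, hb, hba⟩ := ih
    obtain ⟨a', b', hb', hab'⟩ := hc n
    have hb'0 : (b' : ℂ) ≠ 0 := algInt_coe_ne_zero_of_not_mem hb'
    refine ⟨b * b', fun h => (hM.mem_or_mem h).elim hb hb', ?_⟩
    intro i hi
    rcases Nat.lt_succ_iff_lt_or_eq.mp hi with hi' | rfl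
    · obtain ⟨a, ha⟩ := hba i hi'
      refine ⟨a * b', ?_⟩
      push_cast
      rw [ha]
      ring
    · refine ⟨b * a', ?_⟩
      push_cast
      rw [← hab']
      field_simp

theorem p3_L1_root_mem {M : Ideal AlgInt} (hM : M.IsPrime)
    (P : Polynomial (localSubring M hM)) (hP : P.Monic) (z : ℂ)
    (hz : (P.map (localSubring M hM).subtype).IsRoot z) : z ∈ localSubring M hM := by
  classical
  set Pc : Polynomial ℂ := P.map (localSubring M hM).subtype with hPc
  have hPcm : Pc.Monic := hP.map _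
  set n := Pc.natDegree with hn
  obtain ⟨b, hb, hba⟩ := p3_L1_common_denom hM n (fun i => Pc.coeff i) (fun i => by
    rw [hPc, coeff_map]
    exact (P.coeff i).2)
  have hb0 : (b : ℂ) ≠ 0 := algInt_coe_ne_zero_of_not_mem hb
  -- the scaled polynomial
  set Q : Polynomial ℂ := Pc.scaleRoots (b : ℂ) with hQ
  have hQm : Q.Monic := (monic_scaleRoots_iff _).mpr hPcm
  have hQroot : Q.eval ((b : ℂ) * z) = 0 := by
    rw [hQ, scaleRoots_eval_mul, hz.eq_zero, mul_zero]
  have hQlift : Q ∈ Polynomial.lifts (algebraMap AlgInt ℂ) := by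
    rw [lifts_iff_coeff_lifts]
    intro i
    rw [hQ, coeff_scaleRoots]
    rcases lt_trichotomy i n with hi | hi | hi
    · obtain ⟨a, ha⟩ := hba i hi
      obtain ⟨k, hk⟩ : ∃ k, Pc.natDegree - i = k + 1 := ⟨n - i - 1, by omega⟩
      refine ⟨a * b ^ k, ?_⟩
      rw [hk, pow_succ]
      show ((a * b ^ k : AlgInt) : ℂ) = _
      push_cast
      rw [ha]
      ring
    · refine ⟨1, ?_⟩
      rw [hi, hn, ← Polynomial.leadingCoeff, hPcm.leadingCoeff, Nat.sub_self, pow_zero, mul_one]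
      simp
    · refine ⟨0, ?_⟩
      rw [coeff_eq_zero_of_natDegree_lt hi, zero_mul]
      simp
  obtain ⟨q, hqmap, -, hqm⟩ := lifts_and_degree_eq_and_monic hQlift hQm
  have hint : IsIntegral AlgInt ((b : ℂ) * z) := by
    refine ⟨q, hqm, ?_⟩
    rw [← eval_map, hqmap]
    exact hQroot
  have hint' : IsIntegral ℤ ((b : ℂ) * z) := isIntegral_trans _ hint
  refine ⟨⟨(b : ℂ) * z, hint'⟩, b, hb, ?_⟩
  show (b : ℂ) * z / (b : ℂ) = z
  field_simp

end Cfsg.Agent.Lib.P3
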