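import Cfsg.Agent.S0243
import Mathlib

set_option autoImplicit false
set_option linter.unusedSimpArgs false
set_option linter.unusedVariables false
set_option linter.unnecessarySeqFocus false

namespace Cfsg.Agent.Lib.Helper5



/-- For `q ≡ 3, 5 mod 8`, `|PSL_2(q)| = 4 M` with `M` odd. -/
lemma card_PSL2_eq_four_mul_odd {F : Type*} [Field F] [Fintype F] {q : ℕ}
    (hF : Fintype.card F = q) (hq : q % 8 = 3 ∨ q % 8 = 5) :
    ∃ M : ℕ, M % 2 = 1 ∧ Nat.card (Matrix.ProjectiveSpecialLinearGroup (Fin 2) F) = 4 * M := by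
  have hcard := Cfsg.Agent.S0243.result hF 2 le_rfl
  rw [Fin.prod_univ_two] at hcard
  simp only [Fin.val_zero, Fin.val_one, pow_zero, pow_one] at hcard
  set N := Nat.card (Matrix.ProjectiveSpecialLinearGroup (Fin 2) F) with hN
  rcases hq with hq | hq
  · obtain ⟨k, rfl⟩ : ∃ k, q = 8 * k + 3 := ⟨q / 8, by omega⟩
    refine ⟨(2 * k + 1) * (4 * k + 1) * (8 * k + 3), ?_, ?_⟩
    · rw [Nat.mul_mod, Nat.mul_mod ((2 * k + 1)) _ 2]
      have h1 : (2 * k + 1) % 2 = 1 := by omega
      have h2 : (4 * k + 1) % 2 = 1 := by omega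
      have h3 : (8 * k + 3) % 2 = 1 := by omega
      rw [h1, h2, h3]
    · have e1 : 8 * k + 3 - 1 = 8 * k + 2 := by omega
      have e2 : (8 * k + 3) ^ 2 - 1 = 8 * ((2 * k + 1) * (4 * k + 1)) := by
        apply Nat.sub_eq_of_eq_add; ring
      have e3 : (8 * k + 3) ^ 2 - (8 * k + 3) = (8 * k + 3) * (8 * k + 2) := by
        apply Nat.sub_eq_of_eq_add; ring
      have e4 : Nat.gcd 2 (8 * k + 2) = 2 := by
        apply Nat.gcd_eq_left; omega
      rw [e1, e2, e3, e4] at hcard
      have hpos : 0 < 2 * (8 * k + 2) := by omega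
      apply Nat.eq_of_mul_eq_mul_left hpos
      rw [← mul_assoc] at hcard
      rw [hcard]; ring
  · obtain ⟨k, rfl⟩ : ∃ k, q = 8 * k + 5 := ⟨q / 8, by omega⟩
    refine ⟨(4 * k + 3) * (2 * k + 1) * (8 * k + 5), ?_, ?_⟩
    · rw [Nat.mul_mod, Nat.mul_mod ((4 * k + 3)) _ 2]
      have h1 : (2 * k + 1) % 2 = 1 := by omega
      have h2 : (4 * k + 3) % 2 = 1 := by omega
      have h3 : (8 * k + 5) % 2 = 1 := by omega
      rw [h1, h2, h3]
    · have e1 : 8 * k + 5 - 1 = 8 * k + 4 := by omega
      have e2 : (8 * k + 5) ^ 2 - 1 = (8 * k + 4) * (2 * (4 * k + 3)) := by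
        apply Nat.sub_eq_of_eq_add; ring
      have e3 : (8 * k + 5) ^ 2 - (8 * k + 5) = (8 * k + 5) * (4 * (2 * k + 1)) := by
        apply Nat.sub_eq_of_eq_add; ring
      have e4 : Nat.gcd 2 (8 * k + 4) = 2 := by
        apply Nat.gcd_eq_left; omega
      rw [e1, e2, e3, e4] at hcard
      have hpos : 0 < 2 * (8 * k + 4) := by omega
      apply Nat.eq_of_mul_eq_mul_left hpos
      rw [← mul_assoc] at hcard
      rw [hcard]; ring

/-- A Sylow 2-subgroup of a group of order `4 M`, `M` odd, has order 4. -/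
lemma card_sylow_two_eq_four {G : Type*} [Group G] [Finite G] {M : ℕ} (hM : M % 2 = 1)
    (hG : Nat.card G = 4 * M) (P : Sylow 2 G) : Nat.card (P : Subgroup G) = 4 := by
  have hp2 : Fact (Nat.Prime 2) := ⟨Nat.prime_two⟩
  have hPidx : ¬ 2 ∣ (P : Subgroup G).index := P.not_dvd_index
  have hmul := (P : Subgroup G).card_mul_index
  rw [hG] at hmul
  obtain ⟨k, hk⟩ := IsPGroup.iff_card.1 P.2
  rw [hk] at hmul ⊢
  have hidx : (P : Subgroup G).index % 2 = 1 := by omega
  rcases k with _ | _ | _ | k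
  · simp at hmul; omega
  · simp at hmul; omega
  · rfl
  · exfalso
    have : 2 ^ (k + 1 + 1 + 1) = 8 * 2 ^ k := by ring
    rw [this] at hmul
    have : 2 * (2 ^ k * (P : Subgroup G).index) = M := by
      have h8 : 8 * 2 ^ k * (P : Subgroup G).index = 4 * (2 * (2 ^ k * (P : Subgroup G).index)) := by
        ring
      rw [h8] at hmul
      exact Nat.eq_of_mul_eq_mul_left (by norm_num) hmul
    omega



/-- The subgroup `{1, x, y, xy}` for commuting involutions. -/
def fourGroup {G : Type*} [Group G] {x y : G} (hx : x * x = 1) (hy : y * y = 1)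
    (hxy : x * y = y * x) : Subgroup G where
  carrier := {1, x, y, x * y}
  one_mem' := by simp
  mul_mem' := by
    have h1 : x * (x * y) = y := by rw [← mul_assoc, hx, one_mul]
    have h2 : y * (x * y) = x := by rw [hxy, ← mul_assoc, hy, one_mul]
    have h3 : x * y * x = y := by rw [hxy, mul_assoc, hx, mul_one]
    have h4 : x * y * y = x := by rw [mul_assoc, hy, mul_one]
    have h5 : x * y * (x * y) = 1 := by rw [← mul_assoc, h3, hy]
    rintro a b (rfl | rfl | rfl | rfl) (rfl | rfl | rfl | rfl) <;>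
      simp [hx, hy, h1, h2, h3, h4, h5, ← hxy]
  inv_mem' := by
    have hxi : x⁻¹ = x := inv_eq_of_mul_eq_one_right hx
    have hyi : y⁻¹ = y := inv_eq_of_mul_eq_one_right hy
    rintro a (rfl | rfl | rfl | rfl) <;> simp [hxi, hyi, ← hxy]

lemma fourGroup_sq {G : Type*} [Group G] {x y : G} (hx : x * x = 1) (hy : y * y = 1)
    (hxy : x * y = y * x) (g : G) (hg : g ∈ fourGroup hx hy hxy) : g * g = 1 := by
  have h3 : x * y * x = y := by rw [hxy, mul_assoc, hx, mul_one]
  have h5 : x * y * (x * y) = 1 := by rw [← mul_assoc, h3, hy]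
  rcases hg with rfl | rfl | rfl | rfl <;> simp [hx, hy, h5]

lemma card_fourGroup {G : Type*} [Group G] {x y : G} (hx : x * x = 1) (hy : y * y = 1)
    (hxy : x * y = y * x) (hx1 : x ≠ 1) (hy1 : y ≠ 1) (hne : x ≠ y) :
    Nat.card (fourGroup hx hy hxy) = 4 := by
  classical
  have hxy1 : x * y ≠ 1 := by
    intro h
    apply hne
    have : x * y = x * x := by rw [h, hx]
    exact (mul_left_cancel this).symm
  have hxyx : x * y ≠ x := by
    intro h
    apply hy1
    have : x * y = x * 1 := by rw [h, mul_one]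
    exact mul_left_cancel this
  have hxyy : x * y ≠ y := by
    intro h
    apply hx1
    have : x * y = 1 * y := by rw [h, one_mul]
    exact mul_right_cancel this
  have : ((fourGroup hx hy hxy : Subgroup G) : Set G) = ↑({1, x, y, x * y} : Finset G) := by
    ext g; simp [fourGroup]
  rw [← SetLike.coe_sort_coe, this, Nat.card_coe_set_eq, Set.ncard_coe_finset]
  rw [Finset.card_insert_of_notMem, Finset.card_insert_of_notMem, Finset.card_insert_of_notMem,
    Finset.card_singleton]
  · simp [hxyy.symm]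
  · simp [hne, hxyx.symm]
  · simp [hx1.symm, hy1.symm, hxy1.symm]

/-- If all Sylow 2-subgroups of `G` have order 4 and `G` contains two distinct commuting
involutions, then every Sylow 2-subgroup is a Klein four-group. -/
theorem isKleinFour_sylow_of_commuting_involutions {G : Type*} [Group G] [Finite G]
    (hcard : ∀ P : Sylow 2 G, Nat.card (P : Subgroup G) = 4)
    {x y : G} (hx : x * x = 1) (hy : y * y = 1) (hxy : x * y = y * x) (hx1 : x ≠ 1)
    (hy1 : y ≠ 1) (hne : x ≠ y) (P : Sylow 2 G) : IsKleinFour (P : Subgroup G) := by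
  have hp2 : Fact (Nat.Prime 2) := ⟨Nat.prime_two⟩
  set H := fourGroup hx hy hxy with hH
  have hHcard : Nat.card H = 4 := card_fourGroup hx hy hxy hx1 hy1 hne
  have hHp : IsPGroup 2 H := IsPGroup.of_card (n := 2) (by rw [hHcard]; norm_num)
  obtain ⟨Q, hQ⟩ := hHp.exists_le_sylow
  have hHQ : H = (Q : Subgroup G) := by
    apply Subgroup.eq_of_le_of_card_ge hQ
    rw [hcard Q, hHcard]
  have hexpQ : Monoid.exponent (Q : Subgroup G) = 2 := by
    have hdvd : Monoid.exponent (Q : Subgroup G) ∣ 2 := by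
      apply Monoid.exponent_dvd_of_forall_pow_eq_one
      rintro ⟨g, hg⟩
      apply Subtype.ext
      rw [← hHQ] at hg
      have := fourGroup_sq hx hy hxy g hg
      simpa [pow_two] using this
    rcases (Nat.dvd_prime Nat.prime_two).1 hdvd with h1 | h2
    · exfalso
      rw [Monoid.exp_eq_one_iff] at h1
      have := hcard Q
      rw [Nat.card_unique] at this
      omega
    · exact h2
  obtain ⟨g, rfl⟩ := MulAction.exists_smul_eq G Q P
  refine ⟨hcard _, ?_⟩
  rw [← Monoid.exponent_eq_of_mulEquiv (Sylow.equivSMul Q g)]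
  exact hexpQ





/-- PSL_2(F) contains two distinct commuting involutions, when `2 ≠ 0` and `-1` is a sum of two
squares. -/
theorem exists_commuting_involutions_PSL2 {F : Type*} [Field F] (h2 : (2 : F) ≠ 0) {a b : F} (hab : a ^ 2 + b ^ 2 = -1) :
    ∃ x y : Matrix.ProjectiveSpecialLinearGroup (Fin 2) F,
      x * x = 1 ∧ y * y = 1 ∧ x * y = y * x ∧ x ≠ 1 ∧ y ≠ 1 ∧ x ≠ y := by
  let A : Matrix.SpecialLinearGroup (Fin 2) F := ⟨!![0, -1; 1, 0], by simp [Matrix.det_fin_two]⟩
  let B : Matrix.SpecialLinearGroup (Fin 2) F := ⟨!![a, b; b, -a], by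
    rw [Matrix.det_fin_two]; simp; linear_combination -hab⟩
  let Z : Matrix.SpecialLinearGroup (Fin 2) F := ⟨!![-1, 0; 0, -1], by simp [Matrix.det_fin_two]⟩
  have hZ : Z ∈ Subgroup.center (Matrix.SpecialLinearGroup (Fin 2) F) := by
    rw [Matrix.SpecialLinearGroup.mem_center_iff]
    refine ⟨-1, by simp, ?_⟩
    ext i j
    fin_cases i <;> fin_cases j <;> simp [Z]
  have hAA : A * A = Z := by
    apply Subtype.ext
    show (!![0, -1; 1, 0] : Matrix (Fin 2) (Fin 2) F) * !![0, -1; 1, 0] = !![-1, 0; 0, -1]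
    ext i j
    fin_cases i <;> fin_cases j <;> simp [Matrix.mul_apply, Fin.sum_univ_two]
  have hBB : B * B = Z := by
    apply Subtype.ext
    show (!![a, b; b, -a] : Matrix (Fin 2) (Fin 2) F) * !![a, b; b, -a] = !![-1, 0; 0, -1]
    ext i j
    fin_cases i <;> fin_cases j <;> simp [Matrix.mul_apply, Fin.sum_univ_two] <;>
      first | linear_combination hab | ring
  have hAB : (A * B).1 = !![-b, a; a, b] := by
    show (!![0, -1; 1, 0] : Matrix (Fin 2) (Fin 2) F) * !![a, b; b, -a] = !![-b, a; a, b]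
    ext i j
    fin_cases i <;> fin_cases j <;> simp [Matrix.mul_apply, Fin.sum_univ_two]
  have hBA : B * A = A * B * Z := by
    apply Subtype.ext
    show (!![a, b; b, -a] : Matrix (Fin 2) (Fin 2) F) * !![0, -1; 1, 0] =
      (!![0, -1; 1, 0] : Matrix (Fin 2) (Fin 2) F) * !![a, b; b, -a] * !![-1, 0; 0, -1]
    ext i j
    fin_cases i <;> fin_cases j <;> simp [Matrix.mul_apply, Fin.sum_univ_two]
  have hmkZ : (QuotientGroup.mk Z : Matrix.ProjectiveSpecialLinearGroup (Fin 2) F) = 1 :=
    (QuotientGroup.eq_one_iff Z).2 hZ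
  have hyy : (QuotientGroup.mk B : Matrix.ProjectiveSpecialLinearGroup (Fin 2) F) *
      QuotientGroup.mk B = 1 := by
    rw [← QuotientGroup.mk_mul, hBB, hmkZ]
  refine ⟨QuotientGroup.mk A, QuotientGroup.mk B, ?_, hyy, ?_, ?_, ?_, ?_⟩
  · rw [← QuotientGroup.mk_mul, hAA, hmkZ]
  · have e1 : (QuotientGroup.mk (A * B * Z) : Matrix.ProjectiveSpecialLinearGroup (Fin 2) F) =
        QuotientGroup.mk (A * B) := by
      rw [QuotientGroup.mk_mul _ (A * B) Z, hmkZ, mul_one]
    rw [← QuotientGroup.mk_mul, ← QuotientGroup.mk_mul, hBA, e1]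
  · intro h
    rw [QuotientGroup.eq_one_iff, Matrix.SpecialLinearGroup.mem_center_iff] at h
    obtain ⟨r, -, hr⟩ := h
    have := congrFun (congrFun hr 0) 1
    simp [A] at this
  · intro h
    rw [QuotientGroup.eq_one_iff, Matrix.SpecialLinearGroup.mem_center_iff] at h
    obtain ⟨r, -, hr⟩ := h
    have e01 := congrFun (congrFun hr 0) 1
    have e00 := congrFun (congrFun hr 0) 0
    have e11 := congrFun (congrFun hr 1) 1
    simp [B] at e01 e00 e11
    have ha : a = 0 := by
      have : (2 : F) * a = 0 := by linear_combination e11 - e00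
      rcases mul_eq_zero.1 this with h | h
      · exact absurd h h2
      · exact h
    rw [ha, ← e01] at hab
    simp at hab
  · intro h
    have h' : (QuotientGroup.mk (A * B) : Matrix.ProjectiveSpecialLinearGroup (Fin 2) F) = 1 := by
      rw [QuotientGroup.mk_mul, h, hyy]
    rw [QuotientGroup.eq_one_iff, Matrix.SpecialLinearGroup.mem_center_iff] at h'
    obtain ⟨r, -, hr⟩ := h'
    rw [hAB] at hr
    have e01 := congrFun (congrFun hr 0) 1
    have e00 := congrFun (congrFun hr 0) 0
    have e11 := congrFun (congrFun hr 1) 1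
    simp at e01 e00 e11
    have hb : b = 0 := by
      have : (2 : F) * b = 0 := by linear_combination e00 - e11
      rcases mul_eq_zero.1 this with h | h
      · exact absurd h h2
      · exact h
    rw [hb, ← e01] at hab
    simp at hab


/-- For `q ≡ 3, 5 mod 8` the Sylow 2-subgroups of `PSL_2(q)` are Klein four-groups. -/
theorem isKleinFour_sylow_two_PSL2 {F : Type*} [Field F] [Fintype F] {q : ℕ}
    (hF : Fintype.card F = q) (hq : q % 8 = 3 ∨ q % 8 = 5)
    (P : Sylow 2 (Matrix.ProjectiveSpecialLinearGroup (Fin 2) F)) :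
    IsKleinFour (P : Subgroup (Matrix.ProjectiveSpecialLinearGroup (Fin 2) F)) := by
  obtain ⟨M, hM, hcard⟩ := card_PSL2_eq_four_mul_odd hF hq
  have hfin : Finite (Matrix.ProjectiveSpecialLinearGroup (Fin 2) F) := inferInstance
  have hodd : Fintype.card F % 2 = 1 := by rw [hF]; omega
  have hchar : ringChar F ≠ 2 := by
    intro h
    have := FiniteField.even_card_of_char_two h
    omega
  have h2 : (2 : F) ≠ 0 := Ring.two_ne_zero hchar
  have : CharP F (ringChar F) := ringChar.charP F
  have hne : NeZero (ringChar F) := ⟨(CharP.char_is_prime F (ringChar F)).ne_zero⟩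
  obtain ⟨a, b, hab⟩ := CharP.sq_add_sq F (ringChar F) (-1)
  have hab' : ((a : F)) ^ 2 + ((b : F)) ^ 2 = -1 := by simpa using hab
  obtain ⟨x, y, hx, hy, hxy, hx1, hy1, hne'⟩ := exists_commuting_involutions_PSL2 h2 hab'
  exact isKleinFour_sylow_of_commuting_involutions
    (fun P ↦ card_sylow_two_eq_four hM hcard P) hx hy hxy hx1 hy1 hne' P

end Cfsg.Agent.Lib.Helper5
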