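import Mathlib
import Cfsg.Prelude.Def_ClassicalGeometry
import Cfsg.Prelude.Def_GeometricClasses
import Cfsg.Agent.Lib.Helper65.QeDefs
import Cfsg.Agent.Lib.Helper64.HyTWOcore
import Cfsg.Agent.Lib.Helper83.HyT3
import Cfsg.Agent.Lib.Helper67.TsINVOL

/-! # QE-INV2 `fixes_of_invol_even` (helper5, for helper65's Qe hive S5988; shared with Hq / Qm) -/

set_option autoImplicit false
set_option linter.unusedSectionVars false
set_option linter.unusedVariables false

namespace Cfsg.Agent.Lib.Helper65.Qe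

open Polynomial Module
open Cfsg.Agent.Lib.Helper2.BG Cfsg.Agent.Lib.Helper99 Cfsg.Agent.Lib.Helper48.Ti
open Cfsg.Agent.Lib.Helper5.Hy

section abstract

variable {F V : Type*} [Field F] [Fintype F] [AddCommGroup V] [Module F V] [FiniteDimensional F V]

section oddchar

variable {B : V →ₗ[F] V →ₗ[F] F}

/-- QE-INV2 (`q` odd): an involutive isometry of a nondegenerate symmetric space fixes nondegenerate
subspaces of every even dimension `m` with `2 m < dim V`, of BOTH types. -/
theorem fixes_of_invol_even (h2 : (2 : F) ≠ 0) (hs : ∀ u v, B u v = B v u) (hV : Nd B ⊤)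
    {f : Module.End F V} (hf : Isom B f) (hff : f * f = 1) (m : ℕ) (hme : Even m) (h2m : 2 ≤ m)
    (hmn : 2 * m < finrank F V) (b : Prop) : Fixes B f m b := by
  obtain ⟨hP, hM, -, hdim⟩ := Cfsg.Agent.Lib.Helper67.Ts.invol_split h2 hf hff hV
  have hfP : ∀ v ∈ LinearMap.ker (f - 1), f v = (1 : F) • v := by
    intro v hv
    rw [LinearMap.mem_ker, LinearMap.sub_apply, Module.End.one_apply, sub_eq_zero] at hv
    rw [hv, one_smul]
  have hfM : ∀ v ∈ LinearMap.ker (f + 1), f v = (-1 : F) • v := by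
    intro v hv
    rw [LinearMap.mem_ker, LinearMap.add_apply, Module.End.one_apply, add_eq_zero_iff_eq_neg] at hv
    rw [hv, neg_smul, one_smul]
  by_cases hA : m < finrank F ↥(LinearMap.ker (f - 1))
  · obtain ⟨W, hWle, hWnd, hWdim, hWb⟩ := exists_nd_of_type h2 hs hP m hme (by omega) hA b
    exact ⟨W, two_inv_le hfP hWle, hWnd, hWdim, hWb⟩
  · have hB : m < finrank F ↥(LinearMap.ker (f + 1)) := by omega
    obtain ⟨W, hWle, hWnd, hWdim, hWb⟩ := exists_nd_of_type h2 hs hM m hme (by omega) hB b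
    exact ⟨W, two_inv_le hfM hWle, hWnd, hWdim, hWb⟩

end oddchar

end abstract

end Cfsg.Agent.Lib.Helper65.Qe
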