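import Mathlib

set_option autoImplicit false
set_option linter.unusedVariables false
set_option linter.unusedSectionVars false
set_option linter.unusedSimpArgs false
set_option linter.style.haveILetI false

/-!
# Recognising `S_n × C_f` (for `n = 3, 4`) from generators, relations and the order

Abstract group theory used for the outer automorphism groups of `PΩ⁺₈(q)`.
-/

namespace Cfsg.Agent.Lib.Helper5.Recog

open Equiv

section generic

variable {X : Type*} [Group X]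

/-- a finite set stable under a set of group elements is stable under the subgroup they
generate -/
theorem smul_mem_of_mem_closure {Y : Type*} [MulAction X Y] (S : Set X) (T : Set Y)
    (hT : T.Finite) (hS : ∀ s ∈ S, ∀ t ∈ T, s • t ∈ T) :
    ∀ x ∈ Subgroup.closure S, ∀ t ∈ T, x • t ∈ T := by
  have key : ∀ x ∈ Subgroup.closure S, (∀ t ∈ T, x • t ∈ T) ∧ (∀ t ∈ T, x⁻¹ • t ∈ T) := by
    intro x hx
    induction hx using Subgroup.closure_induction with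
    | mem s hs =>
      refine ⟨hS s hs, ?_⟩
      have hsub : (fun t => s • t) '' T ⊆ T := by
        rintro _ ⟨t, ht, rfl⟩
        exact hS s hs t ht
      have hcard : T.ncard ≤ ((fun t => s • t) '' T).ncard := by
        rw [Set.ncard_image_of_injective T (MulAction.injective s)]
      have heq := Set.eq_of_subset_of_ncard_le hsub hcard hT
      intro t ht
      rw [← heq] at ht
      obtain ⟨t', ht', rfl⟩ := ht
      simpa using ht'
    | one => simp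
    | mul x y hx hy ihx ihy =>
      refine ⟨fun t ht => ?_, fun t ht => ?_⟩
      · rw [mul_smul]; exact ihx.1 _ (ihy.1 t ht)
      · rw [mul_inv_rev, mul_smul]; exact ihy.2 _ (ihx.2 t ht)
    | inv x hx ih =>
      refine ⟨ih.2, ?_⟩
      rw [inv_inv]; exact ih.1
  exact fun x hx => (key x hx).1

/-- Schreier-type coset enumeration: if the cosets `c j K` are permuted by the generators,
every element of the generated subgroup lies in one of them -/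
theorem exists_coset (S : Set X) (K : Subgroup X) {n : ℕ} (c : Fin n → X) (i₀ : Fin n)
    (h0 : c i₀ ∈ K) (hS : ∀ s ∈ S, ∀ i, ∃ j, ∃ k ∈ K, s * c i = c j * k) :
    ∀ x ∈ Subgroup.closure S, ∃ j, ∃ k ∈ K, x = c j * k := by
  intro x hx
  have hT : (Set.range (fun i => (c i : X ⧸ K))).Finite := Set.finite_range _
  have hcl : ∀ s ∈ S, ∀ t ∈ Set.range (fun i => (c i : X ⧸ K)),
      s • t ∈ Set.range (fun i => (c i : X ⧸ K)) := by
    rintro s hs _ ⟨i, rfl⟩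
    obtain ⟨j, k, hk, hjk⟩ := hS s hs i
    refine ⟨j, ?_⟩
    show (c j : X ⧸ K) = s • (c i : X ⧸ K)
    rw [MulAction.Quotient.smul_mk, smul_eq_mul, hjk, QuotientGroup.mk_mul_of_mem _ hk]
  have h := smul_mem_of_mem_closure S _ hT hcl x hx (c i₀ : X ⧸ K) ⟨i₀, rfl⟩
  obtain ⟨j, hj⟩ := h
  have h1 : (c i₀ : X ⧸ K) = ((1 : X) : X ⧸ K) := by
    rw [QuotientGroup.eq, mul_one]
    exact K.inv_mem h0
  rw [h1, MulAction.Quotient.smul_mk, smul_eq_mul, mul_one] at hj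
  have h2 : (c j)⁻¹ * x ∈ K := QuotientGroup.eq.1 hj
  exact ⟨j, _, h2, by group⟩

/-- the resulting bound for the order of the generated subgroup -/
theorem card_closure_le (S : Set X) (K : Subgroup X) [Finite K] {n : ℕ} (c : Fin n → X)
    (i₀ : Fin n) (h0 : c i₀ ∈ K) (hS : ∀ s ∈ S, ∀ i, ∃ j, ∃ k ∈ K, s * c i = c j * k) :
    Nat.card (Subgroup.closure S) ≤ n * Nat.card K := by
  have hsub : (Subgroup.closure S : Set X) ⊆
      Set.range (fun p : Fin n × K => c p.1 * (p.2 : X)) := by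
    intro x hx
    obtain ⟨j, k, hk, rfl⟩ := exists_coset S K c i₀ h0 hS x hx
    exact ⟨(j, ⟨k, hk⟩), rfl⟩
  have h1 : Nat.card (Subgroup.closure S) = (Subgroup.closure S : Set X).ncard := rfl
  rw [h1]
  refine (Set.ncard_le_ncard hsub (Set.finite_range _)).trans ?_
  rw [← Set.image_univ]
  refine (Set.ncard_image_le (Set.toFinite _)).trans ?_
  rw [Set.ncard_univ, Nat.card_prod, Nat.card_fin]

/-- ... and the surjection onto the coset space when the generators generate everything -/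
theorem coset_surjective (S : Set X) (hgen : Subgroup.closure S = ⊤) (K : Subgroup X) {n : ℕ}
    (c : Fin n → X) (i₀ : Fin n) (h0 : c i₀ ∈ K)
    (hS : ∀ s ∈ S, ∀ i, ∃ j, ∃ k ∈ K, s * c i = c j * k) :
    Function.Surjective (fun i => (c i : X ⧸ K)) := by
  intro y
  induction y using QuotientGroup.induction_on with
  | H x =>
    obtain ⟨j, k, hk, rfl⟩ := exists_coset S K c i₀ h0 hS x (by rw [hgen]; trivial)
    exact ⟨j, (QuotientGroup.mk_mul_of_mem _ hk).symm⟩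

/-- **pattern lemma**: a group of order `n! f` generated by a subgroup `M` of order at most
`n!` and a central element `φ` with `φ ^ f = 1`, with a surjection onto `S_n` killing `φ`,
is `S_n × C_f` -/
theorem pattern {n f : ℕ} (hf : 0 < f) (hX : Nat.card X = n.factorial * f)
    (M : Subgroup X) (φ : X) (hφ : φ ^ f = 1) (hcomm : ∀ m ∈ M, m * φ = φ * m)
    (hM : Nat.card M ≤ n.factorial) (hgen : M ⊔ Subgroup.zpowers φ = ⊤)
    (π : X →* Perm (Fin n)) (hπ : Function.Surjective π) (hπφ : π φ = 1) :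
    Nonempty (X ≃* Perm (Fin n) × Multiplicative (ZMod f)) := by
  classical
  haveI : Finite X := by
    apply Nat.finite_of_card_ne_zero
    rw [hX]
    have := Nat.factorial_pos n
    positivity
  set C := Subgroup.zpowers φ with hC
  have hCcard : Nat.card C ≤ f := by
    rw [Nat.card_zpowers]
    exact orderOf_le_of_pow_eq_one hf hφ
  have hcomm' : ∀ (m : M) (c : C), Commute (M.subtype m) (C.subtype c) := by
    rintro ⟨m, hm⟩ ⟨c, hc⟩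
    obtain ⟨k, rfl⟩ := Subgroup.mem_zpowers_iff.1 hc
    show Commute m (φ ^ k)
    exact (show Commute m φ from hcomm m hm).zpow_right k
  set Ψ := MonoidHom.noncommCoprod M.subtype C.subtype hcomm' with hΨ
  have hΨs : Function.Surjective Ψ := by
    rw [← MonoidHom.range_eq_top, hΨ, MonoidHom.noncommCoprod_range, Subgroup.range_subtype,
      Subgroup.range_subtype]
    exact hgen
  have hle : Nat.card (M × C) ≤ Nat.card X := by
    rw [Nat.card_prod, hX]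
    exact Nat.mul_le_mul hM hCcard
  have hΨb : Function.Bijective Ψ := hΨs.bijective_of_nat_card_le hle
  have hprod : Nat.card M * Nat.card C = n.factorial * f := by
    rw [← Nat.card_prod, Nat.card_congr (Equiv.ofBijective Ψ hΨb), hX]
  have hMeq : Nat.card M = n.factorial := by
    rcases Nat.lt_or_ge (Nat.card M) n.factorial with h | h
    · exfalso
      have : Nat.card M * Nat.card C < n.factorial * f :=
        Nat.mul_lt_mul_of_lt_of_le h hCcard hf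
      omega
    · omega
  have hCeq : Nat.card C = f := by
    rw [hMeq] at hprod
    exact Nat.eq_of_mul_eq_mul_left (Nat.factorial_pos n) hprod
  -- `π` restricted to `M` is an isomorphism
  have hπM : Function.Surjective (π.comp M.subtype) := by
    intro σ
    obtain ⟨x, rfl⟩ := hπ σ
    obtain ⟨⟨m, c⟩, rfl⟩ := hΨs x
    refine ⟨m, ?_⟩
    rw [hΨ, MonoidHom.noncommCoprod_apply, map_mul, MonoidHom.comp_apply]
    have : π (C.subtype c) = 1 := by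
      obtain ⟨c, hc⟩ := c
      obtain ⟨k, rfl⟩ := Subgroup.mem_zpowers_iff.1 hc
      show π (φ ^ k) = 1
      rw [map_zpow, hπφ, one_zpow]
    rw [this, mul_one]
  have hπMb : Function.Bijective (π.comp M.subtype) := by
    apply hπM.bijective_of_nat_card_le
    rw [hMeq, Nat.card_perm, Nat.card_fin]
  have eM : ↥M ≃* Perm (Fin n) := MulEquiv.ofBijective _ hπMb
  have hcyc : IsCyclic C := by
    rw [hC]; infer_instance
  have eC : Multiplicative (ZMod f) ≃* ↥C := by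
    have e := zmodCyclicMulEquiv hcyc
    rw [hCeq] at e
    exact e
  exact ⟨(MulEquiv.ofBijective Ψ hΨb).symm.trans (MulEquiv.prodCongr eM eC.symm)⟩


/-- a bijection of `Fin n` with a coset space turns the coset action into a homomorphism to
`S_n`, which can be read off from a coset table -/
theorem exists_perm_hom {n : ℕ} (K : Subgroup X) (c : Fin n → X)
    (hbij : Function.Bijective (fun i => (c i : X ⧸ K))) :
    ∃ π : X →* Perm (Fin n), ∀ (s : X) (σ : Perm (Fin n)),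
      (∀ i, ∃ k ∈ K, s * c i = c (σ i) * k) → π s = σ := by
  set e : Fin n ≃ X ⧸ K := Equiv.ofBijective _ hbij with he
  refine ⟨(permCongrHom e.symm).toMonoidHom.comp (MulAction.toPermHom X (X ⧸ K)), ?_⟩
  intro s σ hσ
  ext i
  congr 1
  show e.symm ((MulAction.toPermHom X (X ⧸ K)) s (e.symm.symm i)) = σ i
  rw [Equiv.symm_symm, Equiv.symm_apply_eq]
  obtain ⟨k, hk, hik⟩ := hσ i
  show s • (c i : X ⧸ K) = (c (σ i) : X ⧸ K)
  rw [MulAction.Quotient.smul_mk, smul_eq_mul, hik, QuotientGroup.mk_mul_of_mem _ hk]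

end generic


section rel

variable {X : Type*} [Group X] [Finite X] {f : ℕ} (z ρ κ φ : X)

theorem rho_sq (hρ : ρ ^ 3 = 1) : ρ * ρ = ρ⁻¹ := by
  rw [eq_inv_iff_mul_eq_one, ← hρ, pow_succ, pow_succ, pow_one]

theorem kappa_rho_inv (hκρ : κ * ρ = ρ⁻¹ * κ) : κ * ρ⁻¹ = ρ * κ := by
  have : κ = ρ⁻¹ * κ * ρ⁻¹ := by rw [← hκρ]; group
  calc κ * ρ⁻¹ = ρ * (ρ⁻¹ * κ * ρ⁻¹) := by group
    _ = ρ * κ := by rw [← this]

/-- the subgroup generated by `φ` -/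
theorem card_K1 (hf : 0 < f) (hφ : φ ^ f = 1) :
    Nat.card (Subgroup.closure ({φ} : Set X)) ≤ f := by
  rw [← Subgroup.zpowers_eq_closure, Nat.card_zpowers]
  exact orderOf_le_of_pow_eq_one hf hφ

/-- the subgroup generated by `κ, φ` -/
theorem card_K2 (hf : 0 < f) (hφ : φ ^ f = 1) (hκ : κ * κ = 1) (hφκ : φ * κ = κ * φ) :
    Nat.card (Subgroup.closure ({κ, φ} : Set X)) ≤ 2 * f := by
  have h1 := card_K1 φ hf hφ
  have hφ1 : φ ∈ Subgroup.closure ({φ} : Set X) := Subgroup.subset_closure rfl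
  have h := card_closure_le ({κ, φ} : Set X) (Subgroup.closure ({φ} : Set X)) ![1, κ] 0
    (Subgroup.one_mem _) ?_
  · exact h.trans (Nat.mul_le_mul_left 2 h1)
  · intro s hs i
    rcases hs with rfl | hs
    · fin_cases i
      · exact ⟨1, 1, Subgroup.one_mem _, by simp⟩
      · exact ⟨0, 1, Subgroup.one_mem _, by simpa using hκ⟩
    · rw [Set.mem_singleton_iff] at hs
      subst hs
      fin_cases i
      · exact ⟨0, s, hφ1, by simp⟩
      · exact ⟨1, s, hφ1, by simpa using hφκ⟩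

/-- coset table for `ρ` on the cosets `1, ρ, ρ⁻¹` -/
theorem tab3_rho (hρ : ρ ^ 3 = 1) (K : Subgroup X) :
    ∀ i, ∃ k ∈ K, ρ * (![1, ρ, ρ⁻¹] : Fin 3 → X) i =
      (![1, ρ, ρ⁻¹] : Fin 3 → X) (finRotate 3 i) * k := by
  intro i
  refine ⟨1, Subgroup.one_mem _, ?_⟩
  fin_cases i
  · show ρ * 1 = ρ * 1
    rfl
  · show ρ * ρ = ρ⁻¹ * 1
    rw [mul_one, rho_sq ρ hρ]
  · show ρ * ρ⁻¹ = 1 * 1
    group

/-- coset table for `κ` on the cosets `1, ρ, ρ⁻¹` -/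
theorem tab3_kappa (hκρ : κ * ρ = ρ⁻¹ * κ) (K : Subgroup X) (hκK : κ ∈ K) :
    ∀ i, ∃ k ∈ K, κ * (![1, ρ, ρ⁻¹] : Fin 3 → X) i =
      (![1, ρ, ρ⁻¹] : Fin 3 → X) (swap (1 : Fin 3) 2 i) * k := by
  intro i
  refine ⟨κ, hκK, ?_⟩
  fin_cases i
  · show κ * 1 = 1 * κ
    group
  · show κ * ρ = ρ⁻¹ * κ
    exact hκρ
  · show κ * ρ⁻¹ = ρ * κ
    exact kappa_rho_inv ρ κ hκρ

theorem comm_inv {a b : X} (h : a * b = b * a) : a * b⁻¹ = b⁻¹ * a := by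
  calc a * b⁻¹ = b⁻¹ * (b * a) * b⁻¹ := by group
    _ = b⁻¹ * a := by rw [← h]; group

/-- coset table for `φ` on the cosets `1, ρ, ρ⁻¹` -/
theorem tab3_phi (hφρ : φ * ρ = ρ * φ) (K : Subgroup X) (hφK : φ ∈ K) :
    ∀ i, ∃ k ∈ K, φ * (![1, ρ, ρ⁻¹] : Fin 3 → X) i =
      (![1, ρ, ρ⁻¹] : Fin 3 → X) ((1 : Perm (Fin 3)) i) * k := by
  intro i
  refine ⟨φ, hφK, ?_⟩
  fin_cases i
  · show φ * 1 = 1 * φ
    group
  · show φ * ρ = ρ * φ
    exact hφρ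
  · show φ * ρ⁻¹ = ρ⁻¹ * φ
    exact comm_inv hφρ

theorem tab3 (hρ : ρ ^ 3 = 1) (hκρ : κ * ρ = ρ⁻¹ * κ) (hφρ : φ * ρ = ρ * φ)
    (K : Subgroup X) (hκK : κ ∈ K) (hφK : φ ∈ K) :
    ∀ s ∈ ({ρ, κ, φ} : Set X), ∀ i, ∃ j, ∃ k ∈ K,
      s * (![1, ρ, ρ⁻¹] : Fin 3 → X) i = (![1, ρ, ρ⁻¹] : Fin 3 → X) j * k := by
  intro s hs i
  rcases hs with rfl | rfl | hs
  · exact ⟨_, tab3_rho s hρ K i⟩
  · exact ⟨_, tab3_kappa ρ s hκρ K hκK i⟩
  · rw [Set.mem_singleton_iff] at hs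
    subst hs
    exact ⟨_, tab3_phi ρ s hφρ K hφK i⟩

/-- the subgroup generated by `ρ, κ, φ` -/
theorem card_K3 (hf : 0 < f) (hφ : φ ^ f = 1) (hρ : ρ ^ 3 = 1) (hκ : κ * κ = 1)
    (hκρ : κ * ρ = ρ⁻¹ * κ) (hφρ : φ * ρ = ρ * φ) (hφκ : φ * κ = κ * φ) :
    Nat.card (Subgroup.closure ({ρ, κ, φ} : Set X)) ≤ 6 * f := by
  have h1 := card_K2 κ φ hf hφ hκ hφκ
  have hκ1 : κ ∈ Subgroup.closure ({κ, φ} : Set X) := Subgroup.subset_closure (by simp)
  have hφ1 : φ ∈ Subgroup.closure ({κ, φ} : Set X) := Subgroup.subset_closure (by simp)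
  have h := card_closure_le ({ρ, κ, φ} : Set X) (Subgroup.closure ({κ, φ} : Set X))
    ![1, ρ, ρ⁻¹] 0 (Subgroup.one_mem _) (tab3 ρ κ φ hρ hκρ hφρ _ hκ1 hφ1)
  refine h.trans ?_
  calc 3 * Nat.card (Subgroup.closure ({κ, φ} : Set X)) ≤ 3 * (2 * f) :=
        Nat.mul_le_mul_left 3 h1
    _ = 6 * f := by ring

/-- **recognition of `S_3 × C_f`** -/
theorem recog3 (hf : 0 < f) (hX : Nat.card X = 6 * f) (hφ : φ ^ f = 1) (hρ : ρ ^ 3 = 1)
    (hκ : κ * κ = 1) (hκρ : κ * ρ = ρ⁻¹ * κ) (hφρ : φ * ρ = ρ * φ) (hφκ : φ * κ = κ * φ)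
    (hgen : Subgroup.closure ({ρ, κ, φ} : Set X) = ⊤) :
    Nonempty (X ≃* Perm (Fin 3) × Multiplicative (ZMod f)) := by
  classical
  set K := Subgroup.closure ({κ, φ} : Set X) with hK
  have hKcard : Nat.card K ≤ 2 * f := card_K2 κ φ hf hφ hκ hφκ
  have hκ1 : κ ∈ K := Subgroup.subset_closure (by simp)
  have hφ1 : φ ∈ K := Subgroup.subset_closure (by simp)
  have hsurj := coset_surjective ({ρ, κ, φ} : Set X) hgen K ![1, ρ, ρ⁻¹] 0 (Subgroup.one_mem _)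
    (tab3 ρ κ φ hρ hκρ hφρ K hκ1 hφ1)
  have hq3 : Nat.card (X ⧸ K) ≤ 3 := by
    have := Nat.card_le_card_of_surjective _ hsurj
    rwa [Nat.card_fin] at this
  have hq : 3 ≤ Nat.card (X ⧸ K) := by
    have h := Subgroup.card_eq_card_quotient_mul_card_subgroup K
    rw [hX] at h
    by_contra hlt
    push Not at hlt
    have h2 : Nat.card (X ⧸ K) * Nat.card K ≤ 2 * (2 * f) :=
      Nat.mul_le_mul (by omega) hKcard
    omega
  have hbij : Function.Bijective (fun i => ((![1, ρ, ρ⁻¹] : Fin 3 → X) i : X ⧸ K)) :=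
    hsurj.bijective_of_nat_card_le (by rw [Nat.card_fin]; exact hq)
  obtain ⟨π, hπ⟩ := exists_perm_hom K _ hbij
  have hπρ : π ρ = finRotate 3 := hπ ρ _ (tab3_rho ρ hρ K)
  have hπκ : π κ = swap (1 : Fin 3) 2 := hπ κ _ (tab3_kappa ρ κ hκρ K hκ1)
  have hπφ : π φ = 1 := hπ φ _ (tab3_phi ρ φ hφρ K hφ1)
  have hπs : Function.Surjective π := by
    rw [← MonoidHom.range_eq_top, eq_top_iff]
    have h := Perm.closure_cycle_adjacent_swap (isCycle_finRotate (n := 1))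
      (support_finRotate (n := 1)) (1 : Fin 3)
    rw [← h, Subgroup.closure_le]
    intro σ hσ
    rcases hσ with rfl | hσ
    · exact ⟨ρ, hπρ⟩
    · rw [Set.mem_singleton_iff] at hσ
      subst hσ
      exact ⟨κ, by rw [hπκ]; decide⟩
  -- the complement
  set M := Subgroup.closure ({ρ, κ} : Set X) with hM
  have hMcard : Nat.card M ≤ Nat.factorial 3 := by
    have h := card_K3 (f := 1) ρ κ (1 : X) Nat.one_pos (pow_one 1) hρ hκ hκρ (by group) (by group)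
    have hle : M ≤ Subgroup.closure ({ρ, κ, 1} : Set X) := by
      apply Subgroup.closure_mono
      intro x hx
      rcases hx with rfl | hx
      · simp
      · rw [Set.mem_singleton_iff] at hx; subst hx; simp
    exact (Subgroup.card_le_of_le hle).trans h
  have hcomm : ∀ m ∈ M, m * φ = φ * m := by
    intro m hm
    have hle : M ≤ Subgroup.centralizer {φ} := by
      rw [hM, Subgroup.closure_le]
      intro x hx
      rw [SetLike.mem_coe, Subgroup.mem_centralizer_iff]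
      intro y hy
      rw [Set.mem_singleton_iff] at hy
      subst hy
      rcases hx with rfl | hx
      · exact hφρ
      · rw [Set.mem_singleton_iff] at hx; subst hx; exact hφκ
    have := Subgroup.mem_centralizer_iff.1 (hle hm) φ rfl
    exact this.symm
  have hgen' : M ⊔ Subgroup.zpowers φ = ⊤ := by
    rw [← hgen, Subgroup.zpowers_eq_closure, hM, ← Subgroup.closure_union]
    congr 1
    ext x
    simp only [Set.mem_union, Set.mem_insert_iff, Set.mem_singleton_iff]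
    tauto
  exact pattern hf (by rw [hX]; rfl) M φ hφ hcomm hMcard hgen' π hπs hπφ

/-! ### degree four -/

theorem z_z1 (hz : z * z = 1) (hzz : z = (ρ⁻¹ * z * ρ) * (ρ * z * ρ⁻¹)) :
    z * (ρ * z * ρ⁻¹) = ρ⁻¹ * z * ρ := by
  have h1 : (ρ * z * ρ⁻¹) * (ρ * z * ρ⁻¹) = 1 := by
    calc (ρ * z * ρ⁻¹) * (ρ * z * ρ⁻¹) = ρ * (z * z) * ρ⁻¹ := by group
      _ = 1 := by rw [hz]; group
  calc z * (ρ * z * ρ⁻¹) = ((ρ⁻¹ * z * ρ) * (ρ * z * ρ⁻¹)) * (ρ * z * ρ⁻¹) := by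
        rw [← hzz]
    _ = (ρ⁻¹ * z * ρ) * ((ρ * z * ρ⁻¹) * (ρ * z * ρ⁻¹)) := by rw [mul_assoc]
    _ = ρ⁻¹ * z * ρ := by rw [h1, mul_one]

theorem z_z2 (hρ : ρ ^ 3 = 1) (hzz : z = (ρ⁻¹ * z * ρ) * (ρ * z * ρ⁻¹)) :
    z * (ρ⁻¹ * z * ρ) = ρ * z * ρ⁻¹ := by
  have h2 := rho_sq ρ hρ
  calc z * (ρ⁻¹ * z * ρ) = z * ((ρ * ρ) * z * (ρ * ρ)⁻¹) := by rw [h2, inv_inv]
    _ = ρ * ((ρ⁻¹ * z * ρ) * (ρ * z * ρ⁻¹)) * ρ⁻¹ := by group
    _ = ρ * z * ρ⁻¹ := by rw [← hzz]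

theorem tab4_z (hρ : ρ ^ 3 = 1) (hz : z * z = 1) (hzz : z = (ρ⁻¹ * z * ρ) * (ρ * z * ρ⁻¹))
    (K : Subgroup X) :
    ∀ i, ∃ k ∈ K, z * (![1, z, ρ * z * ρ⁻¹, ρ⁻¹ * z * ρ] : Fin 4 → X) i =
      (![1, z, ρ * z * ρ⁻¹, ρ⁻¹ * z * ρ] : Fin 4 → X)
        ((swap (0 : Fin 4) 1 * swap (2 : Fin 4) 3) i) * k := by
  intro i
  refine ⟨1, Subgroup.one_mem _, ?_⟩
  fin_cases i
  · show z * 1 = z * 1
    rfl
  · show z * z = 1 * 1
    rw [hz, mul_one]
  · show z * (ρ * z * ρ⁻¹) = ρ⁻¹ * z * ρ * 1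
    rw [mul_one, z_z1 z ρ hz hzz]
  · show z * (ρ⁻¹ * z * ρ) = ρ * z * ρ⁻¹ * 1
    rw [mul_one, z_z2 z ρ hρ hzz]

theorem tab4_rho (hρ : ρ ^ 3 = 1) (K : Subgroup X) (hρK : ρ ∈ K) :
    ∀ i, ∃ k ∈ K, ρ * (![1, z, ρ * z * ρ⁻¹, ρ⁻¹ * z * ρ] : Fin 4 → X) i =
      (![1, z, ρ * z * ρ⁻¹, ρ⁻¹ * z * ρ] : Fin 4 → X)
        ((swap (1 : Fin 4) 2 * swap (2 : Fin 4) 3) i) * k := by
  intro i
  refine ⟨ρ, hρK, ?_⟩
  have h2 := rho_sq ρ hρ
  fin_cases i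
  · show ρ * 1 = 1 * ρ
    group
  · show ρ * z = ρ * z * ρ⁻¹ * ρ
    group
  · show ρ * (ρ * z * ρ⁻¹) = ρ⁻¹ * z * ρ * ρ
    calc ρ * (ρ * z * ρ⁻¹) = (ρ * ρ) * z * ρ⁻¹ := by group
      _ = ρ⁻¹ * z * (ρ * ρ) := by rw [h2]
      _ = ρ⁻¹ * z * ρ * ρ := by group
  · show ρ * (ρ⁻¹ * z * ρ) = z * ρ
    group

theorem kappa_z1 (hκρ : κ * ρ = ρ⁻¹ * κ) (hκz : κ * z = z * κ) :
    κ * (ρ * z * ρ⁻¹) = (ρ⁻¹ * z * ρ) * κ := by
  have h1 := kappa_rho_inv ρ κ hκρ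
  calc κ * (ρ * z * ρ⁻¹) = (κ * ρ) * z * ρ⁻¹ := by group
    _ = ρ⁻¹ * (κ * z) * ρ⁻¹ := by rw [hκρ]; group
    _ = ρ⁻¹ * z * (κ * ρ⁻¹) := by rw [hκz]; group
    _ = (ρ⁻¹ * z * ρ) * κ := by rw [h1]; group

theorem kappa_z2 (hκρ : κ * ρ = ρ⁻¹ * κ) (hκz : κ * z = z * κ) :
    κ * (ρ⁻¹ * z * ρ) = (ρ * z * ρ⁻¹) * κ := by
  have h1 := kappa_rho_inv ρ κ hκρ
  calc κ * (ρ⁻¹ * z * ρ) = (κ * ρ⁻¹) * z * ρ := by group
    _ = ρ * (κ * z) * ρ := by rw [h1]; group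
    _ = ρ * z * (κ * ρ) := by rw [hκz]; group
    _ = (ρ * z * ρ⁻¹) * κ := by rw [hκρ]; group

theorem tab4_kappa (hκρ : κ * ρ = ρ⁻¹ * κ) (hκz : κ * z = z * κ) (K : Subgroup X)
    (hκK : κ ∈ K) :
    ∀ i, ∃ k ∈ K, κ * (![1, z, ρ * z * ρ⁻¹, ρ⁻¹ * z * ρ] : Fin 4 → X) i =
      (![1, z, ρ * z * ρ⁻¹, ρ⁻¹ * z * ρ] : Fin 4 → X) ((swap (2 : Fin 4) 3) i) * k := by
  intro i
  refine ⟨κ, hκK, ?_⟩
  fin_cases i
  · show κ * 1 = 1 * κ
    group
  · show κ * z = z * κ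
    exact hκz
  · show κ * (ρ * z * ρ⁻¹) = ρ⁻¹ * z * ρ * κ
    exact kappa_z1 z ρ κ hκρ hκz
  · show κ * (ρ⁻¹ * z * ρ) = ρ * z * ρ⁻¹ * κ
    exact kappa_z2 z ρ κ hκρ hκz

theorem tab4_phi (hφρ : φ * ρ = ρ * φ) (hφz : φ * z = z * φ) (K : Subgroup X)
    (hφK : φ ∈ K) :
    ∀ i, ∃ k ∈ K, φ * (![1, z, ρ * z * ρ⁻¹, ρ⁻¹ * z * ρ] : Fin 4 → X) i =
      (![1, z, ρ * z * ρ⁻¹, ρ⁻¹ * z * ρ] : Fin 4 → X) ((1 : Perm (Fin 4)) i) * k := by
  intro i
  refine ⟨φ, hφK, ?_⟩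
  have h1 := comm_inv hφρ
  fin_cases i
  · show φ * 1 = 1 * φ
    group
  · show φ * z = z * φ
    exact hφz
  · show φ * (ρ * z * ρ⁻¹) = ρ * z * ρ⁻¹ * φ
    calc φ * (ρ * z * ρ⁻¹) = (φ * ρ) * z * ρ⁻¹ := by group
      _ = ρ * (φ * z) * ρ⁻¹ := by rw [hφρ]; group
      _ = ρ * z * (φ * ρ⁻¹) := by rw [hφz]; group
      _ = ρ * z * ρ⁻¹ * φ := by rw [h1]; group
  · show φ * (ρ⁻¹ * z * ρ) = ρ⁻¹ * z * ρ * φ
    calc φ * (ρ⁻¹ * z * ρ) = (φ * ρ⁻¹) * z * ρ := by group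
      _ = ρ⁻¹ * (φ * z) * ρ := by rw [h1]; group
      _ = ρ⁻¹ * z * (φ * ρ) := by rw [hφz]; group
      _ = ρ⁻¹ * z * ρ * φ := by rw [hφρ]; group

theorem tab4 (hρ : ρ ^ 3 = 1) (hκρ : κ * ρ = ρ⁻¹ * κ) (hφρ : φ * ρ = ρ * φ)
    (hz : z * z = 1) (hκz : κ * z = z * κ) (hφz : φ * z = z * φ)
    (hzz : z = (ρ⁻¹ * z * ρ) * (ρ * z * ρ⁻¹))
    (K : Subgroup X) (hρK : ρ ∈ K) (hκK : κ ∈ K) (hφK : φ ∈ K) :
    ∀ s ∈ ({z, ρ, κ, φ} : Set X), ∀ i, ∃ j, ∃ k ∈ K,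
      s * (![1, z, ρ * z * ρ⁻¹, ρ⁻¹ * z * ρ] : Fin 4 → X) i =
        (![1, z, ρ * z * ρ⁻¹, ρ⁻¹ * z * ρ] : Fin 4 → X) j * k := by
  intro s hs i
  rcases hs with rfl | rfl | rfl | hs
  · exact ⟨_, tab4_z s ρ hρ hz hzz K i⟩
  · exact ⟨_, tab4_rho z s hρ K hρK i⟩
  · exact ⟨_, tab4_kappa z ρ s hκρ hκz K hκK i⟩
  · rw [Set.mem_singleton_iff] at hs
    subst hs
    exact ⟨_, tab4_phi z ρ s hφρ hφz K hφK i⟩

/-- the subgroup generated by `z, ρ, κ, φ` -/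
theorem card_K4 (hf : 0 < f) (hφ : φ ^ f = 1) (hρ : ρ ^ 3 = 1) (hκ : κ * κ = 1)
    (hκρ : κ * ρ = ρ⁻¹ * κ) (hφρ : φ * ρ = ρ * φ) (hφκ : φ * κ = κ * φ)
    (hz : z * z = 1) (hκz : κ * z = z * κ) (hφz : φ * z = z * φ)
    (hzz : z = (ρ⁻¹ * z * ρ) * (ρ * z * ρ⁻¹)) :
    Nat.card (Subgroup.closure ({z, ρ, κ, φ} : Set X)) ≤ 24 * f := by
  have h1 := card_K3 ρ κ φ hf hφ hρ hκ hκρ hφρ hφκ
  have hρ1 : ρ ∈ Subgroup.closure ({ρ, κ, φ} : Set X) := Subgroup.subset_closure (by simp)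
  have hκ1 : κ ∈ Subgroup.closure ({ρ, κ, φ} : Set X) := Subgroup.subset_closure (by simp)
  have hφ1 : φ ∈ Subgroup.closure ({ρ, κ, φ} : Set X) := Subgroup.subset_closure (by simp)
  have h := card_closure_le ({z, ρ, κ, φ} : Set X) (Subgroup.closure ({ρ, κ, φ} : Set X))
    ![1, z, ρ * z * ρ⁻¹, ρ⁻¹ * z * ρ] 0 (Subgroup.one_mem _)
    (tab4 z ρ κ φ hρ hκρ hφρ hz hκz hφz hzz _ hρ1 hκ1 hφ1)
  refine h.trans ?_
  calc 4 * Nat.card (Subgroup.closure ({ρ, κ, φ} : Set X)) ≤ 4 * (6 * f) :=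
        Nat.mul_le_mul_left 4 h1
    _ = 24 * f := by ring

/-- **recognition of `S_4 × C_f`** -/
theorem recog4 (hf : 0 < f) (hX : Nat.card X = 24 * f) (hφ : φ ^ f = 1) (hρ : ρ ^ 3 = 1)
    (hκ : κ * κ = 1) (hκρ : κ * ρ = ρ⁻¹ * κ) (hφρ : φ * ρ = ρ * φ) (hφκ : φ * κ = κ * φ)
    (hz : z * z = 1) (hκz : κ * z = z * κ) (hφz : φ * z = z * φ)
    (hzz : z = (ρ⁻¹ * z * ρ) * (ρ * z * ρ⁻¹))
    (hgen : Subgroup.closure ({z, ρ, κ, φ} : Set X) = ⊤) :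
    Nonempty (X ≃* Perm (Fin 4) × Multiplicative (ZMod f)) := by
  classical
  set K := Subgroup.closure ({ρ, κ, φ} : Set X) with hK
  have hKcard : Nat.card K ≤ 6 * f := card_K3 ρ κ φ hf hφ hρ hκ hκρ hφρ hφκ
  have hρ1 : ρ ∈ K := Subgroup.subset_closure (by simp)
  have hκ1 : κ ∈ K := Subgroup.subset_closure (by simp)
  have hφ1 : φ ∈ K := Subgroup.subset_closure (by simp)
  have hsurj := coset_surjective ({z, ρ, κ, φ} : Set X) hgen K
    ![1, z, ρ * z * ρ⁻¹, ρ⁻¹ * z * ρ] 0 (Subgroup.one_mem _)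
    (tab4 z ρ κ φ hρ hκρ hφρ hz hκz hφz hzz K hρ1 hκ1 hφ1)
  have hq3 : Nat.card (X ⧸ K) ≤ 4 := by
    have := Nat.card_le_card_of_surjective _ hsurj
    rwa [Nat.card_fin] at this
  have hq : 4 ≤ Nat.card (X ⧸ K) := by
    have h := Subgroup.card_eq_card_quotient_mul_card_subgroup K
    rw [hX] at h
    by_contra hlt
    push Not at hlt
    have h2 : Nat.card (X ⧸ K) * Nat.card K ≤ 3 * (6 * f) :=
      Nat.mul_le_mul (by omega) hKcard
    omega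
  have hbij : Function.Bijective
      (fun i => ((![1, z, ρ * z * ρ⁻¹, ρ⁻¹ * z * ρ] : Fin 4 → X) i : X ⧸ K)) :=
    hsurj.bijective_of_nat_card_le (by rw [Nat.card_fin]; exact hq)
  obtain ⟨π, hπ⟩ := exists_perm_hom K _ hbij
  have hπz : π z = swap (0 : Fin 4) 1 * swap (2 : Fin 4) 3 := hπ z _ (tab4_z z ρ hρ hz hzz K)
  have hπρ : π ρ = swap (1 : Fin 4) 2 * swap (2 : Fin 4) 3 := hπ ρ _ (tab4_rho z ρ hρ K hρ1)
  have hπκ : π κ = swap (2 : Fin 4) 3 := hπ κ _ (tab4_kappa z ρ κ hκρ hκz K hκ1)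
  have hπφ : π φ = 1 := hπ φ _ (tab4_phi z ρ φ hφρ hφz K hφ1)
  have hπs : Function.Surjective π := by
    rw [← MonoidHom.range_eq_top, eq_top_iff]
    have h := Perm.closure_cycle_adjacent_swap (isCycle_finRotate (n := 2))
      (support_finRotate (n := 2)) (0 : Fin 4)
    rw [← h, Subgroup.closure_le]
    intro σ hσ
    rcases hσ with rfl | hσ
    · refine ⟨κ * z * ρ, ?_⟩
      rw [map_mul, map_mul, hπz, hπρ, hπκ]
      decide
    · rw [Set.mem_singleton_iff] at hσ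
      subst hσ
      refine ⟨κ * z, ?_⟩
      rw [map_mul, hπz, hπκ]
      decide
  -- the complement
  set M := Subgroup.closure ({z, ρ, κ} : Set X) with hM
  have hMcard : Nat.card M ≤ Nat.factorial 4 := by
    have h := card_K4 (f := 1) z ρ κ (1 : X) Nat.one_pos (pow_one 1) hρ hκ hκρ (by group)
      (by group) hz hκz (by group) hzz
    have hle : M ≤ Subgroup.closure ({z, ρ, κ, 1} : Set X) := by
      apply Subgroup.closure_mono
      intro x hx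
      rcases hx with rfl | rfl | hx
      · simp
      · simp
      · rw [Set.mem_singleton_iff] at hx; subst hx; simp
    exact (Subgroup.card_le_of_le hle).trans h
  have hcomm : ∀ m ∈ M, m * φ = φ * m := by
    intro m hm
    have hle : M ≤ Subgroup.centralizer {φ} := by
      rw [hM, Subgroup.closure_le]
      intro x hx
      rw [SetLike.mem_coe, Subgroup.mem_centralizer_iff]
      intro y hy
      rw [Set.mem_singleton_iff] at hy
      subst hy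
      rcases hx with rfl | rfl | hx
      · exact hφz
      · exact hφρ
      · rw [Set.mem_singleton_iff] at hx; subst hx; exact hφκ
    have := Subgroup.mem_centralizer_iff.1 (hle hm) φ rfl
    exact this.symm
  have hgen' : M ⊔ Subgroup.zpowers φ = ⊤ := by
    rw [← hgen, Subgroup.zpowers_eq_closure, hM, ← Subgroup.closure_union]
    congr 1
    ext x
    simp only [Set.mem_union, Set.mem_insert_iff, Set.mem_singleton_iff]
    tauto
  exact pattern hf (by rw [hX]; rfl) M φ hφ hcomm hMcard hgen' π hπs hπφ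

/-- variant of `recog4` with the Klein relation in the form `z z₁ = κ z₁ κ⁻¹` -/
theorem recog4' (hf : 0 < f) (hX : Nat.card X = 24 * f) (hφ : φ ^ f = 1) (hρ : ρ ^ 3 = 1)
    (hκ : κ * κ = 1) (hκρ : κ * ρ = ρ⁻¹ * κ) (hφρ : φ * ρ = ρ * φ) (hφκ : φ * κ = κ * φ)
    (hz : z * z = 1) (hκz : κ * z = z * κ) (hφz : φ * z = z * φ)
    (hE : z * (ρ * z * ρ⁻¹) = κ * (ρ * z * ρ⁻¹) * κ⁻¹)
    (hgen : Subgroup.closure ({z, ρ, κ, φ} : Set X) = ⊤) :
    Nonempty (X ≃* Perm (Fin 4) × Multiplicative (ZMod f)) := by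
  refine recog4 z ρ κ φ hf hX hφ hρ hκ hκρ hφρ hφκ hz hκz hφz ?_ hgen
  have h1 : κ * (ρ * z * ρ⁻¹) * κ⁻¹ = ρ⁻¹ * z * ρ := by
    rw [kappa_z1 z ρ κ hκρ hκz]; group
  have h2 : (ρ * z * ρ⁻¹) * (ρ * z * ρ⁻¹) = 1 := by
    calc (ρ * z * ρ⁻¹) * (ρ * z * ρ⁻¹) = ρ * (z * z) * ρ⁻¹ := by group
      _ = 1 := by rw [hz]; group
  calc z = z * ((ρ * z * ρ⁻¹) * (ρ * z * ρ⁻¹)) := by rw [h2, mul_one]
    _ = (z * (ρ * z * ρ⁻¹)) * (ρ * z * ρ⁻¹) := (mul_assoc _ _ _).symm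
    _ = (ρ⁻¹ * z * ρ) * (ρ * z * ρ⁻¹) := by rw [hE, h1]

end rel


section quot

variable {𝔸 : Type*} [Group 𝔸] (I : Subgroup 𝔸) [I.Normal] {f : ℕ}

theorem closure_image_eq_top (S : Set 𝔸)
    (hgen : ∀ Y : Subgroup 𝔸, I ≤ Y → S ⊆ Y → Y = ⊤) :
    Subgroup.closure ((QuotientGroup.mk' I) '' S) = ⊤ := by
  have h := hgen (Subgroup.comap (QuotientGroup.mk' I)
    (Subgroup.closure ((QuotientGroup.mk' I) '' S))) ?_ ?_
  · rw [eq_top_iff]
    intro x _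
    obtain ⟨a, rfl⟩ := QuotientGroup.mk'_surjective I x
    have : a ∈ Subgroup.comap (QuotientGroup.mk' I)
        (Subgroup.closure ((QuotientGroup.mk' I) '' S)) := by rw [h]; trivial
    exact this
  · intro i hi
    rw [Subgroup.mem_comap]
    have : QuotientGroup.mk' I i = 1 := (QuotientGroup.eq_one_iff i).2 hi
    rw [this]
    exact Subgroup.one_mem _
  · intro s hs
    rw [SetLike.mem_coe, Subgroup.mem_comap]
    exact Subgroup.subset_closure ⟨s, hs, rfl⟩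

theorem mk_comm_of_mem {a b : 𝔸} (h : a * b * a⁻¹ * b⁻¹ ∈ I) :
    (QuotientGroup.mk' I a) * (QuotientGroup.mk' I b) =
      (QuotientGroup.mk' I b) * (QuotientGroup.mk' I a) := by
  have h1 : QuotientGroup.mk' I (a * b * a⁻¹ * b⁻¹) = 1 := (QuotientGroup.eq_one_iff _).2 h
  rw [map_mul, map_mul, map_mul, map_inv, map_inv] at h1
  calc (QuotientGroup.mk' I a) * (QuotientGroup.mk' I b)
      = ((QuotientGroup.mk' I a) * (QuotientGroup.mk' I b) * (QuotientGroup.mk' I a)⁻¹ *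
          (QuotientGroup.mk' I b)⁻¹) * ((QuotientGroup.mk' I b) * (QuotientGroup.mk' I a)) := by
        group
    _ = (QuotientGroup.mk' I b) * (QuotientGroup.mk' I a) := by rw [h1, one_mul]

/-- `S_3 × C_f` as a quotient -/
theorem recog3_quot [Finite (𝔸 ⧸ I)] (hf : 0 < f) (hcard : Nat.card (𝔸 ⧸ I) = 6 * f)
    (ρ κ φ : 𝔸) (hφ : φ ^ f = 1) (hρ : ρ ^ 3 = 1) (hκ : κ * κ = 1)
    (hκρ : κ * ρ * κ⁻¹ = ρ⁻¹) (hφρ : φ * ρ = ρ * φ) (hφκ : φ * κ = κ * φ)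
    (hgen : ∀ Y : Subgroup 𝔸, I ≤ Y → ρ ∈ Y → κ ∈ Y → φ ∈ Y → Y = ⊤) :
    Nonempty (𝔸 ⧸ I ≃* Perm (Fin 3) × Multiplicative (ZMod f)) := by
  set q := QuotientGroup.mk' I with hq
  have hκρ' : κ * ρ = ρ⁻¹ * κ := by rw [← hκρ]; group
  refine recog3 (q ρ) (q κ) (q φ) hf hcard ?_ ?_ ?_ ?_ ?_ ?_ ?_
  · rw [← map_pow, hφ, map_one]
  · rw [← map_pow, hρ, map_one]
  · rw [← map_mul, hκ, map_one]
  · rw [← map_inv, ← map_mul, ← map_mul, hκρ']
  · rw [← map_mul, ← map_mul, hφρ]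
  · rw [← map_mul, ← map_mul, hφκ]
  · have h := closure_image_eq_top I ({ρ, κ, φ} : Set 𝔸) (fun Y hI hS =>
      hgen Y hI (hS (by simp)) (hS (by simp)) (hS (by simp)))
    rw [Set.image_insert_eq, Set.image_insert_eq, Set.image_singleton] at h
    exact h

/-- `S_4 × C_f` as a quotient -/
theorem recog4_quot [Finite (𝔸 ⧸ I)] (hf : 0 < f) (hcard : Nat.card (𝔸 ⧸ I) = 24 * f)
    (z ρ κ φ : 𝔸) (hφ : φ ^ f = 1) (hρ : ρ ^ 3 = 1) (hκ : κ * κ = 1)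
    (hκρ : κ * ρ * κ⁻¹ = ρ⁻¹) (hφρ : φ * ρ = ρ * φ) (hφκ : φ * κ = κ * φ)
    (hz : z * z ∈ I) (hκz : κ * z * κ⁻¹ * z⁻¹ ∈ I) (hφz : φ * z * φ⁻¹ * z⁻¹ ∈ I)
    (hE : z * (ρ * z * ρ⁻¹) = κ * (ρ * z * ρ⁻¹) * κ⁻¹)
    (hgen : ∀ Y : Subgroup 𝔸, I ≤ Y → z ∈ Y → ρ ∈ Y → κ ∈ Y → φ ∈ Y → Y = ⊤) :
    Nonempty (𝔸 ⧸ I ≃* Perm (Fin 4) × Multiplicative (ZMod f)) := by
  set q := QuotientGroup.mk' I with hq
  have hκρ' : κ * ρ = ρ⁻¹ * κ := by rw [← hκρ]; group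
  refine recog4' (q z) (q ρ) (q κ) (q φ) hf hcard ?_ ?_ ?_ ?_ ?_ ?_ ?_ ?_ ?_ ?_ ?_
  · rw [← map_pow, hφ, map_one]
  · rw [← map_pow, hρ, map_one]
  · rw [← map_mul, hκ, map_one]
  · rw [← map_inv, ← map_mul, ← map_mul, hκρ']
  · rw [← map_mul, ← map_mul, hφρ]
  · rw [← map_mul, ← map_mul, hφκ]
  · rw [← map_mul]
    exact (QuotientGroup.eq_one_iff _).2 hz
  · exact mk_comm_of_mem I hκz
  · exact mk_comm_of_mem I hφz
  · rw [← map_inv, ← map_inv, ← map_mul, ← map_mul, ← map_mul, ← map_mul, ← map_mul, hE]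
  · have h := closure_image_eq_top I ({z, ρ, κ, φ} : Set 𝔸) (fun Y hI hS =>
      hgen Y hI (hS (by simp)) (hS (by simp)) (hS (by simp)) (hS (by simp)))
    rw [Set.image_insert_eq, Set.image_insert_eq, Set.image_insert_eq, Set.image_singleton] at h
    exact h

end quot

section gen

variable {𝔸 : Type*} [Group 𝔸] {f : ℕ}

/-- once `Y` contains `P`, the field automorphism and triality, it is everything -/
theorem gen_top [NeZero f] (Γ P Y : Subgroup 𝔸) (hPΓ : P ≤ Γ)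
    (Θ : ↥Γ →* Multiplicative (ZMod f)) (hΘk : Θ.ker = P.subgroupOf Γ)
    (φ : 𝔸) (hφΓ : φ ∈ Γ) (hΘφ : Θ ⟨φ, hφΓ⟩ = Multiplicative.ofAdd (1 : ZMod f))
    (hidx : Γ.index = 3) (ρ : 𝔸) (hρΓ : ρ ∉ Γ) (hPY : P ≤ Y) (hφY : φ ∈ Y) (hρY : ρ ∈ Y) :
    Y = ⊤ := by
  have hΓY : Γ ≤ Y := by
    intro γ hγ
    set j : ℕ := (Multiplicative.toAdd (Θ ⟨γ, hγ⟩)).val with hj
    have h1 : Θ (⟨φ, hφΓ⟩ ^ j) = Θ ⟨γ, hγ⟩ := by
      rw [map_pow, hΘφ, ← ofAdd_nsmul, nsmul_eq_mul, mul_one, hj, ZMod.natCast_zmod_val]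
      rfl
    have h2 : (⟨γ, hγ⟩ : ↥Γ) * (⟨φ, hφΓ⟩ ^ j)⁻¹ ∈ Θ.ker := by
      rw [MonoidHom.mem_ker, map_mul, map_inv, h1, mul_inv_cancel]
    rw [hΘk, Subgroup.mem_subgroupOf] at h2
    have h3 : γ * (φ ^ j)⁻¹ ∈ Y := hPY h2
    have h4 : γ = (γ * (φ ^ j)⁻¹) * φ ^ j := by group
    rw [h4]
    exact Y.mul_mem h3 (Y.pow_mem hφY j)
  have hdvd : Y.index ∣ 3 := by
    rw [← hidx]; exact Subgroup.index_dvd_of_le hΓY
  rcases (Nat.dvd_prime Nat.prime_three).1 hdvd with h1 | h3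
  · exact Subgroup.index_eq_one.1 h1
  · exfalso
    have h := Subgroup.relIndex_mul_index hΓY
    rw [h3, hidx] at h
    have h1 : Γ.relIndex Y = 1 := by omega
    exact hρΓ (Subgroup.relIndex_eq_one.1 h1 hρY)

/-- `P ≤ Y` when `P/I` has order two -/
theorem P_le_of_two (I P Y : Subgroup 𝔸) (ψ : ↥P →* Multiplicative (ZMod 2))
    (hψk : ψ.ker = I.subgroupOf P) (κ : 𝔸) (hκP : κ ∈ P) (hκI : κ ∉ I) (hIY : I ≤ Y)
    (hκY : κ ∈ Y) : P ≤ Y := by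
  intro x hx
  have hκ1 : ψ ⟨κ, hκP⟩ ≠ 1 := by
    intro h
    have : (⟨κ, hκP⟩ : ↥P) ∈ ψ.ker := h
    rw [hψk, Subgroup.mem_subgroupOf] at this
    exact hκI this
  have key : ∀ a b : Multiplicative (ZMod 2), b ≠ 1 → a = 1 ∨ a = b := by decide
  rcases key (ψ ⟨x, hx⟩) _ hκ1 with h | h
  · have : (⟨x, hx⟩ : ↥P) ∈ ψ.ker := h
    rw [hψk, Subgroup.mem_subgroupOf] at this
    exact hIY this
  · have h2 : (⟨x, hx⟩ : ↥P) * (⟨κ, hκP⟩ : ↥P)⁻¹ ∈ ψ.ker := by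
      rw [MonoidHom.mem_ker, map_mul, map_inv, h, mul_inv_cancel]
    rw [hψk, Subgroup.mem_subgroupOf] at h2
    have h3 : x * κ⁻¹ ∈ Y := hIY h2
    have h4 : x = (x * κ⁻¹) * κ := by group
    rw [h4]
    exact Y.mul_mem h3 hκY

/-- two non-commuting elements generate the dihedral group of order eight -/
theorem d4_top_of_not_comm (H : Subgroup (DihedralGroup 4)) (b c : DihedralGroup 4)
    (hb : b ∈ H) (hc : c ∈ H) (hbc : b * c ≠ c * b) : H = ⊤ := by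
  have key : ∀ b c : DihedralGroup 4, b * c ≠ c * b → ∀ x : DihedralGroup 4,
      x = 1 ∨ x = b ∨ x = b * b ∨ x = b * b * b ∨ x = c ∨ x = c * c ∨ x = c * c * c ∨
      x = c * b ∨ x = c * b * b ∨ x = c * b * b * b ∨ x = b * c ∨ x = b * c * c ∨
      x = b * c * c * c ∨ x = b * c * b * c ∨ x = b * c * b ∨ x = c * b * c := by
    decide
  rw [eq_top_iff]
  intro x _
  rcases key b c hbc x with h | h | h | h | h | h | h | h | h | h | h | h | h | h | h | h <;>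
    rw [h] <;>
    repeat' (first | exact hb | exact hc | exact H.one_mem | apply H.mul_mem)

/-- `P ≤ Y` when `P/I` is dihedral of order eight and `Y` contains two elements of `P` not
commuting modulo `I` -/
theorem P_le_of_d4 (I P Y : Subgroup 𝔸) (ψ : ↥P →* DihedralGroup 4)
    (hψk : ψ.ker = I.subgroupOf P) (b c : 𝔸) (hbP : b ∈ P) (hcP : c ∈ P)
    (hbc : b * c * b⁻¹ * c⁻¹ ∉ I) (hIY : I ≤ Y) (hbY : b ∈ Y) (hcY : c ∈ Y) : P ≤ Y := by
  have htop : (Y.subgroupOf P).map ψ = ⊤ := by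
    apply d4_top_of_not_comm _ (ψ ⟨b, hbP⟩) (ψ ⟨c, hcP⟩)
    · exact ⟨_, Subgroup.mem_subgroupOf.2 hbY, rfl⟩
    · exact ⟨_, Subgroup.mem_subgroupOf.2 hcY, rfl⟩
    · intro h
      have h1 : (⟨b, hbP⟩ : ↥P) * ⟨c, hcP⟩ * (⟨b, hbP⟩ : ↥P)⁻¹ * (⟨c, hcP⟩ : ↥P)⁻¹ ∈ ψ.ker := by
        rw [MonoidHom.mem_ker, map_mul, map_mul, map_mul, map_inv, map_inv, h]
        group
      rw [hψk, Subgroup.mem_subgroupOf] at h1
      exact hbc h1
  intro x hx
  have hx' : ψ ⟨x, hx⟩ ∈ (Y.subgroupOf P).map ψ := by rw [htop]; trivial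
  obtain ⟨w, hw, hwx⟩ := hx'
  rw [SetLike.mem_coe, Subgroup.mem_subgroupOf] at hw
  have h2 : (⟨x, hx⟩ : ↥P) * w⁻¹ ∈ ψ.ker := by
    rw [MonoidHom.mem_ker, map_mul, map_inv, hwx, mul_inv_cancel]
  rw [hψk, Subgroup.mem_subgroupOf] at h2
  have h3 : x * (w : 𝔸)⁻¹ ∈ Y := hIY h2
  have h4 : x = (x * (w : 𝔸)⁻¹) * w := by group
  rw [h4]
  exact Y.mul_mem h3 hw

end gen

end Cfsg.Agent.Lib.Helper5.Recog
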