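import Mathlib
import Cfsg.Agent.Lib.Helper3.S1936.Defs

/-!
# S1936 hive, leaf L16 (local structure): the pull-back from `H / O_p(H)` to `G`
(parallel hand for helper32; all names prefixed `l16p_`)
-/

set_option autoImplicit false

universe u

namespace Cfsg.Agent.Lib.Helper3.S1936

open Subgroup

/-- a normal subgroup of `↥H` pushed to `G` is normalized by `H` -/
theorem l16p_le_normalizer_map {G : Type u} [Group G] (H : Subgroup G) (S' : Subgroup ↥H)
    [hS : S'.Normal] : H ≤ normalizer ((S'.map H.subtype : Subgroup G) : Set G) := by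
  have h1 : normalizer (S' : Set ↥H) = ⊤ := Subgroup.normalizer_eq_top S'
  have h2 := Subgroup.le_normalizer_map (H := S') H.subtype
  rw [h1, ← MonoidHom.range_eq_map, Subgroup.range_subtype] at h2
  exact h2

/-- a `p`-subgroup meets a `p'`-subgroup trivially -/
theorem l16p_inf_eq_bot {X : Type*} [Group X] [Finite X] {p : ℕ} [Fact p.Prime] {T B : Subgroup X}
    (hT : IsPGroup p ↥T) (hB : (Nat.card ↥B).Coprime p) : T ⊓ B = ⊥ := by
  obtain ⟨n, hn⟩ := hT.exists_card_eq
  refine (Subgroup.disjoint_of_coprime_natCard ?_).eq_bot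
  rw [hn]
  exact Nat.Coprime.pow_left n hB.symm

/-- a `p`-subgroup normalized by a normal self-centralizing `p'`-subgroup is trivial -/
theorem l16p_bar_eq_bot {X : Type*} [Group X] [Finite X] {p : ℕ} [Fact p.Prime] {T B : Subgroup X}
    (hT : IsPGroup p ↥T) (hB : (Nat.card ↥B).Coprime p) (hBn : B.Normal)
    (hBc : centralizer (B : Set X) ≤ B) (hnorm : ∀ b ∈ B, ∀ t ∈ T, b * t * b⁻¹ ∈ T) : T = ⊥ := by
  have hinf := l16p_inf_eq_bot hT hB
  rw [eq_bot_iff]
  intro t ht
  have htC : t ∈ centralizer (B : Set X) := by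
    rw [Subgroup.mem_centralizer_iff]
    intro b hb
    have h1 : t * b * t⁻¹ * b⁻¹ ∈ T ⊓ B := by
      constructor
      · have h0 := hnorm b hb t⁻¹ (T.inv_mem ht)
        have h2 := T.mul_mem ht h0
        have e : t * (b * t⁻¹ * b⁻¹) = t * b * t⁻¹ * b⁻¹ := by group
        rwa [e] at h2
      · exact B.mul_mem (hBn.conj_mem b hb t) (B.inv_mem hb)
    rw [hinf, Subgroup.mem_bot] at h1
    have h3 : t * b * t⁻¹ = b := mul_inv_eq_one.mp h1
    have h4 : t * b = b * t := mul_inv_eq_iff_eq_mul.mp h3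
    exact h4.symm
  have h5 : t ∈ T ⊓ B := ⟨ht, hBc htC⟩
  rwa [hinf] at h5

/-- the pull-back: six of the seven conjuncts of L16 -/
theorem l16p_pullback {G : Type u} [Group G] [Finite G] {p : ℕ} [Fact p.Prime] {A H : Subgroup G}
    (hAH : A ≤ H) (hAp : (Nat.card ↥A).Coprime p)
    (R' : Subgroup ↥H) [hR'n : R'.Normal] (hR' : IsPGroup p ↥R')
    (hBn : ((A.subgroupOf H).map (QuotientGroup.mk' R')).Normal)
    (hBc : centralizer (((A.subgroupOf H).map (QuotientGroup.mk' R') : Subgroup (↥H ⧸ R')) :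
      Set (↥H ⧸ R')) ≤ (A.subgroupOf H).map (QuotientGroup.mk' R')) :
    R'.map H.subtype ≤ H ∧ IsPGroup p ↥(R'.map H.subtype) ∧
      H ≤ normalizer ((R'.map H.subtype : Subgroup G) : Set G) ∧
      H ≤ normalizer ((R'.map H.subtype ⊔ A : Subgroup G) : Set G) ∧
      (∀ T : Subgroup G, T ≤ H → IsPGroup p ↥T → A ≤ normalizer (T : Set G) →
        T ≤ R'.map H.subtype) ∧
      (∀ T : Subgroup G, T ≤ R'.map H.subtype ⊔ A → IsPGroup p ↥T → T ≤ R'.map H.subtype) := by
  have hRH : R'.map H.subtype ≤ H := Subgroup.map_subtype_le R'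
  have hcardA' : Nat.card ↥(A.subgroupOf H) = Nat.card ↥A :=
    Nat.card_congr (Subgroup.subgroupOfEquivOfLe hAH).toEquiv
  have hBp : (Nat.card ↥((A.subgroupOf H).map (QuotientGroup.mk' R'))).Coprime p := by
    refine Nat.Coprime.coprime_dvd_left (Subgroup.card_map_dvd _ _) ?_
    rw [hcardA']
    exact hAp
  have hcomap : ((A.subgroupOf H).map (QuotientGroup.mk' R')).comap (QuotientGroup.mk' R') =
      A.subgroupOf H ⊔ R' := by
    rw [Subgroup.comap_map_eq, QuotientGroup.ker_mk']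
  have hRA : (A.subgroupOf H ⊔ R').map H.subtype = R'.map H.subtype ⊔ A := by
    rw [Subgroup.map_sup, Subgroup.map_subgroupOf_eq_of_le hAH, sup_comm]
  have key : ∀ T : Subgroup G, T ≤ H → (T.subgroupOf H).map (QuotientGroup.mk' R') = ⊥ →
      T ≤ R'.map H.subtype := by
    intro T hTH hbot x hx
    have hxR : (⟨x, hTH hx⟩ : ↥H) ∈ R' := by
      have h1 : QuotientGroup.mk' R' ⟨x, hTH hx⟩ ∈ (T.subgroupOf H).map (QuotientGroup.mk' R') :=
        Subgroup.mem_map_of_mem _ (Subgroup.mem_subgroupOf.mpr hx)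
      rw [hbot, Subgroup.mem_bot] at h1
      exact (QuotientGroup.eq_one_iff _).mp h1
    exact ⟨⟨x, hTH hx⟩, hxR, rfl⟩
  have pT : ∀ T : Subgroup G, IsPGroup p ↥T →
      IsPGroup p ↥((T.subgroupOf H).map (QuotientGroup.mk' R')) := by
    intro T hT
    exact (hT.comap_subtype (K := H)).map _
  refine ⟨hRH, hR'.map _, l16p_le_normalizer_map H R', ?_, ?_, ?_⟩
  · rw [← hRA]
    have hn : (A.subgroupOf H ⊔ R').Normal := hcomap ▸ hBn.comap (QuotientGroup.mk' R')
    exact l16p_le_normalizer_map H (A.subgroupOf H ⊔ R')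
  · intro T hTH hT hAT
    apply key T hTH
    apply l16p_bar_eq_bot (pT T hT) hBp hBn hBc
    rintro b ⟨a', ha', rfl⟩ t ⟨t', ht', rfl⟩
    refine ⟨a' * t' * a'⁻¹, ?_, by simp⟩
    have ha'' : (a' : G) ∈ A := Subgroup.mem_subgroupOf.mp ha'
    have ht'' : (t' : G) ∈ T := Subgroup.mem_subgroupOf.mp ht'
    show a' * t' * a'⁻¹ ∈ T.subgroupOf H
    rw [Subgroup.mem_subgroupOf]
    have hn := hAT ha''
    have := (Subgroup.mem_normalizer_iff.mp hn t'.1).mp ht''
    simpa using this
  · intro T hT hTp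
    have hTH : T ≤ H := hT.trans (sup_le hRH hAH)
    apply key T hTH
    have hle : (T.subgroupOf H).map (QuotientGroup.mk' R') ≤
        (A.subgroupOf H).map (QuotientGroup.mk' R') := by
      rw [Subgroup.map_le_iff_le_comap, hcomap]
      intro x hx
      have hx' : (x : G) ∈ R'.map H.subtype ⊔ A := hT (Subgroup.mem_subgroupOf.mp hx)
      rw [← hRA] at hx'
      obtain ⟨y, hy, hyx⟩ := hx'
      have : y = x := Subtype.ext hyx
      rw [← this]
      exact hy
    have hinf := l16p_inf_eq_bot (pT T hTp) hBp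
    rw [← hinf]
    exact (le_inf le_rfl hle).antisymm inf_le_left

end Cfsg.Agent.Lib.Helper3.S1936
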