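import Mathlib
import Cfsg.Agent.Lib.Helper5.PGL2Sharp

set_option autoImplicit false
set_option linter.unusedSimpArgs false
set_option linter.unusedVariables false
set_option linter.unnecessarySeqFocus false

namespace Cfsg.Agent.Lib.Helper5

open Matrix Projectivization
open scoped LinearAlgebra.Projectivization MatrixGroups

variable {F : Type*} [Field F]

lemma SL_smul_mk (s : Matrix.SpecialLinearGroup (Fin 2) F) (v : Fin 2 → F) (hv : v ≠ 0) :
    s • Projectivization.mk F v hv =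
      Projectivization.mk F (s.1 *ᵥ v) ((smul_ne_zero_iff_ne s).mpr hv) := rfl

/-- an embedding `Fin 3 ↪ α` from three distinct points -/
def embFinThree {α : Type*} {a b c : α} (hab : a ≠ b) (hac : a ≠ c) (hbc : b ≠ c) : Fin 3 ↪ α :=
  ⟨![a, b, c], by
    intro i j h
    fin_cases i <;> fin_cases j <;> simp_all [eq_comm]⟩

theorem SL2_three_pretransitive_of_char_two [Fintype F] (hF : ringChar F = 2) :
    MulAction.IsMultiplyPretransitive (Matrix.SpecialLinearGroup (Fin 2) F) (ℙ F (Fin 2 → F)) 3 := by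
  rw [MulAction.isMultiplyPretransitive_iff]
  intro x y
  obtain ⟨g, hg⟩ := (MulAction.isMultiplyPretransitive_iff.1
    (PGL2_three_pretransitive (F := F))) x y
  induction g using ProjGenLinGroup.induction_on with | mk g =>
  have hd : (Units.val g).det ≠ 0 := by
    have := (Matrix.isUnit_iff_isUnit_det _).1 g.isUnit
    exact this.ne_zero
  obtain ⟨r, hr⟩ := FiniteField.isSquare_of_char_two hF ((Units.val g).det)⁻¹
  have hr0 : r ≠ 0 := by
    rintro rfl
    rw [mul_zero] at hr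
    exact inv_ne_zero hd hr
  have hdet1 : (r • Units.val g).det = 1 := by
    rw [Matrix.det_smul, Fintype.card_fin, pow_two, ← hr, inv_mul_cancel₀ hd]
  let s : Matrix.SpecialLinearGroup (Fin 2) F := ⟨r • Units.val g, hdet1⟩
  refine ⟨s, ?_⟩
  · ext i
    have : (ProjGenLinGroup.mk g : PGL(Fin 2, F)) • x i = y i :=
      congrArg (fun z : Fin 3 ↪ ℙ F (Fin 2 → F) => z i) hg
    show s • x i = y i
    rw [← this]
    generalize x i = p
    induction p using Projectivization.ind with | _ v hv =>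
    rw [SL_smul_mk, PGL.mk_smul_mk, mk_eq_mk_iff']
    refine ⟨r, ?_⟩
    show r • (Units.val g *ᵥ v) = (r • Units.val g) *ᵥ v
    rw [Matrix.smul_mulVec]

lemma P0_ne_P1 : (P0 : ℙ F (Fin 2 → F)) ≠ P1 := by
  intro h
  have := (mk_eq_mk_iff_cross _ _).1 h
  simp [cross] at this

lemma P0_ne_P2 : (P0 : ℙ F (Fin 2 → F)) ≠ P2 := by
  intro h
  have := (mk_eq_mk_iff_cross _ _).1 h
  simp [cross] at this

lemma P1_ne_P2 : (P1 : ℙ F (Fin 2 → F)) ≠ P2 := by
  intro h
  have := (mk_eq_mk_iff_cross _ _).1 h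
  simp [cross] at this

theorem char_two_of_SL2_three_pretransitive [Fintype F]
    (h : MulAction.IsMultiplyPretransitive (Matrix.SpecialLinearGroup (Fin 2) F)
      (ℙ F (Fin 2 → F)) 3) : ringChar F = 2 := by
  by_contra hF
  obtain ⟨a, ha⟩ := FiniteField.exists_nonsquare hF
  have ha0 : a ≠ 0 := by
    rintro rfl
    exact ha ⟨0, by simp⟩
  have hne : (![a, 1] : Fin 2 → F) ≠ 0 := by
    intro h; simpa using congrFun h 1
  have h0a : (P0 : ℙ F (Fin 2 → F)) ≠ Projectivization.mk F ![a, 1] hne := by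
    intro h
    have := (mk_eq_mk_iff_cross _ _).1 h
    simp [cross] at this
  have h1a : (P1 : ℙ F (Fin 2 → F)) ≠ Projectivization.mk F ![a, 1] hne := by
    intro h
    have := (mk_eq_mk_iff_cross _ _).1 h
    simp [cross] at this
    exact ha0 this
  obtain ⟨s, hs⟩ := (MulAction.isMultiplyPretransitive_iff.1 h)
    (embFinThree P0_ne_P1 P0_ne_P2 P1_ne_P2) (embFinThree P0_ne_P1 h0a h1a)
  have hs0 : s • (P0 : ℙ F (Fin 2 → F)) = P0 :=
    congrArg (fun z : Fin 3 ↪ ℙ F (Fin 2 → F) => z 0) hs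
  have hs1 : s • (P1 : ℙ F (Fin 2 → F)) = P1 :=
    congrArg (fun z : Fin 3 ↪ ℙ F (Fin 2 → F) => z 1) hs
  have hs2 : s • (P2 : ℙ F (Fin 2 → F)) = Projectivization.mk F ![a, 1] hne :=
    congrArg (fun z : Fin 3 ↪ ℙ F (Fin 2 → F) => z 2) hs
  unfold P0 at hs0
  unfold P1 at hs1
  unfold P2 at hs2
  rw [SL_smul_mk, mk_eq_mk_iff_cross] at hs0 hs1 hs2
  have hdet : s.1 0 0 * s.1 1 1 - s.1 0 1 * s.1 1 0 = 1 := by
    rw [← Matrix.det_fin_two]; exact s.2
  simp [cross, Matrix.mulVec, dotProduct, Fin.sum_univ_two] at hs0 hs1 hs2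
  apply ha
  -- a = (s 0 0)^2
  refine ⟨s.1 0 0, ?_⟩
  rw [hs0, hs1] at hs2
  rw [hs0, hs1] at hdet
  simp only [mul_zero, sub_zero, add_zero, zero_add] at hs2 hdet
  linear_combination (-a) * hdet - (s.1 0 0) * hs2

end Cfsg.Agent.Lib.Helper5
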