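import Cfsg.Agent.Lib.Helper76.SlDefs

set_option autoImplicit false

/-! # Sl hive (S2332, helper76), sub-hive K1 (helper5): `Qset` as a subgroup. -/

namespace Cfsg.Agent.Lib.Helper76.Sl

open Matrix Cfsg

variable {F : Type*} [Field F] [Fintype F] [DecidableEq F]

/-- `Qset F m` as a subgroup of `SL_{m+2}(F)`. -/
def Qsub (m : ℕ) : Subgroup (Gm F m) where
  carrier := Qset F m
  mul_mem' := by
    intro g h hg hh i j hi
    show (g * h).1 i j = _
    rw [Matrix.SpecialLinearGroup.coe_mul, Matrix.mul_apply]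
    have : ∀ k, g.1 i k * h.1 k j = (1 : Matrix (Fin (m + 2)) (Fin (m + 2)) F) i k * h.1 k j :=
      fun k => by rw [hg i k hi]
    simp_rw [this]
    rw [← Matrix.mul_apply, Matrix.one_mul]
    exact hh i j hi
  one_mem' := by
    intro i j _
    rfl
  inv_mem' := by
    intro g hg i j hi
    have h1 : (g * g⁻¹).1 i j = (1 : Matrix (Fin (m + 2)) (Fin (m + 2)) F) i j := by
      rw [mul_inv_cancel]; rfl
    rw [Matrix.SpecialLinearGroup.coe_mul, Matrix.mul_apply] at h1
    have : ∀ k, g.1 i k * (g⁻¹).1 k j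
        = (1 : Matrix (Fin (m + 2)) (Fin (m + 2)) F) i k * (g⁻¹).1 k j :=
      fun k => by rw [hg i k hi]
    simp_rw [this] at h1
    rw [← Matrix.mul_apply, Matrix.one_mul] at h1
    exact h1

theorem mem_Qsub (m : ℕ) (g : Gm F m) : g ∈ Qsub (F := F) m ↔ g ∈ Qset F m := Iff.rfl

end Cfsg.Agent.Lib.Helper76.Sl
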