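import Cfsg.Agent.Lib.Helper5.SlK1Defs
import Cfsg.Agent.Lib.Helper3.CharOps
import Cfsg.Agent.Lib.Helper79.Basic

set_option autoImplicit false

/-! # Sl hive (S2332, helper76), leaf K1 `resq`: assembly (helper5), with the sub-leaves as hypotheses. -/

namespace Cfsg.Agent.Lib.Helper76.Sl

open Matrix Cfsg
open scoped ComplexConjugate

variable {F : Type*} [Field F] [Fintype F] [DecidableEq F]

theorem k1asm_tv_mem (m : ℕ) : tv F m ∈ Qset F m := by
  intro i j hi
  show (Matrix.SpecialLinearGroup.transvection _ (1 : F)).1 i j = _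
  rw [Matrix.SpecialLinearGroup.transvection_coe, Matrix.add_apply,
    Matrix.single_apply_of_row_ne (Ne.symm hi), add_zero]

theorem k1asm_tv_entry (m : ℕ) : (tv F m).1 0 (Fin.last (m + 1)) = 1 := by
  show (Matrix.SpecialLinearGroup.transvection _ (1 : F)).1 0 (Fin.last (m + 1)) = 1
  rw [Matrix.SpecialLinearGroup.transvection_coe, Matrix.add_apply, Matrix.single_apply_same,
    Matrix.one_apply_ne, zero_add]
  rw [Ne, Fin.ext_iff]; simp

/-- the `(0,last)` entry is additive on `Q`. -/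
theorem k1asm_entry_mul (m : ℕ) (H00 : ∀ x : Gm F m, x ∈ Qset F m → x.1 0 0 = 1)
    (x y : Gm F m) (hx : x ∈ Qset F m) (hy : y ∈ Qset F m) :
    (x * y).1 0 (Fin.last (m + 1)) = x.1 0 (Fin.last (m + 1)) + y.1 0 (Fin.last (m + 1)) := by
  rw [Matrix.SpecialLinearGroup.coe_mul, Matrix.mul_apply, Fin.sum_univ_succ, H00 x hx, one_mul,
    add_comm]
  congr 1
  rw [Finset.sum_eq_single (Fin.last m)]
  · rw [Fin.succ_last, hy _ _ (by rw [Ne, Fin.ext_iff]; simp), Matrix.one_apply_eq, mul_one]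
  · intro k _ hk
    rw [hy _ _ (Fin.succ_ne_zero k), Matrix.one_apply_ne, mul_zero]
    intro h
    apply hk
    rw [← Fin.succ_last] at h
    exact Fin.succ_injective _ h
  · intro h
    exact absurd (Finset.mem_univ _) h

/-- `resq` with the four sub-leaves as hypotheses. -/
theorem resq_core (m : ℕ)
    (HN : ∀ N : Subgroup (Gm F m), N.Normal → tv F m ∈ N → N = ⊤)
    (H00 : ∀ x : Gm F m, x ∈ Qset F m → x.1 0 0 = 1)
    (HC : ∀ x : Gm F m, x ∈ Qset F m → x ≠ 1 → IsConj x (tv F m))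
    (HK : Nat.card (Qsub (F := F) m) = Fintype.card F ^ (m + 1))
    (χ : Gm F m → ℂ) (hχ : IsIrrCharacter (Gm F m) χ) (hnl : χ 1 ≠ 1) :
    ∃ m0 mm : ℕ, 1 ≤ mm ∧ χ 1 = (m0 : ℂ) + mm * ((Fintype.card F : ℂ) ^ (m + 1) - 1) ∧
      χ (tv F m) = (m0 : ℂ) - mm ∧ avgQ F m χ 1 = m0 := by
  classical
  have hχc : IsCharacter (Gm F m) χ := Cfsg.Agent.Lib.Helper3.IsIrrCharacter.isCharacter hχ
  have hcf := Cfsg.Agent.Lib.Helper3.IsCharacter.isClassFunction hχc
  -- values on `Q`
  have hval : ∀ x : Gm F m, x ∈ Qset F m → x ≠ 1 → χ x = χ (tv F m) := by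
    intro x hx hx1
    obtain ⟨c, hc⟩ := isConj_iff.mp (HC x hx hx1)
    rw [← hc]
    exact (hcf x c).symm
  set Q : Subgroup (Gm F m) := Qsub (F := F) m with hQ
  have : Fintype ↥Q := Fintype.ofFinite _
  set q' : ℂ := (Fintype.card F : ℂ) ^ (m + 1) with hq'
  have hq'0 : q' ≠ 0 := by
    rw [hq']
    apply pow_ne_zero
    exact_mod_cast Fintype.card_ne_zero
  have hcardQ : (Nat.card ↥Q : ℂ) = q' := by
    rw [hQ, HK, hq']; push_cast; rfl
  -- the basic sum formula
  have hsum : ∀ w : ↥Q → ℂ, ∑ x : ↥Q, χ x * w x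
      = χ (tv F m) * ∑ x : ↥Q, w x + (χ 1 - χ (tv F m)) * w 1 := by
    intro w
    have h1 : ∀ x : ↥Q, χ x * w x
        = χ (tv F m) * w x + (if x = 1 then (χ 1 - χ (tv F m)) * w 1 else 0) := by
      intro x
      by_cases hx : x = 1
      · rw [if_pos hx, hx]
        show χ 1 * w 1 = _
        ring
      · rw [if_neg hx, add_zero, hval x.1 x.2 (fun h => hx (Subtype.ext h))]
    simp_rw [h1]
    rw [Finset.sum_add_distrib, ← Finset.mul_sum, Finset.sum_ite_eq' Finset.univ (1 : ↥Q),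
      if_pos (Finset.mem_univ _)]
  -- the restricted character
  have hχQ : IsCharacter ↥Q (fun h : ↥Q => χ h) :=
    Cfsg.Agent.Lib.Helper3.IsCharacter.restrict hχc Q
  -- the trivial character
  have htriv : IsIrrCharacter ↥Q (fun _ : ↥Q => (1 : ℂ)) := by
    have := Cfsg.Agent.Lib.Helper79.isIrrCharacter_of_monoidHom (1 : ↥Q →* ℂˣ)
    simpa using this
  obtain ⟨m0, hm0⟩ := Cfsg.Agent.Lib.Helper3.IsCharacter.classInner_irr_nat hχQ htriv
  have hm0' : (m0 : ℂ) * q' = χ (tv F m) * q' + (χ 1 - χ (tv F m)) := by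
    unfold classInner at hm0
    have h2 := hsum (fun _ => 1)
    simp only [mul_one, Finset.sum_const, Finset.card_univ, nsmul_eq_mul] at h2
    simp only [map_one, mul_one] at hm0
    rw [h2, hcardQ] at hm0
    rw [← Nat.card_eq_fintype_card, hcardQ] at hm0
    rw [← hm0]
    field_simp
  -- a non-trivial linear character of `Q`
  obtain ⟨ψ, hψ⟩ := (AddChar.exists_apply_ne_zero (α := F) (a := 1)).mpr one_ne_zero
  let f : ↥Q →* ℂ :=
    { toFun := fun x => ψ (x.1.1 0 (Fin.last (m + 1)))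
      map_one' := by
        show ψ ((1 : Matrix (Fin (m + 2)) (Fin (m + 2)) F) 0 (Fin.last (m + 1))) = 1
        rw [Matrix.one_apply_ne (by rw [Ne, Fin.ext_iff]; simp), AddChar.map_zero_eq_one]
      map_mul' := by
        intro x y
        show ψ ((x.1 * y.1).1 0 (Fin.last (m + 1))) = _
        rw [k1asm_entry_mul m H00 x.1 y.1 x.2 y.2, AddChar.map_add_eq_mul] }
  have hf_apply : ∀ x : ↥Q, f x = ψ (x.1.1 0 (Fin.last (m + 1))) := fun _ => rfl
  have hf1 : f ≠ 1 := by
    intro h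
    apply hψ
    have h3 := DFunLike.congr_fun h (⟨tv F m, k1asm_tv_mem m⟩ : ↥Q)
    rw [hf_apply, MonoidHom.one_apply] at h3
    rw [← h3]
    congr 1
    exact (k1asm_tv_entry m).symm
  have hfsum : ∑ x : ↥Q, f x = 0 := sum_hom_units_eq_zero f hf1
  have hlam : IsIrrCharacter ↥Q (fun x : ↥Q => f x) := by
    have := Cfsg.Agent.Lib.Helper79.isIrrCharacter_of_monoidHom f.toHomUnits
    simpa [MonoidHom.coe_toHomUnits] using this
  obtain ⟨mm, hmm⟩ := Cfsg.Agent.Lib.Helper3.IsCharacter.classInner_irr_nat hχQ hlam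
  have hmm' : (mm : ℂ) * q' = χ 1 - χ (tv F m) := by
    unfold classInner at hmm
    have h2 := hsum (fun x => conj (f x))
    have h4 : ∑ x : ↥Q, conj (f x) = 0 := by
      rw [← map_sum, hfsum, map_zero]
    rw [h4, mul_zero, zero_add, map_one, map_one, mul_one] at h2
    rw [h2, hcardQ] at hmm
    rw [← hmm]
    field_simp
  -- solve
  have ht : χ (tv F m) = (m0 : ℂ) - mm := by
    have h5 : ((m0 : ℂ) - mm - χ (tv F m)) * q' = 0 := by
      rw [sub_mul, sub_mul, hm0', hmm']; ring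
    rcases mul_eq_zero.mp h5 with h6 | h6
    · linear_combination -h6
    · exact absurd h6 hq'0
  have hd : χ 1 = (m0 : ℂ) + mm * (q' - 1) := by
    linear_combination ht - hmm'
  refine ⟨m0, mm, ?_, hd, ht, ?_⟩
  · -- `mm ≥ 1`
    by_contra hcon
    have hmm0 : mm = 0 := by omega
    rw [hmm0, Nat.cast_zero, zero_mul] at hmm'
    have hdt : χ (tv F m) = χ 1 := by linear_combination hmm'
    have hker : Cfsg.Agent.Lib.Helper79.charKer hχc = ⊤ :=
      HN _ (Cfsg.Agent.Lib.Helper79.charKer_normal hχc)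
        ((Cfsg.Agent.Lib.Helper79.mem_charKer hχc _).mpr hdt)
    have hall : ∀ g : Gm F m, χ g = χ 1 := fun g =>
      (Cfsg.Agent.Lib.Helper79.mem_charKer hχc g).mp (by rw [hker]; exact Subgroup.mem_top g)
    obtain ⟨n, ρ, hρ⟩ := hχc
    have hn : χ 1 = n := by rw [← hρ]; exact Cfsg.Agent.Lib.Helper79.rep_character_one ρ
    have hinner := Cfsg.Agent.Lib.Helper3.classInner_irr hχ hχ
    rw [if_pos rfl] at hinner
    unfold classInner at hinner
    simp_rw [hall, hn] at hinner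
    simp only [Complex.conj_natCast, Finset.sum_const, Finset.card_univ, nsmul_eq_mul] at hinner
    rw [← Nat.card_eq_fintype_card] at hinner
    have hG0 : (Nat.card (Gm F m) : ℂ) ≠ 0 := by exact_mod_cast Nat.card_pos.ne'
    have hnn : (n : ℂ) * n = 1 := by
      rw [← hinner]; field_simp
    have hnn' : n * n = 1 := by exact_mod_cast hnn
    have hn1 : n = 1 := by nlinarith [Nat.eq_one_of_mul_eq_one_left hnn']
    apply hnl
    rw [hn, hn1, Nat.cast_one]
  · -- `avgQ χ 1 = m0`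
    unfold avgQ
    have h7 : ∑ x ∈ Finset.univ.filter (fun x : Gm F m => x ∈ Qset F m), χ (x * 1)
        = ∑ x : ↥Q, χ x := by
      simp_rw [mul_one]
      rw [Finset.sum_subtype (p := fun x => x ∈ Q) _ (fun x => by
        rw [Finset.mem_filter]; simp [hQ, mem_Qsub])]
    rw [h7]
    have h2 := hsum (fun _ => 1)
    simp only [mul_one, Finset.sum_const, Finset.card_univ, nsmul_eq_mul] at h2
    rw [← Nat.card_eq_fintype_card, hcardQ] at h2
    rw [h2, ← hq', ← hm0']
    field_simp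

end Cfsg.Agent.Lib.Helper76.Sl
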