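import Mathlib
import Cfsg.Agent.Lib.Helper20.SqCore
import Cfsg.Agent.Lib.Helper37.EichlerClosure

set_option autoImplicit false
set_option linter.unusedSectionVars false
set_option linter.unusedVariables false

/-!
# Sq hive (S4625, helper20), generic core for the orthogonal leaves (helper5)

`Q` a non-degenerate quadratic form in characteristic two with a hyperbolic family `(e_i, f_i)`, `i < k`.
`V_i = ⟨e_l, f_l : l ≤ i⟩^⊥`, `X_i = {E(e_i, v) : v ∈ V_i}` (Eichler involutions), `U_t = ⟨X_i : t ≤ i⟩`.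
`U_t` is a `2`-group generated by involutions and `∏_{t ≤ i < k} |V_i| ≤ |U_t|`.
-/

namespace Cfsg.Agent.Lib.Helper20.Sq

open Matrix Module QuadraticMap
open Cfsg.Agent.Lib.Helper8 Cfsg.Agent.Lib.Helper13 Cfsg.Agent.Lib.Helper37

variable {ι : Type} [Fintype ι] [DecidableEq ι] {F : Type*} [Field F]

section defs

variable (Q : QuadraticForm F (ι → F)) {k : ℕ} (e f : Fin k → ι → F)

/-- `V_i = ⟨e_l, f_l : l ≤ i⟩^⊥` -/
def orth_V (i : Fin k) : Submodule F (ι → F) where
  carrier := {v | ∀ l : Fin k, l ≤ i → polar ⇑Q (e l) v = 0 ∧ polar ⇑Q (f l) v = 0}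
  add_mem' := by
    intro a b ha hb l hl
    rw [polar_add_right, polar_add_right, (ha l hl).1, (ha l hl).2, (hb l hl).1, (hb l hl).2]
    simp
  zero_mem' := by
    intro l hl
    simp [polar]
  smul_mem' := by
    intro c a ha l hl
    rw [polar_smul_right, polar_smul_right, (ha l hl).1, (ha l hl).2]
    simp

variable {Q e f}

theorem orth_V_self (i : Fin k) {v : ι → F} (hv : v ∈ orth_V Q e f i) :
    polar ⇑Q (e i) v = 0 := (hv i le_rfl).1

/-- `X_i = {E(e_i, v) : v ∈ V_i}` inside `Ω` -/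
def orth_X (hfam : HypFam Q k e f) (i : Fin k) : Subgroup ↥(Cfsg.Omega F ⇑Q) where
  carrier := {g | ∃ (v : ι → F) (hv : v ∈ orth_V Q e f i),
    g.1 = eichler Q (e i) v (hfam.qe i) (orth_V_self i hv)}
  one_mem' := ⟨0, Submodule.zero_mem _, by
    rw [Subgroup.coe_one]; exact (eichler_zero_eq_one Q (e i) (hfam.qe i)).symm⟩
  mul_mem' := by
    rintro a b ⟨v, hv, h⟩ ⟨v', hv', h'⟩
    exact ⟨v + v', Submodule.add_mem _ hv hv', by rw [Subgroup.coe_mul, h, h', eichler_mul]⟩
  inv_mem' := by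
    rintro a ⟨v, hv, h⟩
    exact ⟨-v, Submodule.neg_mem _ hv, by rw [Subgroup.coe_inv, h, eichler_inv]⟩

/-- `U_t = ⟨X_i : t ≤ i⟩` -/
def orth_U (hfam : HypFam Q k e f) (t : ℕ) : Subgroup ↥(Cfsg.Omega F ⇑Q) :=
  ⨆ (i : Fin k) (_ : t ≤ i.val), orth_X hfam i

/-- the stabiliser of a vector in `Ω` -/
def orth_stab (Q : QuadraticForm F (ι → F)) (x : ι → F) : Subgroup ↥(Cfsg.Omega F ⇑Q) where
  carrier := {g | act Q g.1 x = x}
  one_mem' := by
    show act Q ((1 : ↥(Cfsg.Omega F ⇑Q)) : ↥(Cfsg.isometryGroup F ⇑Q)) x = x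
    rw [Subgroup.coe_one, act_one]
  mul_mem' := by
    intro a b ha hb
    show act Q ((a * b : ↥(Cfsg.Omega F ⇑Q)) : ↥(Cfsg.isometryGroup F ⇑Q)) x = x
    rw [Subgroup.coe_mul, act_mul]
    have hb' : act Q b.1 x = x := hb
    have ha' : act Q a.1 x = x := ha
    rw [hb', ha']
  inv_mem' := by
    intro a ha
    show act Q ((a⁻¹ : ↥(Cfsg.Omega F ⇑Q)) : ↥(Cfsg.isometryGroup F ⇑Q)) x = x
    rw [Subgroup.coe_inv]
    exact act_inv_eq Q a.1 x x ha

end defs

section lemmas

variable {Q : QuadraticForm F (ι → F)} {k : ℕ} {e f : Fin k → ι → F}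

theorem orth_sq_eq_one (h2 : (2 : F) = 0) (hfam : HypFam Q k e f) (i : Fin k)
    (x : ↥(Cfsg.Omega F ⇑Q)) (hx : x ∈ orth_X hfam i) : x ^ 2 = 1 := by
  obtain ⟨v, hv, h⟩ := hx
  apply Subtype.ext
  rw [Subgroup.coe_pow, Subgroup.coe_one, pow_two, h, eichler_mul]
  have hvv : v + v = 0 := by
    rw [← two_smul F v, h2, zero_smul]
  rw [eichler_congr Q (e i) (v + v) 0 (hfam.qe i) _ hvv]
  exact eichler_zero_eq_one Q (e i) (hfam.qe i)

theorem orth_fix (hfam : HypFam Q k e f) {j l : Fin k} (hlj : l < j)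
    {g : ↥(Cfsg.Omega F ⇑Q)} (hg : g ∈ orth_X hfam j) :
    act Q g.1 (e l) = e l ∧ act Q g.1 (f l) = f l := by
  obtain ⟨w, hw, hgw⟩ := hg
  have h1 := hw l hlj.le
  constructor
  · rw [hgw, act_eichler, eichlerLin_apply, h1.1, hfam.ee l j]
    simp
  · rw [hgw, act_eichler, eichlerLin_apply, h1.2, polar_comm ⇑Q (f l) (e j), hfam.ef j l,
      if_neg (ne_of_gt hlj)]
    simp

theorem orth_pres (hfam : HypFam Q k e f) {i j : Fin k} (hij : i < j)
    {g : ↥(Cfsg.Omega F ⇑Q)} (hg : g ∈ orth_X hfam j) {v : ι → F} (hv : v ∈ orth_V Q e f i) :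
    act Q g.1 v ∈ orth_V Q e f i := by
  intro l hl
  have hlj : l < j := lt_of_le_of_lt hl hij
  obtain ⟨h1, h2⟩ := orth_fix hfam hlj hg
  constructor
  · have := polar_act Q g.1 (e l) v
    rw [h1] at this
    rw [this]
    exact (hv l hl).1
  · have := polar_act Q g.1 (f l) v
    rw [h2] at this
    rw [this]
    exact (hv l hl).2

theorem orth_conj_mem (hfam : HypFam Q k e f) {i j : Fin k} (hij : i < j)
    {g : ↥(Cfsg.Omega F ⇑Q)} (hg : g ∈ orth_X hfam j) {h : ↥(Cfsg.Omega F ⇑Q)}
    (hh : h ∈ orth_X hfam i) : g * h * g⁻¹ ∈ orth_X hfam i := by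
  obtain ⟨v, hv, hhv⟩ := hh
  refine ⟨act Q g.1 v, orth_pres hfam hij hg hv, ?_⟩
  rw [Subgroup.coe_mul, Subgroup.coe_mul, Subgroup.coe_inv, hhv, eichler_conj]
  exact eichler_congr_left Q _ _ _ _ _ _ (orth_fix hfam hij hg).1 rfl

theorem orth_X_le_normalizer (hfam : HypFam Q k e f) {i j : Fin k} (hij : i < j) :
    orth_X hfam j ≤ Subgroup.normalizer (orth_X hfam i : Set ↥(Cfsg.Omega F ⇑Q)) := by
  intro g hg
  rw [Subgroup.mem_normalizer_iff]
  intro h
  constructor
  · intro hh
    exact orth_conj_mem hfam hij hg hh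
  · intro hh
    have := orth_conj_mem hfam hij ((orth_X hfam j).inv_mem hg) hh
    have e1 : g⁻¹ * (g * h * g⁻¹) * g⁻¹⁻¹ = h := by group
    rwa [e1] at this

theorem orth_U_succ (hfam : HypFam Q k e f) (i : Fin k) :
    orth_U hfam i.val = orth_X hfam i ⊔ orth_U hfam (i.val + 1) := by
  unfold orth_U
  apply le_antisymm
  · apply iSup₂_le
    intro j hj
    by_cases hji : j = i
    · subst hji
      exact le_sup_left
    · have : i.val + 1 ≤ j.val := by
        have : i.val ≠ j.val := fun h => hji (Fin.ext h.symm)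
        omega
      exact le_trans (le_iSup₂ (f := fun (j : Fin k) (_ : i.val + 1 ≤ j.val) => orth_X hfam j) j this)
        le_sup_right
  · apply sup_le
    · exact le_iSup₂ (f := fun (j : Fin k) (_ : i.val ≤ j.val) => orth_X hfam j) i le_rfl
    · apply iSup₂_le
      intro j hj
      exact le_iSup₂ (f := fun (j : Fin k) (_ : i.val ≤ j.val) => orth_X hfam j) j (by omega)

theorem orth_U_top (hfam : HypFam Q k e f) (t : ℕ) (ht : k ≤ t) : orth_U hfam t = ⊥ := by
  unfold orth_U
  rw [eq_bot_iff]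
  apply iSup₂_le
  intro j hj
  exact absurd j.2 (by omega)

theorem orth_U_succ_le_normalizer (hfam : HypFam Q k e f) (i : Fin k) :
    orth_U hfam (i.val + 1) ≤ Subgroup.normalizer (orth_X hfam i : Set ↥(Cfsg.Omega F ⇑Q)) := by
  unfold orth_U
  apply iSup₂_le
  intro j hj
  exact orth_X_le_normalizer hfam (Fin.lt_def.mpr (by omega))

theorem orth_U_succ_le_stab (hfam : HypFam Q k e f) (i : Fin k) :
    orth_U hfam (i.val + 1) ≤ orth_stab Q (f i) := by
  unfold orth_U
  apply iSup₂_le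
  intro j hj g hg
  exact (orth_fix hfam (Fin.lt_def.mpr (by omega)) hg).2

theorem orth_isPGroup_X (h2 : (2 : F) = 0) (hfam : HypFam Q k e f) (i : Fin k) :
    IsPGroup 2 ↥(orth_X hfam i) := by
  intro g
  refine ⟨1, ?_⟩
  apply Subtype.ext
  rw [pow_one, Subgroup.coe_pow, Subgroup.coe_one]
  exact orth_sq_eq_one h2 hfam i g.1 g.2

theorem orth_isPGroup_U (h2 : (2 : F) = 0) (hfam : HypFam Q k e f) :
    ∀ d t : ℕ, t + d = k → IsPGroup 2 ↥(orth_U hfam t) := by
  intro d
  induction d with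
  | zero =>
    intro t ht
    rw [orth_U_top hfam t (by omega)]
    exact IsPGroup.of_bot
  | succ d ih =>
    intro t ht
    have htk : t < k := by omega
    have := orth_U_succ hfam ⟨t, htk⟩
    simp only at this
    rw [this, sup_comm]
    exact IsPGroup.to_sup_of_normal_right' (ih (t + 1) (by omega)) (orth_isPGroup_X h2 hfam ⟨t, htk⟩)
      (orth_U_succ_le_normalizer hfam ⟨t, htk⟩)

end lemmas

section count

variable [Fintype F] {Q : QuadraticForm F (ι → F)}
  (hQ : (QuadraticMap.polarBilin Q).Nondegenerate) {k : ℕ} {e f : Fin k → ι → F}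
  (hfam : HypFam Q k e f) (hk : 3 ≤ k)
  (hcard : Fintype.card F ≠ 2 ∨ finrank F (ι → F) ≠ 4)

/-- the Eichler element `E(e_i, v)`, `v ∈ V_i`, as an element of `Ω` -/
noncomputable def orth_E (i : Fin k) (v : ↥(orth_V Q e f i)) : ↥(Cfsg.Omega F ⇑Q) :=
  ⟨eichler Q (e i) v.1 (hfam.qe i) (orth_V_self i v.2),
    eichler_mem_omega Q hQ hfam hk hcard _ _ _ _⟩

theorem orth_E_mem (i : Fin k) (v : ↥(orth_V Q e f i)) :
    orth_E hQ hfam hk hcard i v ∈ orth_X hfam i := ⟨v.1, v.2, rfl⟩

theorem orth_E_act_f (i : Fin k) (v : ↥(orth_V Q e f i)) :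
    act Q (orth_E hQ hfam hk hcard i v).1 (f i) = f i - v.1 - Q v.1 • e i := by
  show act Q (eichler Q (e i) v.1 (hfam.qe i) (orth_V_self i v.2)) (f i) = _
  rw [act_eichler, eichlerLin_apply, (v.2 i le_rfl).2, polar_comm ⇑Q (f i) (e i), hfam.ef i i,
    if_pos rfl]
  simp

include hQ hk hcard in
theorem orth_card_step (i : Fin k) :
    Nat.card ↥(orth_V Q e f i) * Nat.card ↥(orth_U hfam (i.val + 1)) ≤
      Nat.card ↥(orth_U hfam i.val) := by
  classical
  have hXle : orth_X hfam i ≤ orth_U hfam i.val := by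
    rw [orth_U_succ hfam i]; exact le_sup_left
  have hUle : orth_U hfam (i.val + 1) ≤ orth_U hfam i.val := by
    rw [orth_U_succ hfam i]; exact le_sup_right
  rw [← Nat.card_prod]
  let φ : ↥(orth_V Q e f i) × ↥(orth_U hfam (i.val + 1)) → ↥(orth_U hfam i.val) :=
    fun p => ⟨orth_E hQ hfam hk hcard i p.1 * p.2.1,
      Subgroup.mul_mem _ (hXle (orth_E_mem hQ hfam hk hcard i p.1)) (hUle p.2.2)⟩
  apply Nat.card_le_card_of_injective φ
  rintro ⟨v, h⟩ ⟨v', h'⟩ hφ
  have h0 : orth_E hQ hfam hk hcard i v * h.1 = orth_E hQ hfam hk hcard i v' * h'.1 :=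
    congrArg Subtype.val hφ
  have hfix : ∀ h : ↥(orth_U hfam (i.val + 1)), act Q (h.1 : ↥(Cfsg.Omega F ⇑Q)).1 (f i) = f i :=
    fun h => orth_U_succ_le_stab hfam i h.2
  have h1 := congrArg (fun g : ↥(Cfsg.Omega F ⇑Q) => act Q g.1 (f i)) h0
  simp only [Subgroup.coe_mul, act_mul] at h1
  rw [hfix h, hfix h', orth_E_act_f, orth_E_act_f] at h1
  -- `v + Q v • e i = v' + Q v' • e i`
  have h2 : v.1 + Q v.1 • e i = v'.1 + Q v'.1 • e i := by
    have : f i - v.1 - Q v.1 • e i = f i - (v.1 + Q v.1 • e i) := by abel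
    rw [this] at h1
    have : f i - v'.1 - Q v'.1 • e i = f i - (v'.1 + Q v'.1 • e i) := by abel
    rw [this] at h1
    exact sub_right_injective h1
  have hfe : polar ⇑Q (f i) (e i) = 1 := by rw [polar_comm, hfam.ef i i, if_pos rfl]
  have h3 := congrArg (fun x => polar ⇑Q (f i) x) h2
  simp only [polar_add_right, polar_smul_right, (v.2 i le_rfl).2, (v'.2 i le_rfl).2,
    hfe, smul_eq_mul, mul_one, zero_add] at h3
  rw [h3] at h2
  have hvv : v = v' := Subtype.ext (add_right_cancel h2)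
  subst hvv
  have hh : h = h' := Subtype.ext (mul_left_cancel h0)
  rw [hh]

/-- `q ^ n ≤ |V_i| * q ^ (2 (i + 1))` -/
theorem orth_card_V (i : Fin k) :
    Fintype.card F ^ Fintype.card ι ≤
      Nat.card ↥(orth_V Q e f i) * Fintype.card F ^ (2 * (i.val + 1)) := by
  classical
  have hle : i.val + 1 ≤ k := i.2
  let L : (ι → F) →ₗ[F] (Fin (i.val + 1) → F) × (Fin (i.val + 1) → F) :=
    LinearMap.prod
      (LinearMap.pi fun l => QuadraticMap.polarBilin Q (e (Fin.castLE hle l)))
      (LinearMap.pi fun l => QuadraticMap.polarBilin Q (f (Fin.castLE hle l)))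
  have hker : LinearMap.ker L = orth_V Q e f i := by
    ext x
    rw [LinearMap.mem_ker]
    constructor
    · intro hx l hl
      have h1 := congrArg Prod.fst hx
      have h2 := congrArg Prod.snd hx
      have hl' : l.val < i.val + 1 := by
        have : l.val ≤ i.val := hl
        omega
      have e1 := congrFun h1 ⟨l.val, hl'⟩
      have e2 := congrFun h2 ⟨l.val, hl'⟩
      have hcast : Fin.castLE hle ⟨l.val, hl'⟩ = l := Fin.ext rfl
      simp only [L, LinearMap.prod_apply, LinearMap.pi_apply, Function.prod, hcast,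
        QuadraticMap.polarBilin_apply_apply, Prod.fst_zero, Prod.snd_zero, Pi.zero_apply] at e1 e2
      exact ⟨e1, e2⟩
    · intro hx
      apply Prod.ext
      · funext l
        have hl : Fin.castLE hle l ≤ i := by
          rw [Fin.le_def]
          have := l.2
          simp only [Fin.val_castLE]
          omega
        simp only [L, LinearMap.prod_apply, LinearMap.pi_apply, Function.prod,
          QuadraticMap.polarBilin_apply_apply, Prod.fst_zero, Pi.zero_apply]
        exact (hx _ hl).1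
      · funext l
        have hl : Fin.castLE hle l ≤ i := by
          rw [Fin.le_def]
          have := l.2
          simp only [Fin.val_castLE]
          omega
        simp only [L, LinearMap.prod_apply, LinearMap.pi_apply, Function.prod,
          QuadraticMap.polarBilin_apply_apply, Prod.snd_zero, Pi.zero_apply]
        exact (hx _ hl).2
  have hrn := LinearMap.finrank_range_add_finrank_ker L
  have hr : finrank F ↥(LinearMap.range L) ≤ 2 * (i.val + 1) := by
    have h1 := Submodule.finrank_le (LinearMap.range L)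
    have h2 : finrank F ((Fin (i.val + 1) → F) × (Fin (i.val + 1) → F)) = 2 * (i.val + 1) := by
      rw [Module.finrank_prod, Module.finrank_fin_fun]
      ring
    omega
  have hn : finrank F (ι → F) = Fintype.card ι := Module.finrank_fintype_fun_eq_card F
  have hcV : Nat.card ↥(orth_V Q e f i) = Fintype.card F ^ finrank F ↥(LinearMap.ker L) := by
    rw [← hker, Module.natCard_eq_pow_finrank (K := F), Nat.card_eq_fintype_card]
  rw [hcV, ← pow_add]
  apply Nat.pow_le_pow_right Fintype.card_pos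
  omega

include hQ hk hcard in
/-- the lower bound for `|U_t|` -/
theorem orth_card_U :
    ∀ d t : ℕ, t + d = k →
      Fintype.card F ^ (∑ j ∈ Finset.Ico t k, (Fintype.card ι - 2 * (j + 1))) ≤
        Nat.card ↥(orth_U hfam t) := by
  intro d
  induction d with
  | zero =>
    intro t ht
    have : Finset.Ico t k = ∅ := Finset.Ico_eq_empty (by omega)
    rw [this, Finset.sum_empty, pow_zero]
    exact Nat.card_pos
  | succ d ih =>
    intro t ht
    have htk : t < k := by omega
    rw [Finset.sum_eq_sum_Ico_succ_bot htk, pow_add]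
    have h1 := orth_card_step hQ hfam hk hcard ⟨t, htk⟩
    have h2 := orth_card_V (Q := Q) (e := e) (f := f) ⟨t, htk⟩
    simp only at h1 h2
    have h3 := ih (t + 1) (by omega)
    have hq : 0 < Fintype.card F := Fintype.card_pos
    have h4 : Fintype.card F ^ (Fintype.card ι - 2 * (t + 1)) ≤
        Nat.card ↥(orth_V Q e f ⟨t, htk⟩) := by
      by_cases hc : 2 * (t + 1) ≤ Fintype.card ι
      · have : Fintype.card F ^ Fintype.card ι =
            Fintype.card F ^ (Fintype.card ι - 2 * (t + 1)) * Fintype.card F ^ (2 * (t + 1)) := by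
          rw [← pow_add]; congr 1; omega
        rw [this] at h2
        exact Nat.le_of_mul_le_mul_right h2 (Nat.pow_pos hq)
      · have : Fintype.card ι - 2 * (t + 1) = 0 := by omega
        rw [this, pow_zero]
        exact Nat.card_pos
    calc Fintype.card F ^ (Fintype.card ι - 2 * (t + 1)) *
          Fintype.card F ^ (∑ j ∈ Finset.Ico (t + 1) k, (Fintype.card ι - 2 * (j + 1)))
        ≤ Nat.card ↥(orth_V Q e f ⟨t, htk⟩) * Nat.card ↥(orth_U hfam (t + 1)) :=
          Nat.mul_le_mul h4 h3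
      _ ≤ _ := h1

end count

end Cfsg.Agent.Lib.Helper20.Sq
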