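import Mathlib
import Cfsg.Agent.Lib.Helper5.SqOrthCore

set_option autoImplicit false
set_option linter.unusedSectionVars false
set_option linter.unusedVariables false

/-!
# Sq hive (S4625, helper20), generic assembly for the orthogonal leaves (helper5)

If `|Ω(Q)| = q ^ N * m'` with `m'` odd and `N ≤ ∑_{j < k} (|ι| - 2 (j + 1))` then `U_0` is a Sylow `2`-subgroup of
`Ω(Q)` generated by involutions, so `SqD Ω(Q)`.
-/

namespace Cfsg.Agent.Lib.Helper20.Sq

open Matrix Module QuadraticMap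
open Cfsg.Agent.Lib.Helper8 Cfsg.Agent.Lib.Helper13 Cfsg.Agent.Lib.Helper37

theorem orth_sum (m c : ℕ) :
    ∑ j ∈ Finset.Ico 0 m, (2 * m + c - 2 * (j + 1)) = m * (m - 1) + c * m := by
  rw [← Finset.range_eq_Ico]
  have h1 : ∑ j ∈ Finset.range m, (2 * m + c - 2 * (j + 1)) =
      ∑ j ∈ Finset.range m, (2 * (m - 1 - j) + c) := by
    apply Finset.sum_congr rfl
    intro j hj
    have := Finset.mem_range.mp hj
    omega
  rw [h1, Finset.sum_range_reflect (fun j => 2 * j + c) m, Finset.sum_add_distrib,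
    ← Finset.mul_sum, Finset.sum_const, Finset.card_range, mul_comm 2,
    Finset.sum_range_id_mul_two, smul_eq_mul, mul_comm c]

variable {ι : Type} [Fintype ι] [DecidableEq ι] {F : Type*} [Field F]

theorem orth_sqD [Fintype F] [CharP F 2] {Q : QuadraticForm F (ι → F)}
    (hQ : (QuadraticMap.polarBilin Q).Nondegenerate) {k : ℕ} {e f : Fin k → ι → F}
    (hfam : HypFam Q k e f) (hk : 3 ≤ k)
    (hcard : Fintype.card F ≠ 2 ∨ finrank F (ι → F) ≠ 4)
    (N m' : ℕ) (hm' : Odd m')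
    (hC : Nat.card ↥(Cfsg.Omega F ⇑Q) = Fintype.card F ^ N * m')
    (hN : N ≤ ∑ j ∈ Finset.Ico 0 k, (Fintype.card ι - 2 * (j + 1))) :
    SqD ↥(Cfsg.Omega F ⇑Q) := by
  have h2 : (2 : F) = 0 := CharTwo.two_eq_zero
  have hU0 : ⨆ i, orth_X hfam i = orth_U hfam 0 := by
    unfold orth_U
    simp
  have hsq : SqG ↥(orth_U hfam 0) := by
    apply sq_of_iSup (orth_U hfam 0) (fun i => orth_X hfam i) hU0
    intro i x hx
    rw [orth_sq_eq_one h2 hfam i x hx]
    exact one_mem _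
  obtain ⟨f', -, hcF⟩ := FiniteField.card F 2
  have hP : IsPGroup 2 ↥(orth_U hfam 0) := orth_isPGroup_U h2 hfam k 0 (by omega)
  have hfin : Finite ↥(Cfsg.Omega F ⇑Q) := by
    apply Nat.finite_of_card_ne_zero
    rw [hC]
    have : m' ≠ 0 := by
      rintro rfl
      exact absurd hm' (by decide)
    exact mul_ne_zero (pow_ne_zero _ Fintype.card_ne_zero) this
  obtain ⟨a, ha⟩ := hP.exists_card_eq
  have hdvd : Nat.card ↥(orth_U hfam 0) ∣ Nat.card ↥(Cfsg.Omega F ⇑Q) :=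
    Subgroup.card_subgroup_dvd_card _
  have hlow := orth_card_U hQ hfam hk hcard k 0 (by omega)
  rw [hcF, ← pow_mul] at hC
  rw [hcF, ← pow_mul, ha] at hlow
  rw [ha, hC] at hdvd
  have hcop : Nat.Coprime (2 ^ a) m' := Nat.Coprime.pow_left a (Nat.coprime_two_left.mpr hm')
  have h3 : 2 ^ a ∣ 2 ^ ((f' : ℕ) * N) := hcop.dvd_of_dvd_mul_right hdvd
  have h4 : a ≤ (f' : ℕ) * N := (Nat.pow_dvd_pow_iff_le_right (by norm_num)).mp h3
  have h5 : (f' : ℕ) * (∑ j ∈ Finset.Ico 0 k, (Fintype.card ι - 2 * (j + 1))) ≤ a :=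
    (Nat.pow_le_pow_iff_right (by norm_num)).mp hlow
  have h6 : (f' : ℕ) * N ≤ (f' : ℕ) * (∑ j ∈ Finset.Ico 0 k, (Fintype.card ι - 2 * (j + 1))) :=
    Nat.mul_le_mul_left _ hN
  have h7 : a = (f' : ℕ) * N := by omega
  rw [h7] at ha
  exact sqD_of_card_mul (orth_U hfam 0) (Nat.two_dvd_ne_zero.mpr (Nat.odd_iff.mp hm')) hC ha hsq

end Cfsg.Agent.Lib.Helper20.Sq
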