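import Mathlib
import Cfsg.Prelude.Def_LieTypeChar
import Cfsg.Agent.Lib.Helper20.SqCore
import Cfsg.Agent.Lib.Helper5.SqOrthAsm
import Cfsg.Agent.Lib.Helper97.SqOrthArithM

set_option autoImplicit false

/-!
# Sq hive (S4625, helper20), leaf SQ-OMINUS (helper5): `sq_ominus`
-/

namespace Cfsg.Agent.Lib.Helper20.Sq

open Cfsg.Agent.Lib.Helper37 Cfsg.Agent.Lib.Helper8 Cfsg.Agent.Lib.Helper43

theorem sq_ominus (F : Type) [Field F] [Fintype F] [CharP F 2] (m : ℕ) (hm : 3 ≤ m) (a b : F)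
    (hab : ∀ z₁ z₂ : F, z₁ ^ 2 + a * z₁ * z₂ + b * z₂ ^ 2 = 0 → z₁ = 0 ∧ z₂ = 0) :
    SqD ↥(Cfsg.Omega F (Cfsg.quadFormMinus m F a b)) := by
  obtain ⟨k, hk, hC⟩ := ominus_card F m hm a b hab
  have hnd : (QuadraticMap.polarBilin (minusForm m F a b)).Nondegenerate :=
    (minus_family m F a b).nondegenerate (minusForm_zero_nondegenerate F a b hab)
  rw [minusForm_coe] at hC ⊢
  refine orth_sqD hnd (Cfsg.Agent.S0294.minus_hypFam m F a b) hm
    (Or.inr ?_) ((m + 1) * m) k hk hC ?_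
  · rw [Module.finrank_fintype_fun_eq_card, Fintype.card_sum, Fintype.card_sum, Fintype.card_fin,
      Fintype.card_fin]
    omega
  · rw [Fintype.card_sum, Fintype.card_sum, Fintype.card_fin, Fintype.card_fin]
    have h := orth_sum m 2
    rw [two_mul] at h
    rw [h]
    apply le_of_eq
    rcases m with _ | m
    · omega
    · simp only [Nat.add_sub_cancel]
      ring

end Cfsg.Agent.Lib.Helper20.Sq
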