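import Mathlib
import Cfsg.Prelude.Def_LieTypeChar
import Cfsg.Agent.Lib.Helper20.SqCore
import Cfsg.Agent.Lib.Helper5.SqOrthAsm
import Cfsg.Agent.Lib.Helper97.SqOrthArithP

set_option autoImplicit false

/-!
# Sq hive (S4625, helper20), leaf SQ-OPLUS (helper5): `sq_oplus`
-/

namespace Cfsg.Agent.Lib.Helper20.Sq

open Cfsg.Agent.Lib.Helper37 Cfsg.Agent.Lib.Helper8 Cfsg.Agent.Lib.Helper43

theorem sq_oplus (F : Type) [Field F] [Fintype F] [CharP F 2] (m : ℕ) (hm : 4 ≤ m) :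
    SqD ↥(Cfsg.Omega F (Cfsg.quadFormPlus m F)) := by
  obtain ⟨k, hk, hC⟩ := oplus_card F m hm
  rw [plusForm_coe] at hC ⊢
  refine orth_sqD (plusForm_nondegenerate m F) (Cfsg.Agent.S0293.plus_hypFam m F) (by omega)
    (Or.inr ?_) (m * (m - 1)) k hk hC ?_
  · rw [Module.finrank_fintype_fun_eq_card, Fintype.card_sum, Fintype.card_fin]
    omega
  · rw [Fintype.card_sum, Fintype.card_fin]
    have h := orth_sum m 0
    rw [zero_mul, add_zero, add_zero, two_mul] at h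
    exact h.ge

end Cfsg.Agent.Lib.Helper20.Sq
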