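import Cfsg.Agent.Lib.Helper38.StnBruDefs
import Cfsg.Agent.Lib.Helper80.Stn_BASIC
import Cfsg.Agent.Lib.Helper25.Stn_WPAIR

/-! # Stn hive (S2401, helper41), sub-hive BRU (helper38), BACKUP core of leaf BRU-CORE (helper5):
`ww_xx_NN_mem` with the statements of BRU-NX (`NN_conj_xx`) and BRU-R1 (`xx_eq_ww_upper`) as hypotheses. -/

set_option autoImplicit false

namespace Cfsg.Agent.Lib.Helper41.Stn

open Matrix

variable {K : Type*} [Field K] {n : ℕ}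

theorem brucoreb_ww_mem_NN {i j : Fin n} (hij : i ≠ j) {s : K} (hs : s ≠ 0) : ww i j s ∈ NN K n :=
  Subgroup.subset_closure ⟨i, j, s, hij, hs, rfl⟩

theorem brucoreb_xx_mem_BB {k l : Fin n} (hkl : k < l) (t : K) : xx k l t ∈ BB K n :=
  (le_sup_left : UU K n ≤ BB K n) (Subgroup.subset_closure ⟨k, l, t, hkl, rfl⟩)

theorem brucoreb_core (hn : 3 ≤ n)
    (hNX : ∀ {ν : St K n}, ν ∈ NN K n →
      ∃ (σ : Equiv.Perm (Fin n)) (m : Fin n → K), (∀ a, m a ≠ 0) ∧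
        ∀ k l : Fin n, k ≠ l → ∀ u : K, ν * xx k l u * ν⁻¹ = xx (σ k) (σ l) (m k / m l * u))
    (hR1 : ∀ {i j : Fin n}, i ≠ j → ∀ {u : K}, u ≠ 0 →
      xx i j u = xx j i u⁻¹ * ww i j u * xx j i u⁻¹)
    {i j : Fin n} (hij : (i : ℕ) + 1 = j) {s : K} (hs : s ≠ 0)
    (u : K) {ν : St K n} (hν : ν ∈ NN K n) : ww i j s * xx i j u * ν ∈ BNB K n := by
  have hlt : i < j := Fin.lt_def.mpr (by omega)
  have hne : i ≠ j := ne_of_lt hlt
  have hw : ww i j s ∈ NN K n := brucoreb_ww_mem_NN hne hs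
  obtain ⟨σ, m, hm, hconj⟩ := hNX (inv_mem hν)
  rw [inv_inv] at hconj
  by_cases hu : u = 0
  · subst hu
    rw [xx_zero, mul_one]
    exact ⟨1, one_mem _, ww i j s * ν, mul_mem hw hν, 1, one_mem _, by rw [one_mul, mul_one]⟩
  have hσne : σ i ≠ σ j := fun h => hne (σ.injective h)
  rcases lt_or_gt_of_ne hσne with hlt' | hgt'
  · -- `σ i < σ j`
    refine ⟨1, one_mem _, ww i j s * ν, mul_mem hw hν, xx (σ i) (σ j) (m i / m j * u),
      brucoreb_xx_mem_BB hlt' _, ?_⟩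
    rw [← hconj i j hne u]
    group
  · -- `σ j < σ i`
    have hR := hR1 hne hu
    have hpair := (ww_conj_xx_pair hn hne hs (u⁻¹)).2
    have hc := hconj j i hne.symm u⁻¹
    refine ⟨xx i j (-s ^ 2 * u⁻¹), brucoreb_xx_mem_BB hlt _, ww i j s * ww i j u * ν,
      mul_mem (mul_mem hw (brucoreb_ww_mem_NN hne hu)) hν,
      xx (σ j) (σ i) (m j / m i * u⁻¹), brucoreb_xx_mem_BB hgt' _, ?_⟩
    rw [← hpair, ← hc]
    conv_lhs => rw [hR]
    group

end Cfsg.Agent.Lib.Helper41.Stn
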