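import Cfsg.Agent.Lib.Helper41.StnDefs
import Cfsg.Agent.Lib.Helper73.StnBINJDefs
import Cfsg.Agent.Lib.Helper80.Stn_BASIC

/-! # Stn hive (S2401, helper41), sub-hive BINJ (helper73), leaf BINJ-LEVSPLIT (helper5): `Ulev_succ` -/

set_option autoImplicit false

namespace Cfsg.Agent.Lib.Helper41.Stn

open Matrix

variable {K : Type*} [Field K] {n : ℕ}

/-- a generator of `Ulev m` conjugates a generator of `Ucol m` into `Ucol m` -/
theorem binjlevsplit_conj_gen (m : ℕ) (hm : m < n) {i j : Fin n} (hij : i < j) (hj : j.val < m) (t : K)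
    {k : Fin n} (hk : k < (⟨m, hm⟩ : Fin n)) (s : K) :
    xx i j t * xx k ⟨m, hm⟩ s * (xx i j t)⁻¹ ∈ Ucol K n ⟨m, hm⟩ := by
  have hjc : j < (⟨m, hm⟩ : Fin n) := Fin.lt_def.mpr hj
  have hic : i < (⟨m, hm⟩ : Fin n) := lt_trans hij hjc
  by_cases hjk : j = k
  · subst hjk
    have h3 := xx_comm3 (K := K) (ne_of_lt hij) (ne_of_lt hjc) (ne_of_lt hic) t s
    have : xx i j t * xx j ⟨m, hm⟩ s * (xx i j t)⁻¹ = xx i ⟨m, hm⟩ (t * s) * xx j ⟨m, hm⟩ s := by
      rw [← h3]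
      group
    rw [this]
    exact mul_mem (Subgroup.subset_closure ⟨i, t * s, hic, rfl⟩)
      (Subgroup.subset_closure ⟨j, s, hjc, rfl⟩)
  · have hc := xx_comm (K := K) (i := i) (j := j) (k := k) (l := ⟨m, hm⟩) (ne_of_lt hic) hjk t s
    rw [hc, mul_inv_cancel_right]
    exact Subgroup.subset_closure ⟨k, s, hk, rfl⟩

/-- a generator of `Ulev m` conjugates `Ucol m` into itself -/
theorem binjlevsplit_conj_mem (m : ℕ) (hm : m < n) {i j : Fin n} (hij : i < j) (hj : j.val < m) (t : K)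
    {y : St K n} (hy : y ∈ Ucol K n ⟨m, hm⟩) :
    xx i j t * y * (xx i j t)⁻¹ ∈ Ucol K n ⟨m, hm⟩ := by
  have hle : Ucol K n ⟨m, hm⟩ ≤
      (Ucol K n ⟨m, hm⟩).comap (MulAut.conj (xx i j t)).toMonoidHom := by
    unfold Ucol
    rw [Subgroup.closure_le]
    rintro g ⟨k, s, hk, rfl⟩
    exact binjlevsplit_conj_gen m hm hij hj t hk s
  exact hle hy

theorem binjlevsplit_le_normalizer (m : ℕ) (hm : m < n) :
    Ulev K n m ≤ Subgroup.normalizer ((Ucol K n ⟨m, hm⟩ : Subgroup (St K n)) : Set (St K n)) := by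
  unfold Ulev
  rw [Subgroup.closure_le]
  rintro g ⟨i, j, t, hij, hj, rfl⟩
  rw [SetLike.mem_coe, Subgroup.mem_normalizer_iff]
  intro y
  constructor
  · intro hy
    exact binjlevsplit_conj_mem m hm hij hj t hy
  · intro hy
    have h := binjlevsplit_conj_mem m hm hij hj (-t) hy
    rw [← xx_inv, inv_inv] at h
    have : (xx i j t)⁻¹ * (xx i j t * y * (xx i j t)⁻¹) * xx i j t = y := by group
    rwa [this] at h

theorem Ulev_succ (m : ℕ) (hm : m < n) {g : St K n} (hg : g ∈ Ulev K n (m + 1)) :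
    ∃ v ∈ Ulev K n m, ∃ a ∈ Ucol K n ⟨m, hm⟩, g = v * a := by
  have hle : Ulev K n (m + 1) ≤ Ulev K n m ⊔ Ucol K n ⟨m, hm⟩ := by
    unfold Ulev
    rw [Subgroup.closure_le]
    rintro x ⟨i, j, t, hij, hj, rfl⟩
    by_cases hjm : j.val < m
    · exact (le_sup_left : Subgroup.closure _ ≤ _) (Subgroup.subset_closure ⟨i, j, t, hij, hjm, rfl⟩)
    · have hjc : j = (⟨m, hm⟩ : Fin n) := Fin.ext (by simp only; omega)
      subst hjc
      exact (le_sup_right : Ucol K n ⟨m, hm⟩ ≤ _) (Subgroup.subset_closure ⟨i, t, hij, rfl⟩)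
  have h1 : g ∈ ((Ulev K n m ⊔ Ucol K n ⟨m, hm⟩ : Subgroup (St K n)) : Set (St K n)) := hle hg
  rw [Subgroup.coe_mul_of_left_le_normalizer_right _ _ (binjlevsplit_le_normalizer m hm)] at h1
  obtain ⟨v, hv, a, ha, rfl⟩ := h1
  exact ⟨v, hv, a, ha, rfl⟩

end Cfsg.Agent.Lib.Helper41.Stn
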