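import Cfsg.Agent.Lib.Helper5.TpFrob

/-!
# Tp hive (S4017) : TP-D1 `dich1`
-/

set_option autoImplicit false

namespace Cfsg.Agent.Lib.Helper66.Tp

section ctx

variable {p : ℕ} {G : Type*} [Group G] [Finite G]

variable (s : Setup p G)
include s

theorem dich1 {u : G} (hu : u ∈ (s.Q : Subgroup G)) (hu1 : u ≠ 1)
    (hnc : ¬ ∀ v ∈ (s.Q : Subgroup G), ∀ y ∈ Yof p u, v * y = y * v)
    (R : Sylow p G) (hYR : Yof p u ≤ (R : Subgroup G)) :
    (s.Q : Subgroup G) ≤ Subgroup.normalizer ((R : Subgroup G) : Set G) ∧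
      Nat.card (Subgroup.normalizer ((R : Subgroup G) : Set G)) = Nat.card (R : Subgroup G) * (p + 1) := by
  classical
  have : Fact (Nat.Prime 2) := ⟨Nat.prime_two⟩
  have c := s.ctx
  -- C(u) ≤ N(Y)
  have hCH : Subgroup.centralizer ({u} : Set G) ≤ Subgroup.normalizer ((Yof p u : Subgroup G) : Set G) := by
    intro a ha
    have ha' : a * u = u * a := Subgroup.mem_centralizer_singleton_iff.mp ha
    have hau : a * u * a⁻¹ = u := by rw [ha']; group
    have hau' : a⁻¹ * u * a⁻¹⁻¹ = u := by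
      have : a⁻¹ * u * a⁻¹⁻¹ = a⁻¹ * (u * a) := by group
      rw [this, ← ha']
      group
    rw [Subgroup.mem_normalizer_iff]
    intro y
    constructor
    · intro hy
      have := tpfrob_conj_mem_Yof (c := a) hy
      rwa [hau] at this
    · intro hy
      have := tpfrob_conj_mem_Yof (c := a⁻¹) hy
      rw [hau'] at this
      have h3 : a⁻¹ * (a * y * a⁻¹) * a⁻¹⁻¹ = y := by group
      rwa [h3] at this
  have hQC : (s.Q : Subgroup G) ≤ Subgroup.centralizer ({u} : Set G) := by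
    intro v hv
    rw [Subgroup.mem_centralizer_singleton_iff]
    exact tpfrob_Q_comm s v hv u hu
  have hQH : (s.Q : Subgroup G) ≤ Subgroup.normalizer ((Yof p u : Subgroup G) : Set G) := hQC.trans hCH
  have hRH : (R : Subgroup G) ≤ Subgroup.normalizer ((Yof p u : Subgroup G) : Set G) := by
    refine le_trans ?_ (Subgroup.centralizer_le_normalizer _)
    intro r hr
    rw [Subgroup.mem_centralizer_iff]
    intro y hy
    have hcomm := c.abel R
    have := mul_comm' (⟨y, hYR hy⟩ : ↥(R : Subgroup G)) ⟨r, hr⟩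
    exact congrArg Subtype.val this
  have hYbot : Yof p u ≠ ⊥ := by
    intro h
    apply hnc
    intro v _ y hy
    rw [h, Subgroup.mem_bot] at hy
    rw [hy]
    simp
  have hHtop : Subgroup.normalizer ((Yof p u : Subgroup G) : Set G) ≠ ⊤ := by
    intro h
    have hn : (Yof p u).Normal := Subgroup.normalizer_eq_top_iff.mp h
    have := c.simple
    rcases hn.eq_bot_or_eq_top with h' | h'
    · exact hYbot h'
    · apply tpfrob_centralizer_ne_top c hu1
      rw [eq_top_iff, ← h']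
      exact Yof_le_centralizer p u
  have h2H : 2 ∣ Nat.card (Subgroup.normalizer ((Yof p u : Subgroup G) : Set G)) :=
    tpfrob_two_dvd_of_le c s.Q _ hQH
  have hHN : Subgroup.normalizer ((Yof p u : Subgroup G) : Set G) ≤
      Subgroup.normalizer ((R : Subgroup G) : Set G) := by
    apply tpfrob_engine c _ hHtop h2H R hRH
    intro Q₁ g hQ₁H hgH hcard _ _ htr
    have hcard' : Nat.card Q₁ = 2 ^ (Nat.card G).factorization 2 := by rw [hcard, c.two_part]
    have hP₁H : ((Sylow.ofCard Q₁ hcard' : Sylow 2 G) : Subgroup G) ≤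
        Subgroup.normalizer ((Yof p u : Subgroup G) : Set G) := hQ₁H
    obtain ⟨h, hh⟩ := MulAction.exists_smul_eq
      ↥(Subgroup.normalizer ((Yof p u : Subgroup G) : Set G)) (s.Q.subtype hQH)
      ((Sylow.ofCard Q₁ hcard' : Sylow 2 G).subtype hP₁H)
    have hconj : ∀ v ∈ (s.Q : Subgroup G), (h : G) * v * (h : G)⁻¹ ∈ Q₁ := by
      intro v hv
      have hv' : (⟨v, hQH hv⟩ : ↥(Subgroup.normalizer ((Yof p u : Subgroup G) : Set G))) ∈
          (s.Q.subtype hQH : Subgroup ↥(Subgroup.normalizer ((Yof p u : Subgroup G) : Set G))) := by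
        rw [Sylow.coe_subtype, Subgroup.mem_subgroupOf]
        exact hv
      have h1 : MulAut.conj h • (⟨v, hQH hv⟩ : ↥(Subgroup.normalizer ((Yof p u : Subgroup G) : Set G))) ∈
          ((h • s.Q.subtype hQH : Sylow 2 ↥(Subgroup.normalizer ((Yof p u : Subgroup G) : Set G))) :
            Subgroup ↥(Subgroup.normalizer ((Yof p u : Subgroup G) : Set G))) :=
        Subgroup.smul_mem_pointwise_smul _ _ _ hv'
      rw [hh, Sylow.coe_subtype, Subgroup.mem_subgroupOf] at h1
      simpa [MulAut.smul_def, MulAut.conj_apply] using h1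
    apply hnc
    intro v hv y hy
    by_cases hv1 : v = 1
    · rw [hv1]
      simp
    have ha1 : (h : G) * u * (h : G)⁻¹ ≠ 1 := by
      intro h1
      apply hu1
      have : u = (h : G)⁻¹ * ((h : G) * u * (h : G)⁻¹) * (h : G) := by group
      rw [this, h1]
      group
    have hb1 : (h : G) * v * (h : G)⁻¹ ≠ 1 := by
      intro h1
      apply hv1
      have : v = (h : G)⁻¹ * ((h : G) * v * (h : G)⁻¹) * (h : G) := by group
      rw [this, h1]
      group
    obtain ⟨k, hk⟩ := htr _ (hconj u hu) _ (hconj v hv) ha1 hb1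
    have hccH : (h : G)⁻¹ * g ^ k * (h : G) ∈ Subgroup.normalizer ((Yof p u : Subgroup G) : Set G) :=
      Subgroup.mul_mem _ (Subgroup.mul_mem _ (Subgroup.inv_mem _ h.2) (Subgroup.pow_mem _ hgH k)) h.2
    have hccu : ((h : G)⁻¹ * g ^ k * (h : G)) * u * ((h : G)⁻¹ * g ^ k * (h : G))⁻¹ = v := by
      have : v = (h : G)⁻¹ * ((h : G) * v * (h : G)⁻¹) * (h : G) := by group
      rw [this, ← hk]
      group
    have hy' : ((h : G)⁻¹ * g ^ k * (h : G))⁻¹ * y * ((h : G)⁻¹ * g ^ k * (h : G))⁻¹⁻¹ ∈ Yof p u :=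
      (Subgroup.mem_normalizer_iff.mp (Subgroup.inv_mem _ hccH) y).mp hy
    have hy2 := tpfrob_conj_mem_Yof (c := (h : G)⁻¹ * g ^ k * (h : G)) hy'
    rw [hccu] at hy2
    have h3 : ((h : G)⁻¹ * g ^ k * (h : G)) *
        (((h : G)⁻¹ * g ^ k * (h : G))⁻¹ * y * ((h : G)⁻¹ * g ^ k * (h : G))⁻¹⁻¹) *
        ((h : G)⁻¹ * g ^ k * (h : G))⁻¹ = y := by group
    rw [h3] at hy2
    have h4 := Yof_le_centralizer p v hy2
    rw [Subgroup.mem_centralizer_singleton_iff] at h4
    exact h4.symm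
  refine ⟨hQH.trans hHN, ?_⟩
  exact tpfrob_card_eq c s.Q R _ (tpfrob_normalizer_sylow_ne_top c R) (hQH.trans hHN)
    Subgroup.le_normalizer

end ctx

end Cfsg.Agent.Lib.Helper66.Tp
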