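import Cfsg.Agent.Lib.Helper5.TpFrob

/-!
# Tp hive (S4017) : TP-D3 `dich3`
-/

set_option autoImplicit false

namespace Cfsg.Agent.Lib.Helper66.Tp

section ctx

variable {p : ℕ} {G : Type*} [Group G] [Finite G]

variable (s : Setup p G)
include s

theorem dich3 {u : G} (hu : u ∈ (s.Q : Subgroup G)) (hu1 : u ≠ 1)
    (R : Sylow p G) (hYR : Yof p u ≤ (R : Subgroup G))
    (hCRQ : ∀ z ∈ (R : Subgroup G), (∀ v ∈ (s.Q : Subgroup G), v * z = z * v) → z = 1)
    {z : G} (hz : z ∈ (R : Subgroup G)) (hz1 : z ≠ 1)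
    (heven : 2 ∣ Nat.card (Subgroup.centralizer ({z} : Set G))) :
    Subgroup.centralizer ({z} : Set G) ≤ Subgroup.normalizer ((R : Subgroup G) : Set G) := by
  classical
  have : Fact (Nat.Prime 2) := ⟨Nat.prime_two⟩
  have c := s.ctx
  have hRL : (R : Subgroup G) ≤ Subgroup.centralizer ({z} : Set G) := by
    intro r hr
    rw [Subgroup.mem_centralizer_singleton_iff]
    have hcomm := c.abel R
    have := mul_comm' (⟨r, hr⟩ : ↥(R : Subgroup G)) ⟨z, hz⟩
    exact congrArg Subtype.val this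
  apply tpfrob_engine c _ (tpfrob_centralizer_ne_top c hz1) heven R hRL
  intro Q₁ g hQ₁L _ hcard _ _ _
  -- Q₁ is a Sylow 2-subgroup of G
  have hcard' : Nat.card Q₁ = 2 ^ (Nat.card G).factorization 2 := by rw [hcard, c.two_part]
  obtain ⟨h, hh⟩ := MulAction.exists_smul_eq G (Sylow.ofCard Q₁ hcard') s.Q
  -- h Q₁ h⁻¹ = Q
  have hconj : ∀ v ∈ (s.Q : Subgroup G), h⁻¹ * v * h ∈ Q₁ := by
    intro v hv
    rw [← hh, Sylow.coe_subgroup_smul, Sylow.coe_ofCard,
      Subgroup.mem_pointwise_smul_iff_inv_smul_mem] at hv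
    simpa [MulAut.smul_def, MulAut.conj_inv_apply] using hv
  set w := h * z * h⁻¹ with hw
  have hwQ : ∀ v ∈ (s.Q : Subgroup G), v * w = w * v := by
    intro v hv
    have h1 := Subgroup.mem_centralizer_singleton_iff.mp (hQ₁L (hconj v hv))
    rw [hw]
    calc v * (h * z * h⁻¹) = h * ((h⁻¹ * v * h) * z) * h⁻¹ := by group
      _ = h * (z * (h⁻¹ * v * h)) * h⁻¹ := by rw [h1]
      _ = h * z * h⁻¹ * v := by group
  have hwY : w ∈ Yof p u := by
    apply mem_Yof
    · rw [Subgroup.mem_centralizer_singleton_iff]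
      exact (hwQ u hu).symm
    · obtain ⟨k, hk⟩ := tpfrob_orderOf_of_mem_sylow c R hz
      refine ⟨k, ?_⟩
      rw [← hk, hw]
      exact (MulAut.conj h).orderOf_eq z
  have hw1 : w = 1 := hCRQ w (hYR hwY) hwQ
  apply hz1
  have : z = h⁻¹ * w * h := by rw [hw]; group
  rw [this, hw1]
  group

end ctx

end Cfsg.Agent.Lib.Helper66.Tp
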