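import Cfsg.Agent.S0071
import Cfsg.Agent.Lib.Helper66.TpDefs

/-!
# Tp hive (S4017) : shared engine for TP-D1 / TP-D3 (Frobenius criterion inside a subgroup)
-/

set_option autoImplicit false

namespace Cfsg.Agent.Lib.Helper66.Tp

/-- orbit counting: a `p`-element normalizing but not centralizing `Q₁` has an orbit of size `≥ p` on `Q₁ \ {1}`;
if `|Q₁| = p + 1` it is transitive on `Q₁ \ {1}`. -/
theorem tpfrob_orbit {K : Type*} [Group K] {p : ℕ} (hp : p.Prime) (Q₁ : Subgroup K) [Finite Q₁] (g : K)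
    (hg : g ∈ Subgroup.normalizer (Q₁ : Set K)) (hgp : ∃ k : ℕ, orderOf g = p ^ k)
    (hnc : g ∉ Subgroup.centralizer (Q₁ : Set K)) :
    p + 1 ≤ Nat.card Q₁ ∧ (Nat.card Q₁ = p + 1 → ∀ a ∈ Q₁, ∀ b ∈ Q₁, a ≠ 1 → b ≠ 1 →
      ∃ k : ℕ, g ^ k * a * (g ^ k)⁻¹ = b) := by
  classical
  have hex : ∃ x₀ ∈ Q₁, g * x₀ * g⁻¹ ≠ x₀ := by
    by_contra hcon
    push Not at hcon
    apply hnc
    rw [Subgroup.mem_centralizer_iff]
    intro x hx
    have h1 := hcon x hx
    calc x * g = (g * x * g⁻¹) * g := by rw [h1]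
      _ = g * x := by group
  obtain ⟨x₀, hx₀, hne⟩ := hex
  set f : K → K := fun x => g * x * g⁻¹ with hf
  have hiter : ∀ (i : ℕ) (x : K), f^[i] x = g ^ i * x * (g ^ i)⁻¹ := by
    intro i
    induction i with
    | zero => intro x; simp
    | succ n ih =>
      intro x
      rw [Function.iterate_succ_apply', ih]
      simp only [hf]
      rw [pow_succ']
      group
  obtain ⟨k, hk⟩ := hgp
  set m := Function.minimalPeriod f x₀ with hm
  have hper : Function.IsPeriodicPt f (p ^ k) x₀ := by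
    show f^[p ^ k] x₀ = x₀
    rw [hiter, ← hk, pow_orderOf_eq_one]
    simp
  have hmdvd : m ∣ p ^ k := hper.minimalPeriod_dvd
  have hm1 : m ≠ 1 := by
    intro h1
    apply hne
    exact Function.minimalPeriod_eq_one_iff_isFixedPt.mp h1
  obtain ⟨j, hjk, hmj⟩ := (Nat.dvd_prime_pow hp).mp hmdvd
  have hj0 : j ≠ 0 := by
    rintro rfl
    exact hm1 (by simpa using hmj)
  have hpm : p ≤ m := by
    rw [hmj]
    exact Nat.le_self_pow hj0 p
  have hfQ : ∀ x ∈ Q₁, f x ∈ Q₁ := fun x hx => (Subgroup.mem_normalizer_iff.mp hg x).mp hx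
  have hfQi : ∀ i : ℕ, f^[i] x₀ ∈ Q₁ := by
    intro i
    induction i with
    | zero => simpa using hx₀
    | succ n ih => rw [Function.iterate_succ_apply']; exact hfQ _ ih
  have hx₀1 : x₀ ≠ 1 := by
    rintro rfl
    exact hne (by simp)
  have hfi1 : ∀ i : ℕ, f^[i] x₀ ≠ 1 := by
    intro i h1
    rw [hiter] at h1
    apply hx₀1
    have : x₀ = (g ^ i)⁻¹ * (g ^ i * x₀ * (g ^ i)⁻¹) * g ^ i := by group
    rw [this, h1]
    group
  let ψ : Option (Fin m) → ↥Q₁ := fun o =>
    match o with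
    | none => 1
    | some i => ⟨f^[(i : ℕ)] x₀, hfQi i⟩
  have hψinj : Function.Injective ψ := by
    intro a b hab
    match a, b, hab with
    | none, none, _ => rfl
    | none, some i, hab =>
      exfalso
      have : (1 : K) = f^[(i : ℕ)] x₀ := congrArg Subtype.val hab
      exact hfi1 _ this.symm
    | some i, none, hab =>
      exfalso
      have : f^[(i : ℕ)] x₀ = (1 : K) := congrArg Subtype.val hab
      exact hfi1 _ this
    | some i, some i', hab =>
      have h1 : f^[(i : ℕ)] x₀ = f^[(i' : ℕ)] x₀ := congrArg Subtype.val hab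
      have := Function.iterate_injOn_Iio_minimalPeriod (f := f) (x := x₀)
        (Set.mem_Iio.mpr i.2) (Set.mem_Iio.mpr i'.2) h1
      exact congrArg some (Fin.ext this)
  have hcardle : m + 1 ≤ Nat.card Q₁ := by
    have := Nat.card_le_card_of_injective ψ hψinj
    rwa [Finite.card_option, Nat.card_fin] at this
  refine ⟨by omega, ?_⟩
  intro hcard a ha b hb ha1 hb1
  have hmp : m = p := by omega
  have hψbij : Function.Bijective ψ := by
    apply Function.Injective.bijective_of_nat_card_le hψinj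
    rw [Finite.card_option, Nat.card_fin]
    omega
  obtain ⟨oa, hoa⟩ := hψbij.2 ⟨a, ha⟩
  obtain ⟨ob, hob⟩ := hψbij.2 ⟨b, hb⟩
  match oa, ob, hoa, hob with
  | none, _, hoa, _ =>
    exfalso
    exact ha1 (congrArg Subtype.val hoa).symm
  | some i, none, _, hob =>
    exfalso
    exact hb1 (congrArg Subtype.val hob).symm
  | some i, some i', hoa, hob =>
    have hai : f^[(i : ℕ)] x₀ = a := congrArg Subtype.val hoa
    have hbi : f^[(i' : ℕ)] x₀ = b := congrArg Subtype.val hob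
    refine ⟨(i' : ℕ) + (m - i), ?_⟩
    rw [← hiter, ← hai, Function.iterate_add_apply, ← Function.iterate_add_apply (m := m - i),
      Nat.sub_add_cancel i.2.le]
    have : f^[m] x₀ = x₀ := Function.isPeriodicPt_minimalPeriod f x₀
    rw [this, hbi]

section ctx

variable {p : ℕ} {G : Type*} [Group G] [Finite G]

theorem tpfrob_two_dvd (c : Ctx p G) : 2 ∣ Nat.card G := by
  have h := c.two_part
  have hv : (Nat.card G).factorization 2 ≠ 0 := by
    intro h0
    rw [h0] at h
    have := c.hp.two_le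
    omega
  exact Nat.dvd_of_factorization_pos hv

theorem tpfrob_card_Q (c : Ctx p G) (Q : Sylow 2 G) : Nat.card (Q : Subgroup G) = p + 1 := by
  have : Fact (Nat.Prime 2) := ⟨Nat.prime_two⟩
  rw [Sylow.card_eq_multiplicity, c.two_part]

theorem tpfrob_orderOf_of_mem_sylow (c : Ctx p G) (R : Sylow p G) {z : G} (hz : z ∈ (R : Subgroup G)) :
    ∃ k : ℕ, orderOf z = p ^ k := by
  have : Fact p.Prime := ⟨c.hp⟩
  obtain ⟨k, hk⟩ := (IsPGroup.iff_orderOf.mp R.2) ⟨z, hz⟩
  exact ⟨k, by rw [← hk, Subgroup.orderOf_mk]⟩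

theorem tpfrob_coprime_two (c : Ctx p G) (k : ℕ) : Nat.Coprime (p ^ k) 2 :=
  Nat.Coprime.pow_left k ((Nat.coprime_primes c.hp Nat.prime_two).mpr c.hp2)

/-- the engine: a proper subgroup `H ≥ R` of even order in which no `p`-element acts transitively on the involutions
of a subgroup of order `p + 1` normalizes `R`. -/
theorem tpfrob_engine (c : Ctx p G) (H : Subgroup G) (hH : H ≠ ⊤) (h2 : 2 ∣ Nat.card H)
    (R : Sylow p G) (hRH : (R : Subgroup G) ≤ H)
    (hbad : ∀ (Q₁ : Subgroup G) (g : G), Q₁ ≤ H → g ∈ H → Nat.card Q₁ = p + 1 →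
      g ∈ Subgroup.normalizer (Q₁ : Set G) → (∃ k : ℕ, orderOf g = p ^ k) →
      (∀ a ∈ Q₁, ∀ b ∈ Q₁, a ≠ 1 → b ≠ 1 → ∃ k : ℕ, g ^ k * a * (g ^ k)⁻¹ = b) → False) :
    H ≤ Subgroup.normalizer ((R : Subgroup G) : Set G) := by
  classical
  have : Fact (Nat.Prime 2) := ⟨Nat.prime_two⟩
  have : Fact p.Prime := ⟨c.hp⟩
  have hstar := c.star H hH h2
  obtain P : Sylow 2 ↥H := default
  have hcrit : ∀ Q₁ : Subgroup ↥H, Q₁ ≤ (P : Subgroup ↥H) →
      ∀ g ∈ Subgroup.normalizer (Q₁ : Set ↥H),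
      Nat.Coprime (orderOf g) 2 → g ∈ Subgroup.centralizer (Q₁ : Set ↥H) := by
    intro Q₁ hQ₁P g hg hgo
    by_contra hnc
    have hgp : ∃ k : ℕ, orderOf g = p ^ k := by
      refine ⟨_, Nat.eq_prime_pow_of_unique_prime_dvd (orderOf_pos g).ne' ?_⟩
      intro d hd hdvd
      have hdH : d ∣ Nat.card H := hdvd.trans (orderOf_dvd_natCard g)
      rcases hstar d hd hdH with rfl | rfl
      · exfalso
        have h1 : (2 : ℕ) ∣ Nat.gcd (orderOf g) 2 := Nat.dvd_gcd hdvd dvd_rfl
        rw [hgo] at h1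
        omega
      · rfl
    obtain ⟨hle, htr⟩ := tpfrob_orbit c.hp Q₁ g hg hgp hnc
    have hQ₁2 : IsPGroup 2 Q₁ := P.2.to_le hQ₁P
    obtain ⟨i, hi⟩ := hQ₁2.exists_card_eq
    have hdvdG : Nat.card Q₁ ∣ Nat.card G :=
      (Subgroup.card_subgroup_dvd_card Q₁).trans (Subgroup.card_subgroup_dvd_card H)
    have hile : 2 ^ i ∣ 2 ^ (Nat.card G).factorization 2 := by
      apply pow_dvd_pow
      exact (Nat.Prime.pow_dvd_iff_le_factorization Nat.prime_two Nat.card_pos.ne').mp (hi ▸ hdvdG)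
    have hle' : Nat.card Q₁ ≤ p + 1 := by
      rw [hi, ← c.two_part]
      exact Nat.le_of_dvd (by positivity) hile
    have hcard : Nat.card Q₁ = p + 1 := le_antisymm hle' hle
    have htr' := htr hcard
    refine hbad (Q₁.map H.subtype) (g : G) (Subgroup.map_subtype_le Q₁) g.2 ?_ ?_ ?_ ?_
    · rw [Subgroup.card_map_of_injective H.subtype_injective, hcard]
    · rw [Subgroup.mem_normalizer_iff]
      intro x
      constructor
      · rintro ⟨y, hy, rfl⟩
        exact ⟨g * y * g⁻¹, (Subgroup.mem_normalizer_iff.mp hg y).mp hy, by simp⟩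
      · rintro ⟨y, hy, hyx⟩
        have hyx' : (y : G) = (g : G) * x * (g : G)⁻¹ := hyx
        have hxH : x ∈ H := by
          have : x = (g : G)⁻¹ * (y : G) * (g : G) := by rw [hyx']; group
          rw [this]
          exact H.mul_mem (H.mul_mem (H.inv_mem g.2) y.2) g.2
        refine ⟨⟨x, hxH⟩, ?_, rfl⟩
        apply (Subgroup.mem_normalizer_iff.mp hg ⟨x, hxH⟩).mpr
        have : g * ⟨x, hxH⟩ * g⁻¹ = y := Subtype.ext (by simp [hyx'])
        rw [this]
        exact hy
    · obtain ⟨k, hk⟩ := hgp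
      exact ⟨k, by rw [Subgroup.orderOf_coe, hk]⟩
    · rintro a ⟨a', ha', rfl⟩ b ⟨b', hb', rfl⟩ ha1 hb1
      have ha1' : a' ≠ 1 := by rintro rfl; exact ha1 (by simp)
      have hb1' : b' ≠ 1 := by rintro rfl; exact hb1 (by simp)
      obtain ⟨k, hk⟩ := htr' a' ha' b' hb' ha1' hb1'
      refine ⟨k, ?_⟩
      have := congrArg (Subtype.val) hk
      simpa using this
  obtain ⟨N, hNn, hNc⟩ := (Cfsg.Agent.S0071.result P).mpr hcrit
  have := hNn
  have hNcard : (P : Subgroup ↥H).index = Nat.card N := hNc.index_eq_card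
  have hNodd : ¬ 2 ∣ Nat.card N := by
    rw [← hNcard]
    exact P.not_dvd_index
  have hNp : IsPGroup p N := by
    have h1 : Nat.card N = p ^ _ :=
      Nat.eq_prime_pow_of_unique_prime_dvd Nat.card_pos.ne' (by
        intro d hd hdvd
        have hdH : d ∣ Nat.card H := hdvd.trans (Subgroup.card_subgroup_dvd_card N)
        rcases hstar d hd hdH with rfl | rfl
        · exact absurd hdvd hNodd
        · rfl)
    exact IsPGroup.of_card h1
  have hquot : IsPGroup 2 (↥H ⧸ N) := by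
    obtain ⟨k, hk⟩ := P.2.exists_card_eq
    apply IsPGroup.of_card (n := k)
    rw [← hk, ← hNc.symm.index_eq_card]
    exact (Subgroup.index_eq_card N).symm
  have hRN : (R.subtype hRH : Subgroup ↥H) ≤ N := by
    intro x hx
    rw [Sylow.coe_subtype, Subgroup.mem_subgroupOf] at hx
    obtain ⟨k, hk⟩ := tpfrob_orderOf_of_mem_sylow c R hx
    apply Cfsg.Agent.Lib.Helper2.mem_of_coprime_of_isPGroup_quotient (p := 2) N hquot
    rw [← Subgroup.orderOf_coe, hk]
    exact tpfrob_coprime_two c k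
  have hNR : N ≤ (R.subtype hRH : Subgroup ↥H) := hNp.le_sylow_of_normal (R.subtype hRH)
  have hEq : N = (R.subtype hRH : Subgroup ↥H) := le_antisymm hNR hRN
  have hconj : ∀ h ∈ H, ∀ x ∈ (R : Subgroup G), h * x * h⁻¹ ∈ (R : Subgroup G) := by
    intro h hh x hx
    have hxN : (⟨x, hRH hx⟩ : ↥H) ∈ N := by
      rw [hEq, Sylow.coe_subtype, Subgroup.mem_subgroupOf]
      exact hx
    have := hNn.conj_mem _ hxN ⟨h, hh⟩
    rw [hEq, Sylow.coe_subtype, Subgroup.mem_subgroupOf] at this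
    simpa using this
  intro h hh
  rw [Subgroup.mem_normalizer_iff]
  intro x
  constructor
  · exact hconj h hh x
  · intro hx
    have := hconj h⁻¹ (H.inv_mem hh) _ hx
    have h3 : h⁻¹ * (h * x * h⁻¹) * h⁻¹⁻¹ = x := by group
    rwa [h3] at this

theorem tpfrob_sylow_not_normal (c : Ctx p G) (R : Sylow p G) : ¬ (R : Subgroup G).Normal := by
  intro hn
  have : Fact p.Prime := ⟨c.hp⟩
  have := c.simple
  have hcard : Nat.card (R : Subgroup G) = p ^ (Nat.card G).factorization p := Sylow.card_eq_multiplicity R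
  rcases hn.eq_bot_or_eq_top with h | h
  · rw [h, Subgroup.card_bot] at hcard
    have hv : (Nat.card G).factorization p = 0 := by
      by_contra hv
      have : 1 < p ^ (Nat.card G).factorization p := Nat.one_lt_pow hv c.hp.one_lt
      omega
    have := (Nat.Prime.factorization_pos_of_dvd c.hp Nat.card_pos.ne' c.pdvd)
    omega
  · rw [h, Subgroup.card_top] at hcard
    have h2 := tpfrob_two_dvd c
    rw [hcard] at h2
    have h3 : 2 ∣ p := Nat.Prime.dvd_of_dvd_pow Nat.prime_two h2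
    exact c.hp2 ((Nat.prime_dvd_prime_iff_eq Nat.prime_two c.hp).mp h3).symm

theorem tpfrob_normalizer_sylow_ne_top (c : Ctx p G) (R : Sylow p G) :
    Subgroup.normalizer ((R : Subgroup G) : Set G) ≠ ⊤ := by
  intro h
  exact tpfrob_sylow_not_normal c R (Subgroup.normalizer_eq_top_iff.mp h)

theorem tpfrob_centralizer_ne_top (c : Ctx p G) {z : G} (hz1 : z ≠ 1) :
    Subgroup.centralizer ({z} : Set G) ≠ ⊤ := by
  intro htop
  have := c.simple
  have hzc : z ∈ Subgroup.center G := by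
    rw [Subgroup.mem_center_iff]
    intro g
    have hg : g ∈ Subgroup.centralizer ({z} : Set G) := by rw [htop]; trivial
    exact (Subgroup.mem_centralizer_iff.mp hg z rfl).symm
  have hcen : Subgroup.center G = ⊤ := by
    rcases (inferInstance : (Subgroup.center G).Normal).eq_bot_or_eq_top with h | h
    · rw [h, Subgroup.mem_bot] at hzc
      exact absurd hzc hz1
    · exact h
  obtain R : Sylow p G := default
  apply tpfrob_sylow_not_normal c R
  refine ⟨fun n hn g => ?_⟩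
  have hgc : g ∈ Subgroup.center G := by rw [hcen]; trivial
  have h1 : g * n * g⁻¹ = n := by
    rw [Subgroup.mem_center_iff] at hgc
    rw [← hgc n]
    group
  rwa [h1]

/-- a `{2,p}`-number dividing `N`, divisible by the `2`-part and the `p`-part of `N`, is their product -/
theorem tpfrob_nat {n N p : ℕ} (hp : p.Prime) (hp2 : p ≠ 2) (hN : N ≠ 0) (hnN : n ∣ N)
    (h2 : 2 ^ N.factorization 2 ∣ n) (hpn : p ^ N.factorization p ∣ n)
    (hpr : ∀ r : ℕ, r.Prime → r ∣ n → r = 2 ∨ r = p) :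
    n = p ^ N.factorization p * 2 ^ N.factorization 2 := by
  have hcop : Nat.Coprime (p ^ N.factorization p) (2 ^ N.factorization 2) :=
    Nat.Coprime.pow _ _ ((Nat.coprime_primes hp Nat.prime_two).mpr hp2)
  obtain ⟨t, ht⟩ := hcop.mul_dvd_of_dvd_of_dvd hpn h2
  by_cases ht1 : t = 1
  · rw [ht, ht1, mul_one]
  exfalso
  obtain ⟨r, hr, hrt⟩ := Nat.exists_prime_and_dvd ht1
  have hrn : r ∣ n := by rw [ht]; exact Dvd.dvd.mul_left hrt _
  rcases hpr r hr hrn with rfl | rfl
  · apply Nat.pow_succ_factorization_not_dvd hN Nat.prime_two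
    refine Dvd.dvd.trans ?_ hnN
    rw [ht, pow_succ]
    obtain ⟨t', rfl⟩ := hrt
    exact ⟨p ^ N.factorization p * t', by ring⟩
  · apply Nat.pow_succ_factorization_not_dvd hN hp
    refine Dvd.dvd.trans ?_ hnN
    rw [ht, pow_succ]
    obtain ⟨t', rfl⟩ := hrt
    exact ⟨2 ^ N.factorization 2 * t', by ring⟩

theorem tpfrob_card_eq (c : Ctx p G) (Q : Sylow 2 G) (R : Sylow p G) (H : Subgroup G) (hH : H ≠ ⊤)
    (hQ : (Q : Subgroup G) ≤ H) (hR : (R : Subgroup G) ≤ H) :
    Nat.card H = Nat.card (R : Subgroup G) * (p + 1) := by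
  have : Fact (Nat.Prime 2) := ⟨Nat.prime_two⟩
  have : Fact p.Prime := ⟨c.hp⟩
  have hQc : Nat.card (Q : Subgroup G) = 2 ^ (Nat.card G).factorization 2 := Sylow.card_eq_multiplicity Q
  have hRc : Nat.card (R : Subgroup G) = p ^ (Nat.card G).factorization p := Sylow.card_eq_multiplicity R
  have h2 : 2 ∣ Nat.card H := by
    refine Dvd.dvd.trans ?_ (Subgroup.card_dvd_of_le hQ)
    rw [tpfrob_card_Q c Q]
    have := c.hp.eq_one_or_self_of_dvd 2
    rcases c.hp.eq_two_or_odd with h | h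
    · exact absurd h c.hp2
    · omega
  have := tpfrob_nat c.hp c.hp2 (Nat.card_pos (α := G)).ne' (Subgroup.card_subgroup_dvd_card H)
    (hQc ▸ Subgroup.card_dvd_of_le hQ) (hRc ▸ Subgroup.card_dvd_of_le hR) (c.star H hH h2)
  rw [this, hRc, c.two_part]

theorem tpfrob_two_dvd_of_le (c : Ctx p G) (Q : Sylow 2 G) (H : Subgroup G) (hQ : (Q : Subgroup G) ≤ H) :
    2 ∣ Nat.card H := by
  refine Dvd.dvd.trans ?_ (Subgroup.card_dvd_of_le hQ)
  rw [tpfrob_card_Q c Q]
  rcases c.hp.eq_two_or_odd with h | h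
  · exact absurd h c.hp2
  · omega

omit [Finite G] in
theorem tpfrob_conj_mem_Yof {c u y : G} (hy : y ∈ Yof p u) : c * y * c⁻¹ ∈ Yof p (c * u * c⁻¹) := by
  unfold Yof at hy
  induction hy using Subgroup.closure_induction with
  | mem g hg =>
    apply mem_Yof
    · rw [Subgroup.mem_centralizer_iff]
      rintro _ rfl
      have := Subgroup.mem_centralizer_iff.mp hg.1 u rfl
      calc c * u * c⁻¹ * (c * g * c⁻¹) = c * (u * g) * c⁻¹ := by group
        _ = c * (g * u) * c⁻¹ := by rw [this]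
        _ = c * g * c⁻¹ * (c * u * c⁻¹) := by group
    · obtain ⟨k, hk⟩ := hg.2
      refine ⟨k, ?_⟩
      rw [← hk]
      exact (MulAut.conj c).orderOf_eq g
  | one => simp
  | mul a b _ _ iha ihb =>
    have : c * (a * b) * c⁻¹ = (c * a * c⁻¹) * (c * b * c⁻¹) := by group
    rw [this]
    exact Subgroup.mul_mem _ iha ihb
  | inv a _ iha =>
    have : c * a⁻¹ * c⁻¹ = (c * a * c⁻¹)⁻¹ := by group
    rw [this]
    exact Subgroup.inv_mem _ iha

theorem tpfrob_Q_comm (s : Setup p G) : ∀ a ∈ (s.Q : Subgroup G), ∀ b ∈ (s.Q : Subgroup G), a * b = b * a := by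
  intro a ha b hb
  have haa := s.hexp a ha
  have hbb := s.hexp b hb
  have hab := s.hexp (a * b) (Subgroup.mul_mem _ ha hb)
  have ha' : a⁻¹ = a := inv_eq_of_mul_eq_one_right haa
  have hb' : b⁻¹ = b := inv_eq_of_mul_eq_one_right hbb
  have hab' : (a * b)⁻¹ = a * b := inv_eq_of_mul_eq_one_right hab
  calc a * b = (a * b)⁻¹ := hab'.symm
    _ = b⁻¹ * a⁻¹ := mul_inv_rev a b
    _ = b * a := by rw [ha', hb']

end ctx

end Cfsg.Agent.Lib.Helper66.Tp
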