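import Cfsg.Agent.Lib.Helper14.WeDefs
import Cfsg.Agent.Lib.Helper13.Symp

/-! # We hive (S2347, helper14), leaf WE-SP (helper5): the form `Bf` is `Sp`-invariant. -/

set_option autoImplicit false

namespace Cfsg.Agent.Lib.Helper14.We

open Matrix Cfsg

section Concrete

variable {F : Type*} [Field F] {n : ℕ}

theorem sp_Bf_eq_sympForm (v w : VV F n) : Bf v w = Cfsg.sympForm n F v w := by
  rw [Cfsg.Agent.Lib.Helper13.sympForm_expand, Finset.sum_sub_distrib]
  rfl

/-- WE-SP -/
theorem Bf_act (g : Matrix.symplecticGroup (Fin n) F) (v w : VV F n) :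
    Bf (act g v) (act g w) = Bf v w := by
  rw [sp_Bf_eq_sympForm, sp_Bf_eq_sympForm]
  exact Cfsg.Agent.Lib.Helper13.preserves_of_mem_symplectic n g.1 g.2 v w

end Concrete

end Cfsg.Agent.Lib.Helper14.We
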